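import Groth.Agent.H11.GenFree2
import Mathlib

set_option autoImplicit false
set_option linter.style.haveILetI false

universe u

namespace Groth.Agent.H11

open MvPolynomial Pointwise TensorProduct

theorem GFree.of_dvd {R M : Type u} [CommRing R] [AddCommGroup M] [Module R M] {f g : R}
    (h : GFree R M f) (hfg : f ∣ g) : GFree R M g := by
  obtain ⟨ι, b, hb, hsp⟩ := h
  obtain ⟨c, rfl⟩ := hfg
  refine ⟨ι, b, hb, fun m => ?_⟩
  obtain ⟨k, hk⟩ := hsp m
  refine ⟨k, ?_⟩
  rw [mul_pow, mul_comm, mul_smul]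
  exact Submodule.smul_mem _ _ hk

theorem pow_smul_mem_of_dvd {R P Fr : Type u} [CommRing R] [CommRing P] [Algebra R P]
    [AddCommGroup Fr] [Module P Fr] [Module R Fr] [IsScalarTower R P Fr] (N : Submodule P Fr)
    {f g : R} (hfg : f ∣ g) {l : Fr} (h : ∃ k : ℕ, f ^ k • l ∈ N) : ∃ k : ℕ, g ^ k • l ∈ N := by
  obtain ⟨c, rfl⟩ := hfg
  obtain ⟨k, hk⟩ := h
  refine ⟨k, ?_⟩
  rw [mul_pow, mul_comm, mul_smul]
  exact Submodule.smul_of_tower_mem N _ hk

section
attribute [local instance] MvPolynomial.algebraMvPolynomial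

theorem exists_finset_torsion_gen {R : Type u} [CommRing R] [IsDomain R] {n m : ℕ}
    {Fr : Type u} [AddCommGroup Fr] [Module (MvPolynomial (Fin n) R) Fr]
    (bas : Module.Basis (Fin m) (MvPolynomial (Fin n) R) Fr)
    (L : Submodule (MvPolynomial (Fin n) R) Fr) :
    ∃ G : Finset Fr, (↑G : Set Fr) ⊆ L ∧ ∀ l ∈ L, ∃ r : R, r ≠ 0 ∧
      (MvPolynomial.C r : MvPolynomial (Fin n) R) • l ∈
        Submodule.span (MvPolynomial (Fin n) R) (↑G : Set Fr) := by
  classical
  let P := MvPolynomial (Fin n) R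
  let K := FractionRing R
  let PK := MvPolynomial (Fin n) K
  let μm : Fr →ₗ[P] (Fin m → PK) :=
    ((Algebra.linearMap P PK).compLeft (Fin m)).comp bas.equivFun.toLinearMap
  have hμm : ∀ x i, μm x i = algebraMap P PK (bas.repr x i) := fun x i => rfl
  have hinj : Function.Injective μm := by
    intro x y hxy
    apply bas.repr.injective
    apply Finsupp.ext
    intro i
    have := congrFun hxy i
    rw [hμm, hμm] at this
    exact FaithfulSMul.algebraMap_injective P PK this
  have hFG : (Submodule.span PK (μm '' (L : Set Fr))).FG := IsNoetherian.noetherian _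
  obtain ⟨T, hTsub, hTspan⟩ := (Submodule.fg_span_iff_fg_span_finset_subset _).mp hFG
  obtain ⟨G, hGL, hGT⟩ := Finset.subset_set_image_iff.mp hTsub
  refine ⟨G, hGL, fun l hl => ?_⟩
  have h1 : μm l ∈ Submodule.span PK (μm '' (↑G : Set Fr)) := by
    have : (μm '' (↑G : Set Fr)) = ↑T := by rw [← hGT, Finset.coe_image]
    rw [this, ← hTspan]
    exact Submodule.subset_span ⟨l, hl, rfl⟩
  obtain ⟨t, ht, htl⟩ := (Finsupp.mem_span_image_iff_linearCombination PK).mp h1
  obtain ⟨b, hb⟩ := IsLocalization.exist_integer_multiples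
    (Submonoid.map (MvPolynomial.C (σ := Fin n)) (nonZeroDivisors R)) t.support (fun g => t g)
  have hb' : ∀ g ∈ t.support, ∃ q : P, algebraMap P PK q = (b : P) • t g :=
    fun g hg => RingHom.mem_rangeS.mp (hb g hg)
  choose! q hq using hb'
  obtain ⟨r, hr, hbr⟩ := Submonoid.mem_map.mp b.2
  refine ⟨r, nonZeroDivisors.ne_zero hr, ?_⟩
  have key : (b : P) • l = ∑ g ∈ t.support, q g • g := by
    apply hinj
    rw [map_smul, map_sum, ← htl, Finsupp.linearCombination_apply, Finsupp.sum, Finset.smul_sum]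
    apply Finset.sum_congr rfl
    intro g hg
    rw [map_smul, ← algebraMap_smul PK (q g) (μm g), hq g hg, smul_assoc]
  rw [hbr, key]
  refine Submodule.sum_mem _ (fun g hg => Submodule.smul_mem _ _ (Submodule.subset_span ?_))
  exact (Finsupp.mem_supported _ _).mp ht (Finset.mem_coe.mpr hg)

end

theorem exists_pow_smul_mem_span {R : Type u} [CommRing R] [IsDomain R] {n m : ℕ}
    {Fr : Type u} [AddCommGroup Fr] [Module (MvPolynomial (Fin n) R) Fr] [Module R Fr]
    [IsScalarTower R (MvPolynomial (Fin n) R) Fr]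
    (bas : Module.Basis (Fin m) (MvPolynomial (Fin n) R) Fr)
    (L : Submodule (MvPolynomial (Fin n) R) Fr) :
    ∃ (G : Finset Fr) (f : R), f ≠ 0 ∧ (↑G : Set Fr) ⊆ L ∧ ∀ l ∈ L, ∃ k : ℕ,
      f ^ k • l ∈ Submodule.span (MvPolynomial (Fin n) R) (↑G : Set Fr) := by
  obtain ⟨G, hGL, hG⟩ := exists_finset_torsion_gen bas L
  haveI : Module.Finite (MvPolynomial (Fin n) R) Fr := Module.Finite.of_basis bas
  obtain ⟨f, hf0, hf⟩ := exists_gfree (R := R) (S := MvPolynomial (Fin n) R)
    (M := Fr ⧸ Submodule.span (MvPolynomial (Fin n) R) (↑G : Set Fr))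
  refine ⟨G, f, hf0, hGL, fun l hl => ?_⟩
  obtain ⟨r, hr0, hr⟩ := hG l hl
  have hr' : r • l ∈ Submodule.span (MvPolynomial (Fin n) R) (↑G : Set Fr) := by
    rw [← algebraMap_smul (MvPolynomial (Fin n) R) r l, MvPolynomial.algebraMap_eq]
    exact hr
  obtain ⟨k, hk⟩ := hf.torsion_killed (Submodule.Quotient.mk l) r hr0 (by
    rw [← Submodule.Quotient.mk_smul, Submodule.Quotient.mk_eq_zero]
    exact hr')
  refine ⟨k, ?_⟩
  rw [← Submodule.Quotient.mk_smul, Submodule.Quotient.mk_eq_zero] at hk
  exact hk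

/-- Finite presentation of the base change, from generation of the kernel up to `f`-torsion. -/
theorem finitePresentation_away {R S : Type u} [CommRing R] [CommRing S] [Algebra R S] {n : ℕ}
    (φ : MvPolynomial (Fin n) R →ₐ[R] S) (hφ : Function.Surjective φ)
    (G : Finset (MvPolynomial (Fin n) R))
    (hG : (↑G : Set (MvPolynomial (Fin n) R)) ⊆ RingHom.ker φ) (f : R)
    (h : ∀ l ∈ RingHom.ker φ, ∃ k : ℕ,
      f ^ k • l ∈ Ideal.span (↑G : Set (MvPolynomial (Fin n) R))) :
    Algebra.FinitePresentation (Localization.Away f) (Localization.Away f ⊗[R] S) := by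
  let Rf := Localization.Away f
  let P := MvPolynomial (Fin n) R
  let Φ : Rf ⊗[R] P →ₐ[Rf] Rf ⊗[R] S := Algebra.TensorProduct.map (AlgHom.id Rf Rf) φ
  have hΦ : Function.Surjective Φ := Algebra.FiniteType.baseChangeAux_surj Rf hφ
  have hker : RingHom.ker Φ =
      Ideal.map (Algebra.TensorProduct.includeRight : P →ₐ[R] Rf ⊗[R] P) (RingHom.ker φ) :=
    Algebra.TensorProduct.lTensor_ker φ hφ
  have hle : Ideal.map (Algebra.TensorProduct.includeRight : P →ₐ[R] Rf ⊗[R] P) (RingHom.ker φ) ≤
      Ideal.map (Algebra.TensorProduct.includeRight : P →ₐ[R] Rf ⊗[R] P)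
        (Ideal.span (↑G : Set P)) := by
    rw [Ideal.map_le_iff_le_comap]
    intro l hl
    obtain ⟨k, hk⟩ := h l hl
    rw [Ideal.mem_comap]
    have h1 := Ideal.mem_map_of_mem (Algebra.TensorProduct.includeRight : P →ₐ[R] Rf ⊗[R] P) hk
    rw [map_smul, ← algebraMap_smul Rf (f ^ k), Algebra.smul_def] at h1
    have hu : IsUnit (algebraMap Rf (Rf ⊗[R] P) (algebraMap R Rf (f ^ k))) := by
      apply IsUnit.map
      rw [map_pow]
      exact (IsLocalization.Away.algebraMap_isUnit f).pow k
    exact (Ideal.unit_mul_mem_iff_mem _ hu).mp h1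
  have hfg : (RingHom.ker Φ.toRingHom).FG := by
    have e : RingHom.ker Φ.toRingHom =
        Ideal.map (Algebra.TensorProduct.includeRight : P →ₐ[R] Rf ⊗[R] P)
          (Ideal.span (↑G : Set P)) :=
      le_antisymm (hker.le.trans hle)
        ((Ideal.map_mono (Ideal.span_le.mpr hG)).trans hker.ge)
    rw [e]
    exact Ideal.FG.map ⟨G, rfl⟩ _
  exact Algebra.FinitePresentation.of_surjective hΦ hfg

/-- Finite presentation of the localized module, from generation of the relations up to
`f`-torsion. -/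
theorem module_fp_away {R S M : Type u} [CommRing R] [CommRing S] [Algebra R S] [AddCommGroup M]
    [Module S M] {n m : ℕ}
    (φ : MvPolynomial (Fin n) R →ₐ[R] S) (hφ : Function.Surjective φ)
    (x : Fin m → M) (hx : Submodule.span S (Set.range x) = ⊤)
    (G : Finset (Fin m → MvPolynomial (Fin n) R))
    (hG : ∀ g ∈ G, ∑ i, φ (g i) • x i = 0) (f : R)
    (h : ∀ l : Fin m → MvPolynomial (Fin n) R, ∑ i, φ (l i) • x i = 0 → ∃ k : ℕ,
      f ^ k • l ∈ Submodule.span (MvPolynomial (Fin n) R)
        (↑G : Set (Fin m → MvPolynomial (Fin n) R))) :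
    Module.FinitePresentation (Localization.Away (algebraMap R S f))
      (LocalizedModule (Submonoid.powers (algebraMap R S f)) M) := by
  classical
  let P := MvPolynomial (Fin n) R
  let s : S := algebraMap R S f
  let Sf := Localization.Away s
  let Mf := LocalizedModule (Submonoid.powers s) M
  let mk : M →ₗ[S] Mf := LocalizedModule.mkLinearMap (Submonoid.powers s) M
  let ℓ : (Fin m → Sf) →ₗ[Sf] Mf := Fintype.linearCombination Sf (fun i => mk (x i))
  let ψ : P →+* Sf := (algebraMap S Sf).comp φ.toRingHom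
  let Λ : (Fin m → P) → (Fin m → Sf) := fun l i => ψ (l i)
  have hψ : ∀ p, ψ p = algebraMap S Sf (φ p) := fun p => rfl
  have hψC : ψ (C f) = algebraMap S Sf s := by
    rw [hψ]
    congr 1
    rw [← MvPolynomial.algebraMap_eq, φ.commutes]
  have hψu : IsUnit (ψ (C f)) := by
    rw [hψC]; exact IsLocalization.Away.algebraMap_isUnit s
  -- (a)
  have ha : ∀ l : Fin m → P, ℓ (Λ l) = mk (∑ i, φ (l i) • x i) := by
    intro l
    rw [Fintype.linearCombination_apply, map_sum]
    apply Finset.sum_congr rfl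
    intro i _
    rw [map_smul]
    exact algebraMap_smul Sf (φ (l i)) (mk (x i))
  -- (b)
  have hb : ∀ (p : P) (l : Fin m → P), Λ (p • l) = ψ p • Λ l := by
    intro p l
    funext i
    simp [Λ]
  have hΛ0 : Λ 0 = 0 := by
    funext i
    simp [Λ]
  have hΛadd : ∀ l l', Λ (l + l') = Λ l + Λ l' := by
    intro l l'
    funext i
    simp [Λ]
  -- (d)
  have hd : ∀ l : Fin m → P, l ∈ Submodule.span P (↑G : Set (Fin m → P)) →
      Λ l ∈ Submodule.span Sf (Λ '' (↑G : Set (Fin m → P))) := by
    intro l hl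
    induction hl using Submodule.span_induction with
    | mem g hg => exact Submodule.subset_span ⟨g, hg, rfl⟩
    | zero => rw [hΛ0]; exact zero_mem _
    | add a b _ _ iha ihb => rw [hΛadd]; exact add_mem iha ihb
    | smul p a _ iha => rw [hb]; exact Submodule.smul_mem _ _ iha
  -- surjectivity
  have hsurj : Function.Surjective ℓ := by
    rw [← LinearMap.range_eq_top, Fintype.range_linearCombination]
    have := span_eq_top_of_isLocalizedModule Sf (Submonoid.powers s) mk hx
    rw [← Set.range_comp] at this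
    exact this
  -- kernel
  have hker : LinearMap.ker ℓ = Submodule.span Sf (Λ '' (↑G : Set (Fin m → P))) := by
    apply le_antisymm
    · intro c hc
      rw [LinearMap.mem_ker] at hc
      obtain ⟨b, hbint⟩ := IsLocalization.exist_integer_multiples_of_finite (Submonoid.powers s) c
      have hb' : ∀ i, ∃ D : P, ψ D = (b : S) • c i := by
        intro i
        obtain ⟨d, hd⟩ := RingHom.mem_rangeS.mp (hbint i)
        obtain ⟨D, hD⟩ := hφ d
        exact ⟨D, by rw [hψ, hD, hd]⟩
      choose D hD using hb'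
      have hΛD : Λ D = algebraMap S Sf (b : S) • c := by
        funext i
        rw [Pi.smul_apply, smul_eq_mul, ← Algebra.smul_def]
        exact hD i
      have h2 : mk (∑ i, φ (D i) • x i) = 0 := by
        rw [← ha, hΛD, map_smul, hc, smul_zero]
      obtain ⟨b', hb'⟩ := (IsLocalizedModule.eq_zero_iff (Submonoid.powers s) mk).mp h2
      obtain ⟨j', hj'⟩ := b'.2
      have h3 : ∑ i, φ (((C f : P) ^ j' • D) i) • x i = 0 := by
        have e : ∀ i, φ (((C f : P) ^ j' • D) i) • x i = b' • (φ (D i) • x i) := by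
          intro i
          rw [Pi.smul_apply, smul_eq_mul, map_mul, map_pow, mul_smul, Submonoid.smul_def, ← hj']
          congr 2
          rw [← MvPolynomial.algebraMap_eq, φ.commutes]
        rw [Finset.sum_congr rfl (fun i _ => e i), ← Finset.smul_sum, hb']
      obtain ⟨k, hk⟩ := h _ h3
      have hk' : (C f : P) ^ k • ((C f : P) ^ j' • D) ∈ Submodule.span P (↑G : Set (Fin m → P)) := by
        have e : f ^ k • ((C f : P) ^ j' • D) = (C f : P) ^ k • ((C f : P) ^ j' • D) := by
          rw [← algebraMap_smul P (f ^ k) ((C f : P) ^ j' • D), MvPolynomial.algebraMap_eq, map_pow]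
        rw [← e]; exact hk
      have h4 := hd _ hk'
      rw [hb, hb, hΛD, map_pow, map_pow, smul_smul, smul_smul] at h4
      have hw : IsUnit (ψ (C f) ^ k * ψ (C f) ^ j' * algebraMap S Sf (b : S)) :=
        ((hψu.pow k).mul (hψu.pow j')).mul (IsLocalization.map_units Sf b)
      have e : c = (↑hw.unit⁻¹ : Sf) •
          ((ψ (C f) ^ k * ψ (C f) ^ j' * algebraMap S Sf (b : S)) • c) := by
        rw [smul_smul, IsUnit.val_inv_mul, one_smul]
      rw [e]
      exact Submodule.smul_mem _ _ h4
    · rw [Submodule.span_le]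
      rintro _ ⟨g, hg, rfl⟩
      rw [SetLike.mem_coe, LinearMap.mem_ker, ha, hG g hg, map_zero]
  have hkerFG : (LinearMap.ker ℓ).FG := by
    rw [hker]
    exact Submodule.fg_span (Set.Finite.image _ G.finite_toSet)
  exact Module.finitePresentation_of_free_of_surjective ℓ hsurj hkerFG

end Groth.Agent.H11
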