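import Mathlib
import Groth.Prelude.Def_CohB1
import Groth.Prelude.Def_Coh
import Groth.Agent.H22.QCohLimits
import Groth.Agent.H8.FinType
import Groth.Agent.H8.CohAffine

/-! (Q4) for the S9828 squad (helper22): a finite biproduct of quasi-coherent modules of finite type
is quasi-coherent of finite type. -/

set_option autoImplicit false
universe u v w
open CategoryTheory CategoryTheory.Limits AlgebraicGeometry TopologicalSpace Opposite
open AlgebraicGeometry.Scheme.Modules

namespace Groth.Agent.H11.FPExt_Q4

section General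
variable {C : Type v} [Category.{w} C] [Preadditive C] [HasFiniteBiproducts C]
  [HasBinaryBiproducts C]

/-- split off the `none` summand. -/
noncomputable def optionIso {α : Type u} [Fintype α] (f : Option α → C) :
    ⨁ f ≅ f none ⊞ ⨁ (fun a => f (some a)) where
  hom := biprod.lift (biproduct.π f none) (biproduct.lift fun a => biproduct.π f (some a))
  inv := biprod.desc (biproduct.ι f none) (biproduct.desc fun a => biproduct.ι f (some a))
  hom_inv_id := by
    classical
    apply biproduct.hom_ext'
    intro j
    have key : biproduct.ι f j ≫ biprod.lift (biproduct.π f none)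
        (biproduct.lift fun a => biproduct.π f (some a)) =
        (match j with
          | none => biprod.inl
          | some a => biproduct.ι (fun a => f (some a)) a ≫ biprod.inr) := by
      cases j with
      | none =>
        apply biprod.hom_ext
        · simp [biproduct.ι_π]
        · simp only [Category.assoc, biprod.lift_snd, biprod.inl_snd]
          apply biproduct.hom_ext
          intro a
          simp [biproduct.ι_π]
      | some b =>
        apply biprod.hom_ext
        · simp [biproduct.ι_π]
        · simp only [Category.assoc, biprod.lift_snd, biprod.inr_snd, Category.comp_id]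
          apply biproduct.hom_ext
          intro a
          simp [biproduct.ι_π]
    rw [Category.comp_id, ← Category.assoc, key]
    cases j <;> simp
  inv_hom_id := by
    classical
    ext <;> simp [biproduct.ι_π]

theorem prop_biproduct (P : C → Prop) (hiso : ∀ A B : C, (A ≅ B) → P A → P B)
    (hzero : ∀ A : C, IsZero A → P A) (hbin : ∀ A B : C, P A → P B → P (A ⊞ B))
    {ι : Type u} [Finite ι] (f : ι → C) (h : ∀ i, P (f i)) : P (⨁ f) := by
  suffices H : ∀ (α : Type u) [Finite α], ∀ (_ : Finite α) (f : α → C), (∀ i, P (f i)) →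
      P (⨁ f) from H ι inferInstance f h
  intro α _
  refine Finite.induction_empty_option (P := fun α => ∀ (_ : Finite α) (f : α → C),
    (∀ i, P (f i)) → P (⨁ f)) ?_ ?_ ?_ α
  · intro α β e ih _ f h
    have : Finite α := Finite.of_equiv β e.symm
    exact hiso _ _ (biproduct.whiskerEquiv e (fun _ => Iso.refl _))
      (ih inferInstance (fun a => f (e a)) (fun a => h _))
  · intro _ f _
    apply hzero
    rw [IsZero.iff_id_eq_zero]
    apply biproduct.hom_ext
    intro j
    exact j.elim
  · intro α _ ih _ f h
    exact hiso _ _ (optionIso f).symm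
      (hbin _ _ (h none) (ih inferInstance _ (fun a => h (some a))))

end General

variable {X : Scheme.{u}}

/-- a morphism of modules as a linear map on sections. -/
noncomputable def appLin {M N : X.Modules} (φ : M ⟶ N) (U : X.Opens) :
    Γ(M, U) →ₗ[Γ(X, U)] Γ(N, U) where
  toFun x := φ.app U x
  map_add' x y := map_add _ x y
  map_smul' r x := Scheme.Modules.Hom.app_smul φ r x

/-- the property: quasi-coherent with finite sections over affine opens. -/
def QF (M : X.Modules) : Prop :=
  M.IsQuasicoherent ∧ ∀ U : X.affineOpens, Module.Finite Γ(X, (U : X.Opens)) Γ(M, (U : X.Opens))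

lemma qf_iff (M : X.Modules) : QF M ↔ M.IsQuasicoherent ∧ CohB1.IsFT M := by
  constructor
  · rintro ⟨h1, h2⟩
    exact ⟨h1, Groth.Agent.H8.isFiniteType_of_forall_affine_finite M h2⟩
  · rintro ⟨h1, h2⟩
    refine ⟨h1, fun U => ?_⟩
    haveI := h1
    haveI : SheafOfModules.IsFiniteType (R := X.ringCatSheaf) M := h2
    exact Groth.Agent.H8.finite_sections_of_isAffineOpen M U.2

lemma sections_eq_zero_of_isZero {A : X.Modules} (hA : IsZero A) (U : X.Opens) (x : Γ(A, U)) :
    x = 0 := by
  have h : (𝟙 A : A ⟶ A) = 0 := hA.eq_of_src _ _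
  have := congrArg (fun ψ : A ⟶ A => ψ.app U x) h
  simpa using this

lemma qf_of_isZero (A : X.Modules) (hA : IsZero A) : QF A := by
  refine ⟨?_, fun U => ?_⟩
  · refine Groth.Agent.H8.isQuasicoherent_of_sections _ ?_ ?_
    · intro U _ a y
      exact ⟨0, 0, by rw [sections_eq_zero_of_isZero hA _ y, smul_zero, map_zero]⟩
    · intro U _ a x _
      exact ⟨0, sections_eq_zero_of_isZero hA _ _⟩
  · haveI : Subsingleton Γ(A, (U : X.Opens)) :=
      ⟨fun x y => by rw [sections_eq_zero_of_isZero hA _ x, sections_eq_zero_of_isZero hA _ y]⟩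
    infer_instance

lemma qf_of_iso (A B : X.Modules) (e : A ≅ B) (hA : QF A) : QF B := by
  obtain ⟨h1, h2⟩ := hA
  haveI := h1
  refine ⟨Groth.Agent.H22.QCohLimits.isQuasicoherent_of_iso e, fun U => ?_⟩
  haveI := h2 U
  refine Module.Finite.of_surjective (appLin e.hom (U : X.Opens)) ?_
  intro y
  refine ⟨e.inv.app _ y, ?_⟩
  have h3 : (e.inv ≫ e.hom).app (U : X.Opens) y = (𝟙 B : B ⟶ B).app (U : X.Opens) y := by
    rw [e.inv_hom_id]
  exact h3

lemma qf_biprod (A B : X.Modules) (hA : QF A) (hB : QF B) : QF (A ⊞ B) := by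
  obtain ⟨a1, a2⟩ := hA
  obtain ⟨b1, b2⟩ := hB
  haveI := a1
  haveI := b1
  refine ⟨Groth.Agent.H22.QCohLimits.isQuasicoherent_biprod A B, fun U => ?_⟩
  haveI := a2 U
  haveI := b2 U
  refine Module.Finite.of_surjective
    ((appLin (biprod.inl : A ⟶ A ⊞ B) (U : X.Opens)).coprod
      (appLin (biprod.inr : B ⟶ A ⊞ B) (U : X.Opens))) ?_
  intro z
  refine ⟨((biprod.fst : A ⊞ B ⟶ A).app _ z, (biprod.snd : A ⊞ B ⟶ B).app _ z), ?_⟩
  rw [LinearMap.coprod_apply]
  exact Groth.Agent.H22.QCohLimits.biprod_total_app (U : X.Opens) z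

theorem isQCoh_isFT_biproduct {ι : Type u} [Finite ι] [HasFiniteBiproducts X.Modules]
    (f : ι → X.Modules) (hq : ∀ i, (f i).IsQuasicoherent) (h : ∀ i, CohB1.IsFT (f i)) :
    (⨁ f).IsQuasicoherent ∧ CohB1.IsFT (⨁ f) := by
  rw [← qf_iff]
  exact prop_biproduct (C := X.Modules) QF qf_of_iso qf_of_isZero qf_biprod f
    (fun i => (qf_iff _).2 ⟨hq i, h i⟩)

end Groth.Agent.H11.FPExt_Q4
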