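import Mathlib
import Groth.Prelude.Def_HTop
import Groth.Prelude.Def_HTop3

/-! (ECT) for the S8983 squad (helper95): the unit ideal is effective Cartier. -/

set_option autoImplicit false
universe u
open CategoryTheory CategoryTheory.Limits AlgebraicGeometry

namespace Groth.Agent.H11.ABU_ECT

theorem ECT (X : Scheme.{u}) : BlowUp.IsEffCartierIdeal (⊤ : X.IdealSheafData) := by
  intro x
  obtain ⟨_, ⟨U, hU, rfl⟩, hxU, -⟩ :=
    X.isBasis_affineOpens.exists_subset_of_mem_open (Set.mem_univ x) isOpen_univ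
  refine ⟨⟨U, hU⟩, hxU, 1, one_mem _, ?_⟩
  rw [Scheme.IdealSheafData.ideal_top]
  simp

end Groth.Agent.H11.ABU_ECT
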