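import Mathlib
import Groth.Prelude.Def_HTop
import Groth.Prelude.Def_HTop3

/-! (TOP) for the S8983 squad (helper95): the inverse image ideal on the complement of the support
is the unit ideal. -/

set_option autoImplicit false
universe u
open CategoryTheory CategoryTheory.Limits AlgebraicGeometry

namespace Groth.Agent.H11.ABU_TOP

theorem TOP {X : Scheme.{u}} (𝓘 : X.IdealSheafData) : 𝓘.comap (HTop.awayFrom 𝓘).ι = ⊤ := by
  rw [← Scheme.IdealSheafData.support_eq_bot_iff, Scheme.IdealSheafData.support_comap]
  apply TopologicalSpace.Closeds.ext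
  ext x
  simp only [TopologicalSpace.Closeds.coe_preimage, Set.mem_preimage, SetLike.mem_coe,
    TopologicalSpace.Closeds.coe_bot, Set.mem_empty_iff_false, iff_false]
  intro hx
  have h2 : (HTop.awayFrom 𝓘).ι x ∈ (HTop.awayFrom 𝓘 : Set X) := by
    rw [← Scheme.Opens.range_ι]
    exact ⟨x, rfl⟩
  exact h2 hx

end Groth.Agent.H11.ABU_TOP
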