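import Groth.Prelude.Def_Found
import Mathlib

set_option autoImplicit false
set_option linter.style.haveILetI false
set_option linter.unusedSectionVars false

universe u

namespace Groth.Agent.H11.AnUnram

open TensorProduct

section FD

variable {A Ahat K' : Type u} [CommRing A] [IsDomain A] [CommRing Ahat] [Algebra A Ahat]
  [IsNoetherianRing Ahat]
  [Field K'] [Algebra A K'] [Algebra (FractionRing A) K'] [IsScalarTower A (FractionRing A) K']
  [FiniteDimensional (FractionRing A) K']

/-- The fraction field of `(Â ⊗ K')/P` is finite over the fraction field of `Â/(P ∩ Â)`,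
packaged as finiteness of the integral closure. -/
theorem finite_integralClosure_fractionRing_quot
    (hN : ∀ (p : Ideal Ahat) [p.IsPrime], CAlg.IsN2 (Ahat ⧸ p))
    (P : Ideal (Ahat ⊗[A] K')) [P.IsPrime] :
    Module.Finite Ahat (integralClosure Ahat (FractionRing ((Ahat ⊗[A] K') ⧸ P))) := by
  let K := FractionRing A
  let T := Ahat ⊗[A] K'
  let TP := T ⧸ P
  let F := FractionRing TP
  let p : Ideal Ahat := P.comap (algebraMap Ahat T)
  haveI : p.IsPrime := Ideal.comap_isPrime _ _
  let D := Ahat ⧸ p
  let φ : D →+* TP := Ideal.quotientMap P (algebraMap Ahat T) le_rfl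
  have hφ : Function.Injective φ := Ideal.quotientMap_injective
  letI : Algebra D TP := φ.toAlgebra
  haveI : IsScalarTower Ahat D TP := IsScalarTower.of_algebraMap_eq (fun a => rfl)
  haveI : IsScalarTower Ahat D F := IsScalarTower.of_algebraMap_eq (fun a => by
    rw [IsScalarTower.algebraMap_apply Ahat TP F, IsScalarTower.algebraMap_apply D TP F,
      ← IsScalarTower.algebraMap_apply Ahat D TP])
  have hDF : Function.Injective (algebraMap D F) := by
    rw [IsScalarTower.algebraMap_eq D TP F]
    exact (IsFractionRing.injective TP F).comp hφ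
  haveI : FaithfulSMul D F := (faithfulSMul_iff_algebraMap_injective _ _).mpr hDF
  letI : Algebra (FractionRing D) F := FractionRing.liftAlgebra D F
  haveI : IsScalarTower D (FractionRing D) F := FractionRing.isScalarTower_liftAlgebra D F
  let κ := FractionRing D
  -- the map `K' → F`
  let ρ : K' →ₐ[A] F := (IsScalarTower.toAlgHom A TP F).comp
    ((Ideal.Quotient.mkₐ A P).comp (Algebra.TensorProduct.includeRight : K' →ₐ[A] Ahat ⊗[A] K'))
  have hAK' : Function.Injective (algebraMap A K') := by
    rw [IsScalarTower.algebraMap_eq A K K']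
    exact (algebraMap K K').injective.comp (IsFractionRing.injective A K)
  have hAF : Function.Injective (algebraMap A F) := by
    have : algebraMap A F = ρ.toRingHom.comp (algebraMap A K') := by
      ext a; exact (ρ.commutes a).symm
    rw [this]
    exact ρ.toRingHom.injective.comp hAK'
  haveI : IsScalarTower A D F := IsScalarTower.of_algebraMap_eq (fun a => by
    rw [IsScalarTower.algebraMap_apply A Ahat D, ← IsScalarTower.algebraMap_apply Ahat D F,
      ← IsScalarTower.algebraMap_apply A Ahat F])
  haveI : IsScalarTower A κ F := IsScalarTower.of_algebraMap_eq (fun a => by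
    rw [IsScalarTower.algebraMap_apply A D κ, ← IsScalarTower.algebraMap_apply D κ F,
      ← IsScalarTower.algebraMap_apply A D F])
  have hAκ : Function.Injective (algebraMap A κ) := by
    have h : algebraMap A F = (algebraMap κ F).comp (algebraMap A κ) :=
      IsScalarTower.algebraMap_eq A κ F
    intro a b hab
    apply hAF
    rw [h, RingHom.comp_apply, RingHom.comp_apply, hab]
  haveI : Algebra.IsAlgebraic A K' :=
    (IsFractionRing.comap_isAlgebraic_iff (A := A) (K := K) (C := K')).mpr inferInstance
  let b := Module.finBasis K K'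
  let S : Set F := Set.range fun i => ρ (b i)
  haveI : Finite S := Set.finite_range _
  have hSint : ∀ x ∈ S, IsIntegral κ x := by
    rintro _ ⟨i, rfl⟩
    have h1 : IsAlgebraic A (b i) := Algebra.IsAlgebraic.isAlgebraic (b i)
    have h2 : IsAlgebraic A (ρ (b i)) := h1.algHom ρ
    exact (h2.extendScalars hAκ).isIntegral
  haveI hEfd : FiniteDimensional κ (IntermediateField.adjoin κ S) :=
    IntermediateField.finiteDimensional_adjoin hSint
  have hE : ∀ z : F, z ∈ IntermediateField.adjoin κ S := by
    have ha : ∀ u : A, algebraMap A F u ∈ IntermediateField.adjoin κ S := fun u => by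
      rw [IsScalarTower.algebraMap_apply A κ F]
      exact IntermediateField.algebraMap_mem _ _
    have hb : ∀ c : K, ρ (algebraMap K K' c) ∈ IntermediateField.adjoin κ S := fun c => by
      obtain ⟨u, s, hs, rfl⟩ := IsFractionRing.div_surjective (A := A) c
      rw [map_div₀, ← IsScalarTower.algebraMap_apply, ← IsScalarTower.algebraMap_apply, map_div₀,
        ρ.commutes, ρ.commutes]
      exact div_mem (ha u) (ha s)
    have hc : ∀ x : K', ρ x ∈ IntermediateField.adjoin κ S := fun x => by
      rw [← b.sum_repr x, map_sum]
      refine sum_mem fun i _ => ?_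
      rw [Algebra.smul_def, map_mul]
      exact mul_mem (hb _) (IntermediateField.subset_adjoin κ S ⟨i, rfl⟩)
    have hd : ∀ τ : T, algebraMap TP F (Ideal.Quotient.mk P τ) ∈ IntermediateField.adjoin κ S := by
      intro τ
      induction τ using TensorProduct.induction_on with
      | zero => simp
      | add x y hx hy => rw [map_add, map_add]; exact add_mem hx hy
      | tmul a x =>
        have h1 : (a ⊗ₜ[A] x : T) = algebraMap Ahat T a *
            (Algebra.TensorProduct.includeRight : K' →ₐ[A] Ahat ⊗[A] K') x := by
          rw [Algebra.TensorProduct.algebraMap_apply, Algebra.TensorProduct.includeRight_apply,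
            Algebra.TensorProduct.tmul_mul_tmul]
          simp
        rw [h1, map_mul, map_mul]
        refine mul_mem ?_ (hc x)
        have h2 : algebraMap TP F (Ideal.Quotient.mk P (algebraMap Ahat T a)) =
            algebraMap κ F (algebraMap D κ (Ideal.Quotient.mk p a)) := by
          rw [← IsScalarTower.algebraMap_apply D κ F, IsScalarTower.algebraMap_apply D TP F]
          rfl
        rw [h2]
        exact IntermediateField.algebraMap_mem _ _
    intro z
    obtain ⟨t1, t2, -, rfl⟩ := IsFractionRing.div_surjective (A := TP) z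
    obtain ⟨τ1, rfl⟩ := Ideal.Quotient.mk_surjective t1
    obtain ⟨τ2, rfl⟩ := Ideal.Quotient.mk_surjective t2
    exact div_mem (hd τ1) (hd τ2)
  have htop : IntermediateField.adjoin κ S = ⊤ := by
    rw [eq_top_iff]; intro z _; exact hE z
  haveI hfd : FiniteDimensional κ F := by
    rw [htop] at hEfd
    exact Module.Finite.equiv (IntermediateField.topEquiv (F := κ) (E := F)).toLinearEquiv
  have h1 : Module.Finite D (integralClosure D F) := hN p F hfd
  have hfg : (Subalgebra.toSubmodule (integralClosure D F)).FG :=
    (Submodule.fg_top _).mp (Module.finite_def.mp h1)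
  haveI : Module.Finite Ahat D :=
    Module.Finite.of_surjective (Ideal.Quotient.mkₐ Ahat p).toLinearMap
      (Ideal.Quotient.mkₐ_surjective Ahat p)
  have hfgR : ((Subalgebra.toSubmodule (integralClosure D F)).restrictScalars Ahat).FG :=
    hfg.restrictScalars
  haveI : Module.Finite Ahat
      ↥((Subalgebra.toSubmodule (integralClosure D F)).restrictScalars Ahat) :=
    Module.Finite.iff_fg.mpr hfgR
  let g : integralClosure Ahat F →ₗ[Ahat]
      ↥((Subalgebra.toSubmodule (integralClosure D F)).restrictScalars Ahat) :=
    ((integralClosure Ahat F).val.toLinearMap).codRestrict _ (fun a => by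
      have h1 : IsIntegral Ahat (a : F) := a.2
      exact h1.tower_top)
  refine Module.Finite.of_injective g (fun a b hab => ?_)
  have h' : (g a).1 = (g b).1 := congrArg Subtype.val hab
  exact Subtype.ext h'

end FD

section Main

variable {A Ahat K' : Type u} [CommRing A] [IsDomain A] [CommRing Ahat] [Algebra A Ahat]
  [IsNoetherianRing Ahat]
  [Field K'] [Algebra A K'] [Algebra (FractionRing A) K'] [IsScalarTower A (FractionRing A) K']
  [FiniteDimensional (FractionRing A) K']

theorem isNoetherianRing_tensor : IsNoetherianRing (Ahat ⊗[A] K') := by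
  haveI : Algebra.EssFiniteType A (FractionRing A) :=
    Algebra.EssFiniteType.of_isLocalization (FractionRing A) (nonZeroDivisors A)
  haveI : Algebra.EssFiniteType A K' := Algebra.EssFiniteType.comp A (FractionRing A) K'
  exact Algebra.EssFiniteType.isNoetherianRing Ahat (Ahat ⊗[A] K')

/-- The integral closure of `Â` in the reduced ring `Â ⊗ K'` is finite when all `Â/p` are N-2. -/
theorem finite_integralClosure_tensor
    (hN : ∀ (p : Ideal Ahat) [p.IsPrime], CAlg.IsN2 (Ahat ⧸ p))
    (hred : IsReduced (Ahat ⊗[A] K')) :
    Module.Finite Ahat (integralClosure Ahat (Ahat ⊗[A] K')) := by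
  classical
  let T := Ahat ⊗[A] K'
  haveI : IsNoetherianRing T := isNoetherianRing_tensor
  have hfin : (minimalPrimes T).Finite := minimalPrimes.finite_of_isNoetherianRing T
  haveI : Fintype (minimalPrimes T) := hfin.fintype
  haveI hprime : ∀ P : minimalPrimes T, (P : Ideal T).IsPrime := fun P => P.2.1.1
  let ψ : ∀ P : minimalPrimes T, T →ₐ[Ahat] FractionRing (T ⧸ (P : Ideal T)) := fun P =>
    (IsScalarTower.toAlgHom Ahat (T ⧸ (P : Ideal T)) (FractionRing (T ⧸ (P : Ideal T)))).comp
      (Ideal.Quotient.mkₐ Ahat (P : Ideal T))
  have hψ : ∀ (P : minimalPrimes T) (x : T), ψ P x = 0 → x ∈ (P : Ideal T) := by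
    intro P x hx
    have h1 : algebraMap (T ⧸ (P : Ideal T)) (FractionRing (T ⧸ (P : Ideal T)))
        (Ideal.Quotient.mk (P : Ideal T) x) = 0 := hx
    have h2 : Ideal.Quotient.mk (P : Ideal T) x = 0 :=
      (IsFractionRing.injective (T ⧸ (P : Ideal T))
        (FractionRing (T ⧸ (P : Ideal T)))) (by rw [h1, map_zero])
    exact Ideal.Quotient.eq_zero_iff_mem.mp h2
  haveI : ∀ P : minimalPrimes T,
      Module.Finite Ahat (integralClosure Ahat (FractionRing (T ⧸ (P : Ideal T)))) :=
    fun P => finite_integralClosure_fractionRing_quot hN (P : Ideal T)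
  let Φ : integralClosure Ahat T →ₗ[Ahat]
      (∀ P : minimalPrimes T, integralClosure Ahat (FractionRing (T ⧸ (P : Ideal T)))) :=
    LinearMap.pi fun P => ((ψ P).mapIntegralClosure).toLinearMap
  refine Module.Finite.of_injective Φ ?_
  rw [injective_iff_map_eq_zero]
  intro x hx
  have h1 : ∀ P : minimalPrimes T, (x : T) ∈ (P : Ideal T) := by
    intro P
    apply hψ P
    have := congrFun hx P
    exact congrArg Subtype.val this
  have h5 : IsNilpotent (x : T) := by
    rw [nilpotent_iff_mem_prime]
    intro J hJ
    obtain ⟨P, hP, hPJ⟩ := Ideal.exists_minimalPrimes_le (I := ⊥) (J := J) bot_le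
    exact hPJ (h1 ⟨P, hP⟩)
  exact Subtype.ext h5.eq_zero

/-- Main theorem: if `Â` is a Noetherian faithfully flat `A`-algebra all of whose quotient domains
are N-2 and `Â ⊗ K'` is reduced, then the integral closure of `A` in `K'` is finite. -/
theorem finite_integralClosure_of_reduced_tensor [Module.FaithfullyFlat A Ahat]
    (hN : ∀ (p : Ideal Ahat) [p.IsPrime], CAlg.IsN2 (Ahat ⧸ p))
    (hred : IsReduced (Ahat ⊗[A] K')) :
    Module.Finite A (integralClosure A K') := by
  let T := Ahat ⊗[A] K'
  haveI hC : Module.Finite Ahat (integralClosure Ahat T) := finite_integralClosure_tensor hN hred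
  let j : Ahat ⊗[A] (integralClosure A K') →ₗ[Ahat] T :=
    ((integralClosure A K').val.toLinearMap).baseChange Ahat
  have hj : Function.Injective j := by
    have := Module.Flat.lTensor_preserves_injective_linearMap (M := Ahat)
      ((integralClosure A K').val.toLinearMap) Subtype.val_injective
    exact this
  have hint : ∀ z : Ahat ⊗[A] (integralClosure A K'), IsIntegral Ahat (j z) := by
    intro z
    induction z using TensorProduct.induction_on with
    | zero => rw [map_zero]; exact isIntegral_zero
    | add x y hx hy => rw [map_add]; exact hx.add hy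
    | tmul a m =>
      have h1 : j (a ⊗ₜ[A] m) = algebraMap Ahat T a *
          (Algebra.TensorProduct.includeRight : K' →ₐ[A] Ahat ⊗[A] K') (m : K') := by
        rw [Algebra.TensorProduct.algebraMap_apply, Algebra.TensorProduct.includeRight_apply,
          Algebra.TensorProduct.tmul_mul_tmul, mul_one, one_mul]
        exact LinearMap.baseChange_tmul _ _ _
      rw [h1]
      refine isIntegral_algebraMap.mul ?_
      have h2 : IsIntegral A ((Algebra.TensorProduct.includeRight :
          K' →ₐ[A] Ahat ⊗[A] K') (m : K')) := m.2.map _
      exact h2.tower_top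
  let j' : Ahat ⊗[A] (integralClosure A K') →ₗ[Ahat] integralClosure Ahat T :=
    j.codRestrict (Subalgebra.toSubmodule (integralClosure Ahat T)) hint
  haveI : Module.Finite Ahat (Ahat ⊗[A] (integralClosure A K')) :=
    Module.Finite.of_injective j' (fun a b hab => hj (congrArg Subtype.val hab))
  exact Module.Finite.of_finite_tensorProduct_of_faithfullyFlat Ahat

end Main

end Groth.Agent.H11.AnUnram
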