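import Groth.Prelude.Def_Found
import Mathlib

set_option autoImplicit false
set_option linter.style.haveILetI false

universe u

namespace Groth.Agent.H11.N2Descent

open TensorProduct

/-- N-2 descends along finite injective extensions of domains (Noetherian base). -/
theorem isN2_of_finite {R S : Type u} [CommRing R] [IsDomain R] [IsNoetherianRing R]
    [CommRing S] [IsDomain S] [Algebra R S] (hinj : Function.Injective (algebraMap R S))
    [Module.Finite R S] (hS : CAlg.IsN2 S) : CAlg.IsN2 R := by
  intro L _ _ _ _ hfd
  let K := FractionRing R
  let F := FractionRing S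
  have hRF : Function.Injective (algebraMap R F) := by
    rw [IsScalarTower.algebraMap_eq R S F]
    exact (IsFractionRing.injective S F).comp hinj
  haveI : FaithfulSMul R F := (faithfulSMul_iff_algebraMap_injective _ _).mpr hRF
  letI : Algebra K F := FractionRing.liftAlgebra R F
  haveI : IsScalarTower R K F := FractionRing.isScalarTower_liftAlgebra R F
  let C := F ⊗[K] L
  obtain ⟨m, hm⟩ := Ideal.exists_maximal C
  letI : Field (C ⧸ m) := Ideal.Quotient.field m
  let L' := C ⧸ m
  let ιL : L →+* L' :=
    (Ideal.Quotient.mk m).comp (Algebra.TensorProduct.includeRight : L →ₐ[K] F ⊗[K] L).toRingHom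
  have hcomm : ∀ r : R, ιL (algebraMap R L r) = algebraMap R L' r := by
    intro r
    show Ideal.Quotient.mk m ((1 : F) ⊗ₜ[K] algebraMap R L r) =
      Ideal.Quotient.mk m (algebraMap R C r)
    congr 1
    rw [Algebra.TensorProduct.algebraMap_apply, IsScalarTower.algebraMap_apply R K F,
      IsScalarTower.algebraMap_apply R K L,
      Algebra.algebraMap_eq_smul_one (algebraMap R K r), Algebra.algebraMap_eq_smul_one
      (algebraMap R K r), TensorProduct.smul_tmul]
  let ιA : L →ₐ[R] L' := { ιL with commutes' := hcomm }
  haveI : Module.Finite F C := inferInstance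
  haveI : FiniteDimensional F L' :=
    Module.Finite.of_surjective (Ideal.Quotient.mkₐ F m).toLinearMap
      (Ideal.Quotient.mkₐ_surjective F m)
  have hfin : Module.Finite S (integralClosure S L') := hS L' inferInstance
  have hfg : (Subalgebra.toSubmodule (integralClosure S L')).FG :=
    (Submodule.fg_top _).mp (Module.finite_def.mp hfin)
  have hfgR : ((Subalgebra.toSubmodule (integralClosure S L')).restrictScalars R).FG :=
    hfg.restrictScalars
  haveI : Module.Finite R ↥((Subalgebra.toSubmodule (integralClosure S L')).restrictScalars R) :=
    Module.Finite.iff_fg.mpr hfgR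
  let g : integralClosure R L →ₗ[R]
      ↥((Subalgebra.toSubmodule (integralClosure S L')).restrictScalars R) :=
    (ιA.toLinearMap.comp (integralClosure R L).val.toLinearMap).codRestrict _ (fun a => by
      have h1 : IsIntegral R (ιA (a : L)) := a.2.map ιA
      exact h1.tower_top)
  refine Module.Finite.of_injective g (fun a b hab => ?_)
  have h' : ιA (a : L) = ιA (b : L) := congrArg Subtype.val hab
  exact Subtype.ext (ιA.toRingHom.injective h')

end Groth.Agent.H11.N2Descent
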