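import Groth.Prelude.Def_Found
import Mathlib

set_option autoImplicit false
set_option linter.style.haveILetI false

universe u

namespace Groth.Agent.H11.N2QF

open Polynomial

/-- Multiplying an `S`-integral element by a suitable power of `r` makes it `R`-integral, when
`r` is `R`-integral and every element of `S` becomes `R`-integral after multiplication by a power
of `r`. -/
theorem exists_isIntegral_pow_mul {R S L : Type u} [CommRing R] [CommRing S] [Nontrivial S]
    [CommRing L] [Algebra R S] [Algebra S L] [Algebra R L] [IsScalarTower R S L]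
    (r : S) (hr : IsIntegral R r) (hrx : ∀ x : S, ∃ m, IsIntegral R (r ^ m * x))
    (y : L) (hy : IsIntegral S y) : ∃ m, IsIntegral R (algebraMap S L (r ^ m) * y) := by
  obtain ⟨p, hp, hpy⟩ := hy
  choose m hm using hrx
  set d := p.natDegree with hd
  let N : ℕ := (Finset.range (d + 1)).sup (fun i => m (p.coeff i))
  have hN : ∀ i, i ≤ d → IsIntegral R (r ^ N * p.coeff i) := by
    intro i hi
    have hle : m (p.coeff i) ≤ N :=
      Finset.le_sup (f := fun i => m (p.coeff i)) (Finset.mem_range.mpr (Nat.lt_succ_of_le hi))
    obtain ⟨k, hk⟩ := Nat.exists_eq_add_of_le hle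
    rw [hk, pow_add, mul_comm (r ^ m (p.coeff i)) (r ^ k), mul_assoc]
    exact (hr.pow k).mul (hm (p.coeff i))
  refine ⟨N, ?_⟩
  set q := scaleRoots p (r ^ N) with hq
  have hqm : q.Monic := (monic_scaleRoots_iff _).mpr hp
  have hqy : aeval (algebraMap S L (r ^ N) * y) q = 0 :=
    scaleRoots_aeval_eq_zero (by rw [aeval_def]; exact hpy)
  have hqc : ∀ i, IsIntegral R (q.coeff i) := by
    intro i
    rw [hq, coeff_scaleRoots]
    rcases lt_trichotomy i d with h | h | h
    · obtain ⟨k, hk⟩ : ∃ k, d - i = k + 1 := ⟨d - i - 1, by omega⟩
      rw [← hd, hk, pow_succ, ← mul_assoc, mul_comm (p.coeff i) ((r ^ N) ^ k), mul_assoc,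
        mul_comm (p.coeff i) (r ^ N)]
      exact ((hr.pow N).pow k).mul (hN i h.le)
    · rw [h, ← hd, Nat.sub_self, pow_zero, mul_one, hd, coeff_natDegree, hp.leadingCoeff]
      exact isIntegral_one
    · rw [coeff_eq_zero_of_natDegree_lt (by rw [← hd]; exact h), zero_mul]
      exact isIntegral_zero
  -- descend `q` to the integral closure of `R` in `S`
  have hlift : q ∈ lifts (algebraMap (integralClosure R S) S) := by
    rw [lifts_iff_coeff_lifts]
    intro i
    exact ⟨⟨q.coeff i, hqc i⟩, rfl⟩
  obtain ⟨q₀, hq₀, -, hq₀m⟩ := lifts_and_degree_eq_and_monic hlift hqm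
  have hint : IsIntegral (integralClosure R S) (algebraMap S L (r ^ N) * y) := by
    refine ⟨q₀, hq₀m, ?_⟩
    have h1 : eval₂ (algebraMap S L) (algebraMap S L (r ^ N) * y)
        (q₀.map (algebraMap (integralClosure R S) S)) = 0 := by
      rw [hq₀, ← aeval_def]; exact hqy
    rw [eval₂_map] at h1
    rw [IsScalarTower.algebraMap_eq (integralClosure R S) S L]
    exact h1
  exact isIntegral_trans (R := R) (A := integralClosure R S) _ hint

/-- A quasi-finite, finite type extension of a Noetherian N-2 domain is N-2. -/
theorem isN2_of_quasiFinite {R S : Type u} [CommRing R] [IsDomain R] [IsNoetherianRing R]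
    [CommRing S] [IsDomain S] [Algebra R S] (hinj : Function.Injective (algebraMap R S))
    [Algebra.FiniteType R S] [Algebra.QuasiFinite R S] (hR : CAlg.IsN2 R) : CAlg.IsN2 S := by
  intro L _ _ _ _ hfd
  letI : Algebra R L := ((algebraMap S L).comp (algebraMap R S)).toAlgebra
  haveI : IsScalarTower R S L := IsScalarTower.of_algebraMap_eq fun _ => rfl
  have hSL : Function.Injective (algebraMap S L) := by
    rw [IsScalarTower.algebraMap_eq S (FractionRing S) L]
    exact (algebraMap (FractionRing S) L).injective.comp (IsFractionRing.injective S (FractionRing S))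
  have hRL : Function.Injective (algebraMap R L) := hSL.comp hinj
  letI : Algebra (FractionRing R) L := (IsFractionRing.lift hRL).toAlgebra
  haveI : IsScalarTower R (FractionRing R) L :=
    IsScalarTower.of_algebraMap_eq fun x => (IsFractionRing.lift_algebraMap hRL x).symm
  haveI : Module.Finite (FractionRing S) L := hfd
  haveI : Algebra.QuasiFinite S L := Algebra.QuasiFinite.trans S (FractionRing S) L
  haveI : Algebra.QuasiFinite R L := Algebra.QuasiFinite.trans R S L
  haveI : Algebra.QuasiFinite (FractionRing R) L :=
    Algebra.QuasiFinite.of_restrictScalars R (FractionRing R) L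
  haveI : Module.Finite (FractionRing R) L := Module.Finite.of_quasiFinite
  have hfinR : Module.Finite R (integralClosure R L) := hR L inferInstance
  obtain ⟨G, hG⟩ := hfinR.fg_top
  let G' : Set L := (fun g : integralClosure R L => (g : L)) '' (G : Set (integralClosure R L))
  have hG'fin : G'.Finite := Set.Finite.image _ G.finite_toSet
  have hR'T : ∀ w : L, IsIntegral R w → w ∈ Submodule.span S G' := by
    intro w hw
    have h1 : (⟨w, hw⟩ : integralClosure R L) ∈ Submodule.span R (G : Set (integralClosure R L)) := by
      rw [hG]; exact Submodule.mem_top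
    have h2 := Submodule.apply_mem_span_image_of_mem_span
      ((integralClosure R L).val.toLinearMap) h1
    exact Submodule.span_le_restrictScalars R S G' h2
  have hT : Subalgebra.toSubmodule (integralClosure S L) = Submodule.span S G' := by
    apply le_antisymm
    · intro y hy
      have hy' : IsIntegral S y := hy
      let J : Ideal S :=
        { carrier := {s | s • y ∈ Submodule.span S G'}
          add_mem' := fun {a b} ha hb => by
            show (a + b) • y ∈ Submodule.span S G'
            rw [add_smul]; exact Submodule.add_mem _ ha hb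
          zero_mem' := by
            show (0 : S) • y ∈ Submodule.span S G'
            rw [zero_smul]; exact Submodule.zero_mem _
          smul_mem' := fun c a ha => by
            show (c • a) • y ∈ Submodule.span S G'
            rw [smul_assoc]; exact Submodule.smul_mem _ c ha }
      have hJ : J = ⊤ := by
        by_contra hne
        obtain ⟨Q, hQ, hJQ⟩ := Ideal.exists_le_maximal J hne
        haveI := hQ.isPrime
        obtain ⟨r, hrQ, hrint, hrx⟩ := Algebra.zariskisMainProperty_iff.mp
          (Algebra.ZariskisMainProperty.of_finiteType (R := R) Q)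
        obtain ⟨m, hm⟩ := exists_isIntegral_pow_mul r hrint hrx y hy'
        have hmem : r ^ m ∈ J := by
          show (r ^ m) • y ∈ Submodule.span S G'
          rw [Algebra.smul_def]
          exact hR'T _ hm
        exact hrQ (hQ.isPrime.mem_of_pow_mem m (hJQ hmem))
      have h1 : (1 : S) ∈ J := hJ ▸ Submodule.mem_top
      have h2 : (1 : S) • y ∈ Submodule.span S G' := h1
      rwa [one_smul] at h2
    · rw [Submodule.span_le]
      rintro _ ⟨g, _, rfl⟩
      exact (g.2 : IsIntegral R (g : L)).tower_top
  refine ⟨(Submodule.fg_top (Subalgebra.toSubmodule (integralClosure S L))).mpr ?_⟩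
  rw [hT]
  exact Submodule.fg_span hG'fin

end Groth.Agent.H11.N2QF
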