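import Mathlib

set_option autoImplicit false
set_option linter.style.haveILetI false

namespace Groth.Agent.H11.PSNormal

open PowerSeries

variable {D : Type*} [CommRing D] [IsDomain D]

section

variable (k : Type*) [Field k] [Algebra D k]

/-- a power series over `k` lies in the image of `D⟦X⟧` iff all coefficients do. -/
theorem mem_range_map_iff (V : k⟦X⟧) :
    V ∈ (PowerSeries.map (algebraMap D k)).range ↔ ∀ n, coeff n V ∈ (algebraMap D k).range := by
  constructor
  · rintro ⟨q, rfl⟩ n
    exact ⟨coeff n q, by rw [coeff_map]⟩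
  · intro h
    choose d hd using h
    exact ⟨PowerSeries.mk d, by ext n; rw [coeff_map, coeff_mk, hd]⟩

theorem mem_range_of_X_mul_mem (V : k⟦X⟧)
    (h : X * V ∈ (PowerSeries.map (algebraMap D k)).range) :
    V ∈ (PowerSeries.map (algebraMap D k)).range := by
  rw [mem_range_map_iff] at h ⊢
  intro n
  have := h (n + 1)
  rwa [coeff_succ_X_mul] at this

theorem mem_range_of_X_pow_mul_mem (e : ℕ) (V : k⟦X⟧)
    (h : X ^ e * V ∈ (PowerSeries.map (algebraMap D k)).range) :
    V ∈ (PowerSeries.map (algebraMap D k)).range := by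
  induction e with
  | zero => simpa using h
  | succ e ih =>
    apply ih
    apply mem_range_of_X_mul_mem
    rwa [← mul_assoc, ← pow_succ']

variable [IsFractionRing D k] [IsNoetherianRing D] [IsIntegrallyClosed D]

theorem constantCoeff_mem_range (ρ : D⟦X⟧) (hρ : constantCoeff ρ ≠ 0) (W : k⟦X⟧)
    (h : ∀ e : ℕ, PowerSeries.map (algebraMap D k) ρ * W ^ e ∈
      (PowerSeries.map (algebraMap D k)).range) :
    constantCoeff W ∈ (algebraMap D k).range := by
  have halm : IsAlmostIntegral D (constantCoeff W) := by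
    refine ⟨constantCoeff ρ, mem_nonZeroDivisors_of_ne_zero hρ, fun e => ?_⟩
    have := (mem_range_map_iff k _).mp (h e) 0
    rw [coeff_zero_eq_constantCoeff_apply, map_mul, map_pow, ← coeff_zero_eq_constantCoeff_apply,
      coeff_map, coeff_zero_eq_constantCoeff_apply] at this
    rwa [Algebra.smul_def]
  haveI : FaithfulSMul D k :=
    (faithfulSMul_iff_algebraMap_injective D k).mpr (IsFractionRing.injective D k)
  have hint : IsIntegral D (constantCoeff W) := halm.isIntegral
  obtain ⟨d, hd⟩ := IsIntegrallyClosed.isIntegral_iff.mp hint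
  exact ⟨d, hd⟩

theorem coeff_mem_range (ρ : D⟦X⟧) (hρ : constantCoeff ρ ≠ 0) (n : ℕ) :
    ∀ W : k⟦X⟧, (∀ e : ℕ, PowerSeries.map (algebraMap D k) ρ * W ^ e ∈
      (PowerSeries.map (algebraMap D k)).range) → coeff n W ∈ (algebraMap D k).range := by
  induction n with
  | zero =>
    intro W h
    rw [coeff_zero_eq_constantCoeff_apply]
    exact constantCoeff_mem_range k ρ hρ W h
  | succ n ih =>
    intro W h
    obtain ⟨d, hd⟩ := constantCoeff_mem_range k ρ hρ W h
    set W' : k⟦X⟧ := PowerSeries.mk fun p => coeff (p + 1) W with hW'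
    have hW : X * W' = W - PowerSeries.map (algebraMap D k) (C d) := by
      have := eq_X_mul_shift_add_const W
      rw [map_C, hd]
      rw [eq_sub_iff_add_eq]
      exact this.symm
    have hcoeff : coeff (n + 1) W = coeff n W' := by rw [hW', coeff_mk]
    rw [hcoeff]
    apply ih
    intro e
    apply mem_range_of_X_pow_mul_mem k e
    have : X ^ e * (PowerSeries.map (algebraMap D k) ρ * W' ^ e) =
        PowerSeries.map (algebraMap D k) ρ * (X * W') ^ e := by ring
    rw [this, hW, sub_eq_add_neg, add_pow, Finset.mul_sum]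
    refine Subring.sum_mem _ fun j _ => ?_
    have h1 := h j
    have hCd : PowerSeries.map (algebraMap D k) (C d) ∈
        (PowerSeries.map (algebraMap D k)).range := ⟨C d, rfl⟩
    have h2 : (-(PowerSeries.map (algebraMap D k)) (C d)) ^ (e - j) ∈
        (PowerSeries.map (algebraMap D k)).range :=
      pow_mem (neg_mem hCd) _
    have : (PowerSeries.map (algebraMap D k)) ρ *
        (W ^ j * (-(PowerSeries.map (algebraMap D k)) (C d)) ^ (e - j) * ↑(e.choose j)) =
        ((PowerSeries.map (algebraMap D k)) ρ * W ^ j) *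
        (-(PowerSeries.map (algebraMap D k)) (C d)) ^ (e - j) * ↑(e.choose j) := by ring
    rw [this]
    exact Subring.mul_mem _ (Subring.mul_mem _ h1 h2) (natCast_mem _ _)

theorem mem_range_of_forall_pow (ρ : D⟦X⟧) (hρ : constantCoeff ρ ≠ 0) (W : k⟦X⟧)
    (h : ∀ e : ℕ, PowerSeries.map (algebraMap D k) ρ * W ^ e ∈
      (PowerSeries.map (algebraMap D k)).range) :
    W ∈ (PowerSeries.map (algebraMap D k)).range :=
  (mem_range_map_iff k W).mpr fun n => coeff_mem_range k ρ hρ n W h

end

variable [IsNoetherianRing D] [IsIntegrallyClosed D]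

/-- Base case: constant coefficients nonzero. -/
theorem dvd_of_constantCoeff_ne_zero (f g r : D⟦X⟧) (hg : constantCoeff g ≠ 0)
    (hr : constantCoeff r ≠ 0) (h : ∀ e : ℕ, ∃ a : D⟦X⟧, a * g ^ e = r * f ^ e) : g ∣ f := by
  let k := FractionRing D
  let φ := PowerSeries.map (algebraMap D k)
  have hφinj : Function.Injective φ :=
    PowerSeries.map_injective _ (IsFractionRing.injective D k)
  have hgc : constantCoeff (φ g) ≠ 0 := by
    rw [← coeff_zero_eq_constantCoeff_apply, coeff_map, coeff_zero_eq_constantCoeff_apply]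
    exact fun h0 => hg (IsFractionRing.injective D k (by rw [h0, map_zero]))
  set W : k⟦X⟧ := φ f * (φ g)⁻¹ with hW
  have hWmem : W ∈ φ.range := by
    refine mem_range_of_forall_pow k r hr W fun e => ?_
    obtain ⟨a, ha⟩ := h e
    refine ⟨a, ?_⟩
    have h1 : φ a * φ g ^ e = φ r * φ f ^ e := by
      rw [← map_pow, ← map_pow, ← map_mul, ← map_mul, ha]
    have h2 : φ g ^ e * (φ g)⁻¹ ^ e = 1 := by
      rw [← mul_pow, PowerSeries.mul_inv_cancel _ hgc, one_pow]
    calc φ a = φ a * (φ g ^ e * (φ g)⁻¹ ^ e) := by rw [h2, mul_one]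
      _ = (φ a * φ g ^ e) * (φ g)⁻¹ ^ e := by ring
      _ = φ r * W ^ e := by rw [h1, hW, mul_pow]; ring
  obtain ⟨q, hq⟩ := hWmem
  refine ⟨q, hφinj ?_⟩
  rw [map_mul, hq, hW, mul_comm (φ g), mul_assoc, PowerSeries.inv_mul_cancel _ hgc, mul_one]

theorem dvd_of_forall_pow (f g r : D⟦X⟧) (hg : g ≠ 0) (hr : r ≠ 0)
    (h : ∀ e : ℕ, ∃ a : D⟦X⟧, a * g ^ e = r * f ^ e) : g ∣ f := by
  by_cases hf : f = 0
  · rw [hf]; exact dvd_zero g
  have h0 : divXPowOrder g ∣ divXPowOrder f := by
    refine dvd_of_constantCoeff_ne_zero _ _ (divXPowOrder r)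
      (by rwa [Ne, constantCoeff_divXPowOrder_eq_zero_iff])
      (by rwa [Ne, constantCoeff_divXPowOrder_eq_zero_iff]) fun e => ?_
    obtain ⟨a, ha⟩ := h e
    exact ⟨divXPowOrder a, by
      rw [← divXPowOrder_pow, ← divXPowOrder_pow, ← divXPowOrder_mul, ← divXPowOrder_mul, ha]⟩
  -- orders
  have hord : g.order.toNat ≤ f.order.toNat := by
    by_contra hlt
    push Not at hlt
    obtain ⟨a, ha⟩ := h (r.order.toNat + 1)
    have ha0 : a ≠ 0 := by
      rintro rfl
      rw [zero_mul] at ha
      exact mul_ne_zero hr (pow_ne_zero _ hf) ha.symm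
    have h1 := congrArg order ha
    rw [order_mul, order_mul, order_pow, order_pow, ← coe_toNat_order ha0, ← coe_toNat_order hg,
      ← coe_toNat_order hr, ← coe_toNat_order hf] at h1
    have h2 : a.order.toNat + (r.order.toNat + 1) * g.order.toNat =
        r.order.toNat + (r.order.toNat + 1) * f.order.toNat := by
      have : ((a.order.toNat + (r.order.toNat + 1) * g.order.toNat : ℕ) : ℕ∞) =
          ((r.order.toNat + (r.order.toNat + 1) * f.order.toNat : ℕ) : ℕ∞) := by
        push_cast
        simpa [nsmul_eq_mul] using h1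
      exact_mod_cast this
    have h3 : (r.order.toNat + 1) * (f.order.toNat + 1) ≤ (r.order.toNat + 1) * g.order.toNat :=
      Nat.mul_le_mul_left _ hlt
    nlinarith
  obtain ⟨q, hq⟩ := h0
  obtain ⟨j, hj⟩ := Nat.exists_eq_add_of_le hord
  refine ⟨X ^ j * q, ?_⟩
  rw [← X_pow_order_mul_divXPowOrder (f := f), hq, hj, pow_add]
  conv_rhs => rw [← X_pow_order_mul_divXPowOrder (f := g)]
  ring

/-- Power series over a Noetherian integrally closed domain form an integrally closed domain. -/
theorem isIntegrallyClosed_powerSeries : IsIntegrallyClosed D⟦X⟧ := by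
  rw [isIntegrallyClosed_iff (FractionRing D⟦X⟧)]
  intro w hw
  obtain ⟨r, hr, hrw⟩ := hw.isAlmostIntegral
  obtain ⟨f, g, hg, rfl⟩ := IsFractionRing.div_surjective (A := D⟦X⟧) w
  have hg0 : g ≠ 0 := nonZeroDivisors.ne_zero hg
  have hr0 : r ≠ 0 := nonZeroDivisors.ne_zero hr
  have hgK : algebraMap D⟦X⟧ (FractionRing D⟦X⟧) g ≠ 0 :=
    IsFractionRing.to_map_ne_zero_of_mem_nonZeroDivisors hg
  have hdvd : g ∣ f := by
    refine dvd_of_forall_pow f g r hg0 hr0 fun e => ?_
    obtain ⟨a, ha⟩ := hrw e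
    refine ⟨a, IsFractionRing.injective D⟦X⟧ (FractionRing D⟦X⟧) ?_⟩
    rw [map_mul, map_mul, map_pow, map_pow, ha, Algebra.smul_def, div_pow]
    field_simp
  obtain ⟨q, rfl⟩ := hdvd
  exact ⟨q, by rw [map_mul]; field_simp⟩

end Groth.Agent.H11.PSNormal
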