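import Mathlib

/-!
# Japaneseness can be tested on purely inseparable extensions

If `A` is a Noetherian domain whose integral closure in every finite purely inseparable extension
of its fraction field is finite, then the same holds for every finite extension.
-/

namespace Groth.Agent.H11.N2Insep

open Polynomial IntermediateField

section FieldTheory

variable {K N : Type*} [Field K] [Field N] [Algebra K N]

lemma isPurelyInseparable_fixedField [Normal K N] :
    IsPurelyInseparable K (IntermediateField.fixedField (⊤ : Subgroup (N ≃ₐ[K] N))) := by
  classical
  rw [isPurelyInseparable_iff_natSepDegree_eq_one]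
  intro x
  have hsplit : ((minpoly K x).map (algebraMap K N)).Splits := by
    rw [IntermediateField.minpoly_eq]
    exact Normal.splits inferInstance (x : N)
  rw [Polynomial.natSepDegree_eq_of_splits (E := N) _ hsplit]
  have hx : ∀ σ : N ≃ₐ[K] N, σ (x : N) = x := fun σ =>
    (IntermediateField.mem_fixedField_iff _ _).mp x.2 σ (Subgroup.mem_top σ)
  have : ((minpoly K x).aroots N).toFinset = {(x : N)} := by
    ext y
    simp only [Multiset.mem_toFinset, Finset.mem_singleton]
    rw [Polynomial.mem_aroots]
    constructor
    · rintro ⟨_, hy⟩
      rw [IntermediateField.minpoly_eq] at hy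
      obtain ⟨σ, hσ⟩ := minpoly.exists_algEquiv_of_root' (K := K) (L := N) (x := y) (y := (x : N))
        (Algebra.IsAlgebraic.isAlgebraic _) hy
      rw [← hσ]; exact hx σ
    · rintro rfl
      refine ⟨minpoly.ne_zero (Algebra.IsIntegral.isIntegral _), ?_⟩
      rw [IntermediateField.minpoly_eq]; exact minpoly.aeval K (x : N)
  rw [this, Finset.card_singleton]

lemma isSeparable_over_fixedField [FiniteDimensional K N] :
    Algebra.IsSeparable (IntermediateField.fixedField (⊤ : Subgroup (N ≃ₐ[K] N))) N := by
  have : IsGalois (FixedPoints.subfield (⊤ : Subgroup (N ≃ₐ[K] N)) N) N :=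
    IsGalois.of_fixed_field N (⊤ : Subgroup (N ≃ₐ[K] N))
  exact this.to_isSeparable

end FieldTheory

theorem finite_integralClosure_of_tower
    (A B K P N : Type*) [CommRing A] [IsDomain A] [IsNoetherianRing A] [CommRing B] [IsDomain B]
    [Field K] [Field P] [Field N] [Algebra A K] [IsFractionRing A K] [Algebra A B] [Algebra B P]
    [Algebra A P] [IsScalarTower A B P] [Algebra K P] [IsScalarTower A K P]
    [IsIntegralClosure B A P] [FiniteDimensional K P] [Module.Finite A B]
    [Algebra P N] [FiniteDimensional P N] [Algebra.IsSeparable P N]
    [Algebra A N] [Algebra B N] [IsScalarTower B P N] [IsScalarTower A B N] :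
    Module.Finite A (integralClosure A N) := by
  have hfrac : IsFractionRing B P := IsIntegralClosure.isFractionRing_of_finite_extension A K P B
  have hBint : Algebra.IsIntegral A B := IsIntegralClosure.isIntegral_algebra A P
  have hic : IsIntegrallyClosed B := by
    refine (isIntegrallyClosed_iff P).mpr fun {x} hx => ?_
    have : IsIntegral A x := isIntegral_trans x hx
    exact IsIntegralClosure.isIntegral_iff.mp this
  have hBn : IsNoetherianRing B := IsNoetherianRing.of_finite A B
  have hC : IsNoetherian B (integralClosure B N) := IsIntegralClosure.isNoetherian B P N _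
  have h1 : Module.Finite B (integralClosure B N) := Module.IsNoetherian.finite B _
  have h2 : Module.Finite A (integralClosure B N) := Module.Finite.trans B _
  have h3 : IsNoetherian A (integralClosure B N) := isNoetherian_of_isNoetherianRing_of_finite A _
  let f : integralClosure A N →ₗ[A] integralClosure B N :=
    { toFun := fun x => ⟨x.1, IsIntegral.tower_top x.2⟩
      map_add' := fun _ _ => rfl
      map_smul' := fun a x => Subtype.ext rfl }
  refine Module.Finite.of_injective f (fun x y h => ?_)
  have h' : (f x : N) = (f y : N) := congrArg Subtype.val h
  exact Subtype.ext h'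

universe u

theorem finite_integralClosure_of_purelyInseparable (A : Type u) [CommRing A] [IsDomain A]
    [IsNoetherianRing A]
    (h : ∀ (K' : Type u) [Field K'] [Algebra A K'] [Algebra (FractionRing A) K']
      [IsScalarTower A (FractionRing A) K'], FiniteDimensional (FractionRing A) K' →
      IsPurelyInseparable (FractionRing A) K' → Module.Finite A (integralClosure A K'))
    (L : Type u) [Field L] [Algebra A L] [Algebra (FractionRing A) L]
    [IsScalarTower A (FractionRing A) L] (hL : FiniteDimensional (FractionRing A) L) :
    Module.Finite A (integralClosure A L) := by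
  have : IsAlgClosure (FractionRing A) (AlgebraicClosure L) :=
    IsAlgClosure.ofAlgebraic (FractionRing A) L (AlgebraicClosure L)
  let N : IntermediateField (FractionRing A) (AlgebraicClosure L) :=
    IntermediateField.normalClosure (FractionRing A) L (AlgebraicClosure L)
  have : Normal (FractionRing A) N := normalClosure.normal (FractionRing A) L (AlgebraicClosure L)
  have : FiniteDimensional (FractionRing A) N :=
    normalClosure.is_finiteDimensional (FractionRing A) L (AlgebraicClosure L)
  let P : IntermediateField (FractionRing A) N :=
    IntermediateField.fixedField (⊤ : Subgroup (N ≃ₐ[FractionRing A] N))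
  have hPi : IsPurelyInseparable (FractionRing A) P := isPurelyInseparable_fixedField
  have hPs : Algebra.IsSeparable P N := isSeparable_over_fixedField
  have hPf : FiniteDimensional (FractionRing A) P := inferInstance
  have hNf : FiniteDimensional P N := inferInstance
  have hBf : Module.Finite A (integralClosure A P) := h P hPf hPi
  have : IsScalarTower A (integralClosure A P) N := IsScalarTower.of_algebraMap_eq fun _ => rfl
  have hN : Module.Finite A (integralClosure A N) :=
    finite_integralClosure_of_tower A (integralClosure A P) (FractionRing A) P N
  have : IsNoetherian A (integralClosure A N) := isNoetherian_of_isNoetherianRing_of_finite A _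
  -- embed `L` into `N`
  let ι₀ : L →ₐ[FractionRing A] AlgebraicClosure L :=
    IsScalarTower.toAlgHom (FractionRing A) L (AlgebraicClosure L)
  let ι : L →ₐ[FractionRing A] N :=
    ι₀.codRestrict N.toSubalgebra fun x => ι₀.fieldRange_le_normalClosure ⟨x, rfl⟩
  let ιA : L →ₐ[A] N := ι.restrictScalars A
  let f : integralClosure A L →ₗ[A] integralClosure A N :=
    { toFun := fun x => ⟨ιA x.1, x.2.map ιA⟩
      map_add' := fun x y => Subtype.ext (map_add ιA x.1 y.1)
      map_smul' := fun a x => Subtype.ext (map_smul ιA a x.1) }
  refine Module.Finite.of_injective f (fun x y h => ?_)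
  have h' : ιA x.1 = ιA y.1 := congrArg Subtype.val h
  exact Subtype.ext (ιA.toRingHom.injective h')

end Groth.Agent.H11.N2Insep
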