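import Groth.Prelude.Def_Found
import Groth.Agent.H11.N2Insep
import Mathlib

set_option autoImplicit false
set_option linter.style.haveILetI false

universe u

namespace Groth.Agent.H11.Tate

open Submodule

section CompleteNakayama

variable {R : Type*} [CommRing R] (I : Ideal R)

theorem mem_pow_smul_top_pi {n : ℕ} (k : ℕ) (g : Fin n → R) :
    g ∈ (I ^ k • ⊤ : Submodule R (Fin n → R)) ↔ ∀ j, g j ∈ I ^ k := by
  constructor
  · intro hg
    refine Submodule.smul_induction_on hg ?_ ?_
    · intro r hr m _ j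
      simpa using Ideal.mul_mem_right (m j) _ hr
    · intro x y hx hy j
      simpa using Ideal.add_mem _ (hx j) (hy j)
  · intro hg
    have : g = ∑ j, g j • (Pi.single j (1 : R) : Fin n → R) := by
      funext i
      simp [Finset.sum_apply, Pi.single_apply]
    rw [this]
    exact Submodule.sum_mem _ fun j _ => Submodule.smul_mem_smul (hg j) mem_top

instance isPrecomplete_pi [IsPrecomplete I R] (n : ℕ) : IsPrecomplete I (Fin n → R) := by
  refine ⟨fun f hf => ?_⟩
  have hcomp : ∀ j, ∃ L : R, ∀ k, f k j ≡ L [SMOD (I ^ k • ⊤ : Submodule R R)] := by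
    intro j
    refine IsPrecomplete.prec' (fun k => f k j) ?_
    intro a b hab
    have h1 := hf hab
    rw [SModEq.sub_mem, mem_pow_smul_top_pi] at h1
    rw [SModEq.sub_mem]
    simpa using h1 j
  choose L hL using hcomp
  refine ⟨L, fun k => ?_⟩
  rw [SModEq.sub_mem, mem_pow_smul_top_pi]
  intro j
  have := hL j k
  rw [SModEq.sub_mem] at this
  simpa using this

/-- Complete Nakayama: if `R` is `I`-adically precomplete, `M` is `I`-adically separated and
`M = N + I M` with `N` finitely generated, then `M = N`. -/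
theorem eq_top_of_sup_smul_top [IsPrecomplete I R] {M : Type*} [AddCommGroup M] [Module R M]
    [IsHausdorff I M] (N : Submodule R M) (hN : N.FG) (h : N ⊔ I • ⊤ = ⊤) : N = ⊤ := by
  obtain ⟨n, e, he⟩ := Submodule.fg_iff_exists_fin_generating_family.mp hN
  let f : (Fin n → R) →ₗ[R] M := Fintype.linearCombination R e
  have hrange : LinearMap.range f = N := by
    rw [Fintype.range_linearCombination, he]
  have hsurj : Function.Surjective ((I • ⊤ : Submodule R M).mkQ ∘ₗ f) := by
    rw [← LinearMap.range_eq_top, LinearMap.range_comp, hrange]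
    have h1 : Submodule.map (I • ⊤ : Submodule R M).mkQ N =
        Submodule.map (I • ⊤ : Submodule R M).mkQ (N ⊔ I • ⊤) := by
      rw [Submodule.map_sup, Submodule.mkQ_map_self, sup_bot_eq]
    rw [h1, h, Submodule.map_top, Submodule.range_mkQ]
  have := surjective_of_mkQ_comp_surjective hsurj
  rw [← hrange, LinearMap.range_eq_top]
  exact this

end CompleteNakayama


section Core

variable {R S : Type u} [CommRing R] [IsDomain R] [IsNoetherianRing R]
  [CommRing S] [IsDomain S] [Algebra R S]

/-- Description of the ideal `yS`. -/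
theorem mem_span_y_iff (x : R) (y : S) (Q : ℕ) (hy : y ^ Q = algebraMap R S x)
    (hpow : ∀ s : S, ∃ r : R, algebraMap R S r = s ^ Q)
    (hdiv : ∀ (f : S) (r : R), f ^ Q = algebraMap R S (x * r) → y ∣ f) (f : S) :
    f ∈ Ideal.span ({y} : Set S) ↔ ∃ r : R, f ^ Q = algebraMap R S (x * r) := by
  rw [Ideal.mem_span_singleton]
  constructor
  · rintro ⟨s, rfl⟩
    obtain ⟨r, hr⟩ := hpow s
    exact ⟨r, by rw [mul_pow, hy, map_mul, hr]⟩
  · rintro ⟨r, hr⟩
    exact hdiv f r hr

theorem span_y_isPrime (hinj : Function.Injective (algebraMap R S))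
    (x : R) [hp : (Ideal.span ({x} : Set R)).IsPrime]
    (y : S) (Q : ℕ) (hy : y ^ Q = algebraMap R S x)
    (hpow : ∀ s : S, ∃ r : R, algebraMap R S r = s ^ Q)
    (hdiv : ∀ (f : S) (r : R), f ^ Q = algebraMap R S (x * r) → y ∣ f) :
    (Ideal.span ({y} : Set S)).IsPrime := by
  have hmem := mem_span_y_iff x y Q hy hpow hdiv
  rw [Ideal.isPrime_iff]
  constructor
  · intro htop
    have h1 : (1 : S) ∈ Ideal.span ({y} : Set S) := by rw [htop]; trivial
    obtain ⟨r, hr⟩ := (hmem 1).mp h1
    rw [one_pow, ← map_one (algebraMap R S)] at hr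
    have hxr : 1 = x * r := hinj hr
    apply hp.ne_top
    rw [Ideal.eq_top_iff_one, Ideal.mem_span_singleton']
    exact ⟨r, by rw [mul_comm]; exact hxr.symm⟩
  · intro a b hab
    obtain ⟨r, hr⟩ := (hmem _).mp hab
    obtain ⟨ra, hra⟩ := hpow a
    obtain ⟨rb, hrb⟩ := hpow b
    rw [mul_pow, ← hra, ← hrb, ← map_mul] at hr
    have hxr : ra * rb = x * r := hinj hr
    have hI : ra * rb ∈ Ideal.span ({x} : Set R) := by
      rw [hxr]; exact Ideal.mul_mem_right _ _ (Ideal.mem_span_singleton_self x)
    rcases hp.mem_or_mem hI with h | h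
    · left
      obtain ⟨c, hc⟩ := Ideal.mem_span_singleton'.mp h
      exact (hmem a).mpr ⟨c, by rw [← hra, ← hc, mul_comm]⟩
    · right
      obtain ⟨c, hc⟩ := Ideal.mem_span_singleton'.mp h
      exact (hmem b).mpr ⟨c, by rw [← hrb, ← hc, mul_comm]⟩

theorem span_x_le_comap (x : R) (y : S) (Q : ℕ) (hQ : 0 < Q) (hy : y ^ Q = algebraMap R S x) :
    Ideal.span ({x} : Set R) ≤ Ideal.comap (algebraMap R S) (Ideal.span ({y} : Set S)) := by
  rw [Ideal.span_le, Set.singleton_subset_iff]
  show algebraMap R S x ∈ Ideal.span ({y} : Set S)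
  rw [← hy, Ideal.mem_span_singleton]
  obtain ⟨k, rfl⟩ : ∃ k, Q = k + 1 := ⟨Q - 1, by omega⟩
  exact ⟨y ^ k, by rw [pow_succ']⟩

theorem comap_le_span_x (hinj : Function.Injective (algebraMap R S))
    (x : R) [hp : (Ideal.span ({x} : Set R)).IsPrime]
    (y : S) (Q : ℕ) (hy : y ^ Q = algebraMap R S x)
    (hpow : ∀ s : S, ∃ r : R, algebraMap R S r = s ^ Q)
    (hdiv : ∀ (f : S) (r : R), f ^ Q = algebraMap R S (x * r) → y ∣ f) :
    Ideal.comap (algebraMap R S) (Ideal.span ({y} : Set S)) ≤ Ideal.span ({x} : Set R) := by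
  intro r hr
  obtain ⟨c, hc⟩ := (mem_span_y_iff x y Q hy hpow hdiv _).mp (Ideal.mem_comap.mp hr)
  rw [← map_pow] at hc
  have : r ^ Q = x * c := hinj hc
  apply hp.mem_of_pow_mem Q
  rw [this]
  exact Ideal.mul_mem_right _ _ (Ideal.mem_span_singleton_self x)

/-- `S` is `x`-adically separated. -/
theorem isHausdorff_S (hinj : Function.Injective (algebraMap R S))
    (x : R) [IsHausdorff (Ideal.span ({x} : Set R)) R]
    (Q : ℕ) (hQ : 0 < Q)
    (hpow : ∀ s : S, ∃ r : R, algebraMap R S r = s ^ Q) :
    IsHausdorff (Ideal.span ({x} : Set R)) S := by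
  refine ⟨fun f hf => ?_⟩
  obtain ⟨r, hr⟩ := hpow f
  have hr0 : r = 0 := by
    refine IsHausdorff.haus' (I := Ideal.span ({x} : Set R)) r fun k => ?_
    rw [SModEq.zero, smul_eq_mul, Ideal.mul_top]
    have hk := hf k
    rw [SModEq.zero, Ideal.span_singleton_pow, Submodule.ideal_span_singleton_smul,
      Submodule.mem_smul_pointwise_iff_exists] at hk
    obtain ⟨s, -, hs⟩ := hk
    obtain ⟨c, hc⟩ := hpow s
    have : algebraMap R S r = algebraMap R S ((x ^ k) ^ Q * c) := by
      rw [hr, ← hs, Algebra.smul_def, mul_pow, map_mul, hc, map_pow, map_pow, map_pow]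
    rw [hinj this, Ideal.span_singleton_pow, Ideal.mem_span_singleton]
    obtain ⟨j, rfl⟩ : ∃ j, Q = j + 1 := ⟨Q - 1, by omega⟩
    exact ⟨(x ^ k) ^ j * c, by ring⟩
  rw [hr0, map_zero] at hr
  exact pow_eq_zero_iff (by omega) |>.mp hr.symm

/-- Lifts of `R/x`-linearly independent families of `S/y` are `R`-linearly independent. -/
theorem card_le_of_linearIndependent_quot (hinj : Function.Injective (algebraMap R S))
    (x : R) [IsHausdorff (Ideal.span ({x} : Set R)) R]
    (y : S) (Q : ℕ) (hQ : 0 < Q) (hy : y ^ Q = algebraMap R S x)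
    (n : ℕ)
    (hrank : ∀ (ι : Type u) [Fintype ι] (v : ι → S), LinearIndependent R v → Fintype.card ι ≤ n)
    [Algebra (R ⧸ Ideal.span ({x} : Set R)) (S ⧸ Ideal.span ({y} : Set S))]
    (halg : ∀ r : R, algebraMap (R ⧸ Ideal.span ({x} : Set R)) (S ⧸ Ideal.span ({y} : Set S))
      (Ideal.Quotient.mk _ r) = Ideal.Quotient.mk _ (algebraMap R S r))
    (ι : Type u) [Fintype ι] (w : ι → S ⧸ Ideal.span ({y} : Set S))
    (hw : LinearIndependent (R ⧸ Ideal.span ({x} : Set R)) w) : Fintype.card ι ≤ n := by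
  have hlift : ∀ i, ∃ s : S, Ideal.Quotient.mk (Ideal.span ({y} : Set S)) s = w i :=
    fun i => Ideal.Quotient.mk_surjective (w i)
  choose v hv using hlift
  refine hrank ι v ?_
  rw [Fintype.linearIndependent_iff]
  have key : ∀ k : ℕ, ∀ g : ι → R, ∑ i, g i • v i = 0 →
      ∀ i, g i ∈ (Ideal.span ({x} : Set R)) ^ k := by
    intro k
    induction k with
    | zero => intro g _ i; simp
    | succ k ih =>
      intro g hg i
      have h1 : ∑ i, (Ideal.Quotient.mk (Ideal.span ({x} : Set R)) (g i)) • w i = 0 := by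
        have := congrArg (Ideal.Quotient.mk (Ideal.span ({y} : Set S))) hg
        rw [map_sum, map_zero] at this
        rw [← this]
        refine Finset.sum_congr rfl fun i _ => ?_
        rw [Algebra.smul_def, Algebra.smul_def, halg, map_mul, hv]
      have h2 := Fintype.linearIndependent_iff.mp hw _ h1
      have h3 : ∀ i, ∃ b : R, b * x = g i := fun i =>
        Ideal.mem_span_singleton'.mp (Ideal.Quotient.eq_zero_iff_mem.mp (h2 i))
      choose b hb using h3
      by_cases hx : x = 0
      · rw [← hb i, hx, mul_zero]; exact zero_mem _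
      · have h4 : ∑ i, b i • v i = 0 := by
          have h5 : algebraMap R S x * ∑ i, b i • v i = 0 := by
            rw [Finset.mul_sum, ← hg]
            refine Finset.sum_congr rfl fun i _ => ?_
            rw [← hb i, Algebra.smul_def, Algebra.smul_def, map_mul]; ring
          rcases mul_eq_zero.mp h5 with h | h
          · exact absurd (hinj (by rw [h, map_zero])) hx
          · exact h
        have h6 := ih b h4 i
        rw [← hb i, pow_succ]
        exact Ideal.mul_mem_mul h6 (Ideal.mem_span_singleton_self x)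
  intro g hg i
  refine IsHausdorff.haus' (I := Ideal.span ({x} : Set R)) (g i) fun k => ?_
  rw [SModEq.zero, smul_eq_mul, Ideal.mul_top]
  exact key k g hg i

end Core

section Core2

variable {R S : Type u} [CommRing R] [IsDomain R] [IsNoetherianRing R]
  [CommRing S] [IsDomain S] [Algebra R S]

/-- Finite generation modulo `y^k`. -/
theorem exists_fg_mod_pow (y : S) (N₁ : Submodule R S) (hN₁ : N₁.FG)
    (h1 : ∀ s : S, ∃ t ∈ N₁, ∃ s' : S, s = t + y * s') (k : ℕ) :
    ∃ N : Submodule R S, N.FG ∧ ∀ s : S, ∃ t ∈ N, ∃ s' : S, s = t + y ^ k * s' := by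
  induction k with
  | zero => exact ⟨⊥, Submodule.fg_bot, fun s => ⟨0, zero_mem _, s, by simp⟩⟩
  | succ k ih =>
    obtain ⟨N, hN, hNs⟩ := ih
    refine ⟨N ⊔ N₁.map (LinearMap.mulLeft R (y ^ k)), hN.sup (hN₁.map _), fun s => ?_⟩
    obtain ⟨t, ht, s', hs'⟩ := hNs s
    obtain ⟨t₁, ht₁, s'', hs''⟩ := h1 s'
    refine ⟨t + y ^ k * t₁, Submodule.add_mem_sup ht (Submodule.mem_map.mpr ⟨t₁, ht₁, rfl⟩),
      s'', ?_⟩
    rw [hs', hs'']; ring

theorem core (hinj : Function.Injective (algebraMap R S)) [Algebra.IsIntegral R S]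
    (x : R) [hp : (Ideal.span ({x} : Set R)).IsPrime]
    (h2 : CAlg.IsN2 (R ⧸ Ideal.span ({x} : Set R)))
    [IsAdicComplete (Ideal.span ({x} : Set R)) R]
    (y : S) (Q : ℕ) (hQ : 0 < Q) (hy : y ^ Q = algebraMap R S x)
    (hpow : ∀ s : S, ∃ r : R, algebraMap R S r = s ^ Q)
    (hdiv : ∀ (f : S) (r : R), f ^ Q = algebraMap R S (x * r) → y ∣ f)
    (n : ℕ)
    (hrank : ∀ (ι : Type u) [Fintype ι] (v : ι → S), LinearIndependent R v → Fintype.card ι ≤ n) :
    Module.Finite R S := by
  set I : Ideal R := Ideal.span ({x} : Set R) with hI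
  set J : Ideal S := Ideal.span ({y} : Set S) with hJ
  haveI hJp : J.IsPrime := span_y_isPrime hinj x y Q hy hpow hdiv
  have hle : I ≤ Ideal.comap (algebraMap R S) J := span_x_le_comap x y Q hQ hy
  have hge : Ideal.comap (algebraMap R S) J ≤ I := comap_le_span_x hinj x y Q hy hpow hdiv
  let φ : R ⧸ I →+* S ⧸ J := Ideal.quotientMap J (algebraMap R S) hle
  have hφinj : Function.Injective φ := Ideal.quotientMap_injective' hge
  letI : Algebra (R ⧸ I) (S ⧸ J) := φ.toAlgebra
  have halg : ∀ r : R, algebraMap (R ⧸ I) (S ⧸ J) (Ideal.Quotient.mk _ r) =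
      Ideal.Quotient.mk _ (algebraMap R S r) := fun r => rfl
  -- the fraction field of `S/y`
  let E := FractionRing (S ⧸ J)
  have hinjE : Function.Injective (algebraMap (R ⧸ I) E) := by
    rw [IsScalarTower.algebraMap_eq (R ⧸ I) (S ⧸ J) E]
    exact (IsFractionRing.injective (S ⧸ J) E).comp hφinj
  haveI : FaithfulSMul (R ⧸ I) E := (faithfulSMul_iff_algebraMap_injective _ _).mpr hinjE
  letI : Algebra (FractionRing (R ⧸ I)) E := FractionRing.liftAlgebra (R ⧸ I) E
  haveI : IsScalarTower (R ⧸ I) (FractionRing (R ⧸ I)) E :=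
    FractionRing.isScalarTower_liftAlgebra (R ⧸ I) E
  -- finite dimensionality
  have hcard := card_le_of_linearIndependent_quot hinj x y Q hQ hy n hrank halg
  haveI hfd : FiniteDimensional (FractionRing (R ⧸ I)) E := by
    rw [FiniteDimensional, ← Module.rank_lt_aleph0_iff]
    refine lt_of_le_of_lt (rank_le (n := n) fun s hs => ?_) (Cardinal.natCast_lt_aleph0)
    have hs' : LinearIndependent (R ⧸ I) (fun i : s => (i : E)) :=
      (LinearIndependent.iff_fractionRing (R ⧸ I) (FractionRing (R ⧸ I))).mpr hs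
    obtain ⟨b, hb⟩ := IsLocalization.exist_integer_multiples_of_finset
      (nonZeroDivisors (S ⧸ J)) s
    have hb' : ∀ i : s, ∃ c : S ⧸ J, algebraMap (S ⧸ J) E c = (b : S ⧸ J) • (i : E) :=
      fun i => hb i i.2
    choose w hw using hb'
    have hb0 : algebraMap (S ⧸ J) E b ≠ 0 :=
      IsFractionRing.to_map_ne_zero_of_mem_nonZeroDivisors b.2
    have hker : LinearMap.ker (LinearMap.mulLeft (R ⧸ I) (algebraMap (S ⧸ J) E b)) = ⊥ := by
      rw [LinearMap.ker_eq_bot]
      exact mul_right_injective₀ hb0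
    have h3 := hs'.map' _ hker
    have h4 : LinearIndependent (R ⧸ I) w := by
      refine LinearIndependent.of_comp (IsScalarTower.toAlgHom (R ⧸ I) (S ⧸ J) E).toLinearMap ?_
      have hfun : (⇑(IsScalarTower.toAlgHom (R ⧸ I) (S ⧸ J) E).toLinearMap ∘ w) =
          (⇑(LinearMap.mulLeft (R ⧸ I) (algebraMap (S ⧸ J) E b)) ∘ fun i : s => (i : E)) := by
        funext i
        simp only [Function.comp_apply, AlgHom.toLinearMap_apply, IsScalarTower.coe_toAlgHom',
          LinearMap.mulLeft_apply]
        rw [hw i, Algebra.smul_def]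
      rw [hfun]
      exact h3
    have := hcard s w h4
    rwa [Fintype.card_coe] at this
  -- `S/y` is finite over `R/x`
  haveI hfin1 : Module.Finite (R ⧸ I) (integralClosure (R ⧸ I) E) := h2 E hfd
  have hint : ∀ s : S ⧸ J, IsIntegral (R ⧸ I) s := by
    intro s
    obtain ⟨s, rfl⟩ := Ideal.Quotient.mk_surjective s
    obtain ⟨p, hpm, hp0⟩ := Algebra.IsIntegral.isIntegral (R := R) s
    refine ⟨p.map (Ideal.Quotient.mk I), hpm.map _, ?_⟩
    rw [Polynomial.eval₂_map]
    have : (algebraMap (R ⧸ I) (S ⧸ J)).comp (Ideal.Quotient.mk I) =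
        (Ideal.Quotient.mk J).comp (algebraMap R S) := by
      ext r; rfl
    rw [this, ← Polynomial.hom_eval₂, hp0, map_zero]
  let ψ : (S ⧸ J) →ₗ[R ⧸ I] (integralClosure (R ⧸ I) E) :=
    (IsScalarTower.toAlgHom (R ⧸ I) (S ⧸ J) E).toLinearMap.codRestrict
      (Subalgebra.toSubmodule (integralClosure (R ⧸ I) E))
      (fun s => (hint s).map (IsScalarTower.toAlgHom (R ⧸ I) (S ⧸ J) E))
  have hψ : Function.Injective ψ := by
    intro a b hab
    have := congrArg Subtype.val hab
    exact IsFractionRing.injective (S ⧸ J) E this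
  haveI hfin2 : Module.Finite (R ⧸ I) (S ⧸ J) := Module.Finite.of_injective ψ hψ
  -- lift generators
  obtain ⟨m, wbar, hwbar⟩ := Module.Finite.exists_fin (R := R ⧸ I) (M := S ⧸ J)
  have hlift : ∀ j, ∃ s : S, Ideal.Quotient.mk J s = wbar j :=
    fun j => Ideal.Quotient.mk_surjective (wbar j)
  choose wl hwl using hlift
  have h1 : ∀ s : S, ∃ t ∈ Submodule.span R (Set.range wl), ∃ s' : S, s = t + y * s' := by
    intro s
    have hmem : Ideal.Quotient.mk J s ∈ Submodule.span (R ⧸ I) (Set.range wbar) := by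
      rw [hwbar]; trivial
    obtain ⟨c, hc⟩ := (Submodule.mem_span_range_iff_exists_fun (R ⧸ I)).mp hmem
    have hcl : ∀ j, ∃ r : R, Ideal.Quotient.mk I r = c j :=
      fun j => Ideal.Quotient.mk_surjective (c j)
    choose cl hcl' using hcl
    have hdiff : s - ∑ j, cl j • wl j ∈ J := by
      rw [← Ideal.Quotient.eq, ← hc, map_sum]
      refine Finset.sum_congr rfl fun j _ => ?_
      rw [Algebra.smul_def, Algebra.smul_def, map_mul, hwl, ← hcl', halg]
    obtain ⟨s', hs'⟩ := Ideal.mem_span_singleton'.mp hdiff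
    refine ⟨∑ j, cl j • wl j, Submodule.sum_mem _ fun j _ =>
      Submodule.smul_mem _ _ (Submodule.subset_span ⟨j, rfl⟩), s', ?_⟩
    rw [mul_comm, hs']; ring
  obtain ⟨N, hN, hNs⟩ := exists_fg_mod_pow y _ (Submodule.fg_span (Set.finite_range wl)) h1 Q
  haveI : IsHausdorff I S := isHausdorff_S hinj x Q hQ hpow
  have htop : N ⊔ I • ⊤ = ⊤ := by
    rw [eq_top_iff]
    intro s _
    obtain ⟨t, ht, s', hs'⟩ := hNs s
    rw [hs', hy]
    refine Submodule.add_mem_sup ht ?_
    rw [← Algebra.smul_def]
    exact Submodule.smul_mem_smul (Ideal.mem_span_singleton_self x) Submodule.mem_top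
  have := eq_top_of_sup_smul_top I N hN htop
  rw [Module.finite_def, ← this]
  exact hN

end Core2

section Wrapper

variable (R : Type u) [CommRing R] [IsDomain R] [IsNoetherianRing R] [IsIntegrallyClosed R]

/-- Tate's lemma for an extension in which `x` has a `Q`-th root and all `Q`-th powers lie in
the fraction field of `R`. -/
theorem finite_integralClosure_of_pow (x : R) [hp : (Ideal.span ({x} : Set R)).IsPrime]
    (h2 : CAlg.IsN2 (R ⧸ Ideal.span ({x} : Set R)))
    [IsAdicComplete (Ideal.span ({x} : Set R)) R]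
    (L : Type u) [Field L] [Algebra R L] [Algebra (FractionRing R) L]
    [IsScalarTower R (FractionRing R) L] [FiniteDimensional (FractionRing R) L]
    (Q : ℕ) (hQ : 0 < Q) (hQL : ∀ a : L, a ^ Q ∈ (algebraMap (FractionRing R) L).range)
    (y : L) (hy : y ^ Q = algebraMap R L x) :
    Module.Finite R (integralClosure R L) := by
  have hKL : Function.Injective (algebraMap (FractionRing R) L) :=
    (algebraMap (FractionRing R) L).injective
  have hRL : Function.Injective (algebraMap R L) := by
    rw [IsScalarTower.algebraMap_eq R (FractionRing R) L]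
    exact hKL.comp (IsFractionRing.injective R (FractionRing R))
  have hinj : Function.Injective (algebraMap R (integralClosure R L)) := by
    intro a b hab
    exact hRL (congrArg Subtype.val hab)
  have hyint : IsIntegral R y := IsIntegral.of_pow hQ (hy ▸ isIntegral_algebraMap)
  have hpow : ∀ s : integralClosure R L, ∃ r : R,
      algebraMap R (integralClosure R L) r = s ^ Q := by
    intro s
    obtain ⟨k, hk⟩ := hQL (s : L)
    have hkint : IsIntegral R k := by
      rw [← isIntegral_algebraMap_iff hKL, hk]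
      exact s.2.pow Q
    obtain ⟨r, hr⟩ := IsIntegrallyClosed.isIntegral_iff.mp hkint
    refine ⟨r, Subtype.ext ?_⟩
    show algebraMap R L r = (s : L) ^ Q
    rw [IsScalarTower.algebraMap_apply R (FractionRing R) L, hr, hk]
  have hdiv : ∀ (f : integralClosure R L) (r : R),
      f ^ Q = algebraMap R (integralClosure R L) (x * r) → (⟨y, hyint⟩ : integralClosure R L) ∣ f := by
    intro f r hfr
    have hfr' : (f : L) ^ Q = algebraMap R L (x * r) := congrArg Subtype.val hfr
    by_cases hy0 : y = 0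
    · have hx0 : algebraMap R L x = 0 := by rw [← hy, hy0, zero_pow (by omega)]
      rw [map_mul, hx0, zero_mul] at hfr'
      have hf0 : (f : L) = 0 := pow_eq_zero_iff (by omega) |>.mp hfr'
      have : f = 0 := Subtype.ext hf0
      rw [this]; exact dvd_zero _
    · have hg : ((f : L) / y) ^ Q = algebraMap R L r := by
        rw [div_pow, hfr', hy, map_mul]
        have hx0 : algebraMap R L x ≠ 0 := by rw [← hy]; exact pow_ne_zero _ hy0
        field_simp
      have hgint : IsIntegral R ((f : L) / y) := IsIntegral.of_pow hQ (hg ▸ isIntegral_algebraMap)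
      refine ⟨⟨(f : L) / y, hgint⟩, Subtype.ext ?_⟩
      show (f : L) = y * ((f : L) / y)
      field_simp
  have hrank : ∀ (ι : Type u) [Fintype ι] (v : ι → integralClosure R L),
      LinearIndependent R v → Fintype.card ι ≤ Module.finrank (FractionRing R) L := by
    intro ι _ v hv
    have h1 : LinearIndependent R (fun i => (v i : L)) := by
      have := hv.map' (integralClosure R L).val.toLinearMap
        (LinearMap.ker_eq_bot.mpr Subtype.val_injective)
      exact this
    have h2 : LinearIndependent (FractionRing R) (fun i => (v i : L)) :=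
      (LinearIndependent.iff_fractionRing R (FractionRing R)).mp h1
    exact h2.fintype_card_le_finrank
  exact core hinj x h2 (⟨y, hyint⟩ : integralClosure R L) Q hQ (Subtype.ext hy) hpow hdiv _ hrank

/-- Finiteness of integral closures descends along field embeddings. -/
theorem finite_integralClosure_of_algHom (L₀ L₁ : Type u) [Field L₀] [Field L₁] [Algebra R L₀]
    [Algebra R L₁] (ι : L₀ →ₐ[R] L₁) (h : Module.Finite R (integralClosure R L₁)) :
    Module.Finite R (integralClosure R L₀) := by
  let f : integralClosure R L₀ →ₗ[R] integralClosure R L₁ :=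
    { toFun := fun x => ⟨ι x.1, x.2.map ι⟩
      map_add' := fun x y => Subtype.ext (map_add ι x.1 y.1)
      map_smul' := fun a x => Subtype.ext (map_smul ι a x.1) }
  refine Module.Finite.of_injective f (fun x y h => ?_)
  have h' : ι x.1 = ι y.1 := congrArg Subtype.val h
  exact Subtype.ext (ι.toRingHom.injective h')

/-- **Tate's lemma**. -/
theorem tate (x : R) [hp : (Ideal.span ({x} : Set R)).IsPrime]
    (h2 : CAlg.IsN2 (R ⧸ Ideal.span ({x} : Set R)))
    [IsAdicComplete (Ideal.span ({x} : Set R)) R] : CAlg.IsN2 R := by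
  intro L _ _ _ _ hL
  refine Groth.Agent.H11.N2Insep.finite_integralClosure_of_purelyInseparable R ?_ L hL
  intro L₀ _ _ _ _ hfd hpi
  let K := FractionRing R
  let q := ringExpChar K
  haveI : ExpChar K q := ringExpChar.expChar K
  let Q := q ^ IsPurelyInseparable.exponent K L₀
  have hQ : 0 < Q := pow_pos (expChar_pos K q) _
  let Ω := AlgebraicClosure L₀
  obtain ⟨y₀, hy₀⟩ := IsAlgClosed.exists_pow_nat_eq (algebraMap R Ω x) hQ
  let L₁ := IntermediateField.adjoin L₀ {y₀}
  haveI : ExpChar Ω q := expChar_of_injective_algebraMap (algebraMap K Ω).injective q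
  haveI : IsScalarTower R K L₁ := IsScalarTower.of_algebraMap_eq fun r => Subtype.ext (by
    show algebraMap R Ω r = algebraMap K Ω (algebraMap R K r)
    rw [← IsScalarTower.algebraMap_apply])
  have hprop : ∀ a : Ω, a ∈ L₁ → a ^ Q ∈ (algebraMap K Ω).range := by
    intro a ha
    induction ha using IntermediateField.adjoin_induction with
    | mem a ha =>
      rw [Set.mem_singleton_iff] at ha
      rw [ha, hy₀]
      exact ⟨algebraMap R K x, (IsScalarTower.algebraMap_apply R K Ω x).symm⟩
    | algebraMap b =>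
      obtain ⟨k, hk⟩ := IsPurelyInseparable.exponent_def K b
      refine ⟨k, ?_⟩
      rw [← map_pow, ← hk, ← IsScalarTower.algebraMap_apply]
    | add a b _ _ ha hb =>
      obtain ⟨k, hk⟩ := ha
      obtain ⟨l, hl⟩ := hb
      exact ⟨k + l, by rw [map_add, hk, hl, add_pow_expChar_pow]⟩
    | inv a _ ha =>
      obtain ⟨k, hk⟩ := ha
      exact ⟨k⁻¹, by rw [map_inv₀, hk, inv_pow]⟩
    | mul a b _ _ ha hb =>
      obtain ⟨k, hk⟩ := ha
      obtain ⟨l, hl⟩ := hb
      exact ⟨k * l, by rw [map_mul, hk, hl, mul_pow]⟩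
  have hQL : ∀ a : L₁, a ^ Q ∈ (algebraMap K L₁).range := by
    intro a
    obtain ⟨k, hk⟩ := hprop a a.2
    exact ⟨k, Subtype.ext hk⟩
  haveI : FiniteDimensional L₀ L₁ :=
    IntermediateField.adjoin.finiteDimensional (Algebra.IsIntegral.isIntegral y₀)
  haveI : FiniteDimensional K L₁ := Module.Finite.trans L₀ L₁
  have hfin := finite_integralClosure_of_pow R x h2 L₁ Q hQ hQL
    ⟨y₀, IntermediateField.mem_adjoin_simple_self L₀ y₀⟩ (Subtype.ext hy₀)
  exact finite_integralClosure_of_algHom R L₀ L₁ (IsScalarTower.toAlgHom R L₀ L₁) hfin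

end Wrapper

end Groth.Agent.H11.Tate
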