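import Groth.Prelude.Def_Found
import Groth.Agent.H11.Tate
import Groth.Agent.H11.N2QF
import Groth.Agent.H11.N2Descent
import Groth.Agent.H11.PSNormal
import Mathlib

set_option autoImplicit false
set_option linter.style.haveILetI false

universe u

namespace Groth.Agent.H11.PSN2

open PowerSeries

/-- N-2 transfers along ring isomorphisms (in the form of a bijective algebra map). -/
theorem isN2_of_bijective {A B : Type u} [CommRing A] [IsDomain A] [IsNoetherianRing A]
    [CommRing B] [IsDomain B] [Algebra A B] (hb : Function.Bijective (algebraMap A B))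
    (hA : CAlg.IsN2 A) : CAlg.IsN2 B := by
  haveI : Module.Finite A B := Module.Finite.of_surjective (Algebra.linearMap A B) hb.2
  exact Groth.Agent.H11.N2QF.isN2_of_quasiFinite hb.1 hA

/-- `R'⟦X⟧` is finite over `R⟦X⟧` when `R'` is finite over `R`. -/
theorem finite_powerSeries {R R' : Type u} [CommRing R] [CommRing R'] [Algebra R R']
    [Module.Finite R R'] : Module.Finite R⟦X⟧ R'⟦X⟧ := by
  obtain ⟨n, e, he⟩ := Module.Finite.exists_fin (R := R) (M := R')
  rw [Module.finite_def]
  have htop : (⊤ : Submodule R⟦X⟧ R'⟦X⟧) =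
      Submodule.span R⟦X⟧ (Set.range fun i => (C (e i) : R'⟦X⟧)) := by
    symm
    rw [eq_top_iff]
    intro f _
    have hc : ∀ m : ℕ, ∃ c : Fin n → R, ∑ i, c i • e i = coeff m f := fun m =>
      (Submodule.mem_span_range_iff_exists_fun R).mp (by rw [he]; trivial)
    choose c hc using hc
    have hf : f = ∑ i, (PowerSeries.mk fun m => c m i : R⟦X⟧) • (C (e i) : R'⟦X⟧) := by
      ext m
      rw [map_sum, ← hc m]
      refine Finset.sum_congr rfl fun i _ => ?_
      have : ((PowerSeries.mk fun m => c m i : R⟦X⟧) • (C (e i) : R'⟦X⟧)) =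
          PowerSeries.map (algebraMap R R') (PowerSeries.mk fun m => c m i) * C (e i) :=
        Algebra.smul_def _ _
      rw [this, coeff_mul_C, coeff_map, coeff_mk, Algebra.smul_def]
    rw [hf]
    exact Submodule.sum_mem _ fun i _ =>
      Submodule.smul_mem _ _ (Submodule.subset_span ⟨i, rfl⟩)
  rw [htop]
  exact Submodule.fg_span (Set.finite_range _)

/-- Main generic lemma. -/
theorem isN2_powerSeries_of_finite {R R' : Type u} [CommRing R] [IsDomain R] [IsNoetherianRing R]
    [CommRing R'] [IsDomain R'] [Algebra R R'] (hinj : Function.Injective (algebraMap R R'))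
    [Module.Finite R R'] [IsIntegrallyClosed R'] (hR' : CAlg.IsN2 R') : CAlg.IsN2 R⟦X⟧ := by
  haveI : IsNoetherianRing R' := IsNoetherianRing.of_finite R R'
  haveI : IsIntegrallyClosed R'⟦X⟧ := Groth.Agent.H11.PSNormal.isIntegrallyClosed_powerSeries
  haveI : (Ideal.span {(X : R'⟦X⟧)}).IsPrime := span_X_isPrime
  have hbij : Function.Bijective (algebraMap R' (R'⟦X⟧ ⧸ Ideal.span {(X : R'⟦X⟧)})) := by
    constructor
    · rw [injective_iff_map_eq_zero]
      intro r hr
      rw [IsScalarTower.algebraMap_apply R' R'⟦X⟧, Ideal.Quotient.algebraMap_eq,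
        Ideal.Quotient.eq_zero_iff_mem, Ideal.mem_span_singleton, X_dvd_iff,
        PowerSeries.algebraMap_apply, constantCoeff_C] at hr
      simpa using hr
    · intro q
      obtain ⟨f, rfl⟩ := Ideal.Quotient.mk_surjective q
      refine ⟨constantCoeff f, ?_⟩
      rw [IsScalarTower.algebraMap_apply R' R'⟦X⟧, Ideal.Quotient.algebraMap_eq,
        Ideal.Quotient.eq, Ideal.mem_span_singleton, X_dvd_iff, PowerSeries.algebraMap_apply]
      simp
  have hq : CAlg.IsN2 (R'⟦X⟧ ⧸ Ideal.span {(X : R'⟦X⟧)}) := isN2_of_bijective hbij hR'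
  have hPS : CAlg.IsN2 R'⟦X⟧ := Groth.Agent.H11.Tate.tate R'⟦X⟧ X hq
  haveI : Module.Finite R⟦X⟧ R'⟦X⟧ := finite_powerSeries
  have hinj' : Function.Injective (algebraMap R⟦X⟧ R'⟦X⟧) :=
    PowerSeries.map_injective _ hinj
  exact Groth.Agent.H11.N2Descent.isN2_of_finite hinj' hPS

/-- If `R` is a Noetherian N-2 domain then so is `R⟦X⟧`. -/
theorem isN2_powerSeries (R : Type u) [CommRing R] [IsDomain R] [IsNoetherianRing R]
    (h : CAlg.IsN2 R) : CAlg.IsN2 R⟦X⟧ := by
  let K := FractionRing R
  haveI hfin : Module.Finite R (integralClosure R K) := h K inferInstance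
  haveI : IsIntegrallyClosed (integralClosure R K) :=
    integralClosure.isIntegrallyClosedOfFiniteExtension K
  have hinj : Function.Injective (algebraMap R (integralClosure R K)) := by
    intro a b hab
    exact IsFractionRing.injective R K (congrArg Subtype.val hab)
  have hR' : CAlg.IsN2 (integralClosure R K) :=
    Groth.Agent.H11.N2QF.isN2_of_quasiFinite hinj h
  exact isN2_powerSeries_of_finite hinj hR'

end Groth.Agent.H11.PSN2
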