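import Groth.Prelude.Def_Found
import Groth.Agent.H11.PSN2
import Mathlib

set_option autoImplicit false
set_option linter.style.haveILetI false

universe u

namespace Groth.Agent.H11.MvPSN2

theorem isDomain_mvPowerSeries (A : Type u) [CommRing A] [IsDomain A] (r : ℕ) :
    IsDomain (MvPowerSeries (Fin r) A) := NoZeroDivisors.to_isDomain _

/-- N-2 transfers along ring isomorphisms. -/
theorem isN2_of_ringEquiv {A B : Type u} [CommRing A] [IsDomain A] [IsNoetherianRing A]
    [CommRing B] [IsDomain B] (e : A ≃+* B) (hA : CAlg.IsN2 A) : CAlg.IsN2 B := by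
  letI : Algebra A B := e.toRingHom.toAlgebra
  exact Groth.Agent.H11.PSN2.isN2_of_bijective (A := A) (B := B) e.bijective hA

theorem isN2_mvPowerSeries (A : Type u) [CommRing A] [IsDomain A] [IsNoetherianRing A]
    (hA : CAlg.IsN2 A) (r : ℕ) :
    ∀ [IsDomain (MvPowerSeries (Fin r) A)], CAlg.IsN2 (MvPowerSeries (Fin r) A) := by
  induction r with
  | zero =>
    intro _
    exact isN2_of_ringEquiv (MvPowerSeries.isEmptyEquiv (Fin 0) A).symm.toRingEquiv hA
  | succ r ih =>
    intro _
    haveI := isDomain_mvPowerSeries A r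
    have h1 : CAlg.IsN2 (MvPowerSeries (Fin r) A) := ih
    have h2 : CAlg.IsN2 (PowerSeries (MvPowerSeries (Fin r) A)) :=
      Groth.Agent.H11.PSN2.isN2_powerSeries _ h1
    exact isN2_of_ringEquiv (MvPowerSeries.finSuccEquiv A r).symm.toRingEquiv h2

end Groth.Agent.H11.MvPSN2
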