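import Groth.Prelude.Def_Found
import Groth.Agent.H11.MvPSN2
import Groth.Agent.H61.CRingLib
import Groth.Agent.S0581
import Mathlib

set_option autoImplicit false
set_option linter.style.haveILetI false

universe u

namespace Groth.Agent.H11.CompleteNagata

theorem isNoetherianRing_of_isField {A : Type*} [CommRing A] (h : IsField A) :
    IsNoetherianRing A := by
  letI := h.toField
  exact (inferInstance : IsNoetherianRing A)

/-- A field (given as a commutative ring satisfying `IsField`) is N-2. -/
theorem isN2_of_isField {A : Type u} [CommRing A] [IsDomain A] (h : IsField A) : CAlg.IsN2 A := by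
  intro L _ _ _ _ hfd
  haveI : IsNoetherianRing A := isNoetherianRing_of_isField h
  have hbij : Function.Bijective (algebraMap A (FractionRing A)) :=
    h.localization_map_bijective (M := nonZeroDivisors A)
      (fun h0 => (nonZeroDivisors.ne_zero h0) rfl)
  haveI : Module.Finite A (FractionRing A) :=
    Module.Finite.of_surjective (Algebra.linearMap A (FractionRing A)) hbij.2
  haveI : Module.Finite A L := Module.Finite.trans (FractionRing A) L
  exact Module.Finite.of_injective (integralClosure A L).val.toLinearMap Subtype.val_injective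

/-- A Cohen ring is N-2 (Tate's lemma with `x = p`). -/
theorem isN2_of_isCohenRing {Λ : Type u} [CommRing Λ] [IsDomain Λ] (h : CAlg.IsCohenRing Λ) :
    CAlg.IsN2 Λ := by
  obtain ⟨_, hdvr, hcomp, p, hp, hm⟩ := h
  haveI : IsAdicComplete (Ideal.span {(p : Λ)}) Λ := by rw [← hm]; exact hcomp
  have hmax : (Ideal.span {(p : Λ)}).IsMaximal := by
    rw [← hm]; exact IsLocalRing.maximalIdeal.isMaximal Λ
  haveI : (Ideal.span {(p : Λ)}).IsPrime := hmax.isPrime
  have hfld : IsField (Λ ⧸ Ideal.span {(p : Λ)}) :=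
    (Ideal.Quotient.maximal_ideal_iff_isField_quotient _).mp hmax
  exact Groth.Agent.H11.Tate.tate Λ (p : Λ) (isN2_of_isField hfld)

/-- A complete Noetherian local ring is Nagata. -/
theorem isNagata_of_complete (R : Type u) [CommRing R] [IsLocalRing R] [IsNoetherianRing R]
    [IsAdicComplete (IsLocalRing.maximalIdeal R) R] : CAlg.IsNagata R := by
  refine ⟨inferInstance, fun p _ => ?_⟩
  haveI : IsLocalRing (R ⧸ p) :=
    IsLocalRing.of_surjective' (Ideal.Quotient.mk p) Ideal.Quotient.mk_surjective
  haveI := Groth.Agent.H61.isAdicComplete_quotient p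
  obtain ⟨Λ, _, n, f, hΛ, hinj, hfin, -⟩ := Groth.Agent.S0581.result (R ⧸ p)
  have hΛ' : ∃ (_ : IsDomain Λ) (_ : IsNoetherianRing Λ), CAlg.IsN2 Λ := by
    rcases hΛ with hf | hc
    · haveI := hf.isDomain
      exact ⟨inferInstance, isNoetherianRing_of_isField hf, isN2_of_isField hf⟩
    · obtain ⟨hd, hdvr, -⟩ := id hc
      exact ⟨hd, inferInstance, isN2_of_isCohenRing hc⟩
  obtain ⟨_, _, hN2⟩ := hΛ'
  haveI := Groth.Agent.H11.MvPSN2.isDomain_mvPowerSeries Λ n
  have hP : CAlg.IsN2 (MvPowerSeries (Fin n) Λ) :=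
    Groth.Agent.H11.MvPSN2.isN2_mvPowerSeries Λ hN2 n
  letI : Algebra (MvPowerSeries (Fin n) Λ) (R ⧸ p) := f.toAlgebra
  haveI : Module.Finite (MvPowerSeries (Fin n) Λ) (R ⧸ p) := hfin
  exact Groth.Agent.H11.N2QF.isN2_of_quasiFinite (R := MvPowerSeries (Fin n) Λ) (S := R ⧸ p) hinj hP

end Groth.Agent.H11.CompleteNagata
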