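import Groth.Prelude.Def_Found
import Groth.Agent.H11.AnUnram
import Groth.Agent.H11.CompleteNagata
import Groth.Agent.Lead.CompleteNoetherian
import Mathlib

set_option autoImplicit false
set_option linter.style.haveILetI false
set_option linter.unusedSectionVars false

universe u

namespace Groth.Agent.H11.AnUnram

open TensorProduct IsLocalRing

section Completion

variable {A : Type u} [CommRing A] [IsDomain A] [IsLocalRing A] [IsNoetherianRing A]

/-- Core: finiteness of the integral closure from reducedness of `Â ⊗ K'`. -/
theorem finite_integralClosure_of_reduced_completion_tensor {K' : Type u}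
    [Field K'] [Algebra A K'] [Algebra (FractionRing A) K'] [IsScalarTower A (FractionRing A) K']
    [FiniteDimensional (FractionRing A) K']
    (hred : IsReduced (AdicCompletion (maximalIdeal A) A ⊗[A] K')) :
    Module.Finite A (integralClosure A K') := by
  haveI : IsNoetherianRing (AdicCompletion (maximalIdeal A) A) :=
    Groth.Agent.Lead.isNoetherianRing_adicCompletion (maximalIdeal A)
      (maximalIdeal A).fg_of_isNoetherianRing
  haveI : Module.FaithfullyFlat A (AdicCompletion (maximalIdeal A) A) :=
    Module.FaithfullyFlat.of_flat_of_isLocalHom
  have hNag := Groth.Agent.H11.CompleteNagata.isNagata_of_complete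
    (AdicCompletion (maximalIdeal A) A)
  exact finite_integralClosure_of_reduced_tensor (Ahat := AdicCompletion (maximalIdeal A) A)
    (fun p _ => hNag.2 p) hred

/-- An analytically unramified Noetherian local domain is N-1. -/
theorem isN1_of_isReduced_completion
    [IsReduced (AdicCompletion (maximalIdeal A) A)] : CAlg.IsN1 A := by
  refine finite_integralClosure_of_reduced_completion_tensor (K' := FractionRing A) ?_
  exact isReduced_localizationPreserves
    (Algebra.algebraMapSubmonoid (AdicCompletion (maximalIdeal A) A) (nonZeroDivisors A))
    (AdicCompletion (maximalIdeal A) A ⊗[A] FractionRing A) inferInstance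

/-- S4565. -/
theorem finite_integralClosure_of_reduced_fractionRing_tensor {K' R : Type u}
    [CommRing R] [Algebra (AdicCompletion (maximalIdeal A) A) R]
    [IsFractionRing (AdicCompletion (maximalIdeal A) A) R] [Algebra A R]
    [IsScalarTower A (AdicCompletion (maximalIdeal A) A) R]
    [Field K'] [Algebra A K'] [Algebra (FractionRing A) K'] [IsScalarTower A (FractionRing A) K']
    [FiniteDimensional (FractionRing A) K'] (h : IsReduced (R ⊗[A] K')) :
    Module.Finite A (integralClosure A K') := by
  refine finite_integralClosure_of_reduced_completion_tensor ?_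
  haveI : Module.Flat A K' := Module.Flat.trans A (FractionRing A) K'
  let f : AdicCompletion (maximalIdeal A) A ⊗[A] K' →ₐ[A] R ⊗[A] K' :=
    Algebra.TensorProduct.map (IsScalarTower.toAlgHom A (AdicCompletion (maximalIdeal A) A) R)
      (AlgHom.id A K')
  have hf : Function.Injective f := by
    have := Module.Flat.rTensor_preserves_injective_linearMap (M := K')
      (IsScalarTower.toAlgHom A (AdicCompletion (maximalIdeal A) A) R).toLinearMap
      (IsFractionRing.injective (AdicCompletion (maximalIdeal A) A) R)
    exact this
  exact isReduced_of_injective f hf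

/-- S4566. -/
theorem isN2_of_isGeometricallyReduced_fractionRing {R : Type u}
    [CommRing R] [Algebra (AdicCompletion (maximalIdeal A) A) R]
    [IsFractionRing (AdicCompletion (maximalIdeal A) A) R] [Algebra A R]
    [IsScalarTower A (AdicCompletion (maximalIdeal A) A) R]
    [Algebra (FractionRing A) R] [IsScalarTower A (FractionRing A) R]
    (h : Algebra.IsGeometricallyReduced (FractionRing A) R) : CAlg.IsN2 A := by
  intro L _ _ _ _ hfd
  refine finite_integralClosure_of_reduced_fractionRing_tensor (R := R) ?_
  haveI : IsReduced (L ⊗[FractionRing A] R) := inferInstance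
  let e1 : L ⊗[FractionRing A] R ≃ₐ[FractionRing A] L ⊗[A] R :=
    IsLocalization.algebraTensorEquiv (nonZeroDivisors A) (FractionRing A) L R
  let e2 : L ⊗[A] R ≃ₐ[A] R ⊗[A] L := Algebra.TensorProduct.comm A L R
  have hinj : Function.Injective ((e1.symm : L ⊗[A] R →+* L ⊗[FractionRing A] R).comp
      (e2.symm : R ⊗[A] L →+* L ⊗[A] R)) :=
    e1.symm.injective.comp e2.symm.injective
  exact isReduced_of_injective _ hinj

end Completion

end Groth.Agent.H11.AnUnram
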