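import Mathlib
import Groth.Prelude.Def_DRing4

/-! (LIN) for the S1819 squad (helper46): for `J` K-injective, the cohomology of `Hom•(X, J)` embeds
`A`-linearly into `Hom_{D(A)}(X, J[i])`. -/

set_option autoImplicit false
universe u
open CategoryTheory CategoryTheory.Limits HomologicalComplex CochainComplex
open CochainComplex.HomComplex
attribute [local instance] HasDerivedCategory.standard

namespace Groth.Agent.H11.BD_LIN

variable {A : Type u} [CommRing A]

/-- General: a linear map on the cycles of a short complex of modules whose kernel is the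
boundaries gives an injective linear map on homology. -/
lemma exists_injective_of_ker_eq (S : ShortComplex (ModuleCat.{u} A)) {T : Type*}
    [AddCommGroup T] [Module A T] (φ : LinearMap.ker S.g.hom →ₗ[A] T)
    (hφ : LinearMap.ker φ = LinearMap.range S.moduleCatToCycles) :
    ∃ f : S.homology →ₗ[A] T, Function.Injective f := by
  let e : S.homology ≃ₗ[A] (LinearMap.ker S.g.hom ⧸ LinearMap.range S.moduleCatToCycles) :=
    S.moduleCatHomologyIso.toLinearEquiv
  let ψ : (LinearMap.ker S.g.hom ⧸ LinearMap.range S.moduleCatToCycles) →ₗ[A] T :=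
    Submodule.liftQ _ φ (le_of_eq hφ.symm)
  have hψ : Function.Injective ψ := by
    rw [← LinearMap.ker_eq_bot]
    exact Submodule.ker_liftQ_eq_bot _ _ _ (le_of_eq hφ)
  exact ⟨ψ.comp e.toLinearMap, hψ.comp e.injective⟩

/-- the morphism `X ⟶ J⟦i⟧` of complexes attached to a cocycle, additive and linear. -/
noncomputable def homOfCocycle (X J : DRing.Cx A) (i : ℤ) :
    Cocycle X J i →ₗ[A] (X ⟶ J⟦i⟧) where
  toFun x := Cocycle.equivHomShift.symm x
  map_add' x y := map_add _ x y
  map_smul' a x := by
    ext p : 1
    simp [Cocycle.equivHomShift_symm_apply, Cochain.rightShift_v _ _ _ _ _ _ _ _ rfl]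

/-- the class in `D(A)` of a cocycle, linear. -/
noncomputable def classOfCocycle (X J : DRing.Cx A) (i : ℤ) :
    Cocycle X J i →ₗ[A] (DerivedCategory.Q.obj X ⟶ (DerivedCategory.Q.obj J)⟦i⟧) :=
  (Linear.rightComp A (DerivedCategory.Q.obj X) ((DerivedCategory.Q.commShiftIso i).hom.app J)).comp
    ((Functor.mapLinearMap A DerivedCategory.Q).comp (homOfCocycle X J i))

lemma classOfCocycle_apply (X J : DRing.Cx A) (i : ℤ) (x : Cocycle X J i) :
    classOfCocycle X J i x = DerivedCategory.Q.map (Cocycle.equivHomShift.symm x) ≫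
      (DerivedCategory.Q.commShiftIso i).hom.app J := rfl

lemma classOfCocycle_eq_zero_iff (X J : DRing.Cx A) [J.IsKInjective] (i : ℤ) (x : Cocycle X J i) :
    classOfCocycle X J i x = 0 ↔ ∃ w : Cochain X J (i - 1), δ (i - 1) i w = x.1 := by
  rw [classOfCocycle_apply]
  have h1 : DerivedCategory.Q.map (Cocycle.equivHomShift.symm x) ≫
      (DerivedCategory.Q.commShiftIso i).hom.app J = 0 ↔
      DerivedCategory.Q.map (Cocycle.equivHomShift.symm x) = 0 := by
    constructor
    · intro h
      have := congrArg (· ≫ (DerivedCategory.Q.commShiftIso i).inv.app J) h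
      simpa using this
    · intro h; rw [h, zero_comp]
  rw [h1]
  have h2 : DerivedCategory.Q.map (Cocycle.equivHomShift.symm x) = 0 ↔
      CohomologyClass.toHom (CohomologyClass.mk x) = 0 := by
    rw [CohomologyClass.toHom_mk]
    have hbij := CochainComplex.IsKInjective.Qh_map_bijective
      ((HomotopyCategory.quotient _ _).obj X) (J⟦i⟧)
    have hnat := (DerivedCategory.quotientCompQhIso (ModuleCat.{u} A)).hom.naturality
      (Cocycle.equivHomShift.symm x)
    have hQ : DerivedCategory.Q.map (Cocycle.equivHomShift.symm x) =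
        (DerivedCategory.quotientCompQhIso (ModuleCat.{u} A)).inv.app X ≫
          DerivedCategory.Qh.map ((HomotopyCategory.quotient _ _).map
            (Cocycle.equivHomShift.symm x)) ≫
          (DerivedCategory.quotientCompQhIso (ModuleCat.{u} A)).hom.app (J⟦i⟧) := by
      rw [← Functor.comp_map, hnat]
      simp
    constructor
    · intro h
      apply hbij.1
      rw [Functor.map_zero]
      rw [hQ] at h
      have h' := congrArg (fun t => (DerivedCategory.quotientCompQhIso (ModuleCat.{u} A)).hom.app X ≫ t ≫
        (DerivedCategory.quotientCompQhIso (ModuleCat.{u} A)).inv.app (J⟦i⟧)) h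
      simpa using h'
    · intro h
      rw [hQ, h, Functor.map_zero, zero_comp, comp_zero]
  rw [h2, CohomologyClass.toHom_mk_eq_zero_iff, mem_coboundaries_iff x (i - 1) (by omega)]


/-- cycles of the Hom complex as cocycles, linear. -/
noncomputable def cyclesToCocycle (X J : DRing.Cx A) (i : ℤ) :
    LinearMap.ker ((DRing.homCx X J).sc' (i - 1) i (i + 1)).g.hom →ₗ[A] Cocycle X J i where
  toFun z := Cocycle.mk (z.1 : Cochain X J i) (i + 1) rfl (by
    have := z.2
    rw [LinearMap.mem_ker] at this
    exact this)
  map_add' x y := by ext : 1; rfl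
  map_smul' a x := by ext : 1; rfl

theorem exists_injective_linearMap_homology (X J : DRing.Cx A) [J.IsKInjective] (i : ℤ) :
    ∃ f : ((DRing.homCx X J).homology i) →ₗ[A]
      (DerivedCategory.Q.obj X ⟶ (DerivedCategory.Q.obj J)⟦i⟧), Function.Injective f := by
  let S' := (DRing.homCx X J).sc' (i - 1) i (i + 1)
  let φ : LinearMap.ker S'.g.hom →ₗ[A]
      (DerivedCategory.Q.obj X ⟶ (DerivedCategory.Q.obj J)⟦i⟧) :=
    (classOfCocycle X J i).comp (cyclesToCocycle X J i)
  have hφ : LinearMap.ker φ = LinearMap.range S'.moduleCatToCycles := by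
    ext z
    rw [LinearMap.mem_ker, LinearMap.mem_range]
    change classOfCocycle X J i (cyclesToCocycle X J i z) = 0 ↔ _
    rw [classOfCocycle_eq_zero_iff]
    constructor
    · rintro ⟨w, hw⟩
      refine ⟨w, ?_⟩
      apply Subtype.ext
      exact hw
    · rintro ⟨w, hw⟩
      refine ⟨w, ?_⟩
      exact congrArg Subtype.val hw
  obtain ⟨f, hf⟩ := exists_injective_of_ker_eq S' φ hφ
  let e : (DRing.homCx X J).homology i ≅ S'.homology :=
    ShortComplex.homologyMapIso ((DRing.homCx X J).isoSc' (i - 1) i (i + 1) (by simp) (by simp))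
  exact ⟨f.comp e.toLinearEquiv.toLinearMap, hf.comp e.toLinearEquiv.injective⟩

end Groth.Agent.H11.BD_LIN
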