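import Mathlib.Algebra.Module.FinitePresentation
import Mathlib.RingTheory.Localization.Module
import Mathlib.RingTheory.Spectrum.Prime.Topology

set_option autoImplicit false

universe u

namespace Groth.Agent.H11

variable {R M N : Type u} [CommRing R] [AddCommGroup M] [Module R M] [AddCommGroup N] [Module R N]

theorem lm_mk_eq_zero_iff {S : Submonoid R} (m : M) (s : S) :
    LocalizedModule.mk m s = 0 ↔ ∃ u : S, u • m = 0 := by
  rw [← LocalizedModule.zero_mk (1 : S), LocalizedModule.mk_eq]
  constructor
  · rintro ⟨u, hu⟩
    exact ⟨u, by simpa using hu⟩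
  · rintro ⟨u, hu⟩
    exact ⟨u, by simpa using hu⟩

theorem lm_map_bijective_of_le {S T : Submonoid R} (h : S ≤ T) (φ : M →ₗ[R] N)
    (hb : Function.Bijective (LocalizedModule.map S φ)) :
    Function.Bijective (LocalizedModule.map T φ) := by
  constructor
  · rw [injective_iff_map_eq_zero]
    intro x hx
    induction x with
    | h m t =>
      rw [LocalizedModule.map_mk, lm_mk_eq_zero_iff] at hx
      obtain ⟨u, hu⟩ := hx
      have h1 : LocalizedModule.map S φ (LocalizedModule.mk ((u : R) • m) 1) = 0 := by
        rw [LocalizedModule.map_mk, map_smul]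
        have : (u : R) • φ m = 0 := hu
        rw [this, LocalizedModule.zero_mk]
      have h2 := (injective_iff_map_eq_zero _).mp hb.1 _ h1
      rw [lm_mk_eq_zero_iff] at h2
      obtain ⟨v, hv⟩ := h2
      rw [lm_mk_eq_zero_iff]
      refine ⟨⟨(v : R), h v.2⟩ * u, ?_⟩
      have : (v : R) • (u : R) • m = 0 := hv
      simpa [Submonoid.smul_def, mul_smul] using this
  · intro y
    induction y with
    | h n t =>
      obtain ⟨x, hx⟩ := hb.2 (LocalizedModule.mk n 1)
      induction x with
      | h m s =>
        rw [LocalizedModule.map_mk, LocalizedModule.mk_eq] at hx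
        obtain ⟨u, hu⟩ := hx
        -- hu : u • 1 • φ m = u • s • n
        refine ⟨LocalizedModule.mk ((u : R) • m) (⟨(u : R), h u.2⟩ * ⟨(s : R), h s.2⟩ * t), ?_⟩
        rw [LocalizedModule.map_mk, LocalizedModule.mk_eq]
        refine ⟨1, ?_⟩
        have hu' : (u : R) • φ m = (u : R) • (s : R) • n := by
          simpa [Submonoid.smul_def] using hu
        simp only [one_smul, Submonoid.smul_def, map_smul, mul_smul]
        rw [hu']
        simp only [← mul_smul]
        congr 1
        ring

end Groth.Agent.H11
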