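import Groth.Agent.H11.SymbPow
import Mathlib

set_option autoImplicit false
set_option linter.style.haveILetI false

universe u

namespace Groth.Agent.H11.Chevalley

open IsLocalRing

variable {A : Type u} [CommRing A] [IsLocalRing A] [IsNoetherianRing A]

/-- Ideals of a Noetherian local ring are closed for the adic topology. -/
theorem mem_of_forall_mem_sup_pow (I : Ideal A) (x : A)
    (h : ∀ k, x ∈ I ⊔ maximalIdeal A ^ k) : x ∈ I := by
  have h0 : (Ideal.Quotient.mk I x) = 0 := by
    apply IsHausdorff.haus (inferInstance : IsHausdorff (maximalIdeal A) (A ⧸ I))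
    intro k
    rw [SModEq.zero]
    obtain ⟨a, ha, b, hb, hab⟩ := Submodule.mem_sup.mp (h k)
    rw [← hab, map_add, Ideal.Quotient.eq_zero_iff_mem.mpr ha, zero_add]
    have hb1 : Ideal.Quotient.mk I b = b • (1 : A ⧸ I) := by
      rw [Algebra.smul_def, mul_one]; rfl
    rw [hb1]
    exact Submodule.smul_mem_smul hb Submodule.mem_top
  exact Ideal.Quotient.eq_zero_iff_mem.mp h0

/-- Quotients by powers of the maximal ideal are Artinian. -/
theorem isArtinianRing_quot_pow (k : ℕ) (hk : k ≠ 0) :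
    IsArtinianRing (A ⧸ maximalIdeal A ^ k) := by
  have hne : maximalIdeal A ^ k ≠ ⊤ := by
    intro h
    have h1 : (1 : A) ∈ maximalIdeal A ^ k := h ▸ Submodule.mem_top
    have h2 : (1 : A) ∈ maximalIdeal A :=
      Ideal.pow_le_self hk h1
    exact (Ideal.ne_top_iff_one _).mp (Ideal.IsMaximal.ne_top inferInstance) h2
  haveI : Nontrivial (A ⧸ maximalIdeal A ^ k) := Ideal.Quotient.nontrivial_iff.mpr hne
  haveI : IsLocalRing (A ⧸ maximalIdeal A ^ k) :=
    IsLocalRing.of_surjective' (Ideal.Quotient.mk _) Ideal.Quotient.mk_surjective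
  rw [isArtinianRing_iff_isNilpotent_maximalIdeal]
  haveI := IsLocalHom.of_surjective (Ideal.Quotient.mk (maximalIdeal A ^ k))
    Ideal.Quotient.mk_surjective
  have hmap : (maximalIdeal A).map (Ideal.Quotient.mk (maximalIdeal A ^ k)) =
      maximalIdeal (A ⧸ maximalIdeal A ^ k) := by
    ext x
    obtain ⟨x, rfl⟩ := Ideal.Quotient.mk_surjective x
    simp [sup_eq_left.mpr (le_maximalIdeal hne)]
  refine ⟨k, ?_⟩
  rw [← hmap, ← Ideal.map_pow, Ideal.zero_eq_bot, Ideal.map_eq_bot_iff_le_ker, Ideal.mk_ker]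

/-- Stabilization of a decreasing chain modulo a power of the maximal ideal. -/
theorem exists_stab (I : ℕ → Ideal A) (hI : Antitone I) (k : ℕ) :
    ∃ s, ∀ m, s ≤ m → I m ⊔ maximalIdeal A ^ k = I s ⊔ maximalIdeal A ^ k := by
  by_cases hk : k = 0
  · subst hk
    refine ⟨0, fun m _ => ?_⟩
    simp
  haveI := isArtinianRing_quot_pow (A := A) k hk
  let f : ℕ →o (Submodule (A ⧸ maximalIdeal A ^ k) (A ⧸ maximalIdeal A ^ k))ᵒᵈ :=
    ⟨fun m => OrderDual.toDual ((I m).map (Ideal.Quotient.mk (maximalIdeal A ^ k))),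
      fun a b hab => OrderDual.toDual_le_toDual.mpr (Ideal.map_mono (hI hab))⟩
  obtain ⟨s, hs⟩ := IsArtinian.monotone_stabilizes f
  refine ⟨s, fun m hm => ?_⟩
  have h1 : (I s).map (Ideal.Quotient.mk (maximalIdeal A ^ k)) =
      (I m).map (Ideal.Quotient.mk (maximalIdeal A ^ k)) := hs m hm
  have h2 := congrArg (Ideal.comap (Ideal.Quotient.mk (maximalIdeal A ^ k))) h1
  rw [Ideal.comap_map_of_surjective _ Ideal.Quotient.mk_surjective,
    Ideal.comap_map_of_surjective _ Ideal.Quotient.mk_surjective,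
    ← RingHom.ker_eq_comap_bot, Ideal.mk_ker] at h2
  exact h2.symm

/-- **Chevalley's lemma**: in a complete Noetherian local ring, a decreasing sequence of ideals
with zero intersection is eventually contained in any given power of the maximal ideal. -/
theorem chevalley [IsAdicComplete (maximalIdeal A) A] (I : ℕ → Ideal A) (hI : Antitone I)
    (h0 : ∀ x, (∀ m, x ∈ I m) → x = 0) (t : ℕ) : ∃ m, I m ≤ maximalIdeal A ^ t := by
  choose s hs using exists_stab I hI
  let J : ℕ → Ideal A := fun k => I (s k) ⊔ maximalIdeal A ^ k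
  have P1 : ∀ k m, J k ≤ I m ⊔ maximalIdeal A ^ k := by
    intro k m
    by_cases hm : s k ≤ m
    · exact (hs k m hm).ge
    · exact sup_le_sup_right (hI (le_of_not_ge hm)) _
  have P2 : ∀ k, J k ≤ J (k + 1) ⊔ maximalIdeal A ^ k := by
    intro k
    have e1 : J k = I (max (s k) (s (k + 1))) ⊔ maximalIdeal A ^ k :=
      (hs k _ (le_max_left _ _)).symm
    have e2 : J (k + 1) = I (max (s k) (s (k + 1))) ⊔ maximalIdeal A ^ (k + 1) :=
      (hs (k + 1) _ (le_max_right _ _)).symm
    rw [e1, e2]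
    exact sup_le (le_sup_left.trans le_sup_left) le_sup_right
  have step : ∀ k, ∀ x : {x // x ∈ J k}, ∃ x' : {x // x ∈ J (k + 1)},
      (x : A) - x' ∈ maximalIdeal A ^ k := by
    intro k x
    obtain ⟨a, ha, b, hb, hab⟩ := Submodule.mem_sup.mp (P2 k x.2)
    exact ⟨⟨a, ha⟩, by rw [← hab]; simpa using hb⟩
  choose nxt hnxt using step
  refine ⟨s t, ?_⟩
  refine le_trans (le_sup_left : I (s t) ≤ J t) ?_
  intro x₀ hx₀
  let g : ∀ j, {x // x ∈ J (t + j)} := fun j =>
    Nat.rec (motive := fun j => {x // x ∈ J (t + j)}) ⟨x₀, hx₀⟩ (fun j y => nxt (t + j) y) j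
  have hg0 : ((g 0 : {x // x ∈ J (t + 0)}) : A) = x₀ := rfl
  have hgs : ∀ j, ((g j : A) - (g (j + 1) : A)) ∈ maximalIdeal A ^ (t + j) := by
    intro j
    exact hnxt (t + j) (g j)
  have hcauchy : ∀ j d, ((g j : A) - (g (j + d) : A)) ∈ maximalIdeal A ^ (t + j) := by
    intro j d
    induction d with
    | zero => simp
    | succ d ih =>
      have h1 := hgs (j + d)
      have h2 : maximalIdeal A ^ (t + (j + d)) ≤ maximalIdeal A ^ (t + j) :=
        Ideal.pow_le_pow_right (by omega)
      change ((g j : A) - (g (j + d + 1) : A)) ∈ maximalIdeal A ^ (t + j)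
      have h3 : ((g j : A) - (g (j + d + 1) : A)) =
          ((g j : A) - (g (j + d) : A)) + ((g (j + d) : A) - (g (j + d + 1) : A)) := by
        ring
      rw [h3]
      exact Ideal.add_mem _ ih (h2 h1)
  obtain ⟨L, hL⟩ := IsPrecomplete.prec (IsAdicComplete.toIsPrecomplete
    (I := maximalIdeal A) (M := A)) (f := fun j => (g j : A)) (by
      intro m n hmn
      rw [SModEq.sub_mem, smul_eq_mul, Ideal.mul_top]
      obtain ⟨d, rfl⟩ := Nat.exists_eq_add_of_le hmn
      exact Ideal.pow_le_pow_right (by omega) (hcauchy m d))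
  have hL' : ∀ n, ((g n : A) - L) ∈ maximalIdeal A ^ n := by
    intro n
    have := hL n
    rwa [SModEq.sub_mem, smul_eq_mul, Ideal.mul_top] at this
  have hL2 : ∀ j, ((g j : A) - L) ∈ maximalIdeal A ^ (t + j) := by
    intro j
    have h1 := hcauchy j t
    have h2 := hL' (j + t)
    rw [add_comm j t] at h2
    have h3 : ((g j : A) - L) = ((g j : A) - (g (j + t) : A)) + ((g (j + t) : A) - L) := by ring
    rw [h3]
    exact Ideal.add_mem _ h1 (by rwa [add_comm j t])
  have hLI : ∀ m, L ∈ I m := by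
    intro m
    apply mem_of_forall_mem_sup_pow
    intro k
    have hle : I m ⊔ maximalIdeal A ^ (t + k) ≤ I m ⊔ maximalIdeal A ^ k :=
      sup_le_sup_left (Ideal.pow_le_pow_right (Nat.le_add_left k t)) _
    have h1 : (g k : A) ∈ I m ⊔ maximalIdeal A ^ k := hle (P1 (t + k) m (g k).2)
    have h2 : ((g k : A) - L) ∈ I m ⊔ maximalIdeal A ^ k :=
      Ideal.mem_sup_right (Ideal.pow_le_pow_right (Nat.le_add_left k t) (hL2 k))
    have h3 : L = (g k : A) - ((g k : A) - L) := by ring
    rw [h3]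
    exact Ideal.sub_mem _ h1 h2
  have hL0 : L = 0 := h0 L hLI
  have := hL2 0
  rw [hL0, sub_zero, hg0, add_zero] at this
  exact this

section Symbolic

variable {A : Type u} [CommRing A] [IsDomain A] [IsLocalRing A] [IsNoetherianRing A]

/-- The symbolic power, as the contraction of the power of the extended ideal. -/
noncomputable def Q (p : Ideal A) [p.IsPrime] (m : ℕ) : Ideal A :=
  ((Ideal.map (algebraMap A (Localization.AtPrime p)) p) ^ m).comap
    (algebraMap A (Localization.AtPrime p))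

omit [IsDomain A] [IsLocalRing A] [IsNoetherianRing A] in
theorem mem_Q (p : Ideal A) [p.IsPrime] (m : ℕ) (x : A) :
    x ∈ Q p m ↔ ∃ s, s ∉ p ∧ s * x ∈ p ^ m := by
  rw [← mem_symb]
  unfold Q symb
  rw [Ideal.map_pow]

omit [IsDomain A] [IsLocalRing A] [IsNoetherianRing A] in
theorem Q_antitone (p : Ideal A) [p.IsPrime] : Antitone (Q p) :=
  fun _ _ hab => Ideal.comap_mono (Ideal.pow_le_pow_right hab)

omit [IsLocalRing A] in
theorem Q_inter (p : Ideal A) [p.IsPrime] (x : A) (h : ∀ m, x ∈ Q p m) : x = 0 := by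
  have h1 : algebraMap A (Localization.AtPrime p) x ∈
      (⨅ m : ℕ, (Ideal.map (algebraMap A (Localization.AtPrime p)) p) ^ m) := by
    rw [Ideal.mem_iInf]
    exact fun m => h m
  rw [Ideal.iInf_pow_eq_bot_of_isLocalRing _ (by
    rw [Localization.AtPrime.map_eq_maximalIdeal]
    exact Ideal.IsMaximal.ne_top inferInstance)] at h1
  have h2 : algebraMap A (Localization.AtPrime p) x = 0 := h1
  exact IsLocalization.injective (Localization.AtPrime p) (Ideal.primeCompl_le_nonZeroDivisors p)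
    (by rw [h2, map_zero])

omit [IsDomain A] [IsLocalRing A] in
theorem exists_mul_Q_le (p : Ideal A) [p.IsPrime] (n : ℕ) :
    ∃ s, s ∉ p ∧ ∀ x ∈ Q p n, s * x ∈ p ^ n := by
  obtain ⟨G, hG⟩ := (IsNoetherian.noetherian (Q p n) : (Q p n).FG)
  have hmem : ∀ g : {x // x ∈ G}, ∃ s, s ∉ p ∧ s * (g : A) ∈ p ^ n := fun g =>
    (mem_Q p n g).mp (hG ▸ Submodule.subset_span (Finset.mem_coe.mpr g.2))
  choose σ hσ1 hσ2 using hmem
  refine ⟨∏ g ∈ G.attach, σ g, ?_, ?_⟩
  · rw [Ideal.IsPrime.prod_mem_iff]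
    rintro ⟨g, _, hg⟩
    exact hσ1 g hg
  · intro x hx
    rw [← hG] at hx
    induction hx using Submodule.span_induction with
    | mem x hx =>
      obtain ⟨c, hc⟩ := Finset.dvd_prod_of_mem σ (Finset.mem_attach G ⟨x, Finset.mem_coe.mp hx⟩)
      rw [hc, mul_comm (σ _) c, mul_assoc]
      exact Ideal.mul_mem_left _ _ (hσ2 ⟨x, Finset.mem_coe.mp hx⟩)
    | zero => simp
    | add x y _ _ hx hy => rw [mul_add]; exact Ideal.add_mem _ hx hy
    | smul a x _ hx => rw [smul_eq_mul, mul_left_comm]; exact Ideal.mul_mem_left _ _ hx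

omit [IsDomain A] [IsLocalRing A] [IsNoetherianRing A] in
theorem sup_span_pow_le (p : Ideal A) (s : A) (n : ℕ) :
    (p ⊔ Ideal.span {s}) ^ n ≤ p ^ n ⊔ Ideal.span {s} := by
  induction n with
  | zero => simp
  | succ n ih =>
    rw [pow_succ]
    refine (Ideal.mul_mono_left ih).trans ?_
    rw [Ideal.sup_mul, Ideal.mul_sup, Ideal.mul_sup]
    refine sup_le (sup_le ?_ ?_) (sup_le ?_ ?_)
    · rw [← pow_succ]; exact le_sup_left
    · exact Ideal.mul_le_right.trans le_sup_right
    · exact Ideal.mul_le_left.trans le_sup_right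
    · exact Ideal.mul_le_right.trans le_sup_right

/-- In a complete Noetherian local domain, for a prime of coheight one the symbolic powers
are cofinal with the ordinary powers. -/
theorem symb_le_pow [IsAdicComplete (maximalIdeal A) A] (p : Ideal A) [p.IsPrime]
    (hp : ringKrullDim (A ⧸ p) = 1) (n : ℕ) : ∃ m, n ≤ m ∧ Q p m ≤ p ^ n := by
  obtain ⟨s, hs, hsQ⟩ := exists_mul_Q_le p n
  haveI : Ring.KrullDimLE 1 (A ⧸ p) := Ring.krullDimLE_iff.mpr (by rw [hp]; exact_mod_cast le_rfl)
  have hrad : maximalIdeal A ≤ (p ⊔ Ideal.span {s}).radical := by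
    rw [Ideal.radical_eq_sInf]
    refine le_sInf fun q hq => ?_
    obtain ⟨hq, hqp⟩ := hq
    haveI := hqp
    have hpq : p ≤ q := le_sup_left.trans hq
    have hsq : s ∈ q := hq (Ideal.mem_sup_right (Ideal.mem_span_singleton_self s))
    haveI hprime : (q.map (Ideal.Quotient.mk p)).IsPrime :=
      Ideal.map_isPrime_of_surjective Ideal.Quotient.mk_surjective (by rw [Ideal.mk_ker]; exact hpq)
    have hne : q.map (Ideal.Quotient.mk p) ≠ ⊥ := by
      intro h
      have h1 : Ideal.Quotient.mk p s ∈ q.map (Ideal.Quotient.mk p) := Ideal.mem_map_of_mem _ hsq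
      rw [h, Ideal.mem_bot, Ideal.Quotient.eq_zero_iff_mem] at h1
      exact hs h1
    haveI hmax : (q.map (Ideal.Quotient.mk p)).IsMaximal := hprime.isMaximal_of_ne_bot hne
    have hq' : (q.map (Ideal.Quotient.mk p)).comap (Ideal.Quotient.mk p) = q := by
      rw [Ideal.comap_map_of_surjective _ Ideal.Quotient.mk_surjective, ← RingHom.ker_eq_comap_bot,
        Ideal.mk_ker, sup_eq_left.mpr hpq]
    have hqmax : q.IsMaximal :=
      hq' ▸ Ideal.comap_isMaximal_of_surjective _ Ideal.Quotient.mk_surjective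
    exact (IsLocalRing.eq_maximalIdeal hqmax).ge
  obtain ⟨t, ht⟩ := Ideal.exists_pow_le_of_le_radical_of_fg hrad (IsNoetherian.noetherian _)
  have hkill : maximalIdeal A ^ (t * n) * Q p n ≤ p ^ n := by
    rw [pow_mul]
    refine (Ideal.mul_mono_left ((Ideal.pow_right_mono ht n).trans (sup_span_pow_le p s n))).trans ?_
    rw [Ideal.sup_mul]
    exact sup_le Ideal.mul_le_left (Ideal.span_singleton_mul_le_iff.mpr hsQ)
  obtain ⟨c, hc⟩ := Ideal.exists_pow_inf_eq_pow_smul (maximalIdeal A) (Q p n : Submodule A A)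
  have hAR : maximalIdeal A ^ (t * n + c) ⊓ Q p n ≤ p ^ n := by
    have h1 : maximalIdeal A ^ (t * n + c) ⊓ Q p n =
        maximalIdeal A ^ (t * n) * (maximalIdeal A ^ c ⊓ Q p n) := by
      have := hc (t * n + c) (Nat.le_add_left _ _)
      rw [Nat.add_sub_cancel] at this
      simpa only [smul_eq_mul, Ideal.mul_top] using this
    rw [h1]
    exact (Ideal.mul_mono_right inf_le_right).trans hkill
  obtain ⟨m₀, hm₀⟩ := chevalley (Q p) (Q_antitone p) (Q_inter p) (t * n + c)
  refine ⟨max m₀ n, le_max_right _ _, ?_⟩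
  refine le_trans (le_inf ?_ ?_) hAR
  · exact (Q_antitone p (le_max_left _ _)).trans hm₀
  · exact Q_antitone p (le_max_right _ _)

end Symbolic

end Groth.Agent.H11.Chevalley
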