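import Mathlib.AlgebraicGeometry.Morphisms.QuasiCompact
import Mathlib.AlgebraicGeometry.PullbackCarrier
import Mathlib.RingTheory.Spectrum.Prime.Topology

set_option autoImplicit false

universe u

open CategoryTheory AlgebraicGeometry CategoryTheory.Limits

namespace Groth.Agent.H11

theorem exists_specializes_of_mem_closure_range_comap {R S : Type u} [CommRing R] [CommRing S]
    (φ : S →+* R) (z : PrimeSpectrum S)
    (hz : z ∈ closure (Set.range (PrimeSpectrum.comap φ))) :
    ∃ x : PrimeSpectrum R, PrimeSpectrum.comap φ x ⤳ z := by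
  rw [PrimeSpectrum.closure_range_comap, PrimeSpectrum.mem_zeroLocus] at hz
  have hz' : (⊥ : Ideal R).comap φ ≤ z.asIdeal := by
    rw [← RingHom.ker_eq_comap_bot]; exact hz
  obtain ⟨Q, -, hQ, hle⟩ := Ideal.exists_ideal_comap_le_prime z.asIdeal (⊥ : Ideal R) hz'
  refine ⟨⟨Q, hQ⟩, ?_⟩
  rw [← PrimeSpectrum.le_iff_specializes]
  exact hle

theorem exists_specializes_of_mem_closure_range_Spec {R S : CommRingCat.{u}} (φ : S ⟶ R)
    (z : Spec S) (hz : z ∈ closure (Set.range (Spec.map φ))) :
    ∃ x : Spec R, (Spec.map φ) x ⤳ z :=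
  exists_specializes_of_mem_closure_range_comap φ.hom z hz

theorem exists_specializes_of_mem_closure_range {X Y : Scheme.{u}} (f : X ⟶ Y) [QuasiCompact f]
    (z : Y) (hz : z ∈ closure (Set.range f)) : ∃ x : X, f x ⤳ z := by
  wlog hY : ∃ S, Y = Spec S generalizing X Y
  · let 𝒰 := Y.affineCover
    obtain ⟨i, z', rfl⟩ := 𝒰.exists_eq z
    have inst : QuasiCompact (𝒰.pullbackHom f i) :=
      MorphismProperty.pullback_snd _ _ inferInstance
    have hz' : z' ∈ closure (Set.range (𝒰.pullbackHom f i)) := by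
      have hr : Set.range (𝒰.pullbackHom f i) = (𝒰.f i) ⁻¹' Set.range f :=
        Scheme.Pullback.range_snd f (𝒰.f i)
      rw [hr, ← (𝒰.f i).isOpenEmbedding.isOpenMap.preimage_closure_eq_closure_preimage
        (𝒰.f i).continuous]
      exact hz
    obtain ⟨x', hx'⟩ := this (𝒰.pullbackHom f i) z' hz' ⟨_, rfl⟩
    refine ⟨(pullback.fst f (𝒰.f i)) x', ?_⟩
    have := hx'.map (𝒰.f i).continuous
    rw [← Scheme.Hom.comp_apply] at this ⊢
    rw [pullback.condition]
    exact this
  obtain ⟨S, rfl⟩ := hY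
  wlog hX : ∃ R, X = Spec R generalizing X
  · have inst : CompactSpace X := HasAffineProperty.iff_of_isAffine.mp ‹QuasiCompact f›
    obtain ⟨R, g, hg⟩ := compactSpace_iff_exists.mp inst
    have inst2 : QuasiCompact (g ≫ f) := HasAffineProperty.iff_of_isAffine.mpr (by infer_instance)
    have hr : Set.range (g ≫ f) = Set.range f := by
      rw [Scheme.Hom.comp_base, TopCat.coe_comp, hg.range_comp]
    obtain ⟨x, hx⟩ := this (g ≫ f) (by rw [hr]; exact hz) ⟨_, rfl⟩
    exact ⟨g x, by simpa using hx⟩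
  obtain ⟨R, rfl⟩ := hX
  obtain ⟨φ, rfl⟩ := Spec.homEquiv.symm.surjective f
  exact exists_specializes_of_mem_closure_range_Spec φ z hz

end Groth.Agent.H11
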