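import Mathlib.RingTheory.DividedPowers.Basic
import Mathlib.Data.Nat.Prime.Basic
import Mathlib.Data.Nat.Choose.Lucas

set_option autoImplicit false

universe u

namespace Groth.Agent.H11

open Nat

theorem not_dvd_choose_lucas (p : ℕ) (hp : p.Prime) (i : ℕ) :
    ¬ p ∣ Nat.choose (i * p + p - 1) (p - 1) := by
  haveI : Fact p.Prime := ⟨hp⟩
  have h := @Choose.choose_modEq_choose_mod_mul_choose_div_nat (i * p + p - 1) (p - 1) p _
  have hp1 : 1 ≤ p := hp.one_lt.le
  have e1 : (i * p + p - 1) % p = p - 1 := by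
    have : i * p + p - 1 = (p - 1) + p * i := by
      have : i * p + p - 1 = i * p + (p - 1) := by omega
      rw [this]; ring
    rw [this, Nat.add_mul_mod_self_left, Nat.mod_eq_of_lt (by omega)]
  have e2 : (i * p + p - 1) / p = i := by
    have : i * p + p - 1 = (p - 1) + p * i := by
      have : i * p + p - 1 = i * p + (p - 1) := by omega
      rw [this]; ring
    rw [this, Nat.add_mul_div_left _ _ hp.pos, Nat.div_eq_of_lt (by omega), zero_add]
  have e3 : (p - 1) % p = p - 1 := Nat.mod_eq_of_lt (by omega)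
  have e4 : (p - 1) / p = 0 := Nat.div_eq_of_lt (by omega)
  rw [e1, e2, e3, e4, Nat.choose_self, Nat.choose_zero_right, one_mul] at h
  intro hdvd
  have h0 : Nat.choose (i * p + p - 1) (p - 1) ≡ 0 [MOD p] := (Nat.modEq_zero_iff_dvd).mpr hdvd
  have : (1 : ℕ) ≡ 0 [MOD p] := h.symm.trans h0
  have := (Nat.modEq_zero_iff_dvd).mp this
  exact hp.one_lt.ne' (Nat.dvd_one.mp this)

theorem not_dvd_uniformBell (p : ℕ) (hp : p.Prime) (m : ℕ) : ¬ p ∣ Nat.uniformBell m p := by
  induction m with
  | zero => simpa [Nat.uniformBell_zero_left] using hp.one_lt.ne'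
  | succ m ih =>
    rw [Nat.uniformBell_succ_left]
    intro h
    rcases (Nat.Prime.dvd_mul hp).mp h with h | h
    · exact not_dvd_choose_lucas p hp m h
    · exact ih h

variable {A : Type u} [CommRing A]

theorem dpow_eq_of_dpow_prime_eq (p : ℕ) (hp : p.Prime)
    (hA : ∀ n : ℕ, ¬ p ∣ n → IsUnit (n : A)) {I : Ideal A} (γ γ' : DividedPowers I)
    (h : ∀ x ∈ I, γ.dpow p x = γ'.dpow p x) :
    ∀ (n : ℕ) (x : A), x ∈ I → γ.dpow n x = γ'.dpow n x := by
  intro n
  induction n using Nat.strong_induction_on with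
  | _ n ih =>
    intro x hx
    rcases Nat.eq_zero_or_pos n with rfl | hn
    · rw [γ.dpow_zero hx, γ'.dpow_zero hx]
    by_cases hpn : p ∣ n
    · obtain ⟨m, rfl⟩ := hpn
      have hm : 0 < m := Nat.pos_of_mul_pos_left hn |> fun h => by
        rcases Nat.eq_zero_or_pos m with rfl | h'
        · simp at hn
        · exact h'
      have hlt : m < p * m := by
        have := hp.one_lt
        nlinarith
      have hu : IsUnit ((Nat.uniformBell m p : ℕ) : A) := hA _ (not_dvd_uniformBell p hp m)
      have e1 := γ.dpow_comp (m := m) hp.ne_zero hx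
      have e2 := γ'.dpow_comp (m := m) hp.ne_zero hx
      have e3 : γ.dpow m (γ.dpow p x) = γ'.dpow m (γ'.dpow p x) := by
        rw [← h x hx]
        exact ih m hlt _ (γ.dpow_mem hp.ne_zero hx)
      rw [e1, e2, mul_comm m p] at e3
      exact hu.mul_left_cancel e3
    · have hu : IsUnit ((n : ℕ) : A) := hA n hpn
      obtain ⟨k, rfl⟩ : ∃ k, n = k + 1 := ⟨n - 1, by omega⟩
      have e1 := γ.mul_dpow (m := 1) (n := k) hx
      have e2 := γ'.mul_dpow (m := 1) (n := k) hx
      rw [γ.dpow_one hx] at e1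
      rw [γ'.dpow_one hx] at e2
      rw [ih k (by omega) x hx, e2] at e1
      have hc : Nat.choose (1 + k) 1 = k + 1 := by simp [add_comm]
      rw [hc, add_comm 1 k] at e1
      exact (hu.mul_left_cancel e1).symm

end Groth.Agent.H11
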