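import Mathlib.RingTheory.Derivation.Basic
import Mathlib.Algebra.TrivSqZeroExt.Basic
import Mathlib.RingTheory.Localization.Away.Basic
import Mathlib.RingTheory.FiniteType

set_option autoImplicit false

universe u

namespace Groth.Agent.H11

/-- A derivation of `R` extends to the localization `R_g` (stated for any model `S` of `R_g`). -/
theorem exists_derivation_ext {R S : Type u} [CommRing R] [CommRing S] [Algebra R S] (g : R)
    [IsLocalization.Away g S] (D : Derivation ℤ R R) :
    ∃ d : S → S, (∀ x y, d (x + y) = d x + d y) ∧ (∀ x y, d (x * y) = x * d y + y * d x) ∧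
      ∀ r, d (algebraMap R S r) = algebraMap R S (D r) := by
  let φ : R →+* TrivSqZeroExt S S :=
    { toFun := fun r =>
        TrivSqZeroExt.inl (algebraMap R S r) + TrivSqZeroExt.inr (algebraMap R S (D r))
      map_one' := by
        ext
        · simp
        · simp
      map_mul' := fun a b => by
        ext
        · simp
        · simp [Derivation.leibniz]
          ring
      map_zero' := by
        ext <;> simp
      map_add' := fun a b => by
        ext
        · simp
        · simp }
  have hφfst : ∀ r, (φ r).fst = algebraMap R S r := fun r => by simp [φ]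
  have hφsnd : ∀ r, (φ r).snd = algebraMap R S (D r) := fun r => by simp [φ]
  have hu : IsUnit (φ g) := by
    rw [TrivSqZeroExt.isUnit_iff_isUnit_fst, hφfst]
    exact IsLocalization.Away.algebraMap_isUnit g
  let Φ : S →+* TrivSqZeroExt S S := IsLocalization.Away.lift g hu
  have hΦ : ∀ a, Φ (algebraMap R S a) = φ a := IsLocalization.Away.lift_eq g hu
  have hfst : ∀ z, (Φ z).fst = z := by
    have h : (TrivSqZeroExt.fstHom S S S).toRingHom.comp Φ = RingHom.id S := by
      apply IsLocalization.ringHom_ext (Submonoid.powers g)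
      ext a
      simp [hΦ, hφfst]
    intro z
    have := congrArg (fun f => f z) h
    simpa using this
  refine ⟨fun z => (Φ z).snd, ?_, ?_, ?_⟩
  · intro x y
    simp [map_add]
  · intro x y
    simp only [map_mul, TrivSqZeroExt.snd_mul, hfst]
    simp [mul_comm]
  · intro r
    simp only [hΦ, hφsnd]

theorem derivation_extends_after_power {R R' : Type u} [CommRing R] [CommRing R'] [Algebra R R']
    [Algebra.FiniteType R R']
    (hinj : Function.Injective (algebraMap R R')) (g : R)
    (hg : IsSMulRegular R' (algebraMap R R' g))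
    (hloc : ∀ x : R', ∃ n : ℕ, (algebraMap R R' g) ^ n * x ∈ Set.range (algebraMap R R'))
    (D : Derivation ℤ R R) :
    ∃ (N : ℕ) (D' : Derivation ℤ R' R'),
      ∀ r : R, D' (algebraMap R R' r) = algebraMap R R' (g ^ N * D r) := by
  set g' : R' := algebraMap R R' g with hg'
  have hreg : ∀ x : R', g' * x = 0 → x = 0 := fun x hx => hg (by simp [smul_eq_mul, hx])
  have hle : Submonoid.powers g' ≤ nonZeroDivisors R' :=
    Submonoid.powers_le.mpr
      (mem_nonZeroDivisors_iff.mpr ⟨hreg, fun x hx => hreg x (by rwa [mul_comm])⟩)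
  have hjinj : Function.Injective (algebraMap R' (Localization.Away g')) :=
    IsLocalization.injective _ hle
  have hcomp : ∀ r : R, algebraMap R (Localization.Away g') r =
      algebraMap R' (Localization.Away g') (algebraMap R R' r) :=
    fun r => IsScalarTower.algebraMap_apply R R' (Localization.Away g') r
  have hjg : IsUnit (algebraMap R' (Localization.Away g') g') :=
    IsLocalization.Away.algebraMap_isUnit g'
  have : IsLocalization.Away g (Localization.Away g') := by
    refine (isLocalization_iff _ _).mpr ⟨?_, ?_, ?_⟩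
    · rintro ⟨y, n, rfl⟩
      simp only [hcomp, map_pow]
      exact hjg.pow n
    · intro z
      obtain ⟨⟨x, ⟨_, n, rfl⟩⟩, hx⟩ := IsLocalization.surj (Submonoid.powers g') z
      obtain ⟨m, r, hr⟩ := hloc x
      refine ⟨(r, ⟨g ^ (n + m), n + m, rfl⟩), ?_⟩
      simp only at hx ⊢
      rw [hcomp, hcomp, hr, map_pow, ← hg', pow_add, map_mul, map_mul, ← mul_assoc, hx, mul_comm]
    · intro x y hxy
      rw [hcomp, hcomp] at hxy
      exact ⟨1, by rw [hinj (hjinj hxy)]⟩
  obtain ⟨d, hadd, hmul, halg⟩ := exists_derivation_ext (S := Localization.Away g') g D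
  -- the predicate
  let P : ℕ → R' → Prop := fun N x => ∃ y : R', algebraMap R' (Localization.Away g') y =
    (algebraMap R' (Localization.Away g') g') ^ N * d (algebraMap R' (Localization.Away g') x)
  have hmono : ∀ N M x, N ≤ M → P N x → P M x := by
    rintro N M x hNM ⟨y, hy⟩
    refine ⟨g' ^ (M - N) * y, ?_⟩
    rw [map_mul, map_pow, hy, ← mul_assoc, ← pow_add, Nat.sub_add_cancel hNM]
  have hcoe : ∀ N r, P N (algebraMap R R' r) := by
    intro N r
    refine ⟨g' ^ N * algebraMap R R' (D r), ?_⟩
    rw [map_mul, map_pow, ← hcomp r, halg, hcomp]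
  have hPadd : ∀ N x w, P N x → P N w → P N (x + w) := by
    rintro N x w ⟨y₁, h1⟩ ⟨y₂, h2⟩
    refine ⟨y₁ + y₂, ?_⟩
    rw [map_add, map_add, hadd, mul_add, h1, h2]
  have hPmul : ∀ N x w, P N x → P N w → P N (x * w) := by
    rintro N x w ⟨y₁, h1⟩ ⟨y₂, h2⟩
    refine ⟨x * y₂ + w * y₁, ?_⟩
    rw [map_add, map_mul, map_mul, map_mul, hmul, h1, h2]
    ring
  let AN : ℕ → Subalgebra R R' := fun N =>
    { carrier := {x | P N x}
      mul_mem' := fun {x w} hx hw => hPmul N x w hx hw
      one_mem' := by
        have := hcoe N 1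
        rwa [map_one] at this
      add_mem' := fun {x w} hx hw => hPadd N x w hx hw
      zero_mem' := by
        have := hcoe N 0
        rwa [map_zero] at this
      algebraMap_mem' := fun r => hcoe N r }
  have hex : ∀ x, ∃ N, P N x := by
    intro x
    obtain ⟨⟨y, ⟨_, n, rfl⟩⟩, hy⟩ := IsLocalization.surj (Submonoid.powers g')
      (d (algebraMap R' (Localization.Away g') x))
    simp only at hy
    exact ⟨n, y, by rw [← hy, map_pow, mul_comm]⟩
  obtain ⟨s, hs⟩ := (Algebra.FiniteType.out : (⊤ : Subalgebra R R').FG)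
  choose Nx hNx using hex
  have hall : ∀ x, P (s.sup Nx) x := by
    intro x
    have hle' : (⊤ : Subalgebra R R') ≤ AN (s.sup Nx) := by
      rw [← hs]
      exact Algebra.adjoin_le (fun x hx => hmono _ _ x (Finset.le_sup hx) (hNx x))
    exact hle' Algebra.mem_top
  choose D' hD' using hall
  have hD'add : ∀ x w, D' (x + w) = D' x + D' w := fun x w =>
    hjinj (by rw [hD', map_add, map_add, hadd, mul_add, hD', hD'])
  have hD'mul : ∀ x w, D' (x * w) = x * D' w + w * D' x := fun x w =>
    hjinj (by rw [hD', map_mul, hmul, map_add, map_mul, map_mul, hD', hD']; ring)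
  let L : R' →ₗ[ℤ] R' := (AddMonoidHom.mk' D' hD'add).toIntLinearMap
  refine ⟨s.sup Nx, Derivation.mk' L (fun a b => ?_), fun r => ?_⟩
  · change D' (a * b) = a • D' b + b • D' a
    rw [hD'mul, smul_eq_mul, smul_eq_mul]
  · apply hjinj
    change algebraMap R' (Localization.Away g') (D' (algebraMap R R' r)) = _
    rw [hD', ← hcomp r, halg, hcomp, map_mul, map_pow, map_mul, map_pow]

end Groth.Agent.H11
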