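import Groth.Prelude.Def_Found
import Mathlib
import Groth.Agent.H11.AnUnram
import Groth.Agent.H11.MvPSN2

set_option autoImplicit false
set_option linter.style.haveILetI false

universe u

namespace Groth.Agent.H11.FFNagata

open TensorProduct

/-- Noetherianity descends along faithfully flat ring maps. -/
theorem isNoetherianRing_of_faithfullyFlat (R S : Type*) [CommRing R] [CommRing S] [Algebra R S]
    [Module.FaithfullyFlat R S] [IsNoetherianRing S] : IsNoetherianRing R := by
  rw [isNoetherianRing_iff, isNoetherian_iff']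
  have hmono : StrictMono (fun I : Ideal R => I.map (algebraMap R S)) := by
    apply Monotone.strictMono_of_injective
    · intro I J h; exact Ideal.map_mono h
    · intro I J h
      have := congrArg (Ideal.comap (algebraMap R S)) h
      simpa [Ideal.comap_map_eq_self_of_faithfullyFlat] using this
  haveI : WellFoundedGT (Ideal S) := (isNoetherian_iff' (R := S) (M := S)).mp inferInstance
  exact hmono.wellFoundedGT

theorem includeRight_surjective (R S : Type u) [CommRing R] [CommRing S] [Algebra R S]
    (p : Ideal R) :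
    Function.Surjective (Algebra.TensorProduct.includeRight : S →ₐ[R] (R ⧸ p) ⊗[R] S) := by
  intro z
  induction z using TensorProduct.induction_on with
  | zero => exact ⟨0, map_zero _⟩
  | tmul a s =>
    obtain ⟨r, rfl⟩ := Ideal.Quotient.mk_surjective a
    refine ⟨r • s, ?_⟩
    rw [Algebra.TensorProduct.includeRight_apply, TensorProduct.tmul_smul,
      TensorProduct.smul_tmul', ← Algebra.algebraMap_eq_smul_one]
    rfl
  | add y z hy hz =>
    obtain ⟨a, rfl⟩ := hy
    obtain ⟨b, rfl⟩ := hz
    exact ⟨a + b, map_add _ _ _⟩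

/-- Faithfully flat descent of the Nagata property, given reducedness of the relevant
geometric fibres. -/
theorem isNagata_of_faithfullyFlat (R S : Type u) [CommRing R] [CommRing S] [Algebra R S]
    [Module.FaithfullyFlat R S] (hS : CAlg.IsNagata S)
    (hred : ∀ (p : Ideal R) [p.IsPrime] (L : Type u) [Field L] [Algebra (R ⧸ p) L]
      [Algebra (FractionRing (R ⧸ p)) L] [IsScalarTower (R ⧸ p) (FractionRing (R ⧸ p)) L]
      [FiniteDimensional (FractionRing (R ⧸ p)) L],
      IsReduced (((R ⧸ p) ⊗[R] S) ⊗[R ⧸ p] L)) :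
    CAlg.IsNagata R := by
  haveI : IsNoetherianRing S := hS.1
  haveI : IsNoetherianRing R := isNoetherianRing_of_faithfullyFlat R S
  refine ⟨inferInstance, fun p _ => ?_⟩
  intro L _ _ _ _ hfd
  have hsurj := includeRight_surjective R S p
  haveI : IsNoetherianRing ((R ⧸ p) ⊗[R] S) :=
    isNoetherianRing_of_surjective S _ (Algebra.TensorProduct.includeRight :
      S →ₐ[R] (R ⧸ p) ⊗[R] S).toRingHom hsurj
  have hN : ∀ (P : Ideal ((R ⧸ p) ⊗[R] S)) [P.IsPrime], CAlg.IsN2 (((R ⧸ p) ⊗[R] S) ⧸ P) := by
    intro P _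
    let f : S →+* (R ⧸ p) ⊗[R] S :=
      (Algebra.TensorProduct.includeRight : S →ₐ[R] (R ⧸ p) ⊗[R] S).toRingHom
    let Q : Ideal S := P.comap f
    haveI : Q.IsPrime := Ideal.comap_isPrime _ _
    let g : S ⧸ Q →+* ((R ⧸ p) ⊗[R] S) ⧸ P := Ideal.quotientMap P f le_rfl
    have hg : Function.Bijective g :=
      ⟨Ideal.quotientMap_injective, Ideal.quotientMap_surjective hsurj⟩
    exact Groth.Agent.H11.MvPSN2.isN2_of_ringEquiv (RingEquiv.ofBijective g hg) (hS.2 Q)
  exact Groth.Agent.H11.AnUnram.finite_integralClosure_of_reduced_tensor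
    (A := R ⧸ p) (Ahat := (R ⧸ p) ⊗[R] S) (K' := L) hN (hred p L)

end Groth.Agent.H11.FFNagata
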