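import Mathlib
import Groth.Prelude.Def_FDesc

/-!
# Fibres of a base change and geometric reducedness (copied from `Groth.Agent.H38.SectionConst`,
by helper38, to avoid its heavy import closure)
-/

set_option autoImplicit false
universe u
open CategoryTheory AlgebraicGeometry Limits

namespace Groth.Agent.H11.FibreBC

variable {X Y : Scheme.{u}} (f : X ⟶ Y)

theorem exists_fiber_pt (y : Y) (x : X) (hx : f.base x = y) :
    ∃ a : f.fiber y, (f.fiberι y).base a = x := by
  have h : x ∈ Set.range (f.fiberι y).base := by
    rw [f.range_fiberι y]; exact hx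
  exact h

theorem fiberι_mem (y : Y) (z : f.fiber y) : f (f.fiberι y z) = y := by
  have : f.fiberι y z ∈ Set.range (f.fiberι y) := ⟨z, rfl⟩
  rw [f.range_fiberι y] at this
  exact this

/-- The fibre of a base change `X ×_Y Y' ⟶ Y'` over `s` is the base change of the fibre of `f` over
the image of `s` to the residue field of `s`. -/
theorem exists_iso_fiber_bc {Y' : Scheme.{u}} (φ : Y' ⟶ Y) (s : Y')
    [Algebra (IsLocalRing.ResidueField (Y.presheaf.stalk (φ.base s))) (Y'.residueField s)]
    (halg : algebraMap (IsLocalRing.ResidueField (Y.presheaf.stalk (φ.base s)))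
      (Y'.residueField s) = (φ.residueFieldMap s).hom) :
    ∃ e : FBase.bc (f.fiberToSpecResidueField (φ.base s)) (Y'.residueField s) ≅
        (pullback.snd f φ).fiber s,
      e.hom ≫ (pullback.snd f φ).fiberι s ≫ pullback.fst f φ =
        FBase.bcπ (f.fiberToSpecResidueField (φ.base s)) (Y'.residueField s) ≫
          f.fiberι (φ.base s) := by
  have P1 : IsPullback (FBase.bcπ (f.fiberToSpecResidueField (φ.base s)) (Y'.residueField s))
      (FBase.bcStr (f.fiberToSpecResidueField (φ.base s)) (Y'.residueField s))
      (f.fiberToSpecResidueField (φ.base s))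
      (Spec.map (CommRingCat.ofHom (algebraMap
        (IsLocalRing.ResidueField (Y.presheaf.stalk (φ.base s))) (Y'.residueField s)))) :=
    IsPullback.of_hasPullback _ _
  have P2 : IsPullback (f.fiberι (φ.base s)) (f.fiberToSpecResidueField (φ.base s)) f
      (Y.fromSpecResidueField (φ.base s)) := IsPullback.of_hasPullback _ _
  have P3 := P1.paste_horiz P2
  have hcomm : Spec.map (CommRingCat.ofHom (algebraMap
        (IsLocalRing.ResidueField (Y.presheaf.stalk (φ.base s))) (Y'.residueField s))) ≫
      Y.fromSpecResidueField (φ.base s) = Y'.fromSpecResidueField s ≫ φ := by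
    rw [halg]
    exact Scheme.Hom.SpecMap_residueFieldMap_fromSpecResidueField φ s
  have P3' : IsPullback
      (FBase.bcπ (f.fiberToSpecResidueField (φ.base s)) (Y'.residueField s) ≫ f.fiberι (φ.base s))
      (FBase.bcStr (f.fiberToSpecResidueField (φ.base s)) (Y'.residueField s)) f
      (Y'.fromSpecResidueField s ≫ φ) := by
    rw [← hcomm]; exact P3
  have P4 := IsPullback.of_hasPullback f φ
  have P5 := IsPullback.of_right' P3' P4
  have P6 : IsPullback ((pullback.snd f φ).fiberι s) ((pullback.snd f φ).fiberToSpecResidueField s)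
      (pullback.snd f φ) (Y'.fromSpecResidueField s) := IsPullback.of_hasPullback _ _
  refine ⟨P5.isoIsPullback _ _ P6, ?_⟩
  rw [← Category.assoc, IsPullback.isoIsPullback_hom_fst]
  exact P4.lift_fst _ _ _

/-- Reducedness of the local ring of the fibre of the base change at a point over a point at
which the fibre of `f` is geometrically reduced. -/
theorem isReduced_stalk_fiber_of_isGeomReducedAt {Y' : Scheme.{u}} (φ : Y' ⟶ Y) (s : Y')
    (a : f.fiber (φ.base s))
    (hred : FBase.IsGeomReducedAt (f.fiberToSpecResidueField (φ.base s)) a)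
    (a' : (pullback.snd f φ).fiber s)
    (ha' : (pullback.fst f φ).base (((pullback.snd f φ).fiberι s).base a') =
      (f.fiberι (φ.base s)).base a) :
    _root_.IsReduced (((pullback.snd f φ).fiber s).presheaf.stalk a') := by
  letI : Algebra (IsLocalRing.ResidueField (Y.presheaf.stalk (φ.base s))) (Y'.residueField s) :=
    (φ.residueFieldMap s).hom.toAlgebra
  obtain ⟨e, he⟩ := exists_iso_fiber_bc f φ s rfl
  obtain ⟨b, rfl⟩ : ∃ b, e.hom.base b = a' := ⟨e.inv.base a', by
    rw [← Scheme.Hom.comp_apply, e.inv_hom_id]; rfl⟩
  have hb : (FBase.bcπ (f.fiberToSpecResidueField (φ.base s)) (Y'.residueField s)).base b = a := by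
    apply (f.fiberι (φ.base s)).isEmbedding.injective
    rw [← ha']
    have := congrArg (fun h => h.base b) he
    simp only [Scheme.Hom.comp_base, TopCat.comp_app] at this
    exact this.symm
  haveI := hred (Y'.residueField s) b hb
  have hinj : Function.Injective (e.hom.stalkMap b).hom :=
    ((ConcreteCategory.isIso_iff_bijective (e.hom.stalkMap b)).mp inferInstance).1
  exact isReduced_of_injective (e.hom.stalkMap b).hom hinj


end Groth.Agent.H11.FibreBC
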