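import Groth.Agent.H11.GenFreeCok
import Mathlib

set_option autoImplicit false
set_option linter.style.haveILetI false

universe u

namespace Groth.Agent.H11

open TensorProduct

theorem tmul_pow_smul {R : Type*} [CommRing R] {κ : Type*} [CommRing κ] [Algebra R κ]
    {X : Type*} [AddCommGroup X] [Module R X] (f : R) (φ : κ)
    (hφ : φ * algebraMap R κ f = 1) (c : κ) (k : ℕ) (x : X) :
    (c * φ ^ k) ⊗ₜ[R] (f ^ k • x) = c ⊗ₜ[R] x := by
  rw [← TensorProduct.smul_tmul, Algebra.smul_def, mul_comm c, ← mul_assoc, map_pow, ← mul_pow,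
    mul_comm (algebraMap R κ f), hφ, one_pow, one_mul]

/-- An injective map whose cokernel is `f`-power torsion stays injective after tensoring with an
algebra in which `f` is invertible. -/
theorem lTensor_injective_of_torsion_coker {R : Type u} [CommRing R] {P Q : Type u}
    [AddCommGroup P] [Module R P] [AddCommGroup Q] [Module R Q]
    (κ : Type*) [CommRing κ] [Algebra R κ] (j : P →ₗ[R] Q) (hj : Function.Injective j) (f : R)
    (hcok : ∀ q : Q, ∃ (k : ℕ) (p : P), j p = f ^ k • q) (hu : IsUnit (algebraMap R κ f)) :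
    Function.Injective (j.lTensor κ) := by
  classical
  obtain ⟨φ, hφ⟩ : ∃ φ : κ, φ * algebraMap R κ f = 1 := ⟨↑hu.unit⁻¹, IsUnit.val_inv_mul hu⟩
  choose kq pq hpq using hcok
  let ψ : Q → κ ⊗[R] P := fun q => (φ ^ kq q) ⊗ₜ[R] pq q
  have key : ∀ (q : Q) (k : ℕ) (p : P), j p = f ^ k • q → ψ q = (φ ^ k) ⊗ₜ[R] p := by
    intro q k p hp
    have h1 : f ^ k • pq q = f ^ kq q • p := by
      apply hj
      rw [map_smul, map_smul, hpq, hp, smul_smul, smul_smul, mul_comm]
    calc ψ q = (φ ^ kq q) ⊗ₜ[R] pq q := rfl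
      _ = (φ ^ kq q * φ ^ k) ⊗ₜ[R] (f ^ k • pq q) := (tmul_pow_smul f φ hφ _ k _).symm
      _ = (φ ^ kq q * φ ^ k) ⊗ₜ[R] (f ^ kq q • p) := by rw [h1]
      _ = (φ ^ k * φ ^ kq q) ⊗ₜ[R] (f ^ kq q • p) := by rw [mul_comm]
      _ = (φ ^ k) ⊗ₜ[R] p := tmul_pow_smul f φ hφ _ _ _
  have hψadd : ∀ q₁ q₂, ψ (q₁ + q₂) = ψ q₁ + ψ q₂ := by
    intro q₁ q₂
    have h12 : j (f ^ kq q₂ • pq q₁ + f ^ kq q₁ • pq q₂) =
        f ^ (kq q₁ + kq q₂) • (q₁ + q₂) := by
      rw [map_add, map_smul, map_smul, hpq, hpq, smul_add, smul_smul, smul_smul, pow_add,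
        mul_comm (f ^ kq q₂)]
    rw [key _ _ _ h12, TensorProduct.tmul_add, pow_add]
    congr 1
    · exact tmul_pow_smul f φ hφ _ _ _
    · rw [mul_comm]; exact tmul_pow_smul f φ hφ _ _ _
  have hψsmul : ∀ (r : R) q, ψ (r • q) = r • ψ q := by
    intro r q
    have h : j (r • pq q) = f ^ kq q • (r • q) := by rw [map_smul, hpq, smul_comm]
    rw [key _ _ _ h, TensorProduct.tmul_smul]
  let ψl : Q →ₗ[R] κ ⊗[R] P :=
    { toFun := ψ, map_add' := hψadd, map_smul' := hψsmul }
  have hleft : ∀ t, (LinearMap.liftBaseChange κ ψl) (j.lTensor κ t) = t := by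
    intro t
    induction t using TensorProduct.induction_on with
    | zero => simp
    | tmul c p =>
      rw [LinearMap.lTensor_tmul, LinearMap.liftBaseChange_tmul]
      have h0 : ψ (j p) = (φ ^ 0) ⊗ₜ[R] p := key _ 0 p (by rw [pow_zero, one_smul])
      show c • ψ (j p) = c ⊗ₜ[R] p
      rw [h0, pow_zero, TensorProduct.smul_tmul', smul_eq_mul, mul_one]
    | add a b ha hb => rw [map_add, map_add, ha, hb]
  exact Function.LeftInverse.injective hleft

theorem lTensor_subtype_injective_of_gfrel {R H : Type u} [CommRing R] [AddCommGroup H]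
    [Module R H] (W : Submodule R H) {f : R} (hrel : GFRel R W ⊤ f) (κ : Type*) [CommRing κ]
    [Algebra R κ] (hu : IsUnit (algebraMap R κ f)) :
    Function.Injective (W.subtype.lTensor κ) := by
  obtain ⟨ι, b, -, hind, hsp⟩ := hrel
  let j : (W × (ι →₀ R)) →ₗ[R] H := W.subtype.coprod (Finsupp.linearCombination R b)
  have hjdef : ∀ (w : W) (c : ι →₀ R), j (w, c) = (w : H) + Finsupp.linearCombination R b c :=
    fun w c => rfl
  have hj : Function.Injective j := by
    rw [← LinearMap.ker_eq_bot, LinearMap.ker_eq_bot']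
    rintro ⟨w, c⟩ h
    rw [hjdef] at h
    have hc : c = 0 := hind c (by
      have : Finsupp.linearCombination R b c = -(w : H) := eq_neg_of_add_eq_zero_right h
      rw [this]; exact W.neg_mem w.2)
    subst hc
    rw [map_zero, add_zero] at h
    exact Prod.ext (Subtype.ext h) rfl
  have hcok : ∀ q : H, ∃ (k : ℕ) (p : W × (ι →₀ R)), j p = f ^ k • q := by
    intro q
    obtain ⟨k, c, hc⟩ := hsp q Submodule.mem_top
    refine ⟨k, (⟨_, hc⟩, c), ?_⟩
    rw [hjdef]
    exact sub_add_cancel _ _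
  have h1 := lTensor_injective_of_torsion_coker κ j hj f hcok hu
  have e : W.subtype = j.comp (LinearMap.inl R W (ι →₀ R)) := by
    ext w
    simp [j]
  have hfst : ∀ t, ((LinearMap.fst R W (ι →₀ R)).lTensor κ)
      (((LinearMap.inl R W (ι →₀ R)).lTensor κ) t) = t := by
    intro t
    rw [← LinearMap.comp_apply, ← LinearMap.lTensor_comp, LinearMap.fst_comp_inl,
      LinearMap.lTensor_id, LinearMap.id_apply]
  rw [e, LinearMap.lTensor_comp]
  exact h1.comp (Function.LeftInverse.injective hfst)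

theorem exists_smul_eq_zero_of_tmul_eq_zero {R : Type u} [CommRing R] [IsDomain R] {G : Type u}
    [AddCommGroup G] [Module R G] (x : G) (h : (1 : FractionRing R) ⊗ₜ[R] x = 0) :
    ∃ r : R, r ≠ 0 ∧ r • x = 0 := by
  haveI : IsLocalizedModule (nonZeroDivisors R) (TensorProduct.mk R (FractionRing R) G 1) :=
    (isLocalizedModule_iff_isBaseChange (nonZeroDivisors R) (FractionRing R) _).mpr
      (TensorProduct.isBaseChange R G (FractionRing R))
  obtain ⟨c, hc⟩ := (IsLocalizedModule.eq_zero_iff (nonZeroDivisors R)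
    (TensorProduct.mk R (FractionRing R) G 1)).mp h
  exact ⟨c.1, nonZeroDivisors.ne_zero c.2, hc⟩

theorem exists_smul_eq_tmul {R : Type u} [CommRing R] [IsDomain R] {F : Type u}
    [AddCommGroup F] [Module R F] (z : FractionRing R ⊗[R] F) :
    ∃ (r : R) (y : F), r ≠ 0 ∧ r • z = (1 : FractionRing R) ⊗ₜ[R] y := by
  haveI : IsLocalizedModule (nonZeroDivisors R) (TensorProduct.mk R (FractionRing R) F 1) :=
    (isLocalizedModule_iff_isBaseChange (nonZeroDivisors R) (FractionRing R) _).mpr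
      (TensorProduct.isBaseChange R F (FractionRing R))
  obtain ⟨⟨y, s⟩, hs⟩ := IsLocalizedModule.surj (nonZeroDivisors R)
    (TensorProduct.mk R (FractionRing R) F 1) z
  exact ⟨s.1, y, nonZeroDivisors.ne_zero s.2, hs⟩

end Groth.Agent.H11
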