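import Groth.Prelude.Def_Found
import Groth.Prelude.Def_EGA4b
import Groth.Agent.H11.AnUnram2
import Groth.Agent.H11.MvPSN2
import Mathlib

set_option autoImplicit false
set_option linter.style.haveILetI false
set_option linter.unusedSectionVars false

universe u

namespace Groth.Agent.H11.FormalFibreNagata

open TensorProduct IsLocalRing

/-- A Noetherian local ring with geometrically reduced formal fibres is Nagata. -/
theorem isNagata_of_geomReducedFormalFibres (A : Type u) [CommRing A] [IsNoetherianRing A]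
    [IsLocalRing A] (hA : EGA4.HasGeomReducedFormalFibres A) : CAlg.IsNagata A := by
  refine ⟨inferInstance, fun p _ => ?_⟩
  let Ah := AdicCompletion (maximalIdeal A) A
  haveI : IsNoetherianRing Ah :=
    Groth.Agent.Lead.isNoetherianRing_adicCompletion (maximalIdeal A)
      (maximalIdeal A).fg_of_isNoetherianRing
  haveI : Module.FaithfullyFlat A Ah := Module.FaithfullyFlat.of_flat_of_isLocalHom
  have hNag := Groth.Agent.H11.CompleteNagata.isNagata_of_complete Ah
  let D := A ⧸ p
  let Ahat := D ⊗[A] Ah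
  have hsurj : Function.Surjective (Algebra.TensorProduct.includeRight : Ah →ₐ[A] D ⊗[A] Ah) := by
    intro z
    induction z using TensorProduct.induction_on with
    | zero => exact ⟨0, map_zero _⟩
    | add x y hx hy =>
      obtain ⟨a, rfl⟩ := hx
      obtain ⟨b, rfl⟩ := hy
      exact ⟨a + b, map_add _ _ _⟩
    | tmul d a =>
      obtain ⟨r, rfl⟩ := Ideal.Quotient.mk_surjective d
      refine ⟨r • a, ?_⟩
      rw [Algebra.TensorProduct.includeRight_apply, ← TensorProduct.smul_tmul]
      congr 1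
      rw [Algebra.smul_def, mul_one]
      rfl
  haveI : IsNoetherianRing Ahat :=
    isNoetherianRing_of_surjective Ah Ahat
      (Algebra.TensorProduct.includeRight : Ah →ₐ[A] D ⊗[A] Ah).toRingHom hsurj
  have hN : ∀ (q : Ideal Ahat) [q.IsPrime], CAlg.IsN2 (Ahat ⧸ q) := by
    intro q _
    let f : Ah →+* Ahat ⧸ q := (Ideal.Quotient.mk q).comp
      (Algebra.TensorProduct.includeRight : Ah →ₐ[A] D ⊗[A] Ah).toRingHom
    have hf : Function.Surjective f := (Ideal.Quotient.mk_surjective).comp hsurj
    haveI : (RingHom.ker f).IsPrime := RingHom.ker_isPrime f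
    have h1 : CAlg.IsN2 (Ah ⧸ RingHom.ker f) := hNag.2 _
    exact Groth.Agent.H11.MvPSN2.isN2_of_ringEquiv (RingHom.quotientKerEquivOfSurjective hf) h1
  intro L _ _ _ _ hfd
  refine Groth.Agent.H11.AnUnram.finite_integralClosure_of_reduced_tensor (A := D) (Ahat := Ahat) hN ?_
  -- reducedness
  let κ := p.ResidueField
  haveI := hA p
  let e : κ ≃ₐ[D] FractionRing D := (FractionRing.algEquiv D κ).symm
  letI : Algebra κ L := ((algebraMap (FractionRing D) L).comp (e : κ →+* FractionRing D)).toAlgebra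
  haveI : IsScalarTower D κ L := IsScalarTower.of_algebraMap_eq fun d => by
    show algebraMap D L d = algebraMap (FractionRing D) L (e (algebraMap D κ d))
    rw [e.commutes, ← IsScalarTower.algebraMap_apply]
  letI : Algebra A L := ((algebraMap D L).comp (algebraMap A D)).toAlgebra
  haveI : IsScalarTower A D L := IsScalarTower.of_algebraMap_eq fun _ => rfl
  haveI : IsScalarTower A κ L := IsScalarTower.of_algebraMap_eq fun a => by
    rw [IsScalarTower.algebraMap_apply A D κ, ← IsScalarTower.algebraMap_apply D κ L,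
      ← IsScalarTower.algebraMap_apply A D L]
  haveI : Algebra.IsAlgebraic D L :=
    (IsFractionRing.comap_isAlgebraic_iff (A := D) (K := FractionRing D) (C := L)).mpr inferInstance
  haveI : Algebra.IsAlgebraic κ L := ⟨fun x =>
    (Algebra.IsAlgebraic.isAlgebraic (R := D) x).extendScalars
      (IsFractionRing.injective D κ)⟩
  haveI : IsReduced (L ⊗[κ] (κ ⊗[A] Ah)) := inferInstance
  let e1 : L ⊗[κ] (κ ⊗[A] Ah) ≃ₐ[κ] L ⊗[A] Ah := Algebra.TensorProduct.cancelBaseChange A κ κ L Ah
  let e2 : L ⊗[D] (D ⊗[A] Ah) ≃ₐ[D] L ⊗[A] Ah := Algebra.TensorProduct.cancelBaseChange A D D L Ah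
  let e3 : (D ⊗[A] Ah) ⊗[D] L ≃ₐ[D] L ⊗[D] (D ⊗[A] Ah) := Algebra.TensorProduct.comm D _ _
  have hinj : Function.Injective ((e1.symm : L ⊗[A] Ah →+* L ⊗[κ] (κ ⊗[A] Ah)).comp
      ((e2 : L ⊗[D] (D ⊗[A] Ah) →+* L ⊗[A] Ah).comp
        (e3 : (D ⊗[A] Ah) ⊗[D] L →+* L ⊗[D] (D ⊗[A] Ah)))) :=
    e1.symm.injective.comp (e2.injective.comp e3.injective)
  exact isReduced_of_injective _ hinj

end Groth.Agent.H11.FormalFibreNagata
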