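import Mathlib
import Groth.Prelude.Def_SGA1

/-! (ACT) for the S2920 squad (helper79): the action on the second factor of `X ×_Y X`. -/

set_option autoImplicit false
universe u
open CategoryTheory CategoryTheory.Limits AlgebraicGeometry

namespace Groth.Agent.H11.FreeFlat_ACT

theorem exists_action_on_pullback {X Y : Scheme.{u}} {G : Type u} [Group G] (ρ : G →* Aut X)
    (p : X ⟶ Y) (hinv : ∀ g : G, (ρ g).hom ≫ p = p) :
    ∃ ρ' : G →* Aut (pullback p p),
      (∀ g : G, (ρ' g).hom ≫ pullback.snd p p = pullback.snd p p ≫ (ρ g).hom) ∧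
      (∀ g : G, (ρ' g).hom ≫ pullback.fst p p = pullback.fst p p) := by
  let r : G → (pullback p p ⟶ pullback p p) := fun g =>
    pullback.lift (pullback.fst p p) (pullback.snd p p ≫ (ρ g).hom)
      (by rw [Category.assoc, hinv g, pullback.condition])
  have hr1 : ∀ g, r g ≫ pullback.fst p p = pullback.fst p p := fun g => pullback.lift_fst _ _ _
  have hr2 : ∀ g, r g ≫ pullback.snd p p = pullback.snd p p ≫ (ρ g).hom :=
    fun g => pullback.lift_snd _ _ _
  have hr_one : r 1 = 𝟙 _ := by
    apply pullback.hom_ext
    · rw [hr1, Category.id_comp]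
    · rw [hr2, map_one, Category.id_comp]
      exact Category.comp_id _
  have hr_mul : ∀ g h : G, r (g * h) = r h ≫ r g := by
    intro g h
    apply pullback.hom_ext
    · rw [hr1, Category.assoc, hr1, hr1]
    · rw [hr2, Category.assoc, hr2, ← Category.assoc, hr2, Category.assoc, map_mul]
      rfl
  let a : G → Aut (pullback p p) := fun g =>
    { hom := r g
      inv := r g⁻¹
      hom_inv_id := by rw [← hr_mul, inv_mul_cancel, hr_one]
      inv_hom_id := by rw [← hr_mul, mul_inv_cancel, hr_one] }
  refine ⟨{ toFun := a, map_one' := ?_, map_mul' := ?_ }, fun g => hr2 g, fun g => hr1 g⟩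
  · apply Iso.ext
    exact hr_one
  · intro g h
    apply Iso.ext
    exact hr_mul g h

end Groth.Agent.H11.FreeFlat_ACT
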