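import Mathlib

/-!
# Geometric reducedness of a fibre at a prime, in algebraic form

`GRAt R q` for a prime `q` of an `R`-algebra `C`: for every field `K` over `R` and every model `E`
of `C ⊗[R] K`, nilpotent elements of `E` die in the localization of `E` at every prime lying
over `q`.
-/

set_option autoImplicit false
universe u

namespace Groth.Agent.H11.GRAtDefs

/-- The fibre of `R → C` through the prime `q` is geometrically reduced at `q`. -/
def GRAt (R : Type u) {C : Type u} [CommRing R] [CommRing C] [Algebra R C] (q : Ideal C) : Prop :=
  ∀ (K : Type u) [Field K] [Algebra R K] (E : Type u) [CommRing E] [Algebra C E] [Algebra K E]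
    [Algebra R E] [IsScalarTower R C E] [IsScalarTower R K E] [Algebra.IsPushout R C K E]
    (n : Ideal E) [n.IsPrime], n.comap (algebraMap C E) = q →
    ∀ a : E, IsNilpotent a → ∃ u : E, u ∉ n ∧ u * a = 0

end Groth.Agent.H11.GRAtDefs
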