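import Groth.Agent.H11.RedNbhdC
import Groth.Agent.H11.GRAtDefs

/-!
# From geometric reducedness of the fibre (scheme form) to the algebraic form `GRAt` on charts
-/

set_option autoImplicit false
set_option linter.style.haveILetI false
universe u
open CategoryTheory CategoryTheory.Limits AlgebraicGeometry TopologicalSpace IsLocalRing TensorProduct

namespace Groth.Agent.H11.GRAtSch

open Groth.Agent.H11.UnivOpenFlatSch Groth.Agent.H11.GRAtDefs

variable {X Y : Scheme.{u}} (f : X ⟶ Y)

set_option maxHeartbeats 3200000 in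
/-- Chart-level consequence of stalkwise reducedness after base change to a discrete valuation
ring (here: any local ring): nilpotent elements of the chart of the base change die in the
localization at `n`. -/
theorem nilpotent_chart_local [LocallyOfFiniteType f] (x : X) {V : Y.Opens} (hV : IsAffineOpen V)
    {W : X.Opens} (hW : IsAffineOpen W) (hxW : x ∈ W) (hWV : W ≤ f ⁻¹ᵁ V)
    [Algebra Γ(Y, V) Γ(X, W)] (halg : algebraMap Γ(Y, V) Γ(X, W) = (f.appLE V W hWV).hom)
    (V' : Type u) [CommRing V'] [IsLocalRing V'] [Algebra Γ(Y, V) V']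
    (g : Spec (CommRingCat.of V') ⟶ Y)
    (hV'V : (⊤ : (Spec (CommRingCat.of V')).Opens) ≤ g ⁻¹ᵁ V)
    (hstar : g.appLE V ⊤ hV'V = CommRingCat.ofHom (algebraMap Γ(Y, V) V') ≫
      (Scheme.ΓSpecIso (CommRingCat.of V')).inv)
    (hredS : ∀ x' : ↥(pullback f g), (pullback.fst f g).base x' = x →
      (pullback.snd f g).base x' = IsLocalRing.closedPoint V' →
      _root_.IsReduced ((pullback f g).presheaf.stalk x'))
    (E : Type u) [CommRing E] [Algebra Γ(X, W) E] [Algebra V' E] [Algebra Γ(Y, V) E]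
    [IsScalarTower Γ(Y, V) Γ(X, W) E] [IsScalarTower Γ(Y, V) V' E]
    [Algebra.IsPushout Γ(Y, V) Γ(X, W) V' E]
    (n : Ideal E) [n.IsPrime]
    (hn1 : n.comap (algebraMap Γ(X, W) E) = (hW.primeIdealOf ⟨x, hxW⟩).asIdeal)
    (hn2 : n.comap (algebraMap V' E) = maximalIdeal V') :
    ∀ a : E, IsNilpotent a → ∃ u : E, u ∉ n ∧ u * a = 0 := by
  obtain rfl : ‹Algebra Γ(Y, V) Γ(X, W)› = (f.appLE V W hWV).hom.toAlgebra :=
    Algebra.algebra_ext _ _ (fun r => DFunLike.congr_fun halg r)
  letI aRC : Algebra Γ(Y, V) Γ(X, W) := (f.appLE V W hWV).hom.toAlgebra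
  classical
  have hV' : IsAffineOpen (⊤ : (Spec (CommRingCat.of V')).Opens) := isAffineOpen_top _
  let W' : (pullback f g).Opens := pullback.fst f g ⁻¹ᵁ W ⊓ pullback.snd f g ⁻¹ᵁ ⊤
  have HP := IsPullback.of_hasPullback f g
  have hW'W : W' ≤ pullback.fst f g ⁻¹ᵁ W := inf_le_left
  have hW'V' : W' ≤ pullback.snd f g ⁻¹ᵁ ⊤ := inf_le_right
  have hW' : IsAffineOpen W' := by
    have : IsAffine V.toScheme := hV
    have : IsAffine (⊤ : (Spec (CommRingCat.of V')).Opens).toScheme := hV'
    have : IsAffine W.toScheme := hW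
    exact .of_isIso (Scheme.Hom.isPullback_resLE HP hV'V hWV (rfl : W' = _)).isoPullback.hom
  have hpo := (isIso_pushoutSection_iff HP hV'V hWV (rfl : W' = _)).mp
    (isIso_pushoutSection_of_isAffineOpen HP hV'V hWV rfl hV hV' hW)
  letI aRB : Algebra Γ(Y, V) Γ(Spec (CommRingCat.of V'), ⊤) := (g.appLE V ⊤ hV'V).hom.toAlgebra
  letI aCE : Algebra Γ(X, W) Γ(pullback f g, W') :=
    ((pullback.fst f g).appLE W W' hW'W).hom.toAlgebra
  letI aBE : Algebra Γ(Spec (CommRingCat.of V'), ⊤) Γ(pullback f g, W') :=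
    ((pullback.snd f g).appLE ⊤ W' hW'V').hom.toAlgebra
  letI aRE : Algebra Γ(Y, V) Γ(pullback f g, W') :=
    (((pullback.fst f g).appLE W W' hW'W).hom.comp (f.appLE V W hWV).hom).toAlgebra
  haveI t1 : IsScalarTower Γ(Y, V) Γ(X, W) Γ(pullback f g, W') := .of_algebraMap_eq' rfl
  haveI t2 : IsScalarTower Γ(Y, V) Γ(Spec (CommRingCat.of V'), ⊤) Γ(pullback f g, W') :=
    .of_algebraMap_eq' (by
      change (((pullback.fst f g).appLE W W' hW'W).hom.comp (f.appLE V W hWV).hom) =
        (((pullback.snd f g).appLE ⊤ W' hW'V').hom.comp (g.appLE V ⊤ hV'V).hom)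
      rw [← CommRingCat.hom_comp, ← CommRingCat.hom_comp, hpo.w])
  haveI po1 : Algebra.IsPushout Γ(Y, V) Γ(X, W) Γ(Spec (CommRingCat.of V'), ⊤)
      Γ(pullback f g, W') := CommRingCat.isPushout_iff_isPushout.mp hpo
  let eB : Γ(Spec (CommRingCat.of V'), ⊤) ≃+* V' :=
    (Scheme.ΓSpecIso (CommRingCat.of V')).commRingCatIsoToRingEquiv
  haveI : IsLocalRing Γ(Spec (CommRingCat.of V'), ⊤) := eB.symm.isLocalRing
  have k1 : ∀ r : Γ(Y, V), eB (algebraMap Γ(Y, V) Γ(Spec (CommRingCat.of V'), ⊤) r) =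
      algebraMap Γ(Y, V) V' r := by
    intro r
    change eB ((g.appLE V ⊤ hV'V).hom r) = _
    rw [hstar]
    exact eB.apply_symm_apply (algebraMap Γ(Y, V) V' r)
  let eBa : V' ≃ₐ[Γ(Y, V)] Γ(Spec (CommRingCat.of V'), ⊤) :=
    AlgEquiv.ofRingEquiv (f := eB.symm) (fun r => by
      rw [RingEquiv.symm_apply_eq]; exact (k1 r).symm)
  let e : E ≃ₐ[Γ(X, W)] Γ(pullback f g, W') :=
    ((Algebra.IsPushout.equiv Γ(Y, V) Γ(X, W) V' E).symm.trans
      (Algebra.TensorProduct.congr AlgEquiv.refl eBa)).trans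
      (Algebra.IsPushout.equiv Γ(Y, V) Γ(X, W) Γ(Spec (CommRingCat.of V'), ⊤)
        Γ(pullback f g, W'))
  have heV : ∀ v : V', e (algebraMap V' E v) =
      algebraMap Γ(Spec (CommRingCat.of V'), ⊤) Γ(pullback f g, W') (eB.symm v) := by
    intro v
    simp only [e, AlgEquiv.trans_apply]
    rw [Algebra.IsPushout.equiv_symm_algebraMap_right, Algebra.TensorProduct.congr_apply,
      Algebra.TensorProduct.map_tmul, Algebra.IsPushout.equiv_tmul, map_one, map_one, one_mul]
    rfl
  -- the prime of the standard chart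
  let nS : Ideal Γ(pullback f g, W') := n.comap (e.symm : Γ(pullback f g, W') →+* E)
  haveI hnS : nS.IsPrime := Ideal.comap_isPrime _ n
  have hmem : ∀ a : E, e a ∈ nS ↔ a ∈ n := by
    intro a
    change e.symm (e a) ∈ n ↔ _
    rw [AlgEquiv.symm_apply_apply]
  have h1 : nS.comap (algebraMap Γ(X, W) Γ(pullback f g, W')) =
      (hW.primeIdealOf ⟨x, hxW⟩).asIdeal := by
    rw [← hn1]
    ext c
    change algebraMap Γ(X, W) Γ(pullback f g, W') c ∈ nS ↔ algebraMap Γ(X, W) E c ∈ n
    rw [← e.commutes c, hmem]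
  have h2 : nS.comap (algebraMap Γ(Spec (CommRingCat.of V'), ⊤) Γ(pullback f g, W')) =
      maximalIdeal Γ(Spec (CommRingCat.of V'), ⊤) := by
    ext v
    change algebraMap Γ(Spec (CommRingCat.of V'), ⊤) Γ(pullback f g, W') v ∈ nS ↔
      v ∈ maximalIdeal Γ(Spec (CommRingCat.of V'), ⊤)
    have hv : algebraMap Γ(Spec (CommRingCat.of V'), ⊤) Γ(pullback f g, W') v =
        e (algebraMap V' E (eB v)) := by
      rw [heV, RingEquiv.symm_apply_apply]
    rw [hv, hmem]
    change eB v ∈ n.comap (algebraMap V' E) ↔ _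
    rw [hn2, mem_maximalIdeal, mem_maximalIdeal, mem_nonunits_iff,
      mem_nonunits_iff, not_iff_not]
    exact ⟨fun h => by simpa using h.map eB.symm, fun h => h.map eB⟩
  obtain ⟨x', hx', hx'n⟩ := Groth.Agent.H57.ArtFamSch.exists_mem_primeIdealOf_eq hW' ⟨nS, hnS⟩
  have hn' : (hW'.primeIdealOf ⟨x', hx'⟩).asIdeal = nS := congrArg PrimeSpectrum.asIdeal hx'n
  have e1 : (pullback.fst f g).base x' = x :=
    Groth.Agent.H57.ArtFamSch.map_eq_of_comap_eq (pullback.fst f g) hW hW' hW'W hx' hxW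
      (by rw [hn']; exact h1)
  have e2 : (pullback.snd f g).base x' = IsLocalRing.closedPoint V' := by
    apply Groth.Agent.H57.ArtFamSch.eq_closedPoint_of_primeIdealOf hV'
    rw [← h2, ← hn']
    exact congrArg PrimeSpectrum.asIdeal
      (IsAffineOpen.comap_primeIdealOf_appLE ⊤ hV' W' hW' hW'V' hx').symm
  haveI hrd := hredS x' e1 e2
  -- the stalks
  letI aEO : Algebra Γ(pullback f g, W') ((pullback f g).presheaf.stalk x') :=
    (pullback f g).presheaf.algebra_section_stalk ⟨x', hx'⟩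
  haveI locO := hW'.isLocalization_stalk ⟨x', hx'⟩
  intro a ha
  have h1 : IsNilpotent (algebraMap Γ(pullback f g, W') ((pullback f g).presheaf.stalk x') (e a)) :=
    (ha.map e).map _
  have h2 : algebraMap Γ(pullback f g, W') ((pullback f g).presheaf.stalk x') (e a) = 0 :=
    h1.eq_zero
  obtain ⟨c, hc⟩ := (IsLocalization.map_eq_zero_iff
    (hW'.primeIdealOf ⟨x', hx'⟩).asIdeal.primeCompl ((pullback f g).presheaf.stalk x') (e a)).mp h2
  have haux : ∀ I : Ideal Γ(pullback f g, W'), I = nS →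
      ∀ y : Γ(pullback f g, W'), y ∉ I → y ∉ nS := by
    rintro _ rfl y hy
    exact hy
  have hc' : (c : Γ(pullback f g, W')) ∉ nS := haux _ hn' c c.2
  refine ⟨e.symm c, hc', ?_⟩
  apply e.injective
  rw [map_mul, AlgEquiv.apply_symm_apply, hc, map_zero]


/-- The stalk of the spectrum of a field at its point has zero maximal ideal. -/
theorem maximalIdeal_stalk_Spec_field (K : Type u) [Field K] (s : Spec (CommRingCat.of K)) :
    IsLocalRing.maximalIdeal ((Spec (CommRingCat.of K)).presheaf.stalk s) = ⊥ := by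
  letI : Algebra K ((Spec (CommRingCat.of K)).presheaf.stalk s) :=
    StructureSheaf.stalkAlgebra (R := K) s
  haveI : s.asIdeal.IsPrime := s.isPrime
  haveI : IsLocalization.AtPrime ((Spec (CommRingCat.of K)).presheaf.stalk s) s.asIdeal :=
    StructureSheaf.IsLocalization.to_stalk (R := K) s
  have e := IsLocalization.atUnits K s.asIdeal.primeCompl
    (S := (Spec (CommRingCat.of K)).presheaf.stalk s) (fun x hx => by
      have hx0 : x ≠ 0 := by
        rintro rfl
        exact hx (Ideal.zero_mem _)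
      exact isUnit_iff_ne_zero.mpr hx0)
  have hfield : IsField ((Spec (CommRingCat.of K)).presheaf.stalk s) :=
    e.symm.toRingEquiv.toMulEquiv.isField (Field.toIsField K)
  exact (IsLocalRing.isField_iff_maximalIdeal_eq.mp hfield)

set_option maxHeartbeats 1600000 in
/-- Base change to a field: the local rings at the points over `x` are reduced. -/
theorem isReduced_stalk_snd_of_field (x : X)
    (hred : FBase.IsGeomReducedAt (f.fiberToSpecResidueField (f.base x)) (f.asFiber x))
    (K : Type u) [Field K] (g : Spec (CommRingCat.of K) ⟶ Y) (x' : ↥(pullback f g))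
    (hx'x : (pullback.fst f g).base x' = x) :
    _root_.IsReduced ((pullback f g).presheaf.stalk x') := by
  have hpf : ∀ z, f.base ((pullback.fst f g).base z) = g.base ((pullback.snd f g).base z) :=
    fun z => by
      have := congrArg (fun h => h.base z) (pullback.condition (f := f) (g := g))
      simpa only [Scheme.Hom.comp_base, TopCat.comp_app] using this
  have hfx : f.base x = g.base ((pullback.snd f g).base x') := by rw [← hx'x]; exact hpf x'
  have hgr : ∀ (y : Y), f.base x = y → ∃ a : f.fiber y,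
      FBase.IsGeomReducedAt (f.fiberToSpecResidueField y) a ∧ (f.fiberι y).base a = x := by
    rintro _ rfl
    exact ⟨f.asFiber x, hred, f.fiberι_asFiber x⟩
  obtain ⟨a, ha, hax⟩ := hgr _ hfx
  have hfib := Groth.Agent.H11.FibreBC.isReduced_stalk_fiber_of_isGeomReducedAt f g
      ((pullback.snd f g).base x') a ha ((pullback.snd f g).asFiber x')
      (by rw [(pullback.snd f g).fiberι_asFiber x', hx'x, hax])
  obtain ⟨hsurj, hker⟩ := Groth.Agent.H9.stalkMap_fiberι_surjective_and_ker_eq
    (pullback.snd f g) ((pullback.snd f g).base x') ((pullback.snd f g).asFiber x')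
  rw [maximalIdeal_stalk_Spec_field, Ideal.map_bot] at hker
  have hinj : Function.Injective (((pullback.snd f g).fiberι ((pullback.snd f g).base x')).stalkMap
      ((pullback.snd f g).asFiber x')).hom := (RingHom.injective_iff_ker_eq_bot _).mpr hker
  have h1 := isReduced_of_injective _ hinj
  rw [(pullback.snd f g).fiberι_asFiber x'] at h1
  exact h1

set_option maxHeartbeats 1600000 in
/-- The algebraic form of geometric reducedness of the fibre at `x`, on affine charts. -/
theorem grAt_chart [LocallyOfFiniteType f] (x : X) {V : Y.Opens} (hV : IsAffineOpen V)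
    {W : X.Opens} (hW : IsAffineOpen W) (hxW : x ∈ W) (hWV : W ≤ f ⁻¹ᵁ V)
    [Algebra Γ(Y, V) Γ(X, W)] (halg : algebraMap Γ(Y, V) Γ(X, W) = (f.appLE V W hWV).hom)
    (hred : FBase.IsGeomReducedAt (f.fiberToSpecResidueField (f.base x)) (f.asFiber x)) :
    GRAt Γ(Y, V) (hW.primeIdealOf ⟨x, hxW⟩).asIdeal := by
  intro K _ _ E _ _ _ _ _ _ _ n _ hn1
  have hV'V : (⊤ : (Spec (CommRingCat.of K)).Opens) ≤
      (Spec.map (CommRingCat.ofHom (algebraMap Γ(Y, V) K)) ≫ hV.fromSpec) ⁻¹ᵁ V := by
    intro z _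
    show (Spec.map (CommRingCat.ofHom (algebraMap Γ(Y, V) K)) ≫ hV.fromSpec) z ∈ V
    rw [Scheme.Hom.comp_apply]
    have : hV.fromSpec (Spec.map (CommRingCat.ofHom (algebraMap Γ(Y, V) K)) z) ∈
        Set.range hV.fromSpec := ⟨_, rfl⟩
    rwa [hV.range_fromSpec] at this
  have hstar : (Spec.map (CommRingCat.ofHom (algebraMap Γ(Y, V) K)) ≫ hV.fromSpec).appLE V ⊤
      hV'V = CommRingCat.ofHom (algebraMap Γ(Y, V) K) ≫
        (Scheme.ΓSpecIso (CommRingCat.of K)).inv := by
    rw [Scheme.Hom.comp_appLE, hV.fromSpec_app_self, Category.assoc]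
    erw [Scheme.Hom.map_appLE]
    have h1 : (Spec.map (CommRingCat.ofHom (algebraMap Γ(Y, V) K))).appLE ⊤ ⊤ le_top =
        (Spec.map (CommRingCat.ofHom (algebraMap Γ(Y, V) K))).appTop := by
      rw [Scheme.Hom.appTop, Scheme.Hom.app_eq_appLE]
      rfl
    have h2 := Scheme.ΓSpecIso_inv_naturality (CommRingCat.ofHom (algebraMap Γ(Y, V) K))
    rw [h1]
    exact h2.symm
  have hn2 : n.comap (algebraMap K E) = maximalIdeal K := by
    haveI : (n.comap (algebraMap K E)).IsPrime := Ideal.comap_isPrime _ n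
    rw [IsLocalRing.isField_iff_maximalIdeal_eq.mp (Field.toIsField K)]
    exact ((Ideal.eq_bot_or_top _).resolve_right (Ideal.IsPrime.ne_top inferInstance))
  exact nilpotent_chart_local f x hV hW hxW hWV halg K _ hV'V hstar
    (fun x' h1 _ => isReduced_stalk_snd_of_field f x hred K _ x' h1) E n hn1 hn2

end Groth.Agent.H11.GRAtSch
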