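import Groth.Agent.H11.GRNoeth
import Groth.Agent.H11.GRAtSch
import Groth.Agent.H51.GRAt_L2

/-!
# Flat + lfp + reduced base point + geometrically reduced fibre at `x` ⟹ `𝒪_{X,x}` reduced
-/

set_option autoImplicit false
set_option linter.style.haveILetI false
universe u
open CategoryTheory AlgebraicGeometry TensorProduct IsLocalRing
open Groth.Agent.H11.GRAtDefs

namespace Groth.Agent.H11.GRFinal

set_option maxHeartbeats 1600000 in
/-- EGA IV 11.3.?/12.1.?: reducedness at a point of a flat lfp morphism with reduced base point and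
geometrically reduced fibre (no Noetherian hypothesis). -/
theorem isReduced_stalk_of_flat_of_geomRed {X Y : Scheme.{u}} (f : X ⟶ Y) [Flat f]
    [LocallyOfFinitePresentation f] (x : X)
    (hy : _root_.IsReduced (Y.presheaf.stalk (f x)))
    (hred : FBase.IsGeomReducedAt (f.fiberToSpecResidueField (f.base x)) (f.asFiber x)) :
    _root_.IsReduced (X.presheaf.stalk x) := by
  classical
  obtain ⟨V, hV, hyV, -⟩ := exists_isAffineOpen_mem_and_subset (x := f x)
    (U := (⊤ : Y.Opens)) trivial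
  obtain ⟨W, hW, hxW, hWV⟩ := exists_isAffineOpen_mem_and_subset (x := x)
    (U := f ⁻¹ᵁ V) hyV
  letI aRC : Algebra Γ(Y, V) Γ(X, W) := (f.appLE V W hWV).hom.toAlgebra
  haveI : Algebra.FinitePresentation Γ(Y, V) Γ(X, W) := f.finitePresentation_appLE hV hW hWV
  haveI : Module.Flat Γ(Y, V) Γ(X, W) := f.flat_appLE hV hW hWV
  letI aRA₀ : Algebra Γ(Y, V) (Y.presheaf.stalk (f x)) :=
    Y.presheaf.algebra_section_stalk ⟨f x, hyV⟩
  haveI locA₀ := hV.isLocalization_stalk ⟨f x, hyV⟩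
  letI aCSx : Algebra Γ(X, W) (X.presheaf.stalk x) := X.presheaf.algebra_section_stalk ⟨x, hxW⟩
  haveI locSx := hW.isLocalization_stalk ⟨x, hxW⟩
  have hp𝔭 : (hW.primeIdealOf ⟨x, hxW⟩).asIdeal.comap (algebraMap Γ(Y, V) Γ(X, W)) =
      (hV.primeIdealOf ⟨f x, hyV⟩).asIdeal :=
    congrArg PrimeSpectrum.asIdeal (IsAffineOpen.comap_primeIdealOf_appLE V hV W hW hWV hxW)
  have haux : ∀ (I J : Ideal Γ(Y, V)) [I.IsPrime] [J.IsPrime], I = J →
      IsLocalization.AtPrime (Y.presheaf.stalk (f x)) J →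
      IsLocalization.AtPrime (Y.presheaf.stalk (f x)) I := by
    rintro I J _ _ rfl h
    exact h
  haveI : _root_.IsReduced (Y.presheaf.stalk (f x)) := hy
  haveI locA₀' : IsLocalization.AtPrime (Y.presheaf.stalk (f x))
      ((hW.primeIdealOf ⟨x, hxW⟩).asIdeal.comap (algebraMap Γ(Y, V) Γ(X, W))) :=
    haux _ _ hp𝔭 locA₀
  have hR : _root_.IsReduced (Localization.AtPrime
      ((hW.primeIdealOf ⟨x, hxW⟩).asIdeal.comap (algebraMap Γ(Y, V) Γ(X, W)))) := by
    let e := IsLocalization.algEquiv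
      ((hW.primeIdealOf ⟨x, hxW⟩).asIdeal.comap (algebraMap Γ(Y, V) Γ(X, W))).primeCompl
      (Localization.AtPrime
        ((hW.primeIdealOf ⟨x, hxW⟩).asIdeal.comap (algebraMap Γ(Y, V) Γ(X, W))))
      (Y.presheaf.stalk (f x))
    exact isReduced_of_injective e.toRingHom e.injective
  haveI : LocallyOfFiniteType f := inferInstance
  have hGR := Groth.Agent.H11.GRAtSch.grAt_chart f x hV hW hxW hWV rfl hred
  have h := Groth.Agent.H51.GRAtL2.isReduced_of_flat_of_grAt
    (hW.primeIdealOf ⟨x, hxW⟩).asIdeal hR hGR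
    (fun R' C' _ _ _ _ _ _ q' _ h1 h2 =>
      Groth.Agent.H11.GRNoeth.isReduced_of_flat_of_grAt_noeth q' h1 h2)
  haveI := h
  let e' := IsLocalization.algEquiv (hW.primeIdealOf ⟨x, hxW⟩).asIdeal.primeCompl
    (X.presheaf.stalk x) (Localization.AtPrime (hW.primeIdealOf ⟨x, hxW⟩).asIdeal)
  exact isReduced_of_injective e'.toRingHom e'.injective

end Groth.Agent.H11.GRFinal
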