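import Mathlib

/-!
# Two auxiliary facts on `S ⊗[R₀] B₀` for a subalgebra `S ⊆ T`
-/

set_option autoImplicit false
universe u
open TensorProduct

namespace Groth.Agent.H11.GRLimAux

/-- (P3-inj) -/
theorem map_val_injective_of_flat {R₀ T B₀ : Type u} [CommRing R₀] [CommRing T] [Algebra R₀ T]
    [CommRing B₀] [Algebra R₀ B₀] (S : Subalgebra R₀ T) [Module.Flat S (S ⊗[R₀] B₀)] :
    Function.Injective (Algebra.TensorProduct.map S.val (AlgHom.id R₀ B₀)) := by
  let ι : S →ₗ[S] T := Algebra.linearMap S T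
  have hι : Function.Injective ι := Subtype.val_injective
  have h1 := Module.Flat.rTensor_preserves_injective_linearMap (M := S ⊗[R₀] B₀) ι hι
  let e := TensorProduct.AlgebraTensorModule.cancelBaseChange R₀ S T T B₀
  have key : ∀ x : S ⊗[R₀] B₀, Algebra.TensorProduct.map S.val (AlgHom.id R₀ B₀) x =
      e (ι.rTensor _ ((TensorProduct.lid S _).symm x)) := by
    intro x
    induction x using TensorProduct.induction_on with
    | zero => simp
    | tmul s b => simp [e, ι, Subalgebra.smul_def]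
    | add x y hx hy => simp only [map_add, hx, hy]
  intro x y hxy
  rw [key, key] at hxy
  exact (TensorProduct.lid S _).symm.injective (h1 (e.injective hxy))

set_option synthInstance.maxHeartbeats 200000 in
/-- (P3-po) -/
theorem isPushout_subalgebra_tensor {R₀ T B₀ D : Type u} [CommRing R₀] [CommRing T] [Algebra R₀ T]
    [CommRing B₀] [Algebra R₀ B₀] [CommRing D] [Algebra T D] (e₀ : T ⊗[R₀] B₀ ≃ₐ[T] D)
    (S : Subalgebra R₀ T) [Algebra (S ⊗[R₀] B₀) D] [IsScalarTower S (S ⊗[R₀] B₀) D]
    (halg : ∀ x : S ⊗[R₀] B₀, algebraMap (S ⊗[R₀] B₀) D x =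
      e₀ (Algebra.TensorProduct.map S.val (AlgHom.id R₀ B₀) x)) :
    Algebra.IsPushout S T (S ⊗[R₀] B₀) D := by
  rw [Algebra.isPushout_iff]
  refine IsBaseChange.of_equiv
    ((TensorProduct.AlgebraTensorModule.cancelBaseChange R₀ S T T B₀) ≪≫ₗ e₀.toLinearEquiv)
    (fun x => ?_)
  show e₀ (TensorProduct.AlgebraTensorModule.cancelBaseChange R₀ S T T B₀ (1 ⊗ₜ x)) =
    algebraMap (S ⊗[R₀] B₀) D x
  rw [halg]
  congr 1
  induction x using TensorProduct.induction_on with
  | zero => rw [TensorProduct.tmul_zero, map_zero, map_zero]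
  | tmul s b => simp [Subalgebra.smul_def]
  | add x y hx hy => rw [TensorProduct.tmul_add, map_add, map_add, hx, hy]

end Groth.Agent.H11.GRLimAux
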