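import Groth.Agent.H11.UnivOpenFlatSch

/-!
# Valuative criterion of flatness at a point whose image has a reduced Noetherian local ring
(EGA IV 11.8.1), scheme level, no Noetherian hypothesis on the base
-/

set_option autoImplicit false
set_option linter.style.haveILetI false
universe u
open CategoryTheory CategoryTheory.Limits AlgebraicGeometry TopologicalSpace IsLocalRing TensorProduct

namespace Groth.Agent.H11.ValFlatSch2

open Groth.Agent.H11.ValFlatCore

/-- Variant of `flat_localizedModule_of_dvr`: only the local ring of the base at the image prime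
is assumed Noetherian. -/
theorem flat_localizedModule_of_dvr' {R C : Type u} [CommRing R] [CommRing C] [Algebra R C]
    [Algebra.FiniteType R C] (p : Ideal C) [p.IsPrime]
    (A₀ : Type u) [CommRing A₀] [Algebra R A₀]
    [IsLocalization.AtPrime A₀ (p.comap (algebraMap R C))] [IsReduced A₀] [IsNoetherianRing A₀]
    (P : Type u) [AddCommGroup P] [Module C P] [Module R P] [IsScalarTower R C P]
    [Module.Finite C P] (H : DVRHyp R p P) : Module.Flat R (LocalizedModule p.primeCompl P) := by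
  haveI : IsLocalRing A₀ := IsLocalization.AtPrime.isLocalRing A₀ (p.comap (algebraMap R C))
  haveI : Module.Flat R A₀ := IsLocalization.flat A₀ (p.comap (algebraMap R C)).primeCompl
  haveI : IsNoetherianRing (AdicCompletion (maximalIdeal A₀) A₀) :=
    Groth.Agent.Lead.isNoetherianRing_adicCompletion (maximalIdeal A₀)
      (maximalIdeal A₀).fg_of_isNoetherianRing
  haveI : IsScalarTower R A₀ (AdicCompletion (maximalIdeal A₀) A₀) :=
    .of_algebraMap_eq fun r => rfl
  exact core_abs2 p A₀ (IsLocalization.AtPrime.comap_maximalIdeal A₀ _)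
    (AdicCompletion (maximalIdeal A₀) A₀) P H

variable {X Y : Scheme.{u}} (f : X ⟶ Y)

set_option maxHeartbeats 1600000 in
/-- **EGA IV 11.8.1**, the non-trivial direction. -/
theorem flat_stalkMap_of_dvr_local [LocallyOfFiniteType f] (x : X)
    [IsNoetherianRing (Y.presheaf.stalk (f.base x))]
    [_root_.IsReduced (Y.presheaf.stalk (f.base x))]
    (h : ∀ (A' : Type u) [CommRing A'] [IsDomain A'] [IsDiscreteValuationRing A']
      (φ : (Y.presheaf.stalk (f.base x) : Type u) →+* A') [IsLocalHom φ],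
      ∀ x' : ↥(pullback f (Spec.map (CommRingCat.ofHom φ) ≫ Y.fromSpecStalk (f.base x))),
        (pullback.fst f _).base x' = x →
        (pullback.snd f _).base x' = IsLocalRing.closedPoint A' →
        ((pullback.snd f (Spec.map (CommRingCat.ofHom φ) ≫
          Y.fromSpecStalk (f.base x))).stalkMap x').hom.Flat) :
    (f.stalkMap x).hom.Flat := by
  classical
  obtain ⟨V, hV, hyV, -⟩ := exists_isAffineOpen_mem_and_subset (x := f x)
    (U := (⊤ : Y.Opens)) trivial
  obtain ⟨W, hW, hxW, hWV⟩ := exists_isAffineOpen_mem_and_subset (x := x)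
    (U := f ⁻¹ᵁ V) hyV
  letI aRC : Algebra Γ(Y, V) Γ(X, W) := (f.appLE V W hWV).hom.toAlgebra
  haveI : Algebra.FiniteType Γ(Y, V) Γ(X, W) := Scheme.Hom.finiteType_appLE f hV hW hWV
  letI aRA₀ : Algebra Γ(Y, V) (Y.presheaf.stalk (f x)) :=
    Y.presheaf.algebra_section_stalk ⟨f x, hyV⟩
  haveI locA₀ := hV.isLocalization_stalk ⟨f x, hyV⟩
  letI aCSx : Algebra Γ(X, W) (X.presheaf.stalk x) := X.presheaf.algebra_section_stalk ⟨x, hxW⟩
  haveI locSx := hW.isLocalization_stalk ⟨x, hxW⟩
  letI aA₀Sx : Algebra (Y.presheaf.stalk (f x)) (X.presheaf.stalk x) :=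
    (f.stalkMap x).hom.toAlgebra
  letI aRSx : Algebra Γ(Y, V) (X.presheaf.stalk x) :=
    ((algebraMap Γ(X, W) (X.presheaf.stalk x)).comp (algebraMap Γ(Y, V) Γ(X, W))).toAlgebra
  haveI tRCSx : IsScalarTower Γ(Y, V) Γ(X, W) (X.presheaf.stalk x) := .of_algebraMap_eq' rfl
  haveI tRA₀Sx : IsScalarTower Γ(Y, V) (Y.presheaf.stalk (f x)) (X.presheaf.stalk x) :=
    .of_algebraMap_eq (fun r => (Groth.Agent.H57.stalkMap_germ_appLE f hWV x hxW r).symm)
  have hp𝔭 : (hW.primeIdealOf ⟨x, hxW⟩).asIdeal.comap (algebraMap Γ(Y, V) Γ(X, W)) =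
      (hV.primeIdealOf ⟨f x, hyV⟩).asIdeal :=
    congrArg PrimeSpectrum.asIdeal (IsAffineOpen.comap_primeIdealOf_appLE V hV W hW hWV hxW)
  have haux : ∀ (I J : Ideal Γ(Y, V)) [I.IsPrime] [J.IsPrime], I = J →
      IsLocalization.AtPrime (Y.presheaf.stalk (f x)) J →
      IsLocalization.AtPrime (Y.presheaf.stalk (f x)) I := by
    rintro I J _ _ rfl h
    exact h
  have H : DVRHyp Γ(Y, V) (hW.primeIdealOf ⟨x, hxW⟩).asIdeal Γ(X, W) := by
    intro V' _ _ _ _ hmax E _ _ _ _ _ _ _ _ n _ hn1 hn2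
    rw [hp𝔭] at hmax
    -- the local homomorphism from the stalk
    have hunit : ∀ y : (hV.primeIdealOf ⟨f x, hyV⟩).asIdeal.primeCompl,
        IsUnit (algebraMap Γ(Y, V) V' y) := by
      intro y
      by_contra hy
      have h1 : algebraMap Γ(Y, V) V' y ∈ maximalIdeal V' := (mem_maximalIdeal _).mpr hy
      have h2 : (y : Γ(Y, V)) ∈ (maximalIdeal V').comap (algebraMap Γ(Y, V) V') := h1
      rw [hmax] at h2
      exact y.2 h2
    let φ : (Y.presheaf.stalk (f x) : Type u) →+* V' :=
      @IsLocalization.lift _ _ (hV.primeIdealOf ⟨f x, hyV⟩).asIdeal.primeCompl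
        (Y.presheaf.stalk (f x)) _ _ V' _ locA₀ _ hunit
    have hφ : ∀ r : Γ(Y, V), φ (algebraMap Γ(Y, V) (Y.presheaf.stalk (f x)) r) =
        algebraMap Γ(Y, V) V' r := fun r =>
      @IsLocalization.lift_eq _ _ (hV.primeIdealOf ⟨f x, hyV⟩).asIdeal.primeCompl
        (Y.presheaf.stalk (f x)) _ _ V' _ locA₀ _ hunit r
    haveI : IsLocalRing (Y.presheaf.stalk (f x)) := inferInstance
    haveI hloc : IsLocalHom φ := by
      refine ((IsLocalRing.local_hom_TFAE φ).out 0 4).mpr ?_
      have hc1 : ((maximalIdeal V').comap φ).comap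
          (algebraMap Γ(Y, V) (Y.presheaf.stalk (f x))) =
          (hV.primeIdealOf ⟨f x, hyV⟩).asIdeal := by
        rw [← hmax]
        ext r
        simp only [Ideal.mem_comap, hφ]
      have hc2 : (maximalIdeal (Y.presheaf.stalk (f x))).comap
          (algebraMap Γ(Y, V) (Y.presheaf.stalk (f x))) =
          (hV.primeIdealOf ⟨f x, hyV⟩).asIdeal :=
        @IsLocalization.AtPrime.comap_maximalIdeal _ _ (Y.presheaf.stalk (f x)) _ _
          (hV.primeIdealOf ⟨f x, hyV⟩).asIdeal _ locA₀ _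
      have hm1 := @IsLocalization.map_comap _ _ (hV.primeIdealOf ⟨f x, hyV⟩).asIdeal.primeCompl
        (Y.presheaf.stalk (f x)) _ _ locA₀ ((maximalIdeal V').comap φ)
      have hm2 := @IsLocalization.map_comap _ _ (hV.primeIdealOf ⟨f x, hyV⟩).asIdeal.primeCompl
        (Y.presheaf.stalk (f x)) _ _ locA₀ (maximalIdeal (Y.presheaf.stalk (f x)))
      rw [← hm1, ← hm2]
      congr 1
      exact hc1.trans hc2.symm
    have hV'V : (⊤ : (Spec (CommRingCat.of V')).Opens) ≤
        (Spec.map (CommRingCat.ofHom φ) ≫ Y.fromSpecStalk (f x)) ⁻¹ᵁ V := by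
      intro z _
      show (Spec.map (CommRingCat.ofHom φ) ≫ Y.fromSpecStalk (f x)) z ∈ V
      have hz : (Spec.map (CommRingCat.ofHom φ) ≫ Y.fromSpecStalk (f x)) z ⤳ f x := by
        have hmem : (Spec.map (CommRingCat.ofHom φ) ≫ Y.fromSpecStalk (f x)) z ∈
            Set.range (Y.fromSpecStalk (f x)) := ⟨Spec.map (CommRingCat.ofHom φ) z, rfl⟩
        rwa [Scheme.range_fromSpecStalk] at hmem
      exact hz.mem_open V.isOpen hyV
    have hstar : (Spec.map (CommRingCat.ofHom φ) ≫ Y.fromSpecStalk (f x)).appLE V ⊤ hV'V =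
        CommRingCat.ofHom (algebraMap Γ(Y, V) V') ≫
          (Scheme.ΓSpecIso (CommRingCat.of V')).inv := by
      have h0 : (Spec.map (CommRingCat.ofHom φ) ≫ Y.fromSpecStalk (f x)).appLE V ⊤ hV'V =
          Y.presheaf.germ V (f x) hyV ≫ CommRingCat.ofHom φ ≫
            (Scheme.ΓSpecIso (CommRingCat.of V')).inv := by
        rw [Scheme.Hom.comp_appLE, Scheme.fromSpecStalk_app hyV, Category.assoc, Category.assoc]
        erw [Scheme.Hom.map_appLE]
        have h1 : (Spec.map (CommRingCat.ofHom φ)).appLE ⊤ ⊤ le_top =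
            (Spec.map (CommRingCat.ofHom φ)).appTop := by
          rw [Scheme.Hom.appTop, Scheme.Hom.app_eq_appLE]
          rfl
        have h2 := Scheme.ΓSpecIso_inv_naturality (CommRingCat.ofHom φ)
        congr 1
        rw [h1]
        exact h2.symm
      have h3 : Y.presheaf.germ V (f x) hyV ≫ CommRingCat.ofHom φ =
          CommRingCat.ofHom (algebraMap Γ(Y, V) V') :=
        CommRingCat.hom_ext (RingHom.ext fun r => hφ r)
      rw [h0, ← h3]
      exact (Category.assoc _ _ _).symm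
    exact Groth.Agent.H11.UnivOpenFlatSch.dvrHyp_chart_aux f x hV hW hxW hWV rfl V' _ hV'V hstar
      (h V' φ) E n hn1 hn2
  have hcore : Module.Flat Γ(Y, V)
      (LocalizedModule (hW.primeIdealOf ⟨x, hxW⟩).asIdeal.primeCompl Γ(X, W)) := by
    haveI : IsLocalization.AtPrime (Y.presheaf.stalk (f x))
        ((hW.primeIdealOf ⟨x, hxW⟩).asIdeal.comap (algebraMap Γ(Y, V) Γ(X, W))) :=
      haux _ _ hp𝔭 locA₀
    exact flat_localizedModule_of_dvr' (R := Γ(Y, V)) (C := Γ(X, W))
      (hW.primeIdealOf ⟨x, hxW⟩).asIdeal (Y.presheaf.stalk (f x)) Γ(X, W) H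
  show Module.Flat (Y.presheaf.stalk (f x)) (X.presheaf.stalk x)
  haveI : Module.Flat Γ(Y, V) (X.presheaf.stalk x) := by
    let e := IsLocalizedModule.iso (hW.primeIdealOf ⟨x, hxW⟩).asIdeal.primeCompl
      (Algebra.linearMap Γ(X, W) (X.presheaf.stalk x))
    exact Module.Flat.of_linearEquiv (e.symm.restrictScalars Γ(Y, V))
  exact (@Module.flat_iff_of_isLocalization Γ(Y, V) (Y.presheaf.stalk (f x)) _ _ _
    (hV.primeIdealOf ⟨f x, hyV⟩).asIdeal.primeCompl locA₀ (X.presheaf.stalk x) _ _ _ _).mpr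
    inferInstance

end Groth.Agent.H11.ValFlatSch2
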