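import Groth.Agent.H2.GRAt_N1
import Groth.Agent.H2.GRAt_N3
import Groth.Agent.H11.ValFlatSch2
import Groth.Agent.H57.GenFlatten
import Groth.Agent.H77.RedAlg2
import Groth.Agent.H77.RedAlg3

/-!
# Flat + reduced base + geometrically reduced fibre ⟹ reduced (algebraic form), Noetherian case
-/

set_option autoImplicit false
set_option linter.style.haveILetI false
universe u
open TensorProduct IsLocalRing
open Groth.Agent.H11.GRAtDefs

namespace Groth.Agent.H11.GRNoeth

/-- `E ⊗[C] C ≃ E`, linear over a second ring `V` acting on `E`. -/
noncomputable def ridV (C V E : Type u) [CommRing C] [CommRing E] [Algebra C E] [CommRing V]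
    [Algebra V E] [SMulCommClass C V E] : E ⊗[C] C ≃ₗ[V] E :=
  { (TensorProduct.rid C E).toAddEquiv with
    map_smul' := fun v x => by
      show (TensorProduct.rid C E) (v • x) = v • (TensorProduct.rid C E) x
      induction x using TensorProduct.induction_on with
      | zero => simp
      | tmul a c =>
        rw [TensorProduct.smul_tmul', TensorProduct.rid_tmul, TensorProduct.rid_tmul, smul_comm]
      | add x y hx hy => rw [smul_add, map_add, map_add, smul_add, hx, hy] }

set_option maxHeartbeats 1600000 in
set_option synthInstance.maxHeartbeats 200000 in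
/-- The Noetherian case. -/
theorem isReduced_of_flat_of_grAt_noeth {R C : Type u} [CommRing R] [IsNoetherianRing R]
    [CommRing C] [Algebra R C] [Algebra.FiniteType R C] [Module.Flat R C] (q : Ideal C)
    [q.IsPrime] (hR : IsReduced (Localization.AtPrime (q.comap (algebraMap R C))))
    (hGR : GRAt R q) : IsReduced (Localization.AtPrime q) := by
  haveI : IsReduced (Localization.AtPrime (q.comap (algebraMap R C))) := hR
  -- the hypothesis of the valuative criterion for `C ⧸ nilradical C`
  have H : Groth.Agent.H11.ValFlatCore.DVRHyp R q (C ⧸ nilradical C) := by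
    intro V _ _ _ _ hmax E _ _ _ _ _ _ _ _ n _ hn1 hn2
    have hnil := Groth.Agent.H2.GRAtN1.nilpotent_of_grAt_dvr q hGR n hn1 hn2
    have hpo : Algebra.IsPushout R V C E :=
      Algebra.IsPushout.symm (inferInstance : Algebra.IsPushout R C V E)
    haveI hflE : Module.Flat V E := Module.Flat.isBaseChange (R := R) (M := C) (S := V) E hpo.out
    haveI : Module.Flat V (E ⊗[C] C) := Module.Flat.of_linearEquiv (ridV C V E)
    have hfl : Module.Flat V (LocalizedModule n.primeCompl (E ⊗[C] C)) :=
      Groth.Agent.H57.GenFlatten.flat_localizedModule_of_flat n.primeCompl (E ⊗[C] C)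
    exact Groth.Agent.H77.RedAlg2.flat_localizedModule_tensor_quotient n (nilradical C) le_rfl
      hnil hfl
  have hcore : Module.Flat R (LocalizedModule q.primeCompl (C ⧸ nilradical C)) :=
    Groth.Agent.H11.ValFlatSch2.flat_localizedModule_of_dvr' (R := R) (C := C) q
      (Localization.AtPrime (q.comap (algebraMap R C))) (C ⧸ nilradical C) H
  -- the algebra structure `A₀ → B`
  letI aA₀B : Algebra (Localization.AtPrime (q.comap (algebraMap R C))) (Localization.AtPrime q) :=
    (Localization.localRingHom (q.comap (algebraMap R C)) q (algebraMap R C) rfl).toAlgebra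
  haveI tR : IsScalarTower R (Localization.AtPrime (q.comap (algebraMap R C)))
      (Localization.AtPrime q) := .of_algebraMap_eq (fun r => by
    show algebraMap R (Localization.AtPrime q) r =
      Localization.localRingHom (q.comap (algebraMap R C)) q (algebraMap R C) rfl
        (algebraMap R (Localization.AtPrime (q.comap (algebraMap R C))) r)
    rw [Localization.localRingHom_to_map, IsScalarTower.algebraMap_apply R C])
  have hrad := Groth.Agent.H2.GRAtN3.isRadical_map_maximalIdeal_of_grAt q hGR
    (Localization.AtPrime (q.comap (algebraMap R C))) (Localization.AtPrime q)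
  haveI : IsNoetherianRing C := Algebra.FiniteType.isNoetherianRing R C
  haveI : IsNoetherianRing (Localization.AtPrime q) :=
    IsLocalization.isNoetherianRing q.primeCompl _ inferInstance
  exact Groth.Agent.H77.RedAlg3.isReduced_of_flat_quotient_nilradical (R := R) (C := C) q
    (A₀ := Localization.AtPrime (q.comap (algebraMap R C))) (B := Localization.AtPrime q)
    hcore hrad

end Groth.Agent.H11.GRNoeth
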