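import Groth.Agent.H11.GenFree

set_option autoImplicit false
set_option linter.style.haveILetI false

universe u

namespace Groth.Agent.H11

open MvPolynomial Pointwise

/-- Core step of generic freeness. -/
theorem GFree.core {R P S M : Type u} [CommRing R] [IsDomain R] [CommRing P] [IsDomain P]
    [Algebra R P] [CommRing S] [Algebra R S] [Algebra P S] [IsScalarTower R P S]
    [AddCommGroup M] [Module S M] [Module R M] [Module P M] [IsScalarTower R S M]
    [IsScalarTower P S M] [IsScalarTower R P M] [Module.Finite S M] {κ : Type}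
    (e : Module.Basis κ R P) (A : Subalgebra P S) (hA : A.toSubmodule.FG) (f : R) (hf : f ≠ 0)
    (hfS : ∀ s : S, ∃ k : ℕ, f ^ k • s ∈ A)
    (IH : ∀ (N : Type u) [AddCommGroup N] [Module P N] [Module R N] [IsScalarTower R P N]
      [Module.Finite P N] (g₀ : P), g₀ ≠ 0 → (∀ n : N, g₀ • n = 0) →
      ∃ f' : R, f' ≠ 0 ∧ GFree R N f') :
    ∃ f'' : R, f'' ≠ 0 ∧ GFree R M f'' := by
  classical
  obtain ⟨gm, hgm⟩ := (Module.Finite.fg_top : (⊤ : Submodule S M).FG)
  obtain ⟨T, hT⟩ := hA
  let M' : Submodule P M :=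
    Submodule.span P (Set.image2 (fun (t : S) (x : M) => t • x) (T : Set S) (gm : Set M))
  have hM'fg : M'.FG := Submodule.fg_span ((T.finite_toSet).image2 _ gm.finite_toSet)
  have hR : ∀ (r : R), ∀ m' ∈ M', r • m' ∈ M' := by
    intro r m' h
    rw [← algebraMap_smul P r m']
    exact M'.smul_mem _ h
  have h1 : ∀ a ∈ A.toSubmodule, ∀ x ∈ gm, a • x ∈ M' := by
    intro a ha x hx
    rw [← hT] at ha
    induction ha using Submodule.span_induction with
    | mem t ht => exact Submodule.subset_span ⟨t, ht, x, hx, rfl⟩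
    | zero => rw [zero_smul]; exact zero_mem _
    | add a b _ _ ha hb => rw [add_smul]; exact add_mem ha hb
    | smul p a _ ha => rw [smul_assoc]; exact Submodule.smul_mem _ _ ha
  have h2 : ∀ a ∈ A, ∀ m' ∈ M', a • m' ∈ M' := by
    intro a ha m' hm'
    induction hm' using Submodule.span_induction with
    | mem z hz =>
      obtain ⟨t, ht, x, hx, rfl⟩ := hz
      have htA : t ∈ A := by
        have : t ∈ A.toSubmodule := hT ▸ Submodule.subset_span ht
        exact this
      have : a • t • x = (a * t) • x := by rw [mul_smul]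
      rw [this]
      exact h1 _ (A.mul_mem ha htA) x hx
    | zero => rw [smul_zero]; exact zero_mem _
    | add u v _ _ hu hv => rw [smul_add]; exact add_mem hu hv
    | smul p u _ hu => rw [smul_comm]; exact Submodule.smul_mem _ _ hu
  have h3 : ∀ m : M, ∃ k : ℕ, f ^ k • m ∈ M' := by
    intro m
    have hm : m ∈ Submodule.span S (gm : Set M) := by rw [hgm]; trivial
    induction hm using Submodule.span_induction with
    | mem x hx =>
      refine ⟨0, ?_⟩
      rw [pow_zero, one_smul]
      have := h1 1 A.one_mem x hx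
      rwa [one_smul] at this
    | zero => exact ⟨0, by rw [smul_zero]; exact zero_mem _⟩
    | add u v _ _ hu hv =>
      obtain ⟨k₁, h₁⟩ := hu
      obtain ⟨k₂, h₂⟩ := hv
      refine ⟨k₁ + k₂, ?_⟩
      have e1 : f ^ (k₁ + k₂) • (u + v) = f ^ k₂ • (f ^ k₁ • u) + f ^ k₁ • (f ^ k₂ • v) := by
        rw [smul_add, pow_add, mul_smul, mul_smul, smul_comm (f ^ k₁) (f ^ k₂) u]
      rw [e1]
      exact add_mem (hR _ _ h₁) (hR _ _ h₂)
    | smul s u _ hu =>
      obtain ⟨k, hk⟩ := hu
      obtain ⟨j, hj⟩ := hfS s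
      refine ⟨j + k, ?_⟩
      have e1 : f ^ (j + k) • (s • u) = (f ^ j • s) • (f ^ k • u) := by
        rw [smul_assoc, smul_comm s (f ^ k) u, smul_smul, ← pow_add]
      rw [e1]
      exact h2 _ hj _ hk
  haveI : Module.Finite P M' := Module.Finite.iff_fg.mpr hM'fg
  obtain ⟨g₀, ι₀, _, b, hg₀, hb, hspan⟩ :=
    exists_free_sub (⊤ : Submodule P M') Module.Finite.fg_top
  let F : Submodule P M' := Submodule.span P (Set.range b)
  have hkill : ∀ n : M' ⧸ F, g₀ • n = 0 := by
    intro n
    obtain ⟨x, rfl⟩ := Submodule.Quotient.mk_surjective F n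
    rw [← Submodule.Quotient.mk_smul, Submodule.Quotient.mk_eq_zero]
    exact hspan x trivial
  obtain ⟨f', hf', hN⟩ := IH (M' ⧸ F) g₀ hg₀ hkill
  have hbF : LinearIndependent R (fun p : κ × ι₀ => e p.1 • b p.2) :=
    linearIndependent_smul e.linearIndependent hb
  have hrange : Set.range (fun p : κ × ι₀ => e p.1 • b p.2) = Set.range e • Set.range b := by
    ext z
    constructor
    · rintro ⟨⟨i, j⟩, rfl⟩
      exact Set.smul_mem_smul ⟨i, rfl⟩ ⟨j, rfl⟩
    · rintro ⟨_, ⟨i, rfl⟩, _, ⟨j, rfl⟩, rfl⟩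
      exact ⟨⟨i, j⟩, rfl⟩
  have hspanF : Submodule.span R (Set.range (fun p : κ × ι₀ => e p.1 • b p.2)) =
      F.restrictScalars R := by
    rw [hrange]
    exact Submodule.span_smul_of_span_eq_top e.span_eq _
  have hX : GFree R M' f' := GFree.of_ext F _ hbF hspanF hN
  exact ⟨f * f', mul_ne_zero hf hf', GFree.of_sub M' h3 hX⟩

theorem gfree_of_not_injective {R S M : Type u} [CommRing R] [CommRing S] [Algebra R S]
    [AddCommGroup M] [Module S M] [Module R M] [IsScalarTower R S M]
    (h : ¬ Function.Injective (algebraMap R S)) : ∃ f : R, f ≠ 0 ∧ GFree R M f := by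
  rw [injective_iff_map_eq_zero] at h
  push Not at h
  obtain ⟨c, hc, hc0⟩ := h
  exact ⟨c, hc0, GFree.of_killed c (fun m => by rw [← algebraMap_smul S c m, hc, zero_smul])⟩

/-- The inductive hypothesis shape. -/
def GFClaim (R : Type u) [CommRing R] [IsDomain R] (D : ℕ) : Prop :=
  ∀ (S M : Type u) [CommRing S] [Algebra R S] [Algebra.FiniteType R S] [AddCommGroup M]
    [Module S M] [Module R M] [IsScalarTower R S M] [Module.Finite S M],
    (∀ (k : ℕ) (y : Fin k → S), AlgebraicIndependent R y → k < D) →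
    ∃ f : R, f ≠ 0 ∧ GFree R M f

theorem gfree_of_torsion {R : Type u} [CommRing R] [IsDomain R] {d D : ℕ} (hdD : d ≤ D)
    (IH : GFClaim R D)
    (N : Type u) [AddCommGroup N] [Module (MvPolynomial (Fin d) R) N] [Module R N]
    [IsScalarTower R (MvPolynomial (Fin d) R) N] [Module.Finite (MvPolynomial (Fin d) R) N]
    (g₀ : MvPolynomial (Fin d) R) (hg₀ : g₀ ≠ 0) (hkill : ∀ n : N, g₀ • n = 0) :
    ∃ f : R, f ≠ 0 ∧ GFree R N f := by
  have htor : Module.IsTorsionBy (MvPolynomial (Fin d) R) N g₀ := fun n => hkill n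
  letI modQ : Module (MvPolynomial (Fin d) R ⧸ Ideal.span {g₀}) N := htor.module
  have hmk : ∀ (p : MvPolynomial (Fin d) R) (n : N),
      (Ideal.Quotient.mk (Ideal.span {g₀}) p) • n = p • n := fun p n => htor.mk_smul p n
  haveI tow1 : IsScalarTower (MvPolynomial (Fin d) R) (MvPolynomial (Fin d) R ⧸ Ideal.span {g₀}) N :=
    ⟨fun p s₁ n => by
      obtain ⟨p', rfl⟩ := Ideal.Quotient.mk_surjective s₁
      have e1 : p • (Ideal.Quotient.mk (Ideal.span {g₀}) p') =
          Ideal.Quotient.mk (Ideal.span {g₀}) (p * p') := rfl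
      rw [e1, hmk, hmk, mul_smul]⟩
  haveI tow2 : IsScalarTower R (MvPolynomial (Fin d) R ⧸ Ideal.span {g₀}) N :=
    ⟨fun r s₁ n => by
      obtain ⟨p', rfl⟩ := Ideal.Quotient.mk_surjective s₁
      have e1 : r • (Ideal.Quotient.mk (Ideal.span {g₀}) p') =
          Ideal.Quotient.mk (Ideal.span {g₀}) (r • p') := rfl
      rw [e1, hmk, hmk, smul_assoc]⟩
  haveI : Module.Finite (MvPolynomial (Fin d) R ⧸ Ideal.span {g₀}) N :=
    Module.Finite.of_restrictScalars_finite (MvPolynomial (Fin d) R) _ N
  exact IH (MvPolynomial (Fin d) R ⧸ Ideal.span {g₀}) N (fun k y hy =>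
    lt_of_lt_of_le (lt_of_algebraicIndependent_quotient g₀ hg₀ y hy) hdD)

theorem gfree_step {R : Type u} [CommRing R] [IsDomain R] (D : ℕ) (IH : GFClaim R D)
    (S M : Type u) [CommRing S] [Algebra R S] [Algebra.FiniteType R S] [AddCommGroup M]
    [Module S M] [Module R M] [IsScalarTower R S M] [Module.Finite S M]
    (hinj : Function.Injective (algebraMap R S))
    (hbound : ∀ (k : ℕ) (y : Fin k → S), AlgebraicIndependent R y → k < D + 1) :
    ∃ f : R, f ≠ 0 ∧ GFree R M f := by
  classical
  obtain ⟨d, y, S', hai, hyS', hS'fg, hint, f, hf0, hfS⟩ :=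
    noether_normalization_over_domain (R := R) (S := S) hinj
  have hdD : d ≤ D := Nat.lt_succ_iff.mp (hbound d y hai)
  letI algPS : Algebra (MvPolynomial (Fin d) R) S :=
    (aeval y : MvPolynomial (Fin d) R →ₐ[R] S).toRingHom.toAlgebra
  haveI towRPS : IsScalarTower R (MvPolynomial (Fin d) R) S :=
    IsScalarTower.of_algebraMap_eq (fun r => (aeval_C y r).symm)
  letI modPM : Module (MvPolynomial (Fin d) R) M :=
    Module.compHom M (algebraMap (MvPolynomial (Fin d) R) S)
  haveI towPSM : IsScalarTower (MvPolynomial (Fin d) R) S M :=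
    IsScalarTower.of_algebraMap_smul (fun _ _ => rfl)
  haveI towRPM : IsScalarTower R (MvPolynomial (Fin d) R) M :=
    IsScalarTower.of_algebraMap_smul (fun r m => by
      show algebraMap (MvPolynomial (Fin d) R) S (algebraMap R _ r) • m = r • m
      rw [← IsScalarTower.algebraMap_apply R (MvPolynomial (Fin d) R) S, algebraMap_smul])
  obtain ⟨gens, hgens⟩ := hS'fg
  have hintP : ∀ s ∈ S', IsIntegral (MvPolynomial (Fin d) R) s := by
    intro s hs
    let f₀ : MvPolynomial (Fin d) R →ₐ[R] Algebra.adjoin R (Set.range y) :=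
      (aeval y).codRestrict _ (fun p => by
        rw [Algebra.adjoin_range_eq_range_aeval]; exact ⟨p, rfl⟩)
    letI : Algebra (MvPolynomial (Fin d) R) (Algebra.adjoin R (Set.range y)) :=
      f₀.toRingHom.toAlgebra
    haveI : IsScalarTower (MvPolynomial (Fin d) R) (Algebra.adjoin R (Set.range y)) S :=
      IsScalarTower.of_algebraMap_eq (fun p => rfl)
    have hsurj : Function.Surjective
        (algebraMap (MvPolynomial (Fin d) R) (Algebra.adjoin R (Set.range y))) := by
      rintro ⟨x, hx⟩
      have hx' : x ∈ (aeval y : MvPolynomial (Fin d) R →ₐ[R] S).range := by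
        rw [← Algebra.adjoin_range_eq_range_aeval]; exact hx
      obtain ⟨p, rfl⟩ := hx'
      exact ⟨p, Subtype.ext rfl⟩
    haveI : Algebra.IsIntegral (MvPolynomial (Fin d) R) (Algebra.adjoin R (Set.range y)) :=
      Algebra.isIntegral_of_surjective hsurj
    exact isIntegral_trans s (hint s hs)
  have hAfg : (Algebra.adjoin (MvPolynomial (Fin d) R) (gens : Set S)).toSubmodule.FG :=
    fg_adjoin_of_finite gens.finite_toSet
      (fun x hx => hintP x (hgens ▸ Algebra.subset_adjoin hx))
  have hS'le : ∀ s ∈ S', s ∈ Algebra.adjoin (MvPolynomial (Fin d) R) (gens : Set S) := by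
    intro s hs
    rw [← hgens] at hs
    have hle : Algebra.adjoin R (gens : Set S) ≤
        (Algebra.adjoin (MvPolynomial (Fin d) R) (gens : Set S)).restrictScalars R :=
      Algebra.adjoin_le (fun x hx => Algebra.subset_adjoin hx)
    exact hle hs
  exact GFree.core (e := MvPolynomial.basisMonomials (Fin d) R)
    (Algebra.adjoin (MvPolynomial (Fin d) R) (gens : Set S)) hAfg f hf0
    (fun s => (hfS s).imp fun n hn => hS'le _ hn)
    (fun N _ _ _ _ _ g₀ hg₀ hkill => gfree_of_torsion hdD IH N g₀ hg₀ hkill)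

theorem gfClaim (R : Type u) [CommRing R] [IsDomain R] (D : ℕ) : GFClaim R D := by
  induction D with
  | zero =>
    intro S M _ _ _ _ _ _ _ _ hbound
    have hninj : ¬ Function.Injective (algebraMap R S) := fun hinj => by
      have := hbound 0 Fin.elim0 (algebraicIndependent_empty_type_iff.mpr hinj)
      exact absurd this (lt_irrefl 0)
    exact gfree_of_not_injective hninj
  | succ D IH =>
    intro S M _ _ _ _ _ _ _ _ hbound
    by_cases hinj : Function.Injective (algebraMap R S)
    · exact gfree_step D IH S M hinj hbound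
    · exact gfree_of_not_injective hinj

/-- **Generic freeness** over an arbitrary domain, in internal form. -/
theorem exists_gfree {R S M : Type u} [CommRing R] [IsDomain R] [CommRing S] [Algebra R S]
    [Algebra.FiniteType R S] [AddCommGroup M] [Module S M] [Module R M] [IsScalarTower R S M]
    [Module.Finite S M] : ∃ f : R, f ≠ 0 ∧ GFree R M f := by
  obtain ⟨n, φ, hφ⟩ := Algebra.FiniteType.iff_quotient_mvPolynomial''.mp
    (inferInstance : Algebra.FiniteType R S)
  refine gfClaim R (n + 1) S M (fun k y hy => ?_)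
  choose Y hY using fun i => hφ (y i)
  have hYai : AlgebraicIndependent R Y :=
    AlgebraicIndependent.of_comp φ (by
      have : (φ : MvPolynomial (Fin n) R → S) ∘ Y = y := funext hY
      rw [this]; exact hy)
  have h1 := hYai.lift_cardinalMk_le_trdeg
  rw [MvPolynomial.trdeg_of_isDomain] at h1
  have h2 : k ≤ n := by simpa using h1
  exact Nat.lt_succ_of_le h2

end Groth.Agent.H11
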