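import Groth.Agent.H11.GenericFP
import Mathlib

set_option autoImplicit false
set_option linter.style.haveILetI false

universe u

namespace Groth.Agent.H11

open MvPolynomial

/-- `M` is free over `R` after inverting `f`, expressed inside `M`: an `R`-linearly independent family
spanning `M` up to multiplication by powers of `f`. -/
def GFree (R : Type u) (M : Type u) [CommRing R] [AddCommGroup M] [Module R M] (f : R) : Prop :=
  ∃ (ι : Type u) (b : ι → M), LinearIndependent R b ∧
    ∀ m : M, ∃ k : ℕ, f ^ k • m ∈ Submodule.span R (Set.range b)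

theorem GFree.of_killed {R M : Type u} [CommRing R] [AddCommGroup M] [Module R M] (c : R)
    (h : ∀ m : M, c • m = 0) : GFree R M c :=
  ⟨PEmpty, PEmpty.elim, linearIndependent_empty_type,
    fun m => ⟨1, by rw [pow_one, h m]; exact zero_mem _⟩⟩

theorem GFree.of_sub {R P M : Type u} [CommRing R] [CommRing P] [Algebra R P] [AddCommGroup M]
    [Module P M] [Module R M] [IsScalarTower R P M] (M' : Submodule P M) {f f' : R}
    (h3 : ∀ m : M, ∃ k : ℕ, f ^ k • m ∈ M') (hX : GFree R M' f') : GFree R M (f * f') := by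
  obtain ⟨ι, b, hb, hsp⟩ := hX
  let inc : M' →ₗ[R] M :=
    { toFun := fun x => (x : M), map_add' := fun _ _ => rfl, map_smul' := fun _ _ => rfl }
  have hinc : Function.Injective inc := Subtype.val_injective
  refine ⟨ι, fun i => (b i : M), ?_, ?_⟩
  · exact hb.map' inc (LinearMap.ker_eq_bot.mpr hinc)
  · intro m
    obtain ⟨k, hk⟩ := h3 m
    obtain ⟨j, hj⟩ := hsp ⟨f ^ k • m, hk⟩
    refine ⟨k + j, ?_⟩
    have h4 : f' ^ j • f ^ k • m ∈ Submodule.span R (Set.range fun i => (b i : M)) := by
      have h5 := Submodule.mem_map_of_mem (f := inc) hj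
      rw [Submodule.map_span, ← Set.range_comp] at h5
      exact h5
    have e : (f * f') ^ (k + j) • m = (f ^ j * f' ^ k) • (f' ^ j • f ^ k • m) := by
      rw [smul_smul, smul_smul]; congr 1; ring
    rw [e]; exact Submodule.smul_mem _ _ h4

theorem GFree.of_ext {R P X : Type u} [CommRing R] [CommRing P] [Algebra R P] [AddCommGroup X]
    [Module P X] [Module R X] [IsScalarTower R P X] (F : Submodule P X) {ιF : Type u}
    (bF : ιF → X) (hbF : LinearIndependent R bF)
    (hspan : Submodule.span R (Set.range bF) = F.restrictScalars R) {f' : R}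
    (hN : GFree R (X ⧸ F) f') : GFree R X f' := by
  obtain ⟨ιN, bN, hbN, hspN⟩ := hN
  choose l hl using fun j => Submodule.Quotient.mk_surjective F (bN j)
  let qm : X →ₗ[R] X ⧸ F :=
    { toFun := Submodule.Quotient.mk, map_add' := fun _ _ => rfl,
      map_smul' := fun r x => Submodule.Quotient.mk_smul F r x }
  have hq : ∀ x, qm x = Submodule.Quotient.mk x := fun _ => rfl
  have hl' : LinearIndependent R l := by
    apply LinearIndependent.of_comp qm
    have : qm ∘ l = bN := funext hl
    rw [this]; exact hbN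
  have hsum : ∀ c : ιN →₀ R, qm (c.sum fun i a => a • l i) = c.sum fun i a => a • bN i := by
    intro c
    rw [map_finsuppSum]
    apply Finsupp.sum_congr
    intro i _
    rw [map_smul, hq, hl]
  have hdisj : Disjoint (Submodule.span R (Set.range bF)) (Submodule.span R (Set.range l)) := by
    rw [Submodule.disjoint_def]
    intro x hxF hxl
    rw [hspan] at hxF
    obtain ⟨c, rfl⟩ := (Finsupp.mem_span_range_iff_exists_finsupp).mp hxl
    have h0 : qm (c.sum fun i a => a • l i) = 0 := by
      rw [hq, Submodule.Quotient.mk_eq_zero]; exact hxF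
    rw [hsum] at h0
    have hc : c = 0 := (linearIndependent_iff.mp hbN) c (by
      rw [Finsupp.linearCombination_apply]; exact h0)
    rw [hc]; simp
  refine ⟨ιF ⊕ ιN, Sum.elim bF l, hbF.sum_type hl' hdisj, ?_⟩
  intro x
  obtain ⟨k, hk⟩ := hspN (Submodule.Quotient.mk x)
  refine ⟨k, ?_⟩
  obtain ⟨c, hc⟩ := (Finsupp.mem_span_range_iff_exists_finsupp).mp hk
  rw [Set.Sum.elim_range, Submodule.span_union]
  have hx : f' ^ k • x - (c.sum fun i a => a • l i) ∈ F := by
    rw [← Submodule.Quotient.mk_eq_zero, Submodule.Quotient.mk_sub, ← hq (c.sum _), hsum, hc,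
      Submodule.Quotient.mk_smul, sub_self]
  have hx' : f' ^ k • x - (c.sum fun i a => a • l i) ∈ Submodule.span R (Set.range bF) := by
    rw [hspan]; exact hx
  have hl2 : (c.sum fun i a => a • l i) ∈ Submodule.span R (Set.range l) :=
    (Finsupp.mem_span_range_iff_exists_finsupp).mpr ⟨c, rfl⟩
  have := Submodule.add_mem_sup hx' hl2
  rwa [sub_add_cancel] at this

/-- Free after localization, for any model of the localization. -/
theorem GFree.free_of_isLocalizedModule {R M : Type u} [CommRing R] [AddCommGroup M] [Module R M]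
    {f : R} (h : GFree R M f) {Rf Mf : Type*} [CommRing Rf] [Algebra R Rf]
    [IsLocalization.Away f Rf] [AddCommGroup Mf] [Module R Mf] [Module Rf Mf]
    [IsScalarTower R Rf Mf] (φ : M →ₗ[R] Mf) [IsLocalizedModule (Submonoid.powers f) φ] :
    Module.Free Rf Mf := by
  obtain ⟨ι, b, hb, hsp⟩ := h
  have hli : LinearIndependent Rf (φ ∘ b) := hb.of_isLocalizedModule Rf (Submonoid.powers f) φ
  have hspan : ⊤ ≤ Submodule.span Rf (Set.range (φ ∘ b)) := by
    intro x _
    obtain ⟨⟨m, s⟩, hs⟩ := IsLocalizedModule.surj (Submonoid.powers f) φ x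
    obtain ⟨k, hk⟩ := hsp m
    have h1 : φ (f ^ k • m) ∈ Submodule.span Rf (Set.range (φ ∘ b)) := by
      have h2 := Submodule.mem_map_of_mem (f := φ) hk
      rw [Submodule.map_span, ← Set.range_comp] at h2
      exact Submodule.span_subset_span R Rf _ h2
    obtain ⟨s, n, rfl⟩ := s
    have hw : IsUnit (algebraMap R Rf (f ^ (k + n))) :=
      IsLocalization.map_units Rf (⟨f ^ (k + n), ⟨k + n, rfl⟩⟩ : Submonoid.powers f)
    have hs' : f ^ n • x = φ m := hs
    have hwx : algebraMap R Rf (f ^ (k + n)) • x = φ (f ^ k • m) := by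
      rw [algebraMap_smul, pow_add, mul_smul, map_smul, hs']
    have e : x = (↑hw.unit⁻¹ : Rf) • (algebraMap R Rf (f ^ (k + n)) • x) := by
      rw [smul_smul, IsUnit.val_inv_mul, one_smul]
    rw [e, hwx]; exact Submodule.smul_mem _ _ h1
  exact Module.Free.of_basis (Module.Basis.mk hli hspan)

/-- torsion elements of a generically free module are killed by powers of `f`. -/
theorem GFree.torsion_killed {R M : Type u} [CommRing R] [IsDomain R] [AddCommGroup M]
    [Module R M] {f : R} (h : GFree R M f) (x : M) (r : R) (hr : r ≠ 0) (hx : r • x = 0) :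
    ∃ k : ℕ, f ^ k • x = 0 := by
  obtain ⟨ι, b, hb, hsp⟩ := h
  obtain ⟨k, hk⟩ := hsp x
  refine ⟨k, ?_⟩
  obtain ⟨c, hc⟩ := (Finsupp.mem_span_range_iff_exists_finsupp).mp hk
  have h1 : (r • c).sum (fun i a => a • b i) = 0 := by
    have : (r • c).sum (fun i a => a • b i) = r • c.sum (fun i a => a • b i) := by
      rw [Finsupp.sum_smul_index (fun i => zero_smul R (b i)), Finsupp.smul_sum]
      apply Finsupp.sum_congr
      intro i _
      rw [mul_smul]
    rw [this, hc, smul_comm, hx, smul_zero]
  have h2 : r • c = 0 := (linearIndependent_iff.mp hb) (r • c) (by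
    rw [Finsupp.linearCombination_apply]; exact h1)
  have h3 : c = 0 := by
    ext i
    have := DFunLike.congr_fun h2 i
    simpa [hr] using this
  rw [← hc, h3]; simp

theorem lt_of_algebraicIndependent_quotient {R : Type u} [CommRing R] [IsDomain R] {d k : ℕ}
    (g₀ : MvPolynomial (Fin d) R) (hg₀ : g₀ ≠ 0)
    (y : Fin k → MvPolynomial (Fin d) R ⧸ Ideal.span {g₀}) (hy : AlgebraicIndependent R y) :
    k < d := by
  by_contra hlt
  rw [not_lt] at hlt
  have hy' : AlgebraicIndependent R (y ∘ Fin.castLE hlt) := hy.comp _ (Fin.castLE_injective hlt)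
  choose Y hY using fun i => Ideal.Quotient.mk_surjective ((y ∘ Fin.castLE hlt) i)
  have hYc : (Ideal.Quotient.mkₐ R (Ideal.span {g₀})) ∘ Y = y ∘ Fin.castLE hlt := funext hY
  have hYai : AlgebraicIndependent R Y :=
    AlgebraicIndependent.of_comp (Ideal.Quotient.mkₐ R (Ideal.span {g₀})) (by rw [hYc]; exact hy')
  have hTB : IsTranscendenceBasis R Y :=
    hYai.isTranscendenceBasis_of_lift_trdeg_le_of_finite (by simp)
  have halg := hTB.isAlgebraic
  obtain ⟨p, hp0, hp⟩ := halg.isAlgebraic g₀
  obtain ⟨p', hpp', hXp'⟩ := Polynomial.exists_eq_pow_rootMultiplicity_mul_and_not_dvd p hp0 0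
  rw [Polynomial.C_0, sub_zero] at hpp' hXp'
  have hp'0 : Polynomial.aeval g₀ p' = 0 := by
    have h1 := congrArg (Polynomial.aeval g₀) hpp'
    rw [hp, map_mul, map_pow, Polynomial.aeval_X] at h1
    exact (mul_eq_zero.mp h1.symm).resolve_left (pow_ne_zero _ hg₀)
  have ha₀ : p'.coeff 0 ≠ 0 := fun h => hXp' (Polynomial.X_dvd_iff.mpr h)
  obtain ⟨p'', hp''⟩ := Polynomial.X_dvd_sub_C (p := p')
  have h2 : algebraMap (Algebra.adjoin R (Set.range Y)) (MvPolynomial (Fin d) R) (p'.coeff 0) +
      g₀ * Polynomial.aeval g₀ p'' = 0 := by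
    have e : p' = Polynomial.C (p'.coeff 0) + Polynomial.X * p'' := by rw [← hp'']; ring
    rw [e] at hp'0
    simpa using hp'0
  have hmem : algebraMap (Algebra.adjoin R (Set.range Y)) (MvPolynomial (Fin d) R) (p'.coeff 0) ∈
      Ideal.span {g₀} := by
    rw [Ideal.mem_span_singleton']
    refine ⟨-(Polynomial.aeval g₀ p''), ?_⟩
    rw [neg_mul, mul_comm]
    exact (eq_neg_of_add_eq_zero_left h2).symm
  have hrange : ((p'.coeff 0 : Algebra.adjoin R (Set.range Y)) : MvPolynomial (Fin d) R) ∈
      (aeval Y : MvPolynomial (Fin d) R →ₐ[R] MvPolynomial (Fin d) R).range := by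
    rw [← Algebra.adjoin_range_eq_range_aeval]; exact (p'.coeff 0).2
  obtain ⟨h, hh⟩ := hrange
  have hh : aeval Y h = ((p'.coeff 0 : Algebra.adjoin R (Set.range Y)) : MvPolynomial (Fin d) R) := hh
  have h3 : aeval (y ∘ Fin.castLE hlt) h = 0 := by
    have h4 : (Ideal.Quotient.mkₐ R (Ideal.span {g₀})) (aeval Y h) = 0 := by
      rw [hh]; exact Ideal.Quotient.eq_zero_iff_mem.mpr hmem
    have h5 : (Ideal.Quotient.mkₐ R (Ideal.span {g₀})).comp (aeval Y) =
        aeval (y ∘ Fin.castLE hlt) := by
      rw [MvPolynomial.comp_aeval]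
      congr 1
    rw [← h5]; exact h4
  have h6 : h = 0 := hy' (by rw [h3, map_zero])
  apply ha₀
  apply Subtype.ext
  rw [h6, map_zero] at hh
  exact hh.symm

end Groth.Agent.H11
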