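import Groth.Agent.H11.GenFree3
import Mathlib

set_option autoImplicit false
set_option linter.style.haveILetI false

universe u

namespace Groth.Agent.H11

/-- relative generic freeness of `Z / Y`, expressed inside the ambient module. -/
def GFRel (R : Type u) {N : Type u} [CommRing R] [AddCommGroup N] [Module R N]
    (Y Z : Submodule R N) (f : R) : Prop :=
  ∃ (ι : Type u) (b : ι → N), (∀ i, b i ∈ Z) ∧
    (∀ c : ι →₀ R, Finsupp.linearCombination R b c ∈ Y → c = 0) ∧
    ∀ z ∈ Z, ∃ (k : ℕ) (c : ι →₀ R), f ^ k • z - Finsupp.linearCombination R b c ∈ Y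

theorem lc_mem {R N ι : Type*} [CommRing R] [AddCommGroup N] [Module R N] (Z : Submodule R N)
    {b : ι → N} (hb : ∀ i, b i ∈ Z) (c : ι →₀ R) : Finsupp.linearCombination R b c ∈ Z := by
  rw [Finsupp.linearCombination_apply, Finsupp.sum]
  exact Submodule.sum_mem _ (fun i _ => Submodule.smul_mem _ _ (hb i))

theorem GFRel.of_dvd {R N : Type u} [CommRing R] [AddCommGroup N] [Module R N]
    {Y Z : Submodule R N} {f g : R} (h : GFRel R Y Z f) (hfg : f ∣ g) : GFRel R Y Z g := by
  obtain ⟨ι, b, hbZ, hind, hsp⟩ := h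
  obtain ⟨e, rfl⟩ := hfg
  refine ⟨ι, b, hbZ, hind, fun z hz => ?_⟩
  obtain ⟨k, c, hc⟩ := hsp z hz
  refine ⟨k, e ^ k • c, ?_⟩
  have : (f * e) ^ k • z - Finsupp.linearCombination R b (e ^ k • c) =
      e ^ k • (f ^ k • z - Finsupp.linearCombination R b c) := by
    rw [map_smul, smul_sub, smul_smul, mul_pow, mul_comm]
  rw [this]; exact Y.smul_mem _ hc

theorem GFRel.top_top {R N : Type u} [CommRing R] [AddCommGroup N] [Module R N] (f : R) :
    GFRel R (⊤ : Submodule R N) ⊤ f :=
  ⟨PEmpty, PEmpty.elim, fun i => i.elim, fun _ _ => Subsingleton.elim _ _,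
    fun _ _ => ⟨0, 0, Submodule.mem_top⟩⟩

theorem GFRel.chain {R N : Type u} [CommRing R] [AddCommGroup N] [Module R N]
    (Y : ℕ → Submodule R N) (hmono : Monotone Y) (W : Submodule R N) (hW : ∀ d, Y d ≤ W)
    (hW' : ∀ w ∈ W, ∃ d, w ∈ Y d) {f : R} (h : ∀ d, GFRel R (Y d) (Y (d + 1)) f) :
    GFRel R (Y 0) W f := by
  classical
  choose ι b hbmem hbind hbspan using h
  let B : (Σ d, ι d) → N := fun x => b x.1 x.2
  refine ⟨Σ d, ι d, B, fun x => hW _ (hbmem x.1 x.2), ?_, ?_⟩
  · intro c hc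
    by_contra hne
    obtain ⟨x, hx⟩ : ∃ x, c x ≠ 0 := by
      by_contra hall
      push Not at hall
      exact hne (Finsupp.ext hall)
    have hxs : x.1 ∈ c.splitSupport := by
      rw [Finsupp.mem_splitSupport_iff_nonzero]
      intro h0
      apply hx
      have := DFunLike.congr_fun h0 x.2
      rwa [Finsupp.split_apply] at this
    obtain ⟨D, hDs, hDmax⟩ : ∃ D ∈ c.splitSupport, ∀ d ∈ c.splitSupport, d ≤ D :=
      ⟨_, Finset.max'_mem _ ⟨x.1, hxs⟩, fun d hd => Finset.le_max' _ d hd⟩
    have hsum : Finsupp.linearCombination R B c =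
        ∑ d ∈ c.splitSupport, Finsupp.linearCombination R (b d) (c.split d) := by
      rw [Finsupp.linearCombination_apply, Finsupp.sigma_sum]
      apply Finset.sum_congr rfl
      intro d _
      rw [Finsupp.linearCombination_apply]
    rw [hsum, ← Finset.add_sum_erase _ _ hDs] at hc
    have hrest : ∑ d ∈ c.splitSupport.erase D,
        Finsupp.linearCombination R (b d) (c.split d) ∈ Y D := by
      apply Submodule.sum_mem
      intro d hd
      have hdD : d < D := lt_of_le_of_ne (hDmax d (Finset.mem_of_mem_erase hd))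
        (Finset.ne_of_mem_erase hd)
      exact hmono (Nat.succ_le_of_lt hdD) (lc_mem _ (hbmem d) _)
    have hc' : Finsupp.linearCombination R (b D) (c.split D) ∈ Y D := by
      have := Submodule.sub_mem _ (hmono (Nat.zero_le D) hc) hrest
      rwa [add_sub_cancel_right] at this
    exact (Finsupp.mem_splitSupport_iff_nonzero c D).mp hDs (hbind D _ hc')
  · have key : ∀ d, ∀ z ∈ Y d, ∃ (k : ℕ) (c : (Σ d, ι d) →₀ R),
        f ^ k • z - Finsupp.linearCombination R B c ∈ Y 0 := by
      intro d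
      induction d with
      | zero => intro z hz; exact ⟨0, 0, by simpa using hz⟩
      | succ d ih =>
        intro z hz
        obtain ⟨k, cd, hcd⟩ := hbspan d z hz
        obtain ⟨k', c', hc'⟩ := ih _ hcd
        refine ⟨k' + k, c' + f ^ k' • Finsupp.mapDomain (Sigma.mk d) cd, ?_⟩
        have e : Finsupp.linearCombination R B (Finsupp.mapDomain (Sigma.mk d) cd) =
            Finsupp.linearCombination R (b d) cd := by
          rw [Finsupp.linearCombination_mapDomain]; rfl
        have e2 : f ^ (k' + k) • z - Finsupp.linearCombination R B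
            (c' + f ^ k' • Finsupp.mapDomain (Sigma.mk d) cd) =
            f ^ k' • (f ^ k • z - Finsupp.linearCombination R (b d) cd) -
              Finsupp.linearCombination R B c' := by
          rw [map_add, map_smul, e, pow_add, mul_smul, smul_sub]; abel
        rw [e2]; exact hc'
    intro w hw
    obtain ⟨d, hd⟩ := hW' w hw
    exact key d w hd

theorem GFRel.of_gfree {R N X₀ X : Type u} [CommRing R] [AddCommGroup N] [Module R N]
    [AddCommGroup X₀] [Module R X₀] [AddCommGroup X] [Module R X] {Y Z : Submodule R N} {f : R}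
    (θ : X₀ →ₗ[R] N) (π : X₀ →ₗ[R] X) (hπ : Function.Surjective π)
    (h1 : ∀ x, θ x ∈ Z) (h2 : ∀ x, θ x ∈ Y ↔ π x = 0) (h3 : ∀ z ∈ Z, ∃ x, z - θ x ∈ Y)
    (h : GFree R X f) : GFRel R Y Z f := by
  obtain ⟨ι, bb, hb, hsp⟩ := h
  choose b₀ hb₀ using fun i => hπ (bb i)
  have hπb : ⇑π ∘ b₀ = bb := funext hb₀
  refine ⟨ι, ⇑θ ∘ b₀, fun i => h1 _, ?_, ?_⟩
  · intro c hc
    rw [← Finsupp.apply_linearCombination, h2, Finsupp.apply_linearCombination, hπb] at hc
    exact (linearIndependent_iff.mp hb) c hc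
  · intro z hz
    obtain ⟨x, hx⟩ := h3 z hz
    obtain ⟨k, hk⟩ := hsp (π x)
    obtain ⟨c, hc⟩ := (Finsupp.mem_span_range_iff_exists_finsupp).mp hk
    refine ⟨k, c, ?_⟩
    have h4 : π (f ^ k • x - Finsupp.linearCombination R b₀ c) = 0 := by
      rw [map_sub, map_smul, Finsupp.apply_linearCombination, hπb,
        Finsupp.linearCombination_apply, hc, sub_self]
    have h5 := (h2 _).mpr h4
    rw [map_sub, map_smul, Finsupp.apply_linearCombination] at h5
    have e : f ^ k • z - Finsupp.linearCombination R (⇑θ ∘ b₀) c =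
        f ^ k • (z - θ x) + (f ^ k • θ x - Finsupp.linearCombination R (⇑θ ∘ b₀) c) := by
      rw [smul_sub]; abel
    rw [e]
    exact Y.add_mem (Y.smul_mem _ hx) h5

theorem GFRel.to_gfree {R N : Type u} [CommRing R] [AddCommGroup N] [Module R N]
    (Y : Submodule R N) {f : R} (h : GFRel R Y ⊤ f) : GFree R (N ⧸ Y) f := by
  obtain ⟨ι, b, -, hind, hsp⟩ := h
  refine ⟨ι, ⇑Y.mkQ ∘ b, ?_, ?_⟩
  · rw [linearIndependent_iff]
    intro c hc
    rw [← Finsupp.apply_linearCombination, Submodule.mkQ_apply,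
      Submodule.Quotient.mk_eq_zero] at hc
    exact hind c hc
  · intro m
    obtain ⟨z, rfl⟩ := Submodule.Quotient.mk_surjective Y m
    obtain ⟨k, c, hc⟩ := hsp z Submodule.mem_top
    refine ⟨k, ?_⟩
    rw [Finsupp.mem_span_range_iff_exists_finsupp]
    refine ⟨c, ?_⟩
    rw [← Finsupp.linearCombination_apply, ← Finsupp.apply_linearCombination,
      Submodule.mkQ_apply, ← Submodule.Quotient.mk_smul, eq_comm, ← sub_eq_zero,
      ← Submodule.Quotient.mk_sub, Submodule.Quotient.mk_eq_zero]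
    exact hc

/-- two-step filtration used to deduce transitivity from the chain lemma -/
def twoStep {R N : Type u} [CommRing R] [AddCommGroup N] [Module R N] (Y Z : Submodule R N) :
    ℕ → Submodule R N
  | 0 => Y
  | 1 => Z
  | _ => ⊤

theorem GFRel.trans {R N : Type u} [CommRing R] [AddCommGroup N] [Module R N]
    {Y Z : Submodule R N} (hYZ : Y ≤ Z) {f g : R} (h1 : GFRel R Y Z f) (h2 : GFRel R Z ⊤ g) :
    GFRel R Y ⊤ (f * g) := by
  have hmono : Monotone (twoStep Y Z) := by
    apply monotone_nat_of_le_succ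
    intro d
    match d with
    | 0 => exact hYZ
    | 1 => exact le_top
    | (d + 2) => exact le_rfl
  refine GFRel.chain (twoStep Y Z) hmono ⊤ (fun d => le_top)
    (fun w _ => ⟨2, Submodule.mem_top⟩) (fun d => ?_)
  match d with
  | 0 => exact h1.of_dvd (Dvd.intro _ rfl)
  | 1 => exact h2.of_dvd (Dvd.intro_left _ rfl)
  | (d + 2) => exact GFRel.top_top _

section Core

variable {A N : Type u} [CommRing A] [AddCommGroup N] [Module A N]

/-- the filtration `N_d = M₀ + T M₀ + ... + T^d M₀` -/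
def filt (M₀ : Submodule A N) (T : N →ₗ[A] N) : ℕ → Submodule A N
  | 0 => M₀
  | (d + 1) => filt M₀ T d ⊔ M₀.map (T ^ (d + 1))

theorem filt_succ (M₀ : Submodule A N) (T : N →ₗ[A] N) (d : ℕ) :
    filt M₀ T (d + 1) = filt M₀ T d ⊔ M₀.map (T ^ (d + 1)) := rfl

theorem filt_mono (M₀ : Submodule A N) (T : N →ₗ[A] N) : Monotone (filt M₀ T) :=
  monotone_nat_of_le_succ (fun d => by rw [filt_succ]; exact le_sup_left)

theorem map_filt_le (M₀ : Submodule A N) (T : N →ₗ[A] N) (d : ℕ) :
    (filt M₀ T d).map T ≤ filt M₀ T (d + 1) := by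
  induction d with
  | zero =>
    rw [filt_succ]
    have : filt M₀ T 0 = M₀ := rfl
    rw [this, zero_add, pow_one]; exact le_sup_right
  | succ d ih =>
    rw [filt_succ M₀ T (d + 1), filt_succ M₀ T d, Submodule.map_sup]
    apply sup_le_sup
    · rw [← filt_succ]; exact ih
    · rw [← Submodule.map_comp, pow_succ' T (d + 1)]
      exact le_rfl

variable {R : Type u} [CommRing R] [IsDomain R] [Algebra R A] [Algebra.FiniteType R A]
  [IsNoetherianRing A] [Module R N] [IsScalarTower R A N]

theorem core_filt (M₀ : Submodule A N) (hM₀ : M₀.FG) (T : N →ₗ[A] N) :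
    ∃ f : R, f ≠ 0 ∧ ∀ d, GFRel R ((filt M₀ T d).restrictScalars R)
      ((filt M₀ T (d + 1)).restrictScalars R) f := by
  classical
  haveI : IsNoetherian A M₀ := isNoetherian_of_fg_of_noetherian M₀ hM₀
  haveI : Module.Finite A M₀ := Module.Finite.iff_fg.mpr hM₀
  let θ : ℕ → (M₀ →ₗ[A] N) := fun d => (T ^ (d + 1)).comp M₀.subtype
  let K : ℕ → Submodule A M₀ := fun d => (filt M₀ T d).comap (θ d)
  have hKmem : ∀ d (x : M₀), x ∈ K d ↔ (T ^ (d + 1)) (x : N) ∈ filt M₀ T d :=
    fun d x => Iff.rfl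
  have hKmono : Monotone K := by
    apply monotone_nat_of_le_succ
    intro d x hx
    rw [hKmem] at hx ⊢
    have := map_filt_le M₀ T d (Submodule.mem_map_of_mem hx)
    rw [pow_succ' T (d + 1)]
    exact this
  obtain ⟨n, hn⟩ := monotone_stabilizes_iff_noetherian.mpr inferInstance ⟨K, hKmono⟩
  have hgf : ∀ d, ∃ f : R, f ≠ 0 ∧ GFree R (M₀ ⧸ K d) f :=
    fun d => exists_gfree (R := R) (S := A) (M := M₀ ⧸ K d)
  choose fd hfd0 hfd using hgf
  refine ⟨∏ d ∈ Finset.range (n + 1), fd d,
    Finset.prod_ne_zero_iff.mpr (fun d _ => hfd0 d), fun d => ?_⟩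
  have hKd : K d = K (min d n) := by
    rcases le_total d n with h | h
    · rw [min_eq_left h]
    · rw [min_eq_right h]; exact (hn d h).symm
  have hgd : GFree R (M₀ ⧸ K d) (∏ d ∈ Finset.range (n + 1), fd d) := by
    rw [hKd]
    exact (hfd (min d n)).of_dvd (Finset.dvd_prod_of_mem _
      (Finset.mem_range.mpr (Nat.lt_succ_of_le (min_le_right d n))))
  refine GFRel.of_gfree (X₀ := M₀) (X := M₀ ⧸ K d) ((θ d).restrictScalars R)
    ((K d).mkQ.restrictScalars R) (Submodule.mkQ_surjective (K d)) ?_ ?_ ?_ hgd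
  · intro x
    show (T ^ (d + 1)) (x : N) ∈ filt M₀ T (d + 1)
    rw [filt_succ]
    exact (le_sup_right : M₀.map (T ^ (d + 1)) ≤ _) (Submodule.mem_map_of_mem x.2)
  · intro x
    show (T ^ (d + 1)) (x : N) ∈ filt M₀ T d ↔ (K d).mkQ x = 0
    rw [Submodule.mkQ_apply, Submodule.Quotient.mk_eq_zero]
    exact (hKmem d x).symm
  · intro z hz
    have hz' : z ∈ filt M₀ T d ⊔ M₀.map (T ^ (d + 1)) := hz
    obtain ⟨y, hy, w, hw, rfl⟩ := Submodule.mem_sup.mp hz'
    obtain ⟨m, hm, rfl⟩ := Submodule.mem_map.mp hw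
    refine ⟨⟨m, hm⟩, ?_⟩
    show y + (T ^ (d + 1)) m - (T ^ (d + 1)) m ∈ filt M₀ T d
    rw [add_sub_cancel_right]; exact hy

end Core

section Adj

variable {A B N : Type u} [CommRing A] [CommRing B] [Algebra A B] [AddCommGroup N] [Module B N]
  [Module A N] [IsScalarTower A B N]

/-- multiplication by `y : B` as an `A`-linear endomorphism -/
def smulEnd (y : B) : N →ₗ[A] N where
  toFun n := y • n
  map_add' := smul_add y
  map_smul' a n := smul_comm y a n

theorem smulEnd_pow (y : B) (k : ℕ) (x : N) : ((smulEnd (A := A) y) ^ k) x = y ^ k • x := by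
  induction k generalizing x with
  | zero => simp
  | succ k ih => rw [pow_succ', Module.End.mul_apply, ih, pow_succ', mul_smul]; rfl

theorem filt_le_span (y : B) (M₀ : Submodule A N) (d : ℕ) :
    ∀ x ∈ filt M₀ (smulEnd y) d, x ∈ Submodule.span (Algebra.adjoin A {y}) (M₀ : Set N) := by
  induction d with
  | zero => intro x hx; exact Submodule.subset_span hx
  | succ d ih =>
    intro x hx
    rw [filt_succ] at hx
    obtain ⟨a, ha, w, hw, rfl⟩ := Submodule.mem_sup.mp hx
    obtain ⟨m, hm, rfl⟩ := Submodule.mem_map.mp hw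
    refine Submodule.add_mem _ (ih a ha) ?_
    rw [smulEnd_pow]
    have hy : y ^ (d + 1) ∈ Algebra.adjoin A {y} :=
      (Algebra.adjoin A {y}).pow_mem (Algebra.subset_adjoin (Set.mem_singleton y)) (d + 1)
    exact Submodule.smul_mem _ (⟨y ^ (d + 1), hy⟩ : Algebra.adjoin A {y})
      (Submodule.subset_span hm)

theorem adj_smul_filt (y : B) (M₀ : Submodule A N) {a' : B}
    (ha' : a' ∈ Algebra.adjoin A {y}) :
    ∀ d, ∃ e, ∀ n ∈ filt M₀ (smulEnd y) d, a' • n ∈ filt M₀ (smulEnd y) e := by
  induction ha' using Algebra.adjoin_induction with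
  | mem x hx =>
    intro d
    rw [Set.mem_singleton_iff] at hx; subst hx
    exact ⟨d + 1, fun n hn =>
      map_filt_le M₀ (smulEnd x) d (Submodule.mem_map_of_mem (f := smulEnd x) hn)⟩
  | algebraMap a =>
    intro d
    exact ⟨d, fun n hn => by rw [algebraMap_smul]; exact Submodule.smul_mem _ a hn⟩
  | add x₁ x₂ _ _ h1 h2 =>
    intro d
    obtain ⟨e₁, he₁⟩ := h1 d
    obtain ⟨e₂, he₂⟩ := h2 d
    refine ⟨max e₁ e₂, fun n hn => ?_⟩
    rw [add_smul]
    exact Submodule.add_mem _ (filt_mono _ _ (le_max_left _ _) (he₁ n hn))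
      (filt_mono _ _ (le_max_right _ _) (he₂ n hn))
  | mul x₁ x₂ _ _ h1 h2 =>
    intro d
    obtain ⟨e₂, he₂⟩ := h2 d
    obtain ⟨e, he⟩ := h1 e₂
    exact ⟨e, fun n hn => by rw [mul_smul]; exact he _ (he₂ n hn)⟩

theorem span_le_iUnion_filt (y : B) (M₀ : Submodule A N) {w : N}
    (hw : w ∈ Submodule.span (Algebra.adjoin A {y}) (M₀ : Set N)) :
    ∃ d, w ∈ filt M₀ (smulEnd y) d := by
  induction hw using Submodule.span_induction with
  | mem x hx => exact ⟨0, hx⟩
  | zero => exact ⟨0, zero_mem _⟩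
  | add x₁ x₂ _ _ h1 h2 =>
    obtain ⟨d₁, h1⟩ := h1
    obtain ⟨d₂, h2⟩ := h2
    exact ⟨max d₁ d₂, Submodule.add_mem _ (filt_mono _ _ (le_max_left _ _) h1)
      (filt_mono _ _ (le_max_right _ _) h2)⟩
  | smul a x _ h =>
    obtain ⟨d, hd⟩ := h
    obtain ⟨e, he⟩ := adj_smul_filt y M₀ a.2 d
    exact ⟨e, he x hd⟩

end Adj

/-- the inductive claim: generic freeness of `N / M₀` for `M₀` a finite `A`-submodule, when `B`
is generated over `A` by at most `r` elements. -/
def CokClaim (R B N : Type u) [CommRing R] [CommRing B] [Algebra R B] [AddCommGroup N]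
    [Module B N] [Module R N] [IsScalarTower R B N] (r : ℕ) : Prop :=
  ∀ (A : Type u) [CommRing A] [Algebra R A] [Algebra.FiniteType R A] [Algebra A B]
    [IsScalarTower R A B] [Module A N] [IsScalarTower A B N] [IsScalarTower R A N]
    (s : Finset B) (_ : s.card ≤ r) (_ : Algebra.adjoin A (s : Set B) = ⊤)
    (M₀ : Submodule A N) (_ : M₀.FG), ∃ f : R, f ≠ 0 ∧ GFRel R (M₀.restrictScalars R) ⊤ f

theorem cokClaim (R B N : Type u) [CommRing R] [IsDomain R] [IsNoetherianRing R] [CommRing B]
    [Algebra R B] [AddCommGroup N] [Module B N] [Module R N] [IsScalarTower R B N]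
    [Module.Finite B N] (r : ℕ) : CokClaim R B N r := by
  classical
  induction r with
  | zero =>
    intro A _ _ _ _ _ _ _ _ s hs hadj M₀ hM₀
    have hs0 : s = ∅ := Finset.card_eq_zero.mp (Nat.le_zero.mp hs)
    subst hs0
    have hsurj : Function.Surjective (algebraMap A B) := by
      rw [Algebra.surjective_algebraMap_iff, ← hadj]; simp
    haveI : Module.Finite A B := Module.Finite.of_surjective (Algebra.linearMap A B) hsurj
    haveI : Module.Finite A N := Module.Finite.trans B N
    obtain ⟨f, hf0, hf⟩ := exists_gfree (R := R) (S := A) (M := N ⧸ M₀)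
    refine ⟨f, hf0, GFRel.of_gfree (X₀ := N) (X := N ⧸ M₀) LinearMap.id
      (M₀.mkQ.restrictScalars R) (Submodule.mkQ_surjective M₀)
      (fun _ => Submodule.mem_top) ?_ ?_ hf⟩
    · intro x
      show x ∈ M₀ ↔ M₀.mkQ x = 0
      rw [Submodule.mkQ_apply, Submodule.Quotient.mk_eq_zero]
    · intro z _
      exact ⟨z, by simp⟩
  | succ r ih =>
    intro A _ _ _ _ _ _ _ _ s hs hadj M₀ hM₀
    by_cases hcard : s.card ≤ r
    · exact ih A s hcard hadj M₀ hM₀
    · have hne : s.Nonempty := by
        rw [Finset.nonempty_iff_ne_empty]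
        rintro rfl
        simp at hcard
      obtain ⟨y, hy⟩ := hne
      haveI : Algebra.FiniteType A (Algebra.adjoin A {y}) :=
        (Subalgebra.fg_iff_finiteType _).mp
          (Subalgebra.fg_def.mpr ⟨{y}, Set.finite_singleton y, rfl⟩)
      haveI : Algebra.FiniteType R (Algebra.adjoin A {y}) :=
        Algebra.FiniteType.trans (S := A) inferInstance inferInstance
      haveI : IsNoetherianRing A := Algebra.FiniteType.isNoetherianRing R A
      have hadj' : Algebra.adjoin (Algebra.adjoin A {y}) ((s.erase y : Finset B) : Set B) = ⊤ := by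
        rw [eq_top_iff]
        intro x _
        have h2 : x ∈ (Algebra.adjoin (Algebra.adjoin A {y})
            ((s.erase y : Finset B) : Set B)).restrictScalars A := by
          rw [← Algebra.adjoin_union_eq_adjoin_adjoin, Set.singleton_union, Finset.coe_erase,
            Set.insert_sdiff_singleton, Set.insert_eq_of_mem (Finset.mem_coe.mpr hy), hadj]
          trivial
        exact h2
      have hcard' : (s.erase y).card ≤ r := by
        rw [Finset.card_erase_of_mem hy]; omega
      have hM₁ : (Submodule.span (Algebra.adjoin A {y}) (M₀ : Set N)).FG := by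
        obtain ⟨F, hF⟩ := hM₀
        refine ⟨F, ?_⟩
        rw [← hF, Submodule.span_span_of_tower]
      obtain ⟨f₁, hf₁, h₁⟩ := ih (Algebra.adjoin A {y}) (s.erase y) hcard' hadj'
        (Submodule.span (Algebra.adjoin A {y}) (M₀ : Set N)) hM₁
      obtain ⟨f₂, hf₂, h₂⟩ := core_filt (R := R) M₀ hM₀ (smulEnd (A := A) y)
      have h₂' : GFRel R (M₀.restrictScalars R)
          ((Submodule.span (Algebra.adjoin A {y}) (M₀ : Set N)).restrictScalars R) f₂ :=
        GFRel.chain (fun d => (filt M₀ (smulEnd (A := A) y) d).restrictScalars R)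
          (fun a b hab x hx => filt_mono _ _ hab hx) _
          (fun d x hx => filt_le_span y M₀ d x hx)
          (fun w hw => span_le_iUnion_filt y M₀ hw) h₂
      exact ⟨f₂ * f₁, mul_ne_zero hf₂ hf₁,
        GFRel.trans
          (Z := (Submodule.span (Algebra.adjoin A {y}) (M₀ : Set N)).restrictScalars R)
          (fun x hx => Submodule.subset_span hx) h₂' h₁⟩

end Groth.Agent.H11
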