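import Groth.Agent.H11.NoetherDomain2
import Mathlib

set_option autoImplicit false
set_option linter.style.haveILetI false

universe u v w

namespace Groth.Agent.H11

open MvPolynomial

/-- A finitely generated submodule `M'` of a module over a domain `P` contains, up to multiplication by
a nonzero `g₀`, a free submodule: there is a finite linearly independent family `b` with
`g₀ • M' ≤ span b`. -/
theorem exists_free_sub {P : Type u} {S : Type v} [CommRing P] [IsDomain P] [AddCommGroup S]
    [Module P S] (M' : Submodule P S) (hM' : M'.FG) :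
    ∃ (g₀ : P) (ι : Type v) (_ : Finite ι) (b : ι → S), g₀ ≠ 0 ∧ LinearIndependent P b ∧
      ∀ x ∈ M', g₀ • x ∈ Submodule.span P (Set.range b) := by
  classical
  obtain ⟨t, ht⟩ := hM'
  obtain ⟨I, hI, hmax⟩ := exists_maximal_linearIndepOn P (fun i : t => (i : S))
  choose a ha0 ha using hmax
  refine ⟨∏ i : t, (if h : i ∈ I then 1 else a i h), I, inferInstance,
    fun i => ((i : t) : S), ?_, hI, ?_⟩
  · rw [Finset.prod_ne_zero_iff]
    intro i _
    split_ifs with h
    · exact one_ne_zero
    · exact ha0 i h
  · intro x hx
    rw [← ht] at hx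
    induction hx using Submodule.span_induction with
    | mem x hx =>
      by_cases h : (⟨x, hx⟩ : t) ∈ I
      · apply Submodule.smul_mem
        apply Submodule.subset_span
        exact ⟨⟨⟨x, hx⟩, h⟩, rfl⟩
      · have e : (∏ j : t, (if h : j ∈ I then 1 else a j h)) =
            (∏ j ∈ Finset.univ.erase (⟨x, hx⟩ : t), (if h : j ∈ I then (1 : P) else a j h)) *
              a ⟨x, hx⟩ h := by
          rw [← Finset.prod_erase_mul Finset.univ _ (Finset.mem_univ (⟨x, hx⟩ : t)), dif_neg h]
        rw [e, mul_smul]
        apply Submodule.smul_mem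
        have h2 := ha ⟨x, hx⟩ h
        rw [Set.image_eq_range] at h2
        exact h2
    | zero => simp
    | add x y _ _ hx hy => rw [smul_add]; exact add_mem hx hy
    | smul c x _ hx => rw [smul_comm]; exact Submodule.smul_mem _ _ hx

/-- If a finite linearly independent family `b` in a `P`-algebra `S` spans `S` up to powers of `h`, then
`S[1/h]` is finite free over `P[1/h]`. -/
theorem free_finite_of_localization {P : Type u} {S : Type v} {Q : Type w} {T : Type v}
    [CommRing P] [CommRing S] [Algebra P S]
    [CommRing Q] [Algebra P Q] [CommRing T] [Algebra S T] [Algebra Q T] [Algebra P T]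
    [IsScalarTower P Q T] [IsScalarTower P S T] (h : P) [IsLocalization.Away h Q]
    [IsLocalization.Away (algebraMap P S h) T] {ι : Type v} [Finite ι] (b : ι → S)
    (hb : LinearIndependent P b)
    (hspan : ∀ s : S, ∃ n : ℕ, h ^ n • s ∈ Submodule.span P (Set.range b)) :
    Module.Free Q T ∧ Module.Finite Q T := by
  have hloc : IsLocalization (Algebra.algebraMapSubmonoid S (Submonoid.powers h)) T := by
    have e : Algebra.algebraMapSubmonoid S (Submonoid.powers h) =
        Submonoid.powers (algebraMap P S h) := Submonoid.map_powers _ _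
    rw [e]; infer_instance
  have hli : LinearIndependent Q (algebraMap S T ∘ b) :=
    hb.localization_localization Q (Submonoid.powers h) T
  have hsp : ⊤ ≤ Submodule.span Q (Set.range (algebraMap S T ∘ b)) := by
    intro x _
    obtain ⟨⟨s, m⟩, hs⟩ :=
      IsLocalization.surj (Algebra.algebraMapSubmonoid S (Submonoid.powers h)) x
    obtain ⟨m', hm', hmm'⟩ := Submonoid.mem_map.mp m.2
    obtain ⟨k, rfl⟩ := (Submonoid.mem_powers_iff _ _).mp hm'
    obtain ⟨n, hn⟩ := hspan s
    have h1 : algebraMap S T (h ^ n • s) ∈
        Submodule.span Q (Set.range (algebraMap S T ∘ b)) := by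
      have h2 := Submodule.mem_map_of_mem (f := (IsScalarTower.toAlgHom P S T).toLinearMap) hn
      rw [Submodule.map_span, ← Set.range_comp] at h2
      exact Submodule.span_subset_span P Q _ h2
    have hw : IsUnit (algebraMap P Q (h ^ (n + k))) :=
      IsLocalization.map_units Q (⟨h ^ (n + k), ⟨n + k, rfl⟩⟩ : Submonoid.powers h)
    have hwx : algebraMap P Q (h ^ (n + k)) • x = algebraMap S T (h ^ n • s) := by
      rw [Algebra.smul_def, ← IsScalarTower.algebraMap_apply P Q T,
        IsScalarTower.algebraMap_apply P S T, pow_add, map_mul, map_mul, mul_assoc, mul_comm _ x]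
      have e : algebraMap S T (algebraMap P S (h ^ k)) = algebraMap S T m := by
        rw [← hmm']
      rw [e, hs, ← map_mul, ← Algebra.smul_def]
    have e : x = (↑hw.unit⁻¹ : Q) • (algebraMap P Q (h ^ (n + k)) • x) := by
      rw [smul_smul, IsUnit.val_inv_mul, one_smul]
    rw [e, hwx]
    exact Submodule.smul_mem _ _ h1
  let B := Module.Basis.mk hli hsp
  exact ⟨Module.Free.of_basis B, Module.Finite.of_basis B⟩

/-- Abstract form of generic finite presentation: `P` a finitely presented `R`-algebra and a domain,
`S` a `P`-algebra such that up to powers of `f : R` it is contained in a finitely generated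
`P`-submodule.  Then for some nonzero `g₀ : P`, `S[1/(f g₀)]` is finitely presented over `R[1/f]`. -/
theorem exists_finitePresentation_of_fg_submodule {R P S : Type u} [CommRing R] [CommRing P]
    [IsDomain P] [CommRing S] [Algebra R P] [Algebra P S] [Algebra R S] [IsScalarTower R P S]
    [Algebra.FinitePresentation R P] (M' : Submodule P S) (hM' : M'.FG) (f : R)
    (hfS : ∀ s : S, ∃ n : ℕ, (f ^ n) • s ∈ M') :
    ∃ g₀ : P, g₀ ≠ 0 ∧
      ∀ (Rf Sfg : Type u) [CommRing Rf] [CommRing Sfg] [Algebra R Rf] [IsLocalization.Away f Rf]
        [Algebra S Sfg] [IsLocalization.Away (algebraMap R S f * algebraMap P S g₀) Sfg]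
        [Algebra Rf Sfg] [Algebra R Sfg]
        [IsScalarTower R S Sfg] [IsScalarTower R Rf Sfg], Algebra.FinitePresentation Rf Sfg := by
  classical
  obtain ⟨g₀, ι, _, b, hg₀, hb, hspan⟩ := exists_free_sub M' hM'
  refine ⟨g₀, hg₀, ?_⟩
  intro Rf Sfg _ _ _ _ _ _ _ _ _ _
  set h : P := algebraMap R P f * g₀ with hh
  have hφh : algebraMap P S h = algebraMap R S f * algebraMap P S g₀ := by
    rw [hh, map_mul, ← IsScalarTower.algebraMap_apply R P S]
  have hspan' : ∀ s : S, ∃ n : ℕ, h ^ n • s ∈ Submodule.span P (Set.range b) := by
    intro s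
    obtain ⟨n, hn⟩ := hfS s
    refine ⟨n + 1, ?_⟩
    have e : h ^ (n + 1) • s = (algebraMap R P f * g₀ ^ n) • (g₀ • (f ^ n • s)) := by
      rw [← algebraMap_smul P (f ^ n) s, smul_smul, smul_smul, hh]
      congr 1
      rw [map_pow]
      ring
    rw [e]
    exact Submodule.smul_mem _ _ (hspan _ hn)
  letI algPT : Algebra P Sfg := ((algebraMap S Sfg).comp (algebraMap P S)).toAlgebra
  haveI towPST : IsScalarTower P S Sfg := IsScalarTower.of_algebraMap_eq (fun _ => rfl)
  haveI towRPT : IsScalarTower R P Sfg := IsScalarTower.of_algebraMap_eq (fun r => by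
    show algebraMap R Sfg r = algebraMap S Sfg (algebraMap P S (algebraMap R P r))
    rw [← IsScalarTower.algebraMap_apply R P S, ← IsScalarTower.algebraMap_apply R S Sfg])
  have hunit : IsUnit (algebraMap P Sfg h) := by
    show IsUnit (algebraMap S Sfg (algebraMap P S h))
    rw [hφh]
    exact IsLocalization.Away.algebraMap_isUnit _
  letI algQT : Algebra (Localization.Away h) Sfg :=
    (IsLocalization.Away.lift (S := Localization.Away h) h hunit).toAlgebra
  haveI towPQT : IsScalarTower P (Localization.Away h) Sfg :=
    IsScalarTower.of_algebraMap_eq (fun p => (IsLocalization.Away.lift_eq h hunit p).symm)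
  haveI towRQT : IsScalarTower R (Localization.Away h) Sfg :=
    IsScalarTower.of_algebraMap_eq (fun r => by
      rw [IsScalarTower.algebraMap_apply R P (Localization.Away h),
        ← IsScalarTower.algebraMap_apply P (Localization.Away h) Sfg,
        ← IsScalarTower.algebraMap_apply R P Sfg])
  haveI : IsLocalization.Away (algebraMap P S h) Sfg := by rw [hφh]; infer_instance
  obtain ⟨hfree, hfin⟩ := free_finite_of_localization (Q := Localization.Away h) (T := Sfg)
    h b hb hspan'
  haveI : Module.FinitePresentation (Localization.Away h) Sfg :=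
    Module.finitePresentation_of_projective _ _
  haveI : Algebra.FinitePresentation (Localization.Away h) Sfg := inferInstance
  haveI : Algebra.FinitePresentation P (Localization.Away h) :=
    IsLocalization.Away.finitePresentation h
  haveI : Algebra.FinitePresentation R (Localization.Away h) :=
    Algebra.FinitePresentation.trans R P (Localization.Away h)
  haveI : Algebra.FinitePresentation R Sfg :=
    Algebra.FinitePresentation.trans R (Localization.Away h) Sfg
  haveI : Algebra.FinitePresentation R Rf := IsLocalization.Away.finitePresentation f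
  exact Algebra.FinitePresentation.of_restrict_scalars_finitePresentation R Rf Sfg

end Groth.Agent.H11
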