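import Mathlib
import Groth.Prelude.Def_Wider
import Groth.Prelude.Def_CAlg
import Groth.Agent.S11625
import Groth.Agent.H84.HL_K
import Groth.Agent.H20.HL_D1
import Groth.Agent.H55.HL.Asm
import Groth.Agent.H58.LCIndep

/-!
# (Q2) for S17759: Hartshorne–Lichtenbaum vanishing for a finite module over a complete local ring
-/

set_option autoImplicit false
set_option linter.style.haveILetI false
universe u
open IsLocalRing

namespace Groth.Agent.H11.HL_Q2

set_option maxHeartbeats 800000 in
/-- (Q2) Hartshorne–Lichtenbaum vanishing for a finite module over a complete local ring. -/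
theorem hlvt_module (R : Type u) [CommRing R] [IsLocalRing R] [IsNoetherianRing R]
    [IsAdicComplete (maximalIdeal R) R] (I : Ideal R) (N : Type u) [AddCommGroup N] [Module R N]
    [Module.Finite R N] (n : ℕ) (hn : Module.supportDim R N ≤ (n : WithBot ℕ∞))
    (h : ∀ p : PrimeSpectrum R, p ∈ Module.support R N → ringKrullDim (R ⧸ p.asIdeal) = n →
      1 ≤ ringKrullDim (R ⧸ (I ⊔ p.asIdeal))) :
    Subsingleton (LocCoh.H I n N) := by
  rcases hn.lt_or_eq with hlt | heq
  · exact Groth.Agent.S11625.result R I N n hlt
  -- `N` is nontrivial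
  haveI hNnt : Nontrivial N := by
    rw [← Module.supportDim_ne_bot_iff_nontrivial (R := R), heq]
    exact WithBot.coe_ne_bot
  have hann : Module.annihilator R N ≠ ⊤ := by
    intro htop
    have h1 : (1 : R) ∈ Module.annihilator R N := htop ▸ Submodule.mem_top
    rw [Module.mem_annihilator] at h1
    obtain ⟨x, hx⟩ := exists_ne (0 : N)
    exact hx (by simpa using h1 x)
  haveI : Nontrivial (R ⧸ Module.annihilator R N) := Ideal.Quotient.nontrivial_iff.mpr hann
  haveI : IsLocalRing (R ⧸ Module.annihilator R N) :=
    IsLocalRing.of_surjective' (Ideal.Quotient.mk (Module.annihilator R N))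
      Ideal.Quotient.mk_surjective
  haveI : IsAdicComplete (maximalIdeal (R ⧸ Module.annihilator R N))
      (R ⧸ Module.annihilator R N) :=
    Groth.Agent.H84.HL_K.complete_of_finite R (R ⧸ Module.annihilator R N)
  have hd : ringKrullDim (R ⧸ Module.annihilator R N) = n := by
    rw [← Module.supportDim_eq_ringKrullDim_quotient_annihilator, heq]
  letI : Module (R ⧸ Module.annihilator R N) N := Module.quotientAnnihilator
  haveI : IsScalarTower R (R ⧸ Module.annihilator R N) N := inferInstance
  have key : Subsingleton (LocCoh.H (I.map (algebraMap R (R ⧸ Module.annihilator R N))) n N) := by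
    refine Groth.Agent.H20.HL_D1.complete_case
      (fun R _ _ _ _ _ d hd p _ hp => Groth.Agent.H55.HL.complete_domain_case R d hd p hp)
      (R ⧸ Module.annihilator R N) n hd (I.map (algebraMap R (R ⧸ Module.annihilator R N)))
      ?_ N n le_rfl
    intro P hP hPd
    haveI hPprime : P.IsPrime := hP.1.1
    -- the prime of `R` below `P`
    have hple : Module.annihilator R N ≤ P.comap (Ideal.Quotient.mk (Module.annihilator R N)) := by
      intro x hx
      rw [Ideal.mem_comap, Ideal.Quotient.eq_zero_iff_mem.mpr hx]
      exact P.zero_mem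
    have hPmap : (P.comap (Ideal.Quotient.mk (Module.annihilator R N))).map
        (Ideal.Quotient.mk (Module.annihilator R N)) = P :=
      Ideal.map_comap_of_surjective _ Ideal.Quotient.mk_surjective P
    have hsupp : (⟨P.comap (Ideal.Quotient.mk (Module.annihilator R N)), inferInstance⟩ :
        PrimeSpectrum R) ∈ Module.support R N := by
      rw [Module.support_eq_zeroLocus, PrimeSpectrum.mem_zeroLocus]
      exact hple
    -- `R ⧸ p ≃ S' ⧸ P`
    let e1 : (R ⧸ Module.annihilator R N) ⧸ P ≃+*
        R ⧸ P.comap (Ideal.Quotient.mk (Module.annihilator R N)) := by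
      refine (Ideal.quotEquivOfEq ?_).trans
        (DoubleQuot.quotQuotEquivQuotOfLE hple)
      exact hPmap.symm
    have hdimp : ringKrullDim (R ⧸ P.comap (Ideal.Quotient.mk (Module.annihilator R N))) = n := by
      rw [← ringKrullDim_eq_of_ringEquiv e1, hPd]
    have h1 := h ⟨P.comap (Ideal.Quotient.mk (Module.annihilator R N)), inferInstance⟩ hsupp hdimp
    -- `S' ⧸ (J ⊔ P) ≃ R ⧸ (I ⊔ p)`
    have hle2 : Module.annihilator R N ≤
        I ⊔ P.comap (Ideal.Quotient.mk (Module.annihilator R N)) := hple.trans le_sup_right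
    have hmap2 : (I ⊔ P.comap (Ideal.Quotient.mk (Module.annihilator R N))).map
        (Ideal.Quotient.mk (Module.annihilator R N)) =
        I.map (algebraMap R (R ⧸ Module.annihilator R N)) ⊔ P := by
      rw [Ideal.map_sup, hPmap]
      rfl
    let e2 : (R ⧸ Module.annihilator R N) ⧸
        (I.map (algebraMap R (R ⧸ Module.annihilator R N)) ⊔ P) ≃+*
        R ⧸ (I ⊔ P.comap (Ideal.Quotient.mk (Module.annihilator R N))) := by
      refine (Ideal.quotEquivOfEq ?_).trans
        (DoubleQuot.quotQuotEquivQuotOfLE hle2)
      exact hmap2.symm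
    rw [ringKrullDim_eq_of_ringEquiv e2]
    exact h1
  obtain ⟨φ, -⟩ := Groth.Agent.H58.LC.semiEq_H R (R ⧸ Module.annihilator R N) I n N
  exact φ.symm.toEquiv.subsingleton

end Groth.Agent.H11.HL_Q2
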