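import Mathlib
import Groth.Prelude.Def_Wider
import Groth.Prelude.Def_CAlg

/-!
# (Q5) for S17759: `I + ann M` is primary to the maximal ideal if `I + p` is for all `p ∈ Ass M`
-/

set_option autoImplicit false
universe u
open IsLocalRing

namespace Groth.Agent.H11.HL_Q5

/-- (Q5) if `I + p` is primary to the maximal ideal for every associated prime `p` of `M`, so is
`I + ann M`. -/
theorem radical_sup_annihilator (R : Type u) [CommRing R] [IsNoetherianRing R] [IsLocalRing R]
    (I : Ideal R) (M : Type u) [AddCommGroup M] [Module R M] [Module.Finite R M] [Nontrivial M]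
    (h : ∀ p ∈ associatedPrimes R M, (I ⊔ p).radical = maximalIdeal R) :
    (I ⊔ Module.annihilator R M).radical = maximalIdeal R := by
  apply le_antisymm
  · obtain ⟨p, hp⟩ := associatedPrimes.nonempty R M
    have hI : I ≤ maximalIdeal R := by
      calc I ≤ I ⊔ p := le_sup_left
        _ ≤ (I ⊔ p).radical := Ideal.le_radical
        _ = maximalIdeal R := h p hp
    have hann : Module.annihilator R M ≤ maximalIdeal R := by
      apply le_maximalIdeal
      intro htop
      have h1 : (1 : R) ∈ Module.annihilator R M := htop ▸ Submodule.mem_top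
      rw [Module.mem_annihilator] at h1
      obtain ⟨x, hx⟩ := exists_ne (0 : M)
      exact hx (by simpa using h1 x)
    exact (Ideal.IsPrime.radical_le_iff (inferInstance : (maximalIdeal R).IsPrime)).mpr
      (sup_le hI hann)
  · rw [Ideal.radical_eq_sInf]
    apply le_sInf
    rintro q ⟨hq, hqprime⟩
    have hannq : Module.annihilator R M ≤ q := le_sup_right.trans hq
    obtain ⟨p, hpmin, hpq⟩ := Ideal.exists_minimalPrimes_le hannq
    have hpass : p ∈ associatedPrimes R M :=
      Module.associatedPrimes.minimalPrimes_annihilator_subset_associatedPrimes R M hpmin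
    have h2 : (I ⊔ p).radical ≤ q :=
      (Ideal.IsPrime.radical_le_iff hqprime).mpr (sup_le (le_sup_left.trans hq) hpq)
    rw [h p hpass] at h2
    exact h2

end Groth.Agent.H11.HL_Q5
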