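import Mathlib
import Groth.Agent.H68.DepthConn

/-!
# Hartshorne-type connectedness: removing a closed subset of `V(a, b)` for a regular pair `a, b`
(helper11; generalizes `Groth.Agent.H68.DepthConn.isConnected_punctured`)
-/

set_option autoImplicit false
universe u

open IsLocalRing Groth.Agent.H68.DepthConn

namespace Groth.Agent.H11.HartshorneGen

variable {R : Type u} [CommRing R] [IsLocalRing R]

theorem exists_pow_eq_add (Z U₁ U₂ : Set (PrimeSpectrum R)) (hU₁ : IsOpen U₁) (hU₂ : IsOpen U₂)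
    (hcov : ∀ p : PrimeSpectrum R, p ∉ Z → p ∈ U₁ ∪ U₂) (c : R)
    (hc : ∀ p ∈ Z, c ∈ p.asIdeal) :
    ∃ (n : ℕ) (u₁ u₂ : R), c ^ n = u₁ + u₂ ∧
      (∀ p : PrimeSpectrum R, u₁ ∉ p.asIdeal → p ∈ U₁) ∧
      (∀ p : PrimeSpectrum R, u₂ ∉ p.asIdeal → p ∈ U₂) := by
  have hrad : c ∈ (PrimeSpectrum.vanishingIdeal U₁ᶜ ⊔ PrimeSpectrum.vanishingIdeal U₂ᶜ).radical := by
    rw [← PrimeSpectrum.vanishingIdeal_zeroLocus_eq_radical, PrimeSpectrum.mem_vanishingIdeal]
    intro p hp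
    rw [PrimeSpectrum.mem_zeroLocus] at hp
    have hp1 : PrimeSpectrum.vanishingIdeal U₁ᶜ ≤ p.asIdeal :=
      fun x hx => hp (Ideal.mem_sup_left hx)
    have hp2 : PrimeSpectrum.vanishingIdeal U₂ᶜ ≤ p.asIdeal :=
      fun x hx => hp (Ideal.mem_sup_right hx)
    have h1 : p ∉ U₁ := by
      intro h
      obtain ⟨g, hg, hgp⟩ := exists_mem_vanishingIdeal_compl hU₁ h
      exact hgp (hp1 hg)
    have h2 : p ∉ U₂ := by
      intro h
      obtain ⟨g, hg, hgp⟩ := exists_mem_vanishingIdeal_compl hU₂ h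
      exact hgp (hp2 hg)
    have h3 : p ∈ Z := by
      by_contra hne
      rcases hcov p hne with h | h
      · exact h1 h
      · exact h2 h
    exact hc p h3
  obtain ⟨n, hn⟩ := hrad
  obtain ⟨u₁, hu₁, u₂, hu₂, hsum⟩ := Submodule.mem_sup.mp hn
  exact ⟨n, u₁, u₂, hsum.symm, mem_of_notMem_of_mem_vanishingIdeal_compl hu₁,
    mem_of_notMem_of_mem_vanishingIdeal_compl hu₂⟩

theorem split (a b : R) (Z : Set (PrimeSpectrum R)) (haZ : ∀ p ∈ Z, a ∈ p.asIdeal)
    (hbZ : ∀ p ∈ Z, b ∈ p.asIdeal) (ha : ∀ z, a * z = 0 → z = 0) (hb : ∀ z, a ∣ b * z → a ∣ z)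
    (U₁ U₂ : Set (PrimeSpectrum R)) (hU₁ : IsOpen U₁) (hU₂ : IsOpen U₂) (hdisj : U₁ ∩ U₂ = ∅)
    (hcov : ∀ p : PrimeSpectrum R, p ∉ Z → p ∈ U₁ ∪ U₂) : U₁ = ∅ ∨ U₂ = ∅ := by
  obtain ⟨n, u₁, u₂, hau, hu₁, hu₂⟩ := exists_pow_eq_add Z U₁ U₂ hU₁ hU₂ hcov a haZ
  obtain ⟨k, v₁, v₂, hbv, hv₁, hv₂⟩ := exists_pow_eq_add Z U₁ U₂ hU₁ hU₂ hcov b hbZ
  have hnil : ∀ x y : R, (∀ p : PrimeSpectrum R, x ∉ p.asIdeal → p ∈ U₁) →
      (∀ p : PrimeSpectrum R, y ∉ p.asIdeal → p ∈ U₂) → IsNilpotent (x * y) := by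
    intro x y hx hy
    rw [← mem_nilradical, nilradical_eq_sInf, Ideal.mem_sInf]
    intro J hJ
    by_contra hxy
    have hx' : x ∉ J := fun h => hxy (J.mul_mem_right _ h)
    have hy' : y ∉ J := fun h => hxy (J.mul_mem_left _ h)
    have : (⟨J, hJ⟩ : PrimeSpectrum R) ∈ U₁ ∩ U₂ := ⟨hx _ hx', hy _ hy'⟩
    rw [hdisj] at this
    exact this
  obtain ⟨N₁, hN₁⟩ := hnil u₁ u₂ hu₁ hu₂
  obtain ⟨N₂, hN₂⟩ := hnil u₁ v₂ hu₁ hv₂
  obtain ⟨N₃, hN₃⟩ := hnil v₁ u₂ hv₁ hu₂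
  obtain ⟨N, hN⟩ : ∃ N : ℕ, N = N₁ + N₂ + N₃ + 1 := ⟨_, rfl⟩
  have hNpos : N ≠ 0 := by omega
  have h12 : (u₁ * u₂) ^ N = 0 := pow_eq_zero_of_le (by omega) hN₁
  have h1v : (u₁ * v₂) ^ N = 0 := pow_eq_zero_of_le (by omega) hN₂
  have hv2 : (v₁ * u₂) ^ N = 0 := pow_eq_zero_of_le (by omega) hN₃
  have hexp : ∀ x y : R, ∃ p q : R, (x + y) ^ (2 * N) = p * x ^ N + q * y ^ N := by
    intro x y
    have hmem : (x + y) ^ (2 * N) ∈ Ideal.span {x ^ N, y ^ N} := by
      apply Ideal.add_pow_mem_of_pow_mem_of_le (m := N) (n := N)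
      · exact Ideal.subset_span (by simp)
      · exact Ideal.subset_span (by simp)
      · omega
    obtain ⟨p, q, hpq⟩ := Ideal.mem_span_pair.mp hmem
    exact ⟨p, q, hpq.symm⟩
  obtain ⟨p, q, hpq⟩ := hexp u₁ u₂
  obtain ⟨r, s, hrs⟩ := hexp v₁ v₂
  have ha' : a ^ (n * (2 * N)) = p * u₁ ^ N + q * u₂ ^ N := by rw [pow_mul, hau, hpq]
  have hb' : b ^ (k * (2 * N)) = r * v₁ ^ N + s * v₂ ^ N := by rw [pow_mul, hbv, hrs]
  have hz1 : (p * u₁ ^ N) * (q * u₂ ^ N) = 0 := by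
    have : (p * u₁ ^ N) * (q * u₂ ^ N) = p * q * (u₁ * u₂) ^ N := by ring
    rw [this, h12, mul_zero]
  have hz2 : (p * u₁ ^ N) * (s * v₂ ^ N) = 0 := by
    have : (p * u₁ ^ N) * (s * v₂ ^ N) = p * s * (u₁ * v₂) ^ N := by ring
    rw [this, h1v, mul_zero]
  have hz3 : (r * v₁ ^ N) * (q * u₂ ^ N) = 0 := by
    have : (r * v₁ ^ N) * (q * u₂ ^ N) = r * q * (v₁ * u₂) ^ N := by ring
    rw [this, hv2, mul_zero]
  have hkey : b ^ (k * (2 * N)) * (p * u₁ ^ N) = a ^ (n * (2 * N)) * (r * v₁ ^ N) := by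
    rw [ha', hb']
    have e1 : (r * v₁ ^ N + s * v₂ ^ N) * (p * u₁ ^ N) =
        r * v₁ ^ N * (p * u₁ ^ N) + (p * u₁ ^ N) * (s * v₂ ^ N) := by ring
    have e2 : (p * u₁ ^ N + q * u₂ ^ N) * (r * v₁ ^ N) =
        r * v₁ ^ N * (p * u₁ ^ N) + (r * v₁ ^ N) * (q * u₂ ^ N) := by ring
    rw [e1, e2, hz2, hz3]
  have hdvd : a ^ (n * (2 * N)) ∣ p * u₁ ^ N :=
    dvd_of_pow_dvd_pow_mul ha hb _ (k * (2 * N)) _ ⟨r * v₁ ^ N, hkey⟩
  obtain ⟨c, hc⟩ := hdvd
  have hnzd := pow_nzd ha (n * (2 * N))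
  have hq : q * u₂ ^ N = a ^ (n * (2 * N)) * (1 - c) := by
    have : q * u₂ ^ N = a ^ (n * (2 * N)) - p * u₁ ^ N := by rw [ha']; ring
    rw [this, hc]
    ring
  have hcc : c * (1 - c) = 0 := by
    apply hnzd
    apply hnzd
    have : a ^ (n * (2 * N)) * (a ^ (n * (2 * N)) * (c * (1 - c))) =
        (p * u₁ ^ N) * (q * u₂ ^ N) := by
      rw [hc, hq]
      ring
    rw [this, hz1]
  rcases IsLocalRing.isUnit_or_isUnit_one_sub_self c with hcu | hcu
  · right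
    have h1c : 1 - c = 0 := (hcu.mul_right_eq_zero).mp hcc
    have hq0 : q * u₂ ^ N = 0 := by rw [hq, h1c, mul_zero]
    have hDa : ∀ P : PrimeSpectrum R, a ∉ P.asIdeal → P ∈ U₁ := by
      intro P hP
      apply hu₁
      intro hu
      apply hP
      have hmem : a ^ (n * (2 * N)) ∈ P.asIdeal := by
        rw [ha', hq0, add_zero]
        exact P.asIdeal.mul_mem_left _ (P.asIdeal.pow_mem_of_mem hu N (Nat.pos_of_ne_zero hNpos))
      exact P.isPrime.mem_of_pow_mem _ hmem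
    refine empty_of_disjoint_basic ha hU₂ (fun P hP hPU => ?_)
    have : P ∈ U₁ ∩ U₂ := ⟨hDa P hP, hPU⟩
    rw [hdisj] at this
    exact this
  · left
    have hc0 : c = 0 := (hcu.mul_left_eq_zero).mp hcc
    have hp0 : p * u₁ ^ N = 0 := by rw [hc, hc0, mul_zero]
    have hDa : ∀ P : PrimeSpectrum R, a ∉ P.asIdeal → P ∈ U₂ := by
      intro P hP
      apply hu₂
      intro hu
      apply hP
      have hmem : a ^ (n * (2 * N)) ∈ P.asIdeal := by
        rw [ha', hp0, zero_add]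
        exact P.asIdeal.mul_mem_left _ (P.asIdeal.pow_mem_of_mem hu N (Nat.pos_of_ne_zero hNpos))
      exact P.isPrime.mem_of_pow_mem _ hmem
    refine empty_of_disjoint_basic ha hU₁ (fun P hP hPU => ?_)
    have : P ∈ U₁ ∩ U₂ := ⟨hPU, hDa P hP⟩
    rw [hdisj] at this
    exact this

/-- If `a, b` is a regular pair in a local ring and `Z` is a closed subset of `V(a, b)`, then the
complement of `Z` is connected. -/
theorem isConnected_compl (a b : R) (Z : Set (PrimeSpectrum R)) (hZ : IsClosed Z)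
    (haZ : ∀ p ∈ Z, a ∈ p.asIdeal) (hbZ : ∀ p ∈ Z, b ∈ p.asIdeal)
    (ha : ∀ z, a * z = 0 → z = 0) (hb : ∀ z, a ∣ b * z → a ∣ z) :
    IsConnected (Zᶜ : Set (PrimeSpectrum R)) := by
  have hs : IsOpen (Zᶜ : Set (PrimeSpectrum R)) := hZ.isOpen_compl
  refine ⟨?_, ?_⟩
  · by_contra hempty
    rw [Set.not_nonempty_iff_eq_empty] at hempty
    have hnil : IsNilpotent a := by
      rw [← mem_nilradical, nilradical_eq_sInf, Ideal.mem_sInf]
      intro J hJ
      by_contra haJ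
      have hmem : (⟨J, hJ⟩ : PrimeSpectrum R) ∈ (Zᶜ : Set (PrimeSpectrum R)) := by
        intro h
        exact haJ (haZ _ h)
      rw [hempty] at hmem
      exact hmem
    obtain ⟨M, hM⟩ := hnil
    have h10 : (1 : R) = 0 := pow_nzd ha M 1 (by rw [mul_one]; exact hM)
    exact one_ne_zero h10
  · rw [isPreconnected_iff_subset_of_disjoint]
    intro u v hu hv huv hdis
    have hsplit := split a b Z haZ hbZ ha hb (Zᶜ ∩ u) (Zᶜ ∩ v)
      (hs.inter hu) (hs.inter hv)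
      (by
        rw [← hdis]
        ext p
        simp only [Set.mem_inter_iff]
        tauto)
      (by
        intro p hp
        have hp' : p ∈ (Zᶜ : Set (PrimeSpectrum R)) := hp
        rcases huv hp' with h1 | h1
        · exact Or.inl ⟨hp', h1⟩
        · exact Or.inr ⟨hp', h1⟩)
    rcases hsplit with h | h
    · right
      intro p hp
      rcases huv hp with h1 | h1
      · exfalso
        have : p ∈ (Zᶜ ∩ u : Set (PrimeSpectrum R)) := ⟨hp, h1⟩
        rw [h] at this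
        exact this
      · exact h1
    · left
      intro p hp
      rcases huv hp with h1 | h1
      · exact h1
      · exfalso
        have : p ∈ (Zᶜ ∩ v : Set (PrimeSpectrum R)) := ⟨hp, h1⟩
        rw [h] at this
        exact this

open RingTheory.Sequence in
/-- Version for a weakly regular sequence `[a, b]`. -/
theorem isConnected_compl_of_weaklyRegular (a b : R) (h1 : IsWeaklyRegular R [a, b])
    (Z : Set (PrimeSpectrum R)) (hZ : IsClosed Z)
    (haZ : ∀ p ∈ Z, a ∈ p.asIdeal) (hbZ : ∀ p ∈ Z, b ∈ p.asIdeal) :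
    IsConnected (Zᶜ : Set (PrimeSpectrum R)) := by
  rw [isWeaklyRegular_cons_iff] at h1
  obtain ⟨hareg, h1'⟩ := h1
  rw [isWeaklyRegular_cons_iff] at h1'
  obtain ⟨hbreg, -⟩ := h1'
  refine isConnected_compl a b Z hZ haZ hbZ ?_ ?_
  · intro z hz
    exact hareg (show a • z = a • (0 : R) by rw [smul_zero, smul_eq_mul, hz])
  · intro z hz
    have h0 : (Submodule.Quotient.mk (b * z) : QuotSMulTop a R) = 0 := by
      rw [Submodule.Quotient.mk_eq_zero]
      obtain ⟨c, hc⟩ := hz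
      exact (Submodule.mem_smul_pointwise_iff_exists _ _ _).mpr ⟨c, trivial, by rw [smul_eq_mul, hc]⟩
    have h1 : b • (Submodule.Quotient.mk z : QuotSMulTop a R) = b • (0 : QuotSMulTop a R) := by
      rw [smul_zero, ← Submodule.Quotient.mk_smul, smul_eq_mul]
      exact h0
    have h2' := hbreg h1
    rw [Submodule.Quotient.mk_eq_zero] at h2'
    obtain ⟨c, -, hc⟩ := (Submodule.mem_smul_pointwise_iff_exists _ _ _).mp h2'
    exact ⟨c, by rw [← hc, smul_eq_mul]⟩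

open RingTheory.Sequence in
/-- Conversely, build a weakly regular pair from the elementary conditions. -/
theorem isWeaklyRegular_pair {S : Type u} [CommRing S] (a b : S)
    (ha : ∀ z, a * z = 0 → z = 0) (hb : ∀ z, a ∣ b * z → a ∣ z) :
    IsWeaklyRegular S [a, b] := by
  rw [isWeaklyRegular_cons_iff]
  refine ⟨?_, ?_⟩
  · intro x y hxy
    have : a * (x - y) = 0 := by
      have h : a * x = a * y := hxy
      rw [mul_sub, h, sub_self]
    exact sub_eq_zero.mp (ha _ this)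
  · rw [isWeaklyRegular_cons_iff]
    refine ⟨?_, IsWeaklyRegular.nil _ _⟩
    intro x y hxy
    induction x using Submodule.Quotient.induction_on with | _ x => ?_
    induction y using Submodule.Quotient.induction_on with | _ y => ?_
    have h1 : (Submodule.Quotient.mk (b • x) : QuotSMulTop a S) =
        Submodule.Quotient.mk (b • y) := hxy
    rw [Submodule.Quotient.eq] at h1 ⊢
    obtain ⟨c, -, hc⟩ := (Submodule.mem_smul_pointwise_iff_exists _ _ _).mp h1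
    have hdvd : a ∣ b * (x - y) := ⟨c, by
      have : b • x - b • y = b * (x - y) := by simp [smul_eq_mul, mul_sub]
      rw [← this, ← hc, smul_eq_mul]⟩
    obtain ⟨d, hd⟩ := hb _ hdvd
    exact (Submodule.mem_smul_pointwise_iff_exists _ _ _).mpr ⟨d, trivial, by
      rw [smul_eq_mul, hd]⟩

end Groth.Agent.H11.HartshorneGen
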