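import Mathlib.RingTheory.Ideal.KrullsHeightTheorem
import Mathlib.RingTheory.Ideal.MinimalPrime.Noetherian
import Mathlib.RingTheory.Spectrum.Prime.Topology
import Mathlib.RingTheory.KrullDimension.Basic

set_option autoImplicit false

universe u

namespace Groth.Agent.H11

variable {R : Type u} [CommRing R] [IsDomain R] [IsNoetherianRing R]

/-- Every nonzero nonunit of a Noetherian domain lies in a prime of height one. -/
theorem exists_height_one_prime_mem (x : R) (hx0 : x ≠ 0) (hxu : ¬ IsUnit x) :
    ∃ p : Ideal R, p.IsPrime ∧ p.height = 1 ∧ x ∈ p := by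
  obtain ⟨p, hp⟩ := (Ideal.span {x}).nonempty_minimalPrimes
    (by simpa [Ideal.span_singleton_eq_top] using hxu)
  have hprime : p.IsPrime := hp.isPrime
  have hxp : x ∈ p := hp.1.2 (Ideal.mem_span_singleton_self x)
  have h1 : p.height ≤ 1 :=
    Ideal.height_le_one_of_isPrincipal_of_mem_minimalPrimes (Ideal.span {x}) p hp
  have h0 : p.height ≠ 0 := by
    rw [Ne, Ideal.height_eq_zero_iff_eq_bot]
    intro h
    rw [h] at hxp
    exact hx0 (by simpa using hxp)
  refine ⟨p, hprime, le_antisymm h1 (Order.one_le_iff_pos.mpr (pos_iff_ne_zero.mpr h0)), hxp⟩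

/-- The height-one primes containing a given nonzero element are finitely many. -/
theorem finite_height_one_primes_mem (f : R) (hf : f ≠ 0) :
    {p : PrimeSpectrum R | p.asIdeal.height = 1 ∧ f ∈ p.asIdeal}.Finite := by
  have hfin := Ideal.finite_minimalPrimes_of_isNoetherianRing R (Ideal.span {f})
  have hinj : Set.InjOn (fun p : PrimeSpectrum R => p.asIdeal)
      ((fun p : PrimeSpectrum R => p.asIdeal) ⁻¹' (Ideal.span {f}).minimalPrimes) :=
    fun p _ q _ h => PrimeSpectrum.ext h
  refine (hfin.preimage hinj).subset ?_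
  rintro p ⟨hp1, hfp⟩
  have hprime := p.isPrime
  have hnu : ¬ IsUnit f := fun hu => hprime.ne_top (Ideal.eq_top_of_isUnit_mem _ hfp hu)
  have hle : Ideal.span {f} ≤ p.asIdeal := (Ideal.span_singleton_le_iff_mem _).mpr hfp
  have hh : (Ideal.span {f}).height = 1 :=
    Ideal.height_span_singleton_eq_one_of_mem_nonZeroDivisors
      (mem_nonZeroDivisors_of_ne_zero hf) hnu
  exact Ideal.mem_minimalPrimes_of_height_le hle (by rw [hp1, hh])

/-- If there are only finitely many height-one primes, then every prime has height at most one. -/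
theorem height_le_one_of_finite_height_one
    (hfin : {p : PrimeSpectrum R | p.asIdeal.height = 1}.Finite) (q : Ideal R) [q.IsPrime] :
    q.height ≤ 1 := by
  classical
  by_cases hq0 : q = ⊥
  · rw [hq0]; simp
  have hsub : (q : Set R) ⊆ ⋃ p ∈ (↑hfin.toFinset : Set (PrimeSpectrum R)), (p.asIdeal : Set R) := by
    intro x hx
    by_cases hx0 : x = 0
    · -- need some height-one prime
      obtain ⟨y, hyq, hy0⟩ := Submodule.exists_mem_ne_zero_of_ne_bot hq0
      have hyu : ¬ IsUnit y := fun hu => (‹q.IsPrime›).ne_top (Ideal.eq_top_of_isUnit_mem _ hyq hu)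
      obtain ⟨p, hp, hp1, -⟩ := exists_height_one_prime_mem y hy0 hyu
      simp only [Set.mem_iUnion]
      refine ⟨⟨p, hp⟩, by simpa using hp1, ?_⟩
      rw [hx0]; exact p.zero_mem
    · have hxu : ¬ IsUnit x := fun hu => (‹q.IsPrime›).ne_top (Ideal.eq_top_of_isUnit_mem _ hx hu)
      obtain ⟨p, hp, hp1, hxp⟩ := exists_height_one_prime_mem x hx0 hxu
      simp only [Set.mem_iUnion]
      exact ⟨⟨p, hp⟩, by simpa using hp1, hxp⟩
  have hsub' := (Ideal.subset_union_prime (f := fun p : PrimeSpectrum R => p.asIdeal)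
    (s := hfin.toFinset) (Classical.arbitrary _ ) (Classical.arbitrary _)
    (fun p _ _ _ => p.isPrime)).mp hsub
  obtain ⟨p, hp, hqp⟩ := hsub'
  have hp1 : p.asIdeal.height = 1 := by simpa using hp
  exact (Ideal.height_mono hqp).trans hp1.le

end Groth.Agent.H11
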