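import Groth.Prelude.Def_Found
import Groth.Agent.H11.N2QF
import Groth.Agent.H11.N2Insep
import Groth.Agent.H11.MvPSN2
import Groth.Agent.S0571
import Mathlib

set_option autoImplicit false
set_option linter.style.haveILetI false
set_option linter.unusedSectionVars false

universe u

namespace Groth.Agent.H11.LocalGlobalN2

/-- N-2 applied with an arbitrary model `K₀` of the fraction field. -/
theorem finite_integralClosure_of_isN2 {R : Type u} [CommRing R] [IsDomain R] (hR : CAlg.IsN2 R)
    (K₀ L : Type u) [Field K₀] [Field L] [Algebra R K₀] [IsFractionRing R K₀] [Algebra R L]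
    [Algebra K₀ L] [IsScalarTower R K₀ L] [FiniteDimensional K₀ L] :
    Module.Finite R (integralClosure R L) := by
  let e : FractionRing R ≃ₐ[R] K₀ := FractionRing.algEquiv R K₀
  letI : Algebra (FractionRing R) L :=
    ((algebraMap K₀ L).comp (e : FractionRing R →+* K₀)).toAlgebra
  haveI : IsScalarTower R (FractionRing R) L := IsScalarTower.of_algebraMap_eq fun r => by
    show algebraMap R L r = algebraMap K₀ L (e (algebraMap R (FractionRing R) r))
    rw [e.commutes, ← IsScalarTower.algebraMap_apply]
  letI : Algebra (FractionRing R) K₀ := (e : FractionRing R →+* K₀).toAlgebra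
  haveI : IsScalarTower (FractionRing R) K₀ L := IsScalarTower.of_algebraMap_eq fun _ => rfl
  haveI : Module.Finite (FractionRing R) K₀ :=
    Module.Finite.of_surjective (Algebra.linearMap (FractionRing R) K₀) e.surjective
  haveI : FiniteDimensional (FractionRing R) L := Module.Finite.trans K₀ L
  exact hR L inferInstance

/-- A finite subalgebra of a finite extension field with full fraction field. -/
theorem exists_finite_subalgebra_isFractionRing (D : Type u) [CommRing D] [IsDomain D]
    (K' : Type u) [Field K'] [Algebra D K'] [Algebra (FractionRing D) K']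
    [IsScalarTower D (FractionRing D) K'] [FiniteDimensional (FractionRing D) K'] :
    ∃ B' : Subalgebra D K', Module.Finite D B' ∧ IsFractionRing B' K' := by
  classical
  let K := FractionRing D
  let b := Module.finBasis K K'
  obtain ⟨y, hy0, hy⟩ := exists_integral_multiples D K (Finset.univ.image b)
  have hDK' : Function.Injective (algebraMap D K') := by
    rw [IsScalarTower.algebraMap_eq D K K']
    exact (algebraMap K K').injective.comp (IsFractionRing.injective D K)
  let g : Fin (Module.finrank K K') → K' := fun i => y • b i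
  have hg : ∀ i, IsIntegral D (g i) := fun i => hy _ (Finset.mem_image_of_mem _ (Finset.mem_univ i))
  let B' : Subalgebra D K' := Algebra.adjoin D (Set.range g)
  have hfg : (Subalgebra.toSubmodule B').FG :=
    fg_adjoin_of_finite (Set.finite_range g) (by rintro _ ⟨i, rfl⟩; exact hg i)
  refine ⟨B', Module.Finite.iff_fg.mpr hfg, ?_⟩
  have hgmem : ∀ i, g i ∈ B' := fun i => Algebra.subset_adjoin ⟨i, rfl⟩
  refine ⟨?_, ?_, ?_⟩
  · rintro ⟨z, hz⟩
    have hz0 : z ≠ 0 := nonZeroDivisors.ne_zero hz
    have : (z : K') ≠ 0 := fun h => hz0 (Subtype.ext h)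
    exact isUnit_iff_ne_zero.mpr this
  · intro z
    -- common denominator of the coordinates
    obtain ⟨d, hd⟩ := IsLocalization.exist_integer_multiples_of_finset (nonZeroDivisors D)
      (Finset.univ.image fun i => b.repr z i)
    have hd' : ∀ i, ∃ c : D, algebraMap D K c = (d : D) • b.repr z i := fun i =>
      hd _ (Finset.mem_image_of_mem _ (Finset.mem_univ i))
    choose c hc using hd'
    have hd0 : (d : D) ≠ 0 := nonZeroDivisors.ne_zero d.2
    have hmem : ((d : D) * y) • z ∈ B' := by
      have : ((d : D) * y) • z = ∑ i, c i • g i := by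
        conv_lhs => rw [← b.sum_repr z]
        rw [Finset.smul_sum]
        refine Finset.sum_congr rfl fun i _ => ?_
        show ((d : D) * y) • (b.repr z i • b i) = c i • (y • b i)
        rw [mul_smul, smul_comm y, ← smul_assoc (d : D), ← hc i, algebraMap_smul, smul_comm]
      rw [this]
      exact sum_mem fun i _ => Subalgebra.smul_mem _ (hgmem i) _
    have hne : (⟨((d : D) * y) • (1 : K'), by
        rw [Algebra.smul_def, mul_one]; exact Subalgebra.algebraMap_mem _ _⟩ : B') ≠ 0 := by
      intro h
      have h1 : ((d : D) * y) • (1 : K') = 0 := congrArg Subtype.val h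
      rw [Algebra.smul_def, mul_one] at h1
      exact mul_ne_zero hd0 hy0 (hDK' (by rw [h1, map_zero]))
    refine ⟨(⟨((d : D) * y) • z, hmem⟩, ⟨_, mem_nonZeroDivisors_of_ne_zero hne⟩), ?_⟩
    show z * (((d : D) * y) • (1 : K')) = ((d : D) * y) • z
    rw [Algebra.smul_def, Algebra.smul_def, mul_one, mul_comm]
  · intro x y hxy
    have hxy' : x = y := Subtype.ext hxy
    exact ⟨1, by rw [hxy']⟩

section LocalStep

variable {D : Type u} [CommRing D] [IsDomain D] [IsNoetherianRing D]
  {K' : Type u} [Field K'] [Algebra D K'] [Algebra (FractionRing D) K']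
  [IsScalarTower D (FractionRing D) K'] [FiniteDimensional (FractionRing D) K']

/-- Local step: if `D_m` is N-2 then the localization of a finite subalgebra `B'` at a maximal
ideal over `m` is N-1. -/
theorem isN1_localization_of_isN2 (B' : Subalgebra D K') [Module.Finite D B'] [IsFractionRing B' K']
    (n : Ideal B') [n.IsMaximal]
    (h : ∀ [(n.comap (algebraMap D B')).IsPrime],
      CAlg.IsN2 (Localization.AtPrime (n.comap (algebraMap D B')))) :
    CAlg.IsN1 (Localization.AtPrime n) := by
  let K := FractionRing D
  haveI : Algebra.IsIntegral D B' := Algebra.IsIntegral.of_finite D B'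
  let mb : Ideal D := n.comap (algebraMap D B')
  haveI hmb : mb.IsMaximal := Ideal.isMaximal_comap_of_isIntegral_of_isMaximal n
  haveI : mb.IsPrime := hmb.isPrime
  have hN2 : CAlg.IsN2 (Localization.AtPrime mb) := h
  let Dm := Localization.AtPrime mb
  let Bn := Localization.AtPrime n
  have hDK' : Function.Injective (algebraMap D K') := by
    rw [IsScalarTower.algebraMap_eq D K K']
    exact (algebraMap K K').injective.comp (IsFractionRing.injective D K)
  -- `Dm → K'`
  have hu1 : ∀ t : mb.primeCompl, IsUnit (algebraMap D K' t) := fun t => by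
    refine isUnit_iff_ne_zero.mpr fun h0 => t.2 ?_
    have : (t : D) = 0 := hDK' (by rw [h0, map_zero])
    rw [this]; exact zero_mem _
  letI : Algebra Dm K' := (IsLocalization.lift (M := mb.primeCompl) (S := Dm) hu1).toAlgebra
  haveI : IsScalarTower D Dm K' := IsScalarTower.of_algebraMap_eq fun d =>
    (IsLocalization.lift_eq (M := mb.primeCompl) (S := Dm) hu1 d).symm
  -- `Dm → K`
  have hu2 : ∀ t : mb.primeCompl, IsUnit (algebraMap D K t) := fun t => by
    refine isUnit_iff_ne_zero.mpr fun h0 => t.2 ?_
    have : (t : D) = 0 := IsFractionRing.injective D K (by rw [h0, map_zero])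
    rw [this]; exact zero_mem _
  letI : Algebra Dm K := (IsLocalization.lift (M := mb.primeCompl) (S := Dm) hu2).toAlgebra
  haveI : IsScalarTower D Dm K := IsScalarTower.of_algebraMap_eq fun d =>
    (IsLocalization.lift_eq (M := mb.primeCompl) (S := Dm) hu2 d).symm
  haveI : IsFractionRing Dm K :=
    IsFractionRing.isFractionRing_of_isDomain_of_isLocalization mb.primeCompl Dm K
  haveI : IsScalarTower Dm K K' := IsScalarTower.of_algebraMap_eq' (by
    apply IsLocalization.ringHom_ext mb.primeCompl
    ext d
    simp only [RingHom.comp_apply]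
    rw [← IsScalarTower.algebraMap_apply D Dm K', ← IsScalarTower.algebraMap_apply D Dm K,
      ← IsScalarTower.algebraMap_apply D K K'])
  haveI hfin : Module.Finite Dm (integralClosure Dm K') :=
    finite_integralClosure_of_isN2 hN2 K K'
  -- `Bn → K'`
  have hu3 : ∀ t : n.primeCompl, IsUnit (algebraMap B' K' t) := fun t => by
    refine isUnit_iff_ne_zero.mpr fun h0 => t.2 ?_
    have : (t : B') = 0 := Subtype.ext h0
    rw [this]; exact zero_mem _
  letI : Algebra Bn K' := (IsLocalization.lift (M := n.primeCompl) (S := Bn) hu3).toAlgebra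
  haveI : IsScalarTower B' Bn K' := IsScalarTower.of_algebraMap_eq fun d =>
    (IsLocalization.lift_eq (M := n.primeCompl) (S := Bn) hu3 d).symm
  haveI : IsFractionRing Bn K' :=
    IsFractionRing.isFractionRing_of_isDomain_of_isLocalization n.primeCompl Bn K'
  -- the comparison map
  let φ : Dm →+* Bn := Localization.localRingHom mb n (algebraMap D B') rfl
  have hφ : ∀ c : Dm, algebraMap Bn K' (φ c) = algebraMap Dm K' c := by
    have : (algebraMap Bn K').comp φ = algebraMap Dm K' := by
      apply IsLocalization.ringHom_ext mb.primeCompl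
      ext d
      simp only [RingHom.comp_apply]
      rw [Localization.localRingHom_to_map, ← IsScalarTower.algebraMap_apply B' Bn K',
        ← IsScalarTower.algebraMap_apply D Dm K', ← IsScalarTower.algebraMap_apply D B' K']
    intro c
    exact RingHom.congr_fun this c
  -- generators
  obtain ⟨r, e, he⟩ := Module.Finite.exists_fin (R := Dm) (M := integralClosure Dm K')
  let N : Submodule Bn K' := Submodule.span Bn (Set.range fun i => ((e i : K')))
  have hle : Subalgebra.toSubmodule (integralClosure Bn K') ≤ N := by
    intro x hx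
    have hx' : IsIntegral Bn x := hx
    obtain ⟨s, hs⟩ := IsIntegral.exists_multiple_integral_of_isLocalization n.primeCompl
      (Rₘ := Bn) x hx'
    have h1 : IsIntegral D (s • x) := isIntegral_trans (R := D) (A := B') _ hs
    have h2 : IsIntegral Dm (s • x) := h1.tower_top
    have h3 : (⟨s • x, h2⟩ : integralClosure Dm K') ∈ Submodule.span Dm (Set.range e) := by
      rw [he]; trivial
    obtain ⟨c, hc⟩ := (Submodule.mem_span_range_iff_exists_fun Dm).mp h3
    have hc' : s • x = ∑ i, algebraMap Dm K' (c i) * (e i : K') := by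
      have h4 : ((∑ i, c i • e i : integralClosure Dm K') : K') = s • x :=
        congrArg Subtype.val hc
      rw [← h4, AddSubmonoidClass.coe_finset_sum]
      refine Finset.sum_congr rfl fun i _ => ?_
      rw [Subalgebra.coe_smul, Algebra.smul_def]
    let u : Bn := IsLocalization.mk' Bn (1 : B') s
    have hu : algebraMap Bn K' u * algebraMap B' K' (s : B') = 1 := by
      rw [IsScalarTower.algebraMap_apply B' Bn K', ← map_mul, IsLocalization.mk'_spec, map_one,
        map_one]
    have hx1 : x = algebraMap Bn K' u * (s • x) := by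
      have : s • x = algebraMap B' K' (s : B') * x := by
        rw [Submonoid.smul_def, Algebra.smul_def]
      rw [this, ← mul_assoc, hu, one_mul]
    rw [hx1, hc', Finset.mul_sum]
    refine Submodule.sum_mem _ fun i _ => ?_
    have : algebraMap Bn K' u * (algebraMap Dm K' (c i) * (e i : K')) =
        (u * φ (c i)) • (e i : K') := by
      rw [Algebra.smul_def, map_mul, hφ, mul_assoc]
    rw [this]
    exact Submodule.smul_mem _ _ (Submodule.subset_span ⟨i, rfl⟩)
  haveI : IsNoetherianRing B' := IsNoetherianRing.of_finite D B'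
  haveI : IsNoetherianRing Bn := IsLocalization.isNoetherianRing n.primeCompl Bn inferInstance
  have hNfg : N.FG := Submodule.fg_span (Set.finite_range _)
  haveI : IsNoetherian Bn N := isNoetherian_of_fg_of_noetherian N hNfg
  haveI : IsNoetherian Bn (Subalgebra.toSubmodule (integralClosure Bn K')) :=
    isNoetherian_of_le hle
  have hFG : (Subalgebra.toSubmodule (integralClosure Bn K')).FG :=
    Module.Finite.iff_fg.mp inferInstance
  exact (Groth.Agent.H15.N1.isN1_iff' Bn K').mpr hFG

end LocalStep

/-- Local-global criterion for N-2. -/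
theorem isN2_of_local_of_generic (D : Type u) [CommRing D] [IsDomain D] [IsNoetherianRing D]
    (H1 : ∀ (m : Ideal D) [m.IsMaximal], CAlg.IsN2 (Localization.AtPrime m))
    (H2 : ∀ (K' : Type u) [Field K'] [Algebra D K'] [Algebra (FractionRing D) K']
      [IsScalarTower D (FractionRing D) K'] [FiniteDimensional (FractionRing D) K']
      [IsPurelyInseparable (FractionRing D) K'] (B' : Subalgebra D K'),
      Module.Finite D B' → IsFractionRing B' K' →
        ∃ f : B', f ≠ 0 ∧ IsIntegrallyClosed (Localization.Away f)) :
    CAlg.IsN2 D := by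
  intro L _ _ _ _ hL
  refine Groth.Agent.H11.N2Insep.finite_integralClosure_of_purelyInseparable D ?_ L hL
  intro K' _ _ _ _ hfd hpi
  obtain ⟨B', hB'fin, hB'frac⟩ := exists_finite_subalgebra_isFractionRing D K'
  obtain ⟨f, hf0, hf⟩ := H2 K' B' hB'fin hB'frac
  haveI := hB'fin
  haveI := hB'frac
  haveI : IsNoetherianRing B' := IsNoetherianRing.of_finite D B'
  haveI : Algebra.IsIntegral D B' := Algebra.IsIntegral.of_finite D B'
  have hN1 : CAlg.IsN1 B' := (Groth.Agent.S0571.result B').mpr
    ⟨⟨f, hf0, hf⟩, fun n hn => isN1_localization_of_isN2 B' n (fun {_} => by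
      haveI := Ideal.isMaximal_comap_of_isIntegral_of_isMaximal (R := D) n
      exact H1 _)⟩
  have hfg : (Subalgebra.toSubmodule (integralClosure B' K')).FG :=
    (Groth.Agent.H15.N1.isN1_iff' B' K').mp hN1
  have hfgR : ((Subalgebra.toSubmodule (integralClosure B' K')).restrictScalars D).FG :=
    hfg.restrictScalars
  haveI : Module.Finite D
      ↥((Subalgebra.toSubmodule (integralClosure B' K')).restrictScalars D) :=
    Module.Finite.iff_fg.mpr hfgR
  let g : integralClosure D K' →ₗ[D]
      ↥((Subalgebra.toSubmodule (integralClosure B' K')).restrictScalars D) :=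
    ((integralClosure D K').val.toLinearMap).codRestrict _ (fun a => by
      have h1 : IsIntegral D (a : K') := a.2
      exact h1.tower_top)
  refine Module.Finite.of_injective g (fun a b hab => ?_)
  have h' : (g a).1 = (g b).1 := congrArg Subtype.val hab
  exact Subtype.ext h'

section Quot

variable {A : Type u} [CommRing A] (p : Ideal A) [p.IsPrime]

theorem localRingHom_quotient_surjective (mb : Ideal (A ⧸ p)) [mb.IsPrime] :
    Function.Surjective (Localization.localRingHom (mb.comap (Ideal.Quotient.mk p)) mb
      (Ideal.Quotient.mk p) rfl) := by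
  intro y
  obtain ⟨d, s, rfl⟩ := IsLocalization.exists_mk'_eq mb.primeCompl y
  obtain ⟨a, rfl⟩ := Ideal.Quotient.mk_surjective d
  obtain ⟨s, hs⟩ := s
  obtain ⟨t, rfl⟩ := Ideal.Quotient.mk_surjective s
  refine ⟨IsLocalization.mk' _ a (⟨t, fun h => hs h⟩ :
    (mb.comap (Ideal.Quotient.mk p)).primeCompl), ?_⟩
  rw [Localization.localRingHom_mk']

/-- If all quotient domains of `A_{m'}` are N-2, the localization of `A/p` at `m'/p` is N-2. -/
theorem isN2_localization_quotient [IsNoetherianRing A] (mb : Ideal (A ⧸ p)) [mb.IsPrime]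
    (h : ∀ (P : Ideal (Localization.AtPrime (mb.comap (Ideal.Quotient.mk p)))) [P.IsPrime],
      CAlg.IsN2 (Localization.AtPrime (mb.comap (Ideal.Quotient.mk p)) ⧸ P)) :
    CAlg.IsN2 (Localization.AtPrime mb) := by
  let ψ := Localization.localRingHom (mb.comap (Ideal.Quotient.mk p)) mb (Ideal.Quotient.mk p) rfl
  have hψ : Function.Surjective ψ := localRingHom_quotient_surjective p mb
  haveI : (RingHom.ker ψ).IsPrime := RingHom.ker_isPrime ψ
  exact Groth.Agent.H11.MvPSN2.isN2_of_ringEquiv (RingHom.quotientKerEquivOfSurjective hψ)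
    (h (RingHom.ker ψ))

end Quot

end Groth.Agent.H11.LocalGlobalN2
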