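import Groth.Prelude.Def_Found
import Groth.Agent.H11.LocalGlobalN2
import Mathlib

set_option autoImplicit false
set_option linter.style.haveILetI false
set_option linter.unusedSectionVars false

universe u

namespace Groth.Agent.H11.NagataLocal

/-- N-2 passes to localizations. -/
theorem isN2_of_isLocalization {D T : Type u} [CommRing D] [IsDomain D] [IsNoetherianRing D]
    [CommRing T] [IsDomain T] [Algebra D T] (M : Submonoid D) [IsLocalization M T]
    (hD : CAlg.IsN2 D) : CAlg.IsN2 T := by
  intro L _ _ _ _ hfd
  have hM : M ≤ nonZeroDivisors D := by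
    intro s hs
    refine mem_nonZeroDivisors_of_ne_zero fun h0 => ?_
    have h1 : IsUnit (algebraMap D T s) := IsLocalization.map_units T ⟨s, hs⟩
    rw [h0, map_zero] at h1
    exact not_isUnit_zero h1
  letI : Algebra D L := ((algebraMap T L).comp (algebraMap D T)).toAlgebra
  haveI : IsScalarTower D T L := IsScalarTower.of_algebraMap_eq fun _ => rfl
  let K₀ := FractionRing T
  have hDT : Function.Injective (algebraMap D T) := IsLocalization.injective T hM
  haveI : IsFractionRing D K₀ := by
    have h1 : IsLocalization ((nonZeroDivisors T).comap (algebraMap D T)) K₀ :=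
      IsLocalization.localization_localization_isLocalization_of_has_all_units M
        (nonZeroDivisors T) K₀ (fun x hx => hx.mem_nonZeroDivisors)
    have h2 : (nonZeroDivisors T).comap (algebraMap D T) = nonZeroDivisors D := by
      ext d
      rw [Submonoid.mem_comap, mem_nonZeroDivisors_iff_ne_zero, mem_nonZeroDivisors_iff_ne_zero]
      exact (map_ne_zero_iff _ hDT)
    rwa [h2] at h1
  haveI : IsScalarTower D K₀ L := IsScalarTower.of_algebraMap_eq fun d => by
    rw [IsScalarTower.algebraMap_apply D T K₀, ← IsScalarTower.algebraMap_apply T K₀ L,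
      ← IsScalarTower.algebraMap_apply D T L]
  haveI hfin : Module.Finite D (integralClosure D L) :=
    Groth.Agent.H11.LocalGlobalN2.finite_integralClosure_of_isN2 hD K₀ L
  obtain ⟨r, e, he⟩ := Module.Finite.exists_fin (R := D) (M := integralClosure D L)
  let N : Submodule T L := Submodule.span T (Set.range fun i => ((e i : L)))
  have hle : Subalgebra.toSubmodule (integralClosure T L) ≤ N := by
    intro x hx
    have hx' : IsIntegral T x := hx
    obtain ⟨s, hs⟩ := IsIntegral.exists_multiple_integral_of_isLocalization M (Rₘ := T) x hx'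
    have h3 : (⟨s • x, hs⟩ : integralClosure D L) ∈ Submodule.span D (Set.range e) := by
      rw [he]; trivial
    obtain ⟨c, hc⟩ := (Submodule.mem_span_range_iff_exists_fun D).mp h3
    have hc' : s • x = ∑ i, algebraMap D L (c i) * (e i : L) := by
      have h4 : ((∑ i, c i • e i : integralClosure D L) : L) = s • x :=
        congrArg Subtype.val hc
      rw [← h4, AddSubmonoidClass.coe_finsetSum]
      refine Finset.sum_congr rfl fun i _ => ?_
      rw [Subalgebra.coe_smul, Algebra.smul_def]
    let u : T := IsLocalization.mk' T (1 : D) s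
    have hu : algebraMap T L u * algebraMap D L (s : D) = 1 := by
      rw [IsScalarTower.algebraMap_apply D T L, ← map_mul, IsLocalization.mk'_spec, map_one,
        map_one]
    have hx1 : x = algebraMap T L u * (s • x) := by
      have : s • x = algebraMap D L (s : D) * x := by
        rw [Submonoid.smul_def, Algebra.smul_def]
      rw [this, ← mul_assoc, hu, one_mul]
    rw [hx1, hc', Finset.mul_sum]
    refine Submodule.sum_mem _ fun i _ => ?_
    have : algebraMap T L u * (algebraMap D L (c i) * (e i : L)) =
        (u * algebraMap D T (c i)) • (e i : L) := by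
      rw [Algebra.smul_def, map_mul, ← IsScalarTower.algebraMap_apply D T L, mul_assoc]
    rw [this]
    exact Submodule.smul_mem _ _ (Submodule.subset_span ⟨i, rfl⟩)
  haveI : IsNoetherianRing T := IsLocalization.isNoetherianRing M T inferInstance
  have hNfg : N.FG := Submodule.fg_span (Set.finite_range _)
  haveI : IsNoetherian T N := isNoetherian_of_fg_of_noetherian N hNfg
  haveI : IsNoetherian T (Subalgebra.toSubmodule (integralClosure T L)) :=
    isNoetherian_of_le hle
  exact (inferInstance : Module.Finite T (Subalgebra.toSubmodule (integralClosure T L)))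

section QuotLoc

variable {A : Type u} [CommRing A] (m : Ideal A) [m.IsPrime]
  (P : Ideal (Localization.AtPrime m)) [P.IsPrime]

/-- `A_m / P` as an algebra over `A / (P ∩ A)`. -/
@[instance_reducible]
noncomputable def quotAlgebra :
    Algebra (A ⧸ P.comap (algebraMap A (Localization.AtPrime m))) (Localization.AtPrime m ⧸ P) :=
  (Ideal.quotientMap P (algebraMap A (Localization.AtPrime m)) le_rfl).toAlgebra

attribute [local instance] quotAlgebra in
theorem isLocalization_quot :
    IsLocalization (m.primeCompl.map (Ideal.Quotient.mk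
      (P.comap (algebraMap A (Localization.AtPrime m))))) (Localization.AtPrime m ⧸ P) := by
  let p := P.comap (algebraMap A (Localization.AtPrime m))
  have halg : ∀ a : A, algebraMap (A ⧸ p) (Localization.AtPrime m ⧸ P) (Ideal.Quotient.mk p a) =
      Ideal.Quotient.mk P (algebraMap A (Localization.AtPrime m) a) := fun a => rfl
  refine ⟨?_, ?_, ?_⟩
  · rintro ⟨_, s, hs, rfl⟩
    rw [halg]
    exact (IsLocalization.map_units (Localization.AtPrime m) (⟨s, hs⟩ : m.primeCompl)).map _
  · intro z
    obtain ⟨y, rfl⟩ := Ideal.Quotient.mk_surjective z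
    obtain ⟨a, s, rfl⟩ := IsLocalization.exists_mk'_eq m.primeCompl y
    refine ⟨(Ideal.Quotient.mk p a, ⟨Ideal.Quotient.mk p s, s, s.2, rfl⟩), ?_⟩
    show Ideal.Quotient.mk P _ * algebraMap (A ⧸ p) _ (Ideal.Quotient.mk p (s : A)) =
      algebraMap (A ⧸ p) _ (Ideal.Quotient.mk p a)
    rw [halg, halg, ← map_mul, IsLocalization.mk'_spec]
  · intro x y hxy
    obtain ⟨a, rfl⟩ := Ideal.Quotient.mk_surjective x
    obtain ⟨b, rfl⟩ := Ideal.Quotient.mk_surjective y
    rw [halg, halg, Ideal.Quotient.eq, ← map_sub] at hxy
    have : Ideal.Quotient.mk p a = Ideal.Quotient.mk p b := by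
      rw [Ideal.Quotient.eq]; exact hxy
    exact ⟨1, by rw [this]⟩

end QuotLoc

end Groth.Agent.H11.NagataLocal
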