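import Groth.Prelude.Def_Found
import Mathlib
import Groth.Agent.H11.NagataLocal
import Groth.Agent.H11.MvPSN2

set_option autoImplicit false
set_option linter.style.haveILetI false

universe u

namespace Groth.Agent.H11.NagataBasic

/-- A quotient of a Nagata ring is Nagata. -/
theorem isNagata_of_surjective {R S : Type u} [CommRing R] [CommRing S] (f : R →+* S)
    (hf : Function.Surjective f) (hR : CAlg.IsNagata R) : CAlg.IsNagata S := by
  haveI := hR.1
  refine ⟨isNoetherianRing_of_surjective R S f hf, fun Q _ => ?_⟩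
  let P : Ideal R := Q.comap f
  haveI : P.IsPrime := Ideal.comap_isPrime _ _
  let g : R ⧸ P →+* S ⧸ Q := Ideal.quotientMap Q f le_rfl
  have hg : Function.Bijective g :=
    ⟨Ideal.quotientMap_injective, Ideal.quotientMap_surjective hf⟩
  exact Groth.Agent.H11.MvPSN2.isN2_of_ringEquiv (RingEquiv.ofBijective g hg) (hR.2 P)

/-- The Nagata property transfers along ring isomorphisms. -/
theorem isNagata_of_ringEquiv {R S : Type u} [CommRing R] [CommRing S] (e : R ≃+* S)
    (hR : CAlg.IsNagata R) : CAlg.IsNagata S :=
  isNagata_of_surjective e.toRingHom e.surjective hR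

/-- A localization of a Nagata ring is Nagata. -/
theorem isNagata_of_isLocalization {D T : Type u} [CommRing D] [CommRing T] [Algebra D T]
    (M : Submonoid D) [IsLocalization M T] (hD : CAlg.IsNagata D) : CAlg.IsNagata T := by
  haveI := hD.1
  haveI hT : IsNoetherianRing T := IsLocalization.isNoetherianRing M T inferInstance
  refine ⟨hT, fun Q hQ => ?_⟩
  let q : Ideal D := Q.comap (algebraMap D T)
  haveI : q.IsPrime := Ideal.comap_isPrime _ _
  have hQ' : q.map (algebraMap D T) = Q := IsLocalization.map_comap M T Q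
  haveI : (q.map (algebraMap D T)).IsPrime := hQ' ▸ hQ
  have h1 : CAlg.IsN2 (T ⧸ q.map (algebraMap D T)) :=
    Groth.Agent.H11.NagataLocal.isN2_of_isLocalization (D := D ⧸ q)
      (T := T ⧸ q.map (algebraMap D T)) (Algebra.algebraMapSubmonoid (D ⧸ q) M) (hD.2 q)
  exact Groth.Agent.H11.MvPSN2.isN2_of_ringEquiv (Ideal.quotEquivOfEq hQ') h1

/-- An integrally closed domain is N-1. -/
theorem isN1_of_isIntegrallyClosed (A : Type u) [CommRing A] [IsDomain A] [IsIntegrallyClosed A] :
    CAlg.IsN1 A := by
  unfold CAlg.IsN1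
  rw [IsIntegrallyClosed.integralClosure_eq_bot]
  infer_instance

end Groth.Agent.H11.NagataBasic
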