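import Groth.Prelude.Def_Found
import Mathlib
import Groth.Agent.H11.NagataBasic

set_option autoImplicit false
set_option linter.style.haveILetI false

universe u

namespace Groth.Agent.H11.NagataCore

open Polynomial

section Monogenic

variable {R B : Type u} [CommRing R] [CommRing B] [Algebra R B] (y : B)
  (hy : Algebra.adjoin R {y} = ⊤)

include hy in
theorem exists_aeval_eq (s : B) : ∃ g : R[X], aeval y g = s := by
  have h : s ∈ Algebra.adjoin R {y} := hy ▸ Algebra.mem_top
  rw [Algebra.adjoin_singleton_eq_range_aeval] at h
  exact h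

include hy in
theorem exists_add_mul (s : B) : ∃ (r : R) (s' : B), s = algebraMap R B r + y * s' := by
  obtain ⟨g, rfl⟩ := exists_aeval_eq y hy s
  refine ⟨g.coeff 0, aeval y g.divX, ?_⟩
  have h := congrArg (aeval y) (Polynomial.divX_mul_X_add g)
  rw [map_add, map_mul, aeval_X, aeval_C] at h
  rw [← h]
  ring

/-- `R ∩ yR[y] = R ∩ yR` for an integrally closed domain `R` and `y` in its fraction field. -/
theorem exists_mul_algebraMap_of_eq [IsDomain R] [IsIntegrallyClosed R]
    (K : Type u) [Field K] [Algebra R K] [IsFractionRing R K] [Algebra B K] [IsScalarTower R B K]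
    (hBK : Function.Injective (algebraMap B K)) :
    ∀ (n : ℕ) (g : R[X]), g.natDegree ≤ n → ∀ r : R, algebraMap R B r = y * aeval y g →
      ∃ r' : R, algebraMap R B r = y * algebraMap R B r' := by
  intro n
  induction n with
  | zero =>
    intro g hg r hr
    rw [Polynomial.eq_C_of_natDegree_le_zero hg, aeval_C] at hr
    exact ⟨_, hr⟩
  | succ n ih =>
    intro g hg r hr
    by_cases hg' : g.natDegree ≤ n
    · exact ih g hg' r hr
    have hdeg : g.natDegree = n + 1 := le_antisymm hg (Nat.lt_of_not_le hg')
    have hg0 : g ≠ 0 := by
      intro h0; rw [h0] at hdeg; simp at hdeg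
    set h : R[X] := g * X - C r with hh
    have hh0 : aeval y h = 0 := by
      rw [hh, map_sub, map_mul, aeval_X, aeval_C, hr, mul_comm, sub_self]
    have hlead : h.leadingCoeff = g.leadingCoeff := by
      rw [hh, Polynomial.leadingCoeff_sub_of_degree_lt, Polynomial.leadingCoeff_mul_X]
      rw [Polynomial.degree_mul_X, Polynomial.degree_eq_natDegree hg0, hdeg]
      refine lt_of_le_of_lt Polynomial.degree_C_le ?_
      exact_mod_cast Nat.succ_pos _
    have hint : IsIntegral R (g.leadingCoeff • y) := by
      rw [← hlead]; exact isIntegral_leadingCoeff_smul h y hh0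
    have hintK : IsIntegral R (algebraMap B K (g.leadingCoeff • y)) :=
      hint.map (IsScalarTower.toAlgHom R B K)
    obtain ⟨d, hd⟩ := IsIntegrallyClosed.isIntegral_iff.mp hintK
    have hd' : algebraMap R B d = g.leadingCoeff • y := by
      apply hBK
      rw [← hd, ← IsScalarTower.algebraMap_apply]
    refine ih (C d * X ^ n + g.eraseLead) ?_ r ?_
    · refine (Polynomial.natDegree_add_le _ _).trans (max_le ?_ ?_)
      · exact (Polynomial.natDegree_C_mul_X_pow_le d n)
      · have := Polynomial.eraseLead_natDegree_le g
        omega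
    · rw [hr]
      congr 1
      conv_lhs => rw [← Polynomial.eraseLead_add_C_mul_X_pow g]
      rw [map_add, map_add, map_mul, map_mul, aeval_C, aeval_C, map_pow, map_pow, aeval_X, hdeg,
        hd', Algebra.smul_def, pow_succ]
      ring

end Monogenic

section DVR

variable {R B : Type u} [CommRing R] [IsDomain R] [CommRing B] [IsDomain B] [Algebra R B]

/-- If `R ⊆ B` are domains with the same fraction field and `R_p` is a DVR for `p = P ∩ R`,
then `B_P` is a DVR. -/
theorem dvr_of_dvr_comap (K : Type u) [Field K] [Algebra R K] [Algebra B K] [IsScalarTower R B K]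
    [IsFractionRing R K] [IsFractionRing B K] (P : Ideal B) [P.IsPrime]
    [hDVR : IsDiscreteValuationRing (Localization.AtPrime (P.comap (algebraMap R B)))] :
    IsDiscreteValuationRing (Localization.AtPrime P) := by
  let p : Ideal R := P.comap (algebraMap R B)
  let Rp := Localization.AtPrime p
  let BP := Localization.AtPrime P
  have hRK : Function.Injective (algebraMap R K) := IsFractionRing.injective R K
  have hBK : Function.Injective (algebraMap B K) := IsFractionRing.injective B K
  let ιR : Rp →+* K := IsLocalization.lift (M := p.primeCompl) (g := algebraMap R K)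
    (fun s => isUnit_iff_ne_zero.mpr fun h0 => s.2 (by
      have : (s : R) = 0 := hRK (by rw [h0, map_zero])
      rw [this]; exact p.zero_mem))
  let ιB : BP →+* K := IsLocalization.lift (M := P.primeCompl) (g := algebraMap B K)
    (fun s => isUnit_iff_ne_zero.mpr fun h0 => s.2 (by
      have : (s : B) = 0 := hBK (by rw [h0, map_zero])
      rw [this]; exact P.zero_mem))
  letI algRpK : Algebra Rp K := ιR.toAlgebra
  letI algBPK : Algebra BP K := ιB.toAlgebra
  haveI : IsScalarTower R Rp K := IsScalarTower.of_algebraMap_eq fun r =>
    (IsLocalization.lift_eq _ r).symm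
  haveI : IsScalarTower B BP K := IsScalarTower.of_algebraMap_eq fun r =>
    (IsLocalization.lift_eq _ r).symm
  haveI : IsFractionRing Rp K :=
    IsFractionRing.isFractionRing_of_isDomain_of_isLocalization p.primeCompl Rp K
  haveI : IsFractionRing BP K :=
    IsFractionRing.isFractionRing_of_isDomain_of_isLocalization P.primeCompl BP K
  let φ : Rp →+* BP := Localization.localRingHom p P (algebraMap R B) rfl
  have hφ : ∀ z : Rp, algebraMap BP K (φ z) = algebraMap Rp K z := by
    intro z
    have : (algebraMap BP K).comp φ = algebraMap Rp K := by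
      apply IsLocalization.ringHom_ext p.primeCompl
      ext r
      simp only [RingHom.comp_apply]
      rw [show φ (algebraMap R Rp r) = algebraMap B BP (algebraMap R B r) from
        Localization.localRingHom_to_map p P (algebraMap R B) rfl r,
        ← IsScalarTower.algebraMap_apply B BP K, ← IsScalarTower.algebraMap_apply R B K,
        ← IsScalarTower.algebraMap_apply R Rp K]
    exact congrFun (congrArg DFunLike.coe this) z
  have hιB : Function.Injective (algebraMap BP K) := IsFractionRing.injective BP K
  have hιR : Function.Injective (algebraMap Rp K) := IsFractionRing.injective Rp K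
  have hinj : Function.Injective φ := by
    intro a b hab
    apply hιR
    rw [← hφ, ← hφ, hab]
  have hsurj : Function.Surjective φ := by
    intro z
    have key : ∀ ρ : Rp, algebraMap Rp K ρ = algebraMap BP K z → ∃ a, φ a = z :=
      fun ρ hρ => ⟨ρ, hιB (by rw [hφ, hρ])⟩
    rcases ValuationRing.isInteger_or_isInteger Rp (algebraMap BP K z) with ⟨ρ, hρ⟩ | ⟨ρ, hρ⟩
    · exact key ρ hρ
    · by_cases hz : z = 0
      · exact ⟨0, by rw [map_zero, hz]⟩
      have hζ : algebraMap BP K z ≠ 0 := fun h0 => hz (hιB (by rw [h0, map_zero]))
      by_cases hu : IsUnit ρ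
      · obtain ⟨u, rfl⟩ := hu
        refine key (↑u⁻¹) ?_
        have h1 : algebraMap Rp K (↑u⁻¹ : Rp) * algebraMap Rp K (u : Rp) = 1 := by
          rw [← map_mul, Units.inv_mul, map_one]
        rw [hρ] at h1
        field_simp at h1
        exact h1
      · exfalso
        have h1 : ρ ∈ IsLocalRing.maximalIdeal Rp := hu
        have h2 : φ ρ ∈ IsLocalRing.maximalIdeal BP := by
          haveI : IsLocalHom φ := Localization.isLocalHom_localRingHom p P (algebraMap R B) rfl
          exact _root_.map_nonunit φ ρ h1
        have h3 : φ ρ * z = 1 := by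
          apply hιB
          rw [map_mul, hφ, hρ, map_one, inv_mul_cancel₀ hζ]
        exact h2 (IsUnit.of_mul_eq_one _ h3)
  exact IsDiscreteValuationRing.RingEquivClass.isDiscreteValuationRing
    (RingEquiv.ofBijective φ ⟨hinj, hsurj⟩)

end DVR

end Groth.Agent.H11.NagataCore
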