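import Groth.Prelude.Def_Found
import Mathlib
import Groth.Agent.H11.NagataCore
import Groth.Agent.H11.AnUnram2
import Groth.Agent.H23.NagataAU
import Groth.Agent.S2093
import Groth.Agent.H29.CplQuot

set_option autoImplicit false
set_option linter.style.haveILetI false
set_option maxHeartbeats 400000

universe u

namespace Groth.Agent.H11.NagataCore

open Polynomial IsLocalRing

/-- Core step of Nagata's theorem: `R` a normal Nagata domain, `B = R[y]` a birational monogenic
extension, `m0` a prime of `B` containing `y`.  Then `B_{m0}` is N-1. -/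
theorem core (R : Type u) [CommRing R] [IsDomain R] [IsIntegrallyClosed R] (hR : CAlg.IsNagata R)
    (B : Type u) [CommRing B] [IsDomain B] [Algebra R B] (y : B) (hy : Algebra.adjoin R {y} = ⊤)
    (K : Type u) [Field K] [Algebra B K] [IsFractionRing B K] [Algebra R K] [IsScalarTower R B K]
    [IsFractionRing R K] (m0 : Ideal B) [m0.IsPrime] (hym : y ∈ m0) :
    CAlg.IsN1 (Localization.AtPrime m0) := by
  classical
  haveI := hR.1
  have hRK : Function.Injective (algebraMap R K) := IsFractionRing.injective R K
  have hBK : Function.Injective (algebraMap B K) := IsFractionRing.injective B K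
  have hRB : Function.Injective (algebraMap R B) := by
    intro a b hab
    apply hRK
    rw [IsScalarTower.algebraMap_apply R B K, hab, ← IsScalarTower.algebraMap_apply]
  by_cases hy0 : y = 0
  · have hsurj : Function.Surjective (algebraMap R B) := by
      intro s
      obtain ⟨r, s', rfl⟩ := exists_add_mul y hy s
      exact ⟨r, by rw [hy0, zero_mul, add_zero]⟩
    let e : R ≃+* B := RingEquiv.ofBijective (algebraMap R B) ⟨hRB, hsurj⟩
    haveI : IsIntegrallyClosed B := IsIntegrallyClosed.of_equiv e
    haveI : IsIntegrallyClosed (Localization.AtPrime m0) :=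
      isIntegrallyClosed_of_isLocalization _ m0.primeCompl m0.primeCompl_le_nonZeroDivisors
    exact Groth.Agent.H11.NagataBasic.isN1_of_isIntegrallyClosed _
  haveI : Algebra.FiniteType R B := ⟨⟨{y}, by simpa using hy⟩⟩
  haveI : IsNoetherianRing B := Algebra.FiniteType.isNoetherianRing R B
  let A0 := Localization.AtPrime m0
  haveI : IsNoetherianRing A0 := IsLocalization.isNoetherianRing m0.primeCompl A0 inferInstance
  let T := AdicCompletion (maximalIdeal A0) A0
  haveI : IsNoetherianRing T := Groth.Agent.S2093.noeth_hat A0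
  haveI : IsScalarTower B A0 T := IsScalarTower.of_algebraMap_eq fun _ => rfl
  haveI : Module.Flat B A0 := IsLocalization.flat A0 m0.primeCompl
  haveI : Module.Flat A0 T := inferInstance
  haveI : Module.Flat B T := Module.Flat.trans B A0 T
  suffices hred : IsReduced T from
    Groth.Agent.H11.AnUnram.isN1_of_isReduced_completion (A := A0)
  -- the fraction presentation of y
  obtain ⟨⟨b, a⟩, hab⟩ := IsLocalization.surj (nonZeroDivisors R) (algebraMap B K y)
  have ha0 : (a : R) ≠ 0 := nonZeroDivisors.ne_zero a.2
  have hab' : y * algebraMap R B a = algebraMap R B b := by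
    apply hBK
    rw [map_mul, ← IsScalarTower.algebraMap_apply, ← IsScalarTower.algebraMap_apply]
    exact hab
  have haB : algebraMap R B a ≠ 0 := fun h => ha0 (hRB (by rw [h, map_zero]))
  have hb0 : b ≠ 0 := by
    intro h
    rw [h, map_zero] at hab'
    rcases mul_eq_zero.mp hab' with h1 | h1
    · exact hy0 h1
    · exact haB h1
  refine Groth.Agent.H23.NagataAU.crit B T y hy0 ?_ ?_
  · have h1 : algebraMap B A0 y ∈ maximalIdeal A0 :=
      (IsLocalization.AtPrime.to_map_mem_maximal_iff A0 m0 y).mpr hym
    have h2 : algebraMap A0 T (algebraMap B A0 y) ∈ maximalIdeal T :=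
      _root_.map_nonunit (algebraMap A0 T) _ h1
    rw [IsLocalRing.jacobson_eq_maximalIdeal ⊥ bot_ne_top]
    exact h2
  · intro P hP hPprime
    haveI := hPprime
    obtain ⟨_, zbar, hz⟩ := isAssociatedPrime_iff.mp hP
    obtain ⟨z, rfl⟩ := Ideal.Quotient.mk_surjective zbar
    have hmem : ∀ u : B, u ∈ P ↔ u * z ∈ Ideal.span {y} := by
      intro u
      rw [hz, Submodule.mem_colon_singleton, Submodule.mem_bot]
      have e : u • (Ideal.Quotient.mk (Ideal.span {y}) z) =
          Ideal.Quotient.mk (Ideal.span {y}) (u * z) := rfl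
      rw [e, Ideal.Quotient.eq_zero_iff_mem]
    obtain ⟨r, s', hzr⟩ := exists_add_mul y hy z
    have hmem' : ∀ u : B, u ∈ P ↔ u * algebraMap R B r ∈ Ideal.span {y} := by
      intro u
      rw [hmem, hzr, mul_add]
      have h1 : u * (y * s') ∈ Ideal.span {y} := by
        rw [mul_left_comm]
        exact Ideal.mul_mem_right _ _ (Ideal.mem_span_singleton_self y)
      exact Ideal.add_mem_iff_left _ h1
    have hyP : y ∈ P := by
      rw [hmem]; exact Ideal.mul_mem_right _ _ (Ideal.mem_span_singleton_self y)
    let p : Ideal R := P.comap (algebraMap R B)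
    haveI : p.IsPrime := Ideal.comap_isPrime _ _
    have hp : p ∈ associatedPrimes R (R ⧸ Ideal.span {b}) := by
      refine isAssociatedPrime_iff.mpr ⟨inferInstance, Ideal.Quotient.mk _ (a * r), ?_⟩
      ext u
      rw [Submodule.mem_colon_singleton, Submodule.mem_bot]
      have e : u • (Ideal.Quotient.mk (Ideal.span {b}) (a * r)) =
          Ideal.Quotient.mk (Ideal.span {b}) (u * (a * r)) := rfl
      rw [e, Ideal.Quotient.eq_zero_iff_mem, Ideal.mem_comap, hmem', Ideal.mem_span_singleton',
        Ideal.mem_span_singleton']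
      constructor
      · rintro ⟨c, hc⟩
        obtain ⟨g, rfl⟩ := exists_aeval_eq y hy c
        have h1 : algebraMap R B (u * r) = y * aeval y g := by
          rw [map_mul, ← hc, mul_comm]
        obtain ⟨r', hr'⟩ := exists_mul_algebraMap_of_eq y K hBK g.natDegree g le_rfl (u * r) h1
        refine ⟨r', hRB ?_⟩
        calc algebraMap R B (r' * b) = algebraMap R B r' * (y * algebraMap R B a) := by
              rw [map_mul, hab']
          _ = (y * algebraMap R B r') * algebraMap R B a := by ring
          _ = algebraMap R B (u * r) * algebraMap R B a := by rw [hr']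
          _ = algebraMap R B (u * (a * r)) := by rw [← map_mul]; congr 1; ring
      · rintro ⟨c, hc⟩
        refine ⟨algebraMap R B c, ?_⟩
        apply mul_left_cancel₀ haB
        calc algebraMap R B a * (algebraMap R B c * y)
            = algebraMap R B c * (y * algebraMap R B a) := by ring
          _ = algebraMap R B (c * b) := by rw [hab', map_mul]
          _ = algebraMap R B (u * (a * r)) := by rw [hc]
          _ = algebraMap R B a * (algebraMap R B u * algebraMap R B r) := by
              simp only [map_mul]; ring
    haveI hDVRp : IsDiscreteValuationRing (Localization.AtPrime p) :=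
      Groth.Agent.H23.NagataAU.dvr_of_ass R b hb0 p hp
    refine ⟨dvr_of_dvr_comap (R := R) K P, ?_⟩
    -- reducedness of T / P T
    let I : Ideal A0 := P.map (algebraMap B A0)
    have hmap : P.map (algebraMap B T) = I.map (algebraMap A0 T) := by
      rw [Ideal.map_map]; rfl
    rw [hmap]
    by_cases hI : I = ⊤
    · rw [hI, Ideal.map_top]
      haveI : Subsingleton (T ⧸ (⊤ : Ideal T)) := Ideal.Quotient.subsingleton_iff.mpr rfl
      infer_instance
    have hdisj : Disjoint (m0.primeCompl : Set B) (P : Set B) :=
      (IsLocalization.map_algebraMap_ne_top_iff_disjoint m0.primeCompl A0 P).mp hI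
    haveI hIprime : I.IsPrime :=
      IsLocalization.isPrime_of_isPrime_disjoint m0.primeCompl A0 P hPprime hdisj
    have hsurjP : Function.Surjective ((Ideal.Quotient.mk P).comp (algebraMap R B)) := by
      intro s
      obtain ⟨s, rfl⟩ := Ideal.Quotient.mk_surjective s
      obtain ⟨r₁, s₁, rfl⟩ := exists_add_mul y hy s
      refine ⟨r₁, ?_⟩
      rw [RingHom.comp_apply, eq_comm, ← sub_eq_zero, ← map_sub, Ideal.Quotient.eq_zero_iff_mem,
        add_sub_cancel_left]
      exact Ideal.mul_mem_right _ _ hyP
    have hNagBP : CAlg.IsNagata (B ⧸ P) :=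
      Groth.Agent.H11.NagataBasic.isNagata_of_surjective _ hsurjP hR
    have hNag : CAlg.IsNagata (A0 ⧸ I) :=
      Groth.Agent.H11.NagataBasic.isNagata_of_isLocalization (D := B ⧸ P) (T := A0 ⧸ I)
        (Algebra.algebraMapSubmonoid (B ⧸ P) m0.primeCompl) hNagBP
    have hred' : IsReduced (AdicCompletion (maximalIdeal (A0 ⧸ I)) (A0 ⧸ I)) :=
      Groth.Agent.H23.NagataAU.reduced_completion (A0 ⧸ I) hNag
    have hred : IsReduced (AdicCompletion ((maximalIdeal A0).map (Ideal.Quotient.mk I))
        (A0 ⧸ I)) := by
      rw [Groth.Agent.H29.CplQuot.map_mk_maximalIdeal A0 I]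
      exact hred'
    exact Groth.Agent.S2093.reduced_quot A0 I hI hred

end Groth.Agent.H11.NagataCore
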