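import Groth.Prelude.Def_Found
import Mathlib
import Groth.Agent.H11.NagataCore2
import Groth.Agent.H15.N1

set_option autoImplicit false
set_option linter.style.haveILetI false
set_option maxHeartbeats 400000

universe u

namespace Groth.Agent.H11.NagataBridge

open Polynomial IsLocalRing

/-- An intermediate domain `R → B → K` with `K` the fraction field of `R` has fraction field `K`. -/
theorem isFractionRing_of_tower (R B K : Type*) [CommRing R] [CommRing B] [IsDomain B] [Field K]
    [Algebra R B] [Algebra R K] [Algebra B K] [IsScalarTower R B K] [IsFractionRing R K]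
    (hBK : Function.Injective (algebraMap B K)) : IsFractionRing B K := by
  refine ⟨?_, ?_, ?_⟩
  · rintro ⟨b, hb⟩
    exact isUnit_iff_ne_zero.mpr fun h0 => nonZeroDivisors.ne_zero hb (hBK (by rw [h0, map_zero]))
  · intro z
    obtain ⟨⟨r, s⟩, hrs⟩ := IsLocalization.surj (nonZeroDivisors R) z
    have hs0 : algebraMap R B s ≠ 0 := by
      intro h0
      have h1 : algebraMap R K s = 0 := by
        rw [IsScalarTower.algebraMap_apply R B K, h0, map_zero]
      exact (IsLocalization.map_units K s).ne_zero h1
    refine ⟨⟨algebraMap R B r, ⟨algebraMap R B s, mem_nonZeroDivisors_of_ne_zero hs0⟩⟩, ?_⟩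
    show z * algebraMap B K (algebraMap R B s) = algebraMap B K (algebraMap R B r)
    rw [← IsScalarTower.algebraMap_apply, ← IsScalarTower.algebraMap_apply]
    exact hrs
  · intro a b hab
    exact ⟨1, by rw [hBK hab]⟩

/-- Transitivity of integrality through a ring whose image is integral. -/
theorem isIntegral_of_isIntegral_of_forall {A0 S K : Type*} [CommRing A0] [CommRing S]
    [CommRing K] [Algebra A0 K] [Algebra S K]
    (hS : ∀ s : S, IsIntegral A0 (algebraMap S K s)) {w : K} (hw : IsIntegral S w) :
    IsIntegral A0 w := by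
  let C := integralClosure A0 K
  let ψ : S →+* C := (algebraMap S K).codRestrict C (fun s => hS s)
  obtain ⟨p, hp, hpw⟩ := hw
  have hwC : IsIntegral C w := by
    refine ⟨p.map ψ, hp.map ψ, ?_⟩
    rw [Polynomial.eval₂_map]
    have : (algebraMap C K).comp ψ = algebraMap S K := by ext s; rfl
    rw [this]; exact hpw
  exact isIntegral_trans (R := A0) (A := C) w hwC

/-- A monogenic algebra over `R`, modulo a maximal ideal: the generator satisfies a polynomial whose
leading coefficient is a unit modulo the contracted prime. -/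
theorem exists_poly {R S : Type u} [CommRing R] [CommRing S] [Algebra R S] (x : S)
    (hx : Algebra.adjoin R {x} = ⊤) (m : Ideal S) [hm : m.IsMaximal] :
    ∃ G : R[X], G.leadingCoeff ∉ m.comap (algebraMap R S) ∧ 0 < G.natDegree ∧ aeval x G ∈ m := by
  let n : Ideal R := m.comap (algebraMap R S)
  haveI : n.IsPrime := Ideal.comap_isPrime _ _
  let f : R ⧸ n →+* S ⧸ m := Ideal.quotientMap m (algebraMap R S) le_rfl
  let ψ : (R ⧸ n)[X] →+* S ⧸ m := Polynomial.eval₂RingHom f (Ideal.Quotient.mk m x)
  have hψ : ∀ g : R[X], ψ (g.map (Ideal.Quotient.mk n)) = Ideal.Quotient.mk m (aeval x g) := by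
    intro g
    simp only [ψ, Polynomial.coe_eval₂RingHom, Polynomial.eval₂_map]
    rw [aeval_def, Polynomial.hom_eval₂]
    rfl
  have hsurj : Function.Surjective ψ := by
    intro s
    obtain ⟨s, rfl⟩ := Ideal.Quotient.mk_surjective s
    obtain ⟨g, rfl⟩ := Groth.Agent.H11.NagataCore.exists_aeval_eq x hx s
    exact ⟨_, hψ g⟩
  have hninj : ¬ Function.Injective ψ := by
    intro hinj
    let e : (R ⧸ n)[X] ≃+* S ⧸ m := RingEquiv.ofBijective ψ ⟨hinj, hsurj⟩
    have hfield : IsField (S ⧸ m) := (Ideal.Quotient.maximal_ideal_iff_isField_quotient m).mp hm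
    exact Polynomial.not_isField (R ⧸ n) (MulEquiv.isField hfield e.toMulEquiv)
  obtain ⟨Gbar, hG0, hGker⟩ : ∃ g, g ≠ 0 ∧ ψ g = 0 := by
    by_contra hcon
    push Not at hcon
    exact hninj ((injective_iff_map_eq_zero ψ).mpr fun g hg => by_contra fun h => hcon g h hg)
  obtain ⟨G, hGmap, hGdeg⟩ := Polynomial.exists_degree_eq_of_mem_lifts
    (Polynomial.mem_lifts_of_surjective (f := Ideal.Quotient.mk n)
      Ideal.Quotient.mk_surjective Gbar)
  have hnat : G.natDegree = Gbar.natDegree := natDegree_eq_of_degree_eq hGdeg
  have hlead : Ideal.Quotient.mk n G.leadingCoeff = Gbar.leadingCoeff := by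
    rw [Polynomial.leadingCoeff, Polynomial.leadingCoeff, hnat, ← hGmap, Polynomial.coeff_map]
  have hleadn : G.leadingCoeff ∉ n := by
    intro h
    rw [← Ideal.Quotient.eq_zero_iff_mem, hlead, Polynomial.leadingCoeff_eq_zero] at h
    exact hG0 h
  have hGm : aeval x G ∈ m := by
    rw [← Ideal.Quotient.eq_zero_iff_mem, ← hψ, hGmap]; exact hGker
  refine ⟨G, hleadn, ?_, hGm⟩
  by_contra hdeg
  have hdeg0 : G.natDegree = 0 := by omega
  have hGC : G = C (G.coeff 0) := Polynomial.eq_C_of_natDegree_eq_zero hdeg0
  rw [hGC, aeval_C] at hGm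
  apply hleadn
  rw [hGC, Polynomial.leadingCoeff_C]
  exact hGm

/-- Local N-1 property of a birational monogenic extension of a normal Nagata domain. -/
theorem isN1_localization (R : Type u) [CommRing R] [IsDomain R] [IsIntegrallyClosed R]
    (hR : CAlg.IsNagata R) (S : Type u) [CommRing S] [IsDomain S] [Algebra R S] (x : S)
    (hx : Algebra.adjoin R {x} = ⊤) [IsFractionRing R (FractionRing S)]
    (m : Ideal S) [hm : m.IsMaximal] : CAlg.IsN1 (Localization.AtPrime m) := by
  classical
  haveI := hR.1
  let K := FractionRing S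
  haveI hRSK : IsScalarTower R S K := inferInstanceAs (IsScalarTower R S (FractionRing S))
  have hSK : Function.Injective (algebraMap S K) := IsFractionRing.injective S K
  have hRK : Function.Injective (algebraMap R K) := IsFractionRing.injective R K
  obtain ⟨G, hGlead, hGdeg, hGm⟩ := exists_poly x hx m
  set y : S := aeval x G with hy
  let S0 : Subalgebra R S := Algebra.adjoin R {y}
  let y0 : S0 := ⟨y, Algebra.subset_adjoin (Set.mem_singleton y)⟩
  have hy0 : Algebra.adjoin R {y0} = ⊤ := by
    have h := Algebra.adjoin_adjoin_coe_preimage (R := R) (s := ({y} : Set S))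
    have hset : ((↑) : Algebra.adjoin R ({y} : Set S) → S) ⁻¹' {y} = {y0} := by
      ext z
      simp only [Set.mem_preimage, Set.mem_singleton_iff]
      exact ⟨fun h => Subtype.ext h, fun h => congrArg Subtype.val h⟩
    rw [hset] at h
    exact h
  haveI : IsScalarTower S0 S K := IsScalarTower.of_algebraMap_eq fun _ => rfl
  haveI : IsScalarTower R S0 K := IsScalarTower.of_algebraMap_eq fun r => by
    show algebraMap R K r = algebraMap S K (algebraMap S0 S (algebraMap R S0 r))
    rw [IsScalarTower.algebraMap_apply R S K]; rfl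
  have hS0K : Function.Injective (algebraMap S0 K) := hSK.comp Subtype.val_injective
  haveI : IsFractionRing S0 K := isFractionRing_of_tower R S0 K hS0K
  let m0 : Ideal S0 := m.comap (algebraMap S0 S)
  haveI : m0.IsPrime := Ideal.comap_isPrime _ _
  have hym0 : y0 ∈ m0 := hGm
  have hN1 : CAlg.IsN1 (Localization.AtPrime m0) :=
    Groth.Agent.H11.NagataCore.core R hR S0 y0 hy0 K m0 hym0
  let A0 := Localization.AtPrime m0
  let A := Localization.AtPrime m
  let ι0 : A0 →+* K := IsLocalization.lift (M := m0.primeCompl) (g := algebraMap S0 K)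
    (fun s => isUnit_iff_ne_zero.mpr fun h0 => s.2 (by
      have : (s : S0) = 0 := hS0K (by rw [h0, map_zero])
      rw [this]; exact m0.zero_mem))
  letI algA0K : Algebra A0 K := ι0.toAlgebra
  haveI : IsScalarTower S0 A0 K := IsScalarTower.of_algebraMap_eq fun r =>
    (IsLocalization.lift_eq _ r).symm
  haveI : IsFractionRing A0 K :=
    IsFractionRing.isFractionRing_of_isDomain_of_isLocalization m0.primeCompl A0 K
  haveI : IsFractionRing A K :=
    IsFractionRing.isFractionRing_of_isDomain_of_isLocalization m.primeCompl A K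
  let φ : A0 →+* A := Localization.localRingHom m0 m (algebraMap S0 S) rfl
  letI algA0A : Algebra A0 A := φ.toAlgebra
  haveI : IsScalarTower A0 A K := IsScalarTower.of_algebraMap_eq (fun z => by
    have h : (algebraMap A K).comp φ = algebraMap A0 K := by
      apply IsLocalization.ringHom_ext m0.primeCompl
      ext s
      simp only [RingHom.comp_apply]
      rw [show φ (algebraMap S0 A0 s) = algebraMap S A (algebraMap S0 S s) from
        Localization.localRingHom_to_map m0 m (algebraMap S0 S) rfl s,
        ← IsScalarTower.algebraMap_apply S A K, ← IsScalarTower.algebraMap_apply S0 A0 K,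
        ← IsScalarTower.algebraMap_apply S0 S K]
    exact (congrFun (congrArg DFunLike.coe h) z).symm)
  haveI : IsScalarTower R A0 K := IsScalarTower.of_algebraMap_eq fun r => by
    rw [IsScalarTower.algebraMap_apply R S0 A0, ← IsScalarTower.algebraMap_apply S0 A0 K,
      ← IsScalarTower.algebraMap_apply R S0 K]
  obtain ⟨X0, hX0⟩ := (Groth.Agent.H15.N1.isN1_iff' A0 K).mp hN1
  refine (Groth.Agent.H15.N1.isN1_iff' A K).mpr ⟨X0, ?_⟩
  -- `x` is integral over `A0`
  have hxint : IsIntegral A0 (algebraMap S K x) := by
    have hRA0 : Function.Injective (algebraMap R A0) := by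
      intro a b hab
      apply hRK
      rw [IsScalarTower.algebraMap_apply R A0 K, hab, ← IsScalarTower.algebraMap_apply]
    let q : A0[X] := G.map (algebraMap R A0) - C (algebraMap S0 A0 y0)
    have hq0 : eval₂ (algebraMap A0 K) (algebraMap S K x) q = 0 := by
      rw [eval₂_sub, eval₂_C, eval₂_map, ← IsScalarTower.algebraMap_eq R A0 K,
        ← IsScalarTower.algebraMap_apply S0 A0 K, ← aeval_def,
        Polynomial.aeval_algebraMap_apply, sub_eq_zero]
      rfl
    have hdegq : (C (algebraMap S0 A0 y0)).degree < (G.map (algebraMap R A0)).degree := by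
      rw [Polynomial.degree_map_eq_of_injective hRA0]
      refine lt_of_le_of_lt Polynomial.degree_C_le ?_
      rw [Polynomial.degree_eq_natDegree (fun h0 => by rw [h0] at hGdeg; simp at hGdeg)]
      exact_mod_cast hGdeg
    have hlead : q.leadingCoeff = algebraMap R A0 G.leadingCoeff := by
      rw [Polynomial.leadingCoeff_sub_of_degree_lt hdegq,
        Polynomial.leadingCoeff_map_of_injective hRA0]
    have hunit : IsUnit (algebraMap R A0 G.leadingCoeff) := by
      rw [IsScalarTower.algebraMap_apply R S0 A0]
      exact IsLocalization.map_units A0 (⟨algebraMap R S0 G.leadingCoeff, hGlead⟩ : m0.primeCompl)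
    obtain ⟨v, hv⟩ := hunit.exists_right_inv
    have h1 : IsIntegral A0 (q.leadingCoeff • algebraMap S K x) :=
      isIntegral_leadingCoeff_smul q (algebraMap S K x) (by rw [aeval_def]; exact hq0)
    refine IsIntegral.of_mul_unit (r := v) (y := algebraMap A0 K (algebraMap R A0 G.leadingCoeff))
      ?_ ?_
    · rw [← map_mul, mul_comm, hv, map_one]
    · rw [mul_comm, ← hlead, ← Algebra.smul_def]; exact h1
  have hSint : ∀ s : S, IsIntegral A0 (algebraMap S K s) := by
    intro s
    have hs : s ∈ Algebra.adjoin R {x} := hx ▸ Algebra.mem_top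
    induction hs using Algebra.adjoin_induction with
    | mem z hz => rw [Set.mem_singleton_iff.mp hz]; exact hxint
    | algebraMap r =>
      rw [← IsScalarTower.algebraMap_apply R S K, IsScalarTower.algebraMap_apply R A0 K]
      exact isIntegral_algebraMap
    | add a b _ _ ha hb => rw [map_add]; exact ha.add hb
    | mul a b _ _ ha hb => rw [map_mul]; exact ha.mul hb
  apply le_antisymm
  · rw [Submodule.span_le]
    intro ξ hξ
    have h1 : ξ ∈ Subalgebra.toSubmodule (integralClosure A0 K) :=
      hX0 ▸ Submodule.subset_span hξ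
    have h2 : IsIntegral A0 ξ := h1
    exact h2.tower_top
  · intro z hz
    have hzint : IsIntegral A z := hz
    obtain ⟨⟨t, ht⟩, htz⟩ :=
      IsIntegral.exists_multiple_integral_of_isLocalization m.primeCompl z hzint
    rw [Submonoid.mk_smul] at htz
    have h1 : IsIntegral A0 (t • z) := isIntegral_of_isIntegral_of_forall hSint htz
    have h2 : t • z ∈ Submodule.span A0 (X0 : Set K) := by rw [hX0]; exact h1
    have h3 : t • z ∈ Submodule.span A (X0 : Set K) :=
      Submodule.span_le_restrictScalars A0 A (X0 : Set K) h2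
    have h5 : IsLocalization.mk' A (1 : S) (⟨t, ht⟩ : m.primeCompl) * algebraMap S A t = 1 := by
      rw [mul_comm]
      exact (IsLocalization.mk'_spec'_mk (S := A) (1 : S) t ht).trans (map_one _)
    have h4 : (IsLocalization.mk' A (1 : S) (⟨t, ht⟩ : m.primeCompl)) • (t • z) = z := by
      rw [Algebra.smul_def, Algebra.smul_def, ← mul_assoc,
        IsScalarTower.algebraMap_apply S A K t, ← map_mul, h5, map_one, one_mul]
    rw [← h4]
    exact Submodule.smul_mem _ _ h3

end Groth.Agent.H11.NagataBridge
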