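import Groth.Prelude.Def_Found
import Mathlib
import Groth.Agent.H11.NagataBridge
import Groth.Agent.S0571

set_option autoImplicit false
set_option linter.style.haveILetI false
set_option maxHeartbeats 400000

universe u

namespace Groth.Agent.H11.NagataThmA

open Polynomial IsLocalRing

/-- Elements of `R[x]` with `a x = b` have denominators powers of `a`. -/
theorem exists_pow_mul_eq {R S : Type u} [CommRing R] [CommRing S] [Algebra R S] (x : S)
    (hx : Algebra.adjoin R {x} = ⊤) (a b : R) (hab : x * algebraMap R S a = algebraMap R S b)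
    (s : S) : ∃ (n : ℕ) (r : R), algebraMap R S (a ^ n) * s = algebraMap R S r := by
  have hs : s ∈ Algebra.adjoin R {x} := hx ▸ Algebra.mem_top
  induction hs using Algebra.adjoin_induction with
  | mem z hz =>
    rw [Set.mem_singleton_iff.mp hz]
    exact ⟨1, b, by rw [pow_one, mul_comm, hab]⟩
  | algebraMap r => exact ⟨0, r, by rw [pow_zero, map_one, one_mul]⟩
  | add u v _ _ hu hv =>
    obtain ⟨n₁, r₁, h₁⟩ := hu
    obtain ⟨n₂, r₂, h₂⟩ := hv
    refine ⟨n₁ + n₂, a ^ n₂ * r₁ + a ^ n₁ * r₂, ?_⟩
    rw [map_add, map_mul, map_mul, ← h₁, ← h₂, pow_add, map_mul]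
    ring
  | mul u v _ _ hu hv =>
    obtain ⟨n₁, r₁, h₁⟩ := hu
    obtain ⟨n₂, r₂, h₂⟩ := hv
    refine ⟨n₁ + n₂, r₁ * r₂, ?_⟩
    rw [map_mul, ← h₁, ← h₂, pow_add, map_mul]
    ring

/-- **Key case of Nagata's theorem**: a birational monogenic extension of a normal Nagata
domain is N-1. -/
theorem isN1_of_monogenic_birational (R : Type u) [CommRing R] [IsDomain R] [IsIntegrallyClosed R]
    (hR : CAlg.IsNagata R) (S : Type u) [CommRing S] [IsDomain S] [Algebra R S] (x : S)
    (hx : Algebra.adjoin R {x} = ⊤) [IsFractionRing R (FractionRing S)] : CAlg.IsN1 S := by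
  classical
  haveI := hR.1
  haveI : Algebra.FiniteType R S := ⟨⟨{x}, by simpa using hx⟩⟩
  haveI : IsNoetherianRing S := Algebra.FiniteType.isNoetherianRing R S
  let K := FractionRing S
  have hSK : Function.Injective (algebraMap S K) := IsFractionRing.injective S K
  have hRK : Function.Injective (algebraMap R K) := IsFractionRing.injective R K
  have hRS : Function.Injective (algebraMap R S) := by
    intro u v huv
    apply hRK
    rw [IsScalarTower.algebraMap_apply R S K, huv, ← IsScalarTower.algebraMap_apply]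
  refine (Groth.Agent.S0571.result S).mpr
    ⟨?_, fun m _ => Groth.Agent.H11.NagataBridge.isN1_localization R hR S x hx m⟩
  obtain ⟨⟨b, a⟩, hab⟩ := IsLocalization.surj (nonZeroDivisors R) (algebraMap S K x)
  have ha0 : (a : R) ≠ 0 := nonZeroDivisors.ne_zero a.2
  have hab' : x * algebraMap R S a = algebraMap R S b := by
    apply hSK
    rw [map_mul, ← IsScalarTower.algebraMap_apply, ← IsScalarTower.algebraMap_apply]
    exact hab
  have haS : algebraMap R S a ≠ 0 := fun h => ha0 (hRS (by rw [h, map_zero]))
  refine ⟨algebraMap R S a, haS, ?_⟩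
  let f : S := algebraMap R S a
  let Sf := Localization.Away f
  have hSf : Function.Injective (algebraMap S Sf) :=
    IsLocalization.injective Sf (powers_le_nonZeroDivisors_of_noZeroDivisors haS)
  haveI : IsLocalization (Submonoid.powers (a : R)) Sf := by
    refine ⟨?_, ?_, ?_⟩
    · rintro ⟨_, k, rfl⟩
      rw [IsScalarTower.algebraMap_apply R S Sf, map_pow]
      exact IsLocalization.map_units Sf (⟨f ^ k, k, rfl⟩ : Submonoid.powers f)
    · intro z
      obtain ⟨s, ⟨_, k, rfl⟩, rfl⟩ := IsLocalization.exists_mk'_eq (Submonoid.powers f) z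
      obtain ⟨n, r, hr⟩ := exists_pow_mul_eq x hx a b hab' s
      refine ⟨⟨r, ⟨(a : R) ^ (n + k), n + k, rfl⟩⟩, ?_⟩
      show IsLocalization.mk' Sf s _ * algebraMap R Sf ((a : R) ^ (n + k)) = algebraMap R Sf r
      rw [IsScalarTower.algebraMap_apply R S Sf, IsScalarTower.algebraMap_apply R S Sf, ← hr,
        map_pow, pow_add, map_mul, map_mul, map_pow, map_pow]
      have h1 : IsLocalization.mk' Sf s (⟨f ^ k, k, rfl⟩ : Submonoid.powers f) *
          algebraMap S Sf (f ^ k) = algebraMap S Sf s := IsLocalization.mk'_spec _ _ _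
      rw [map_pow] at h1
      calc IsLocalization.mk' Sf s (⟨f ^ k, k, rfl⟩ : Submonoid.powers f) *
            (algebraMap S Sf f ^ n * algebraMap S Sf f ^ k)
          = algebraMap S Sf f ^ n * (IsLocalization.mk' Sf s
              (⟨f ^ k, k, rfl⟩ : Submonoid.powers f) * algebraMap S Sf f ^ k) := by ring
        _ = algebraMap S Sf f ^ n * algebraMap S Sf s := by rw [h1]
        _ = _ := by rw [map_pow (algebraMap R S), map_pow (algebraMap S Sf)]
    · intro u v huv
      refine ⟨1, ?_⟩
      rw [IsScalarTower.algebraMap_apply R S Sf, IsScalarTower.algebraMap_apply R S Sf] at huv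
      rw [hRS (hSf huv)]
  exact isIntegrallyClosed_of_isLocalization Sf (Submonoid.powers (a : R))
    (powers_le_nonZeroDivisors_of_noZeroDivisors ha0)

end Groth.Agent.H11.NagataThmA
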