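import Groth.Prelude.Def_Found
import Mathlib
import Groth.Agent.H11.NagataThmA
import Groth.Agent.H73.NagataField
import Groth.Agent.H73.PolyN2
import Groth.Agent.S9440

set_option autoImplicit false
set_option linter.style.haveILetI false
set_option maxHeartbeats 400000

universe u

namespace Groth.Agent.H11.NagataFT

open Polynomial IsLocalRing

/-- A Nagata domain is N-2. -/
theorem isN2_of_isNagata_domain (D : Type u) [CommRing D] [IsDomain D] (hD : CAlg.IsNagata D) :
    CAlg.IsN2 D := by
  haveI := hD.1
  haveI : (⊥ : Ideal D).IsPrime := Ideal.isPrime_bot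
  exact Groth.Agent.H11.MvPSN2.isN2_of_ringEquiv (RingEquiv.quotientBot D) (hD.2 ⊥)

/-- Monogenic algebraic extensions of Nagata domains are N-2. -/
theorem isN2_of_monogenic_algebraic (D : Type u) [CommRing D] [IsDomain D] (hD : CAlg.IsNagata D)
    (E : Type u) [CommRing E] [IsDomain E] [Algebra D E]
    (hDE : Function.Injective (algebraMap D E)) (x : E) (hx : Algebra.adjoin D {x} = ⊤)
    (halg : IsAlgebraic D x) : CAlg.IsN2 E := by
  classical
  haveI := hD.1
  intro M _ _ _ _ hfd
  haveI : Algebra.FiniteType D E := ⟨⟨{x}, by simpa using hx⟩⟩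
  haveI : IsNoetherianRing E := Algebra.FiniteType.isNoetherianRing D E
  letI algDM : Algebra D M := ((algebraMap E M).comp (algebraMap D E)).toAlgebra
  haveI : IsScalarTower D E M := IsScalarTower.of_algebraMap_eq fun _ => rfl
  have hEM : Function.Injective (algebraMap E M) := by
    rw [IsScalarTower.algebraMap_eq E (FractionRing E) M]
    exact (algebraMap (FractionRing E) M).injective.comp
      (IsFractionRing.injective E (FractionRing E))
  have hDM : Function.Injective (algebraMap D M) := hEM.comp hDE
  haveI : FaithfulSMul D M := (faithfulSMul_iff_algebraMap_injective D M).mpr hDM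
  letI algKM : Algebra (FractionRing D) M := FractionRing.liftAlgebra D M
  haveI : IsScalarTower D (FractionRing D) M := FractionRing.isScalarTower_liftAlgebra D M
  -- algebraicity
  haveI : Algebra.IsAlgebraic (FractionRing E) M := Algebra.IsAlgebraic.of_finite _ _
  haveI : Algebra.IsAlgebraic E M := IsFractionRing.comap_isAlgebraic_iff.mpr
    (inferInstance : Algebra.IsAlgebraic (FractionRing E) M)
  haveI : Algebra.IsAlgebraic D E :=
    ⟨fun z => (Algebra.isAlgebraic_adjoin_singleton_iff.mpr halg) z (hx ▸ Algebra.mem_top)⟩
  haveI : Algebra.IsAlgebraic D M := Algebra.IsAlgebraic.trans D E M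
  -- essentially finite type
  haveI : Algebra.EssFiniteType (FractionRing D) M := by
    haveI : Algebra.EssFiniteType E (FractionRing E) :=
      Algebra.EssFiniteType.of_isLocalization (FractionRing E) (nonZeroDivisors E)
    haveI : Algebra.EssFiniteType D (FractionRing E) :=
      Algebra.EssFiniteType.comp D E (FractionRing E)
    haveI : IsScalarTower D (FractionRing E) M := IsScalarTower.of_algebraMap_eq fun d => by
      rw [IsScalarTower.algebraMap_apply D E M, IsScalarTower.algebraMap_apply D E (FractionRing E),
        ← IsScalarTower.algebraMap_apply E (FractionRing E) M]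
    haveI : Algebra.EssFiniteType D M := Algebra.EssFiniteType.comp D (FractionRing E) M
    exact Algebra.EssFiniteType.of_comp D (FractionRing D) M
  -- the integral closure of D in M
  let D' := integralClosure D M
  haveI hD'fin : Module.Finite D D' :=
    Groth.Agent.H73.NagataFin.finite_integralClosure_of_isN2_field D (isN2_of_isNagata_domain D hD) M
  haveI : IsFractionRing D' M := integralClosure.isFractionRing_of_algebraic (A := D) (L := M)
    (fun d hd => hDM (by rw [hd, map_zero]))
  haveI : IsIntegrallyClosed D' := by
    refine (isIntegrallyClosed_iff M).mpr fun {z} hz => ?_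
    have h1 : IsIntegral D z := isIntegral_trans (R := D) (A := D') z hz
    exact ⟨⟨z, h1⟩, rfl⟩
  have hNagD' : CAlg.IsNagata D' := Groth.Agent.S9440.nagata_of_finite D hD D'
  -- S' = D'[x]
  let xM : M := algebraMap E M x
  let S' : Subalgebra D' M := Algebra.adjoin D' {xM}
  let x' : S' := ⟨xM, Algebra.subset_adjoin (Set.mem_singleton xM)⟩
  have hx' : Algebra.adjoin D' {x'} = ⊤ := by
    have h := Algebra.adjoin_adjoin_coe_preimage (R := D') (s := ({xM} : Set M))
    have hset : ((↑) : Algebra.adjoin D' ({xM} : Set M) → M) ⁻¹' {xM} = {x'} := by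
      ext z
      simp only [Set.mem_preimage, Set.mem_singleton_iff]
      exact ⟨fun h => Subtype.ext h, fun h => congrArg Subtype.val h⟩
    rw [hset] at h
    exact h
  haveI : IsFractionRing D' (FractionRing S') := by
    let e : FractionRing S' ≃ₐ[S'] M := FractionRing.algEquiv S' M
    exact IsLocalization.isLocalization_of_algEquiv (nonZeroDivisors D')
      (e.symm.restrictScalars D')
  have hN1 : CAlg.IsN1 S' :=
    Groth.Agent.H11.NagataThmA.isN1_of_monogenic_birational D' hNagD' S' x' hx'
  have hfg : (Subalgebra.toSubmodule (integralClosure S' M)).FG :=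
    (Groth.Agent.H15.N1.isN1_iff' S' M).mp hN1
  -- E maps into S'
  have hES' : ∀ e : E, algebraMap E M e ∈ S' := by
    intro e
    have he : e ∈ Algebra.adjoin D {x} := hx ▸ Algebra.mem_top
    induction he using Algebra.adjoin_induction with
    | mem z hz =>
      rw [Set.mem_singleton_iff.mp hz]
      exact Algebra.subset_adjoin (Set.mem_singleton xM)
    | algebraMap d =>
      rw [← IsScalarTower.algebraMap_apply D E M]
      exact S'.algebraMap_mem (⟨algebraMap D M d, isIntegral_algebraMap⟩ : D')
    | add a b _ _ ha hb => rw [map_add]; exact S'.add_mem ha hb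
    | mul a b _ _ ha hb => rw [map_mul]; exact S'.mul_mem ha hb
  let ψ : E →+* S' := (algebraMap E M).codRestrict S' hES'
  letI algES' : Algebra E S' := ψ.toAlgebra
  haveI : IsScalarTower E S' M := IsScalarTower.of_algebraMap_eq fun _ => rfl
  -- S' is integral over E
  have hS'int : ∀ s : S', IsIntegral E (s : M) := by
    rintro ⟨s, hs⟩
    show IsIntegral E s
    induction hs using Algebra.adjoin_induction with
    | mem z hz => rw [Set.mem_singleton_iff.mp hz]; exact isIntegral_algebraMap
    | algebraMap d => exact (d.2 : IsIntegral D (d : M)).tower_top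
    | add a b _ _ ha hb => exact ha.add hb
    | mul a b _ _ ha hb => exact ha.mul hb
  haveI : Algebra.IsIntegral E S' := ⟨fun s =>
    (isIntegral_algebraMap_iff (A := S') (B := M) Subtype.val_injective).mp (hS'int s)⟩
  haveI : Algebra.FiniteType D' S' := ⟨⟨{x'}, by simpa using hx'⟩⟩
  haveI : Algebra.FiniteType D D' := inferInstance
  haveI : IsScalarTower D D' S' := inferInstance
  haveI : Algebra.FiniteType D S' := Algebra.FiniteType.trans (R := D) (S := D') (A := S')
    inferInstance inferInstance
  haveI : IsScalarTower D E S' := IsScalarTower.of_algebraMap_eq fun d => Subtype.ext (by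
    show algebraMap D M d = algebraMap E M (algebraMap D E d)
    rfl)
  haveI : Algebra.FiniteType E S' := Algebra.FiniteType.of_restrictScalars_finiteType D E S'
  haveI : Module.Finite E S' := Algebra.IsIntegral.finite
  have hfgE : ((Subalgebra.toSubmodule (integralClosure S' M)).restrictScalars E).FG :=
    hfg.restrictScalars
  haveI : Module.Finite E
      ↥((Subalgebra.toSubmodule (integralClosure S' M)).restrictScalars E) :=
    Module.Finite.iff_fg.mpr hfgE
  let g : integralClosure E M →ₗ[E]
      ↥((Subalgebra.toSubmodule (integralClosure S' M)).restrictScalars E) :=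
    ((integralClosure E M).val.toLinearMap).codRestrict _ (fun a => by
      have h1 : IsIntegral E (a : M) := a.2
      exact h1.tower_top)
  refine Module.Finite.of_injective g (fun a b hab => ?_)
  have h' : (g a).1 = (g b).1 := congrArg Subtype.val hab
  exact Subtype.ext h'

/-- Monogenic extensions of Nagata domains are N-2. -/
theorem isN2_of_monogenic (D : Type u) [CommRing D] [IsDomain D] (hD : CAlg.IsNagata D)
    (E : Type u) [CommRing E] [IsDomain E] [Algebra D E]
    (hDE : Function.Injective (algebraMap D E)) (x : E) (hx : Algebra.adjoin D {x} = ⊤) :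
    CAlg.IsN2 E := by
  by_cases halg : IsAlgebraic D x
  · exact isN2_of_monogenic_algebraic D hD E hDE x hx halg
  · have htr : Transcendental D x := halg
    have hinj : Function.Injective (aeval x : D[X] →ₐ[D] E) :=
      transcendental_iff_injective.mp htr
    have hsurj : Function.Surjective (aeval x : D[X] →ₐ[D] E) :=
      fun s => Groth.Agent.H11.NagataCore.exists_aeval_eq x hx s
    haveI := hD.1
    exact Groth.Agent.H11.MvPSN2.isN2_of_ringEquiv
      (RingEquiv.ofBijective (aeval x : D[X] →ₐ[D] E).toRingHom ⟨hinj, hsurj⟩)
      (Groth.Agent.H73.PolyN2.isN2_polynomial D (isN2_of_isNagata_domain D hD))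

/-- The polynomial ring over a Nagata ring is Nagata. -/
theorem isNagata_polynomial (R : Type u) [CommRing R] (hR : CAlg.IsNagata R) :
    CAlg.IsNagata R[X] := by
  haveI := hR.1
  refine ⟨inferInstance, fun Q _ => ?_⟩
  let p : Ideal R := Q.comap (algebraMap R R[X])
  haveI : p.IsPrime := Ideal.comap_isPrime _ _
  have hf : Function.Injective (algebraMap (R ⧸ p) (R[X] ⧸ Q)) :=
    Ideal.algebraMap_quotient_injective
  have hNagD : CAlg.IsNagata (R ⧸ p) :=
    Groth.Agent.H11.NagataBasic.isNagata_of_surjective (Ideal.Quotient.mk p)
      Ideal.Quotient.mk_surjective hR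
  let x : R[X] ⧸ Q := Ideal.Quotient.mk Q X
  have hx : Algebra.adjoin (R ⧸ p) {x} = ⊤ := by
    rw [eq_top_iff]
    rintro z -
    obtain ⟨g, rfl⟩ := Ideal.Quotient.mk_surjective z
    induction g using Polynomial.induction_on' with
    | add a b ha hb => rw [map_add]; exact Subalgebra.add_mem _ ha hb
    | monomial n r =>
      rw [← Polynomial.C_mul_X_pow_eq_monomial, map_mul, map_pow]
      refine Subalgebra.mul_mem _ ?_
        (Subalgebra.pow_mem _ (Algebra.subset_adjoin (Set.mem_singleton x)) n)
      exact Subalgebra.algebraMap_mem _ (Ideal.Quotient.mk p r)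
  exact isN2_of_monogenic (R ⧸ p) hNagD (R[X] ⧸ Q) hf x hx

/-- Polynomial rings in finitely many variables over a Nagata ring are Nagata. -/
theorem isNagata_mvPolynomial (R : Type u) [CommRing R] (hR : CAlg.IsNagata R) (n : ℕ) :
    CAlg.IsNagata (MvPolynomial (Fin n) R) := by
  induction n with
  | zero =>
    exact Groth.Agent.H11.NagataBasic.isNagata_of_ringEquiv
      (MvPolynomial.isEmptyRingEquiv R (Fin 0)).symm hR
  | succ n ih =>
    exact Groth.Agent.H11.NagataBasic.isNagata_of_ringEquiv
      (MvPolynomial.finSuccEquiv R n).symm.toRingEquiv (isNagata_polynomial _ ih)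

/-- **Nagata's theorem**: a finite type algebra over a Nagata ring is Nagata. -/
theorem isNagata_of_finiteType (R : Type u) [CommRing R] (hR : CAlg.IsNagata R) (S : Type u)
    [CommRing S] [Algebra R S] [hft : Algebra.FiniteType R S] : CAlg.IsNagata S := by
  obtain ⟨n, f, hf⟩ := Algebra.FiniteType.iff_quotient_mvPolynomial''.mp hft
  exact Groth.Agent.H11.NagataBasic.isNagata_of_surjective f.toRingHom hf
    (isNagata_mvPolynomial R hR n)

end Groth.Agent.H11.NagataFT
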