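import Mathlib
import Groth.Agent.S1964
import Groth.Agent.S0568
import Groth.Agent.H11.NagataFT
import Groth.Agent.H11.LocalGlobalN2

/-!
# Integral closure of a Noetherian local domain in a finite extension is semi-local with finite
residue field extensions (helper11; EGA 0_IV 23.2.?, Nagata 33.10)
-/

set_option autoImplicit false
set_option maxHeartbeats 800000
set_option linter.style.haveILetI false
set_option linter.unusedVariables false
set_option linter.unusedSectionVars false

universe u

open TensorProduct IsLocalRing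

namespace Groth.Agent.H11.SemiLocalIC

section Gen

variable (A : Type u) [CommRing A] [IsDomain A] (B : Type u) [CommRing B] [Algebra A B]
  [Module.Flat A B] [IsNoetherianRing B]
  (K' : Type u) [Field K'] [Algebra A K'] [Algebra (FractionRing A) K']
  [IsScalarTower A (FractionRing A) K'] [FiniteDimensional (FractionRing A) K']

omit [Module.Flat A B] in
theorem isNoetherianRing_tensor : IsNoetherianRing (B ⊗[A] K') := by
  letI := Algebra.TensorProduct.rightAlgebra (R := A) (A := FractionRing A) (B := B)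
  haveI hloc : IsLocalization (Algebra.algebraMapSubmonoid B (nonZeroDivisors A))
      (FractionRing A ⊗[A] B) := IsLocalization.tensorRight (FractionRing A) (nonZeroDivisors A)
  haveI hG : IsNoetherianRing (FractionRing A ⊗[A] B) :=
    IsLocalization.isNoetherianRing (Algebra.algebraMapSubmonoid B (nonZeroDivisors A)) _
      inferInstance
  haveI hN : IsNoetherianRing ((FractionRing A ⊗[A] B) ⊗[FractionRing A] K') := by
    have := Algebra.FiniteType.isNoetherianRing (FractionRing A ⊗[A] B)
      ((FractionRing A ⊗[A] B) ⊗[FractionRing A] K')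
    exact this
  let e1 := Algebra.TensorProduct.comm (FractionRing A) (FractionRing A ⊗[A] B) K'
  let e2 := Algebra.TensorProduct.cancelBaseChange A (FractionRing A) (FractionRing A) K' B
  let e3 := Algebra.TensorProduct.comm A K' B
  exact isNoetherianRing_of_ringEquiv _
    ((e1.toRingEquiv.trans e2.toRingEquiv).trans e3.toRingEquiv)

/-- The comparison map `B ⊗ A' → B ⊗ K'`. -/
noncomputable def J : B ⊗[A] ↥(integralClosure A K') →ₐ[B] B ⊗[A] K' :=
  Algebra.TensorProduct.map (AlgHom.id B B) (integralClosure A K').val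

omit [IsDomain A] [Module.Flat A B] [IsNoetherianRing B]
  [FiniteDimensional (FractionRing A) K'] in
theorem J_algebraMap (a : A) :
    J A B K' (algebraMap A (B ⊗[A] ↥(integralClosure A K')) a) = algebraMap A (B ⊗[A] K') a := by
  rw [IsScalarTower.algebraMap_apply A B (B ⊗[A] ↥(integralClosure A K')), AlgHom.commutes,
    ← IsScalarTower.algebraMap_apply]

omit [IsDomain A] [IsNoetherianRing B] [FiniteDimensional (FractionRing A) K'] in
theorem J_injective : Function.Injective (J A B K') := by
  have h0 := Module.Flat.lTensor_preserves_injective_linearMap (M := B)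
    (integralClosure A K').val.toLinearMap Subtype.val_injective
  have hΦ : ∀ z, J A B K' z = LinearMap.lTensor B (integralClosure A K').val.toLinearMap z := by
    intro z
    induction z using TensorProduct.induction_on with
    | zero => simp
    | tmul a c => rfl
    | add a c ha hc => rw [map_add, map_add, ha, hc]
  intro z1 z2 h
  apply h0
  rw [← hΦ, ← hΦ, h]

omit [Module.Flat A B] [IsNoetherianRing B] [FiniteDimensional (FractionRing A) K'] in
theorem isUnit_algebraMap (a : A) (ha : a ≠ 0) : IsUnit (algebraMap A (B ⊗[A] K') a) := by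
  have hinj : Function.Injective (algebraMap A K') := by
    rw [IsScalarTower.algebraMap_eq A (FractionRing A) K', RingHom.coe_comp]
    exact (algebraMap (FractionRing A) K').injective.comp (IsFractionRing.injective A _)
  have ha' : algebraMap A K' a ≠ 0 := fun h0 => ha (hinj (h0.trans (map_zero _).symm))
  have h1 : algebraMap A (B ⊗[A] K') a = (1 : B) ⊗ₜ[A] (algebraMap A K' a) := by
    rw [Algebra.TensorProduct.algebraMap_apply, Algebra.algebraMap_eq_smul_one,
      Algebra.algebraMap_eq_smul_one (A := K'), TensorProduct.smul_tmul]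
  rw [h1]
  refine IsUnit.of_mul_eq_one ((1 : B) ⊗ₜ[A] (algebraMap A K' a)⁻¹) ?_
  rw [Algebra.TensorProduct.tmul_mul_tmul, mul_one, mul_inv_cancel₀ ha']
  rfl

omit [Module.Flat A B] [IsNoetherianRing B] in
theorem exists_mul_mem_range (r : B ⊗[A] K') :
    ∃ a : A, a ≠ 0 ∧ algebraMap A (B ⊗[A] K') a * r ∈ (J A B K').range := by
  induction r using TensorProduct.induction_on with
  | zero => exact ⟨1, one_ne_zero, by simp⟩
  | tmul b k =>
    have halg : IsAlgebraic A k := by
      have h1 : IsAlgebraic (FractionRing A) k := Algebra.IsAlgebraic.isAlgebraic k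
      exact (IsFractionRing.isAlgebraic_iff A (FractionRing A) K').mpr h1
    obtain ⟨y, hy0, hy⟩ := halg.exists_integral_multiple
    refine ⟨y, hy0, ⟨b ⊗ₜ[A] ⟨y • k, hy⟩, ?_⟩⟩
    have h1 : algebraMap A (B ⊗[A] K') y = (1 : B) ⊗ₜ[A] (algebraMap A K' y) := by
      rw [Algebra.TensorProduct.algebraMap_apply, Algebra.algebraMap_eq_smul_one,
        Algebra.algebraMap_eq_smul_one (A := K'), TensorProduct.smul_tmul]
    rw [h1, Algebra.TensorProduct.tmul_mul_tmul, one_mul, ← Algebra.smul_def]
    rfl
  | add x y hx hy =>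
    obtain ⟨a, ha, ta, hta⟩ := hx
    obtain ⟨c, hc, tc, htc⟩ := hy
    refine ⟨a * c, mul_ne_zero ha hc,
      ⟨algebraMap A _ c * ta + algebraMap A _ a * tc, ?_⟩⟩
    have hta' : J A B K' ta = algebraMap A (B ⊗[A] K') a * x := hta
    have htc' : J A B K' tc = algebraMap A (B ⊗[A] K') c * y := htc
    show J A B K' _ = _
    rw [map_add, map_mul, map_mul, hta', htc', J_algebraMap, J_algebraMap, map_mul]
    ring

theorem finite_minimalPrimes :
    (minimalPrimes (B ⊗[A] ↥(integralClosure A K'))).Finite := by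
  letI : Algebra (B ⊗[A] ↥(integralClosure A K')) (B ⊗[A] K') := (J A B K').toRingHom.toAlgebra
  haveI hloc : IsLocalization
      ((nonZeroDivisors A).map (algebraMap A (B ⊗[A] ↥(integralClosure A K'))))
      (B ⊗[A] K') := by
    rw [isLocalization_iff]
    refine ⟨?_, ?_, ?_⟩
    · rintro ⟨_, a, ha, rfl⟩
      show IsUnit (J A B K' (algebraMap A _ a))
      rw [J_algebraMap]
      exact isUnit_algebraMap A B K' a (nonZeroDivisors.ne_zero ha)
    · intro r
      obtain ⟨a, ha, t, ht⟩ := exists_mul_mem_range A B K' r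
      refine ⟨(t, ⟨algebraMap A _ a, a, mem_nonZeroDivisors_of_ne_zero ha, rfl⟩), ?_⟩
      show r * J A B K' (algebraMap A _ a) = J A B K' t
      rw [J_algebraMap, mul_comm]
      exact ht.symm
    · intro x y hxy
      exact ⟨1, by rw [J_injective A B K' hxy]⟩
  haveI := isNoetherianRing_tensor A B K'
  have h1 := IsLocalization.minimalPrimes_comap
    ((nonZeroDivisors A).map (algebraMap A (B ⊗[A] ↥(integralClosure A K'))))
    (B ⊗[A] K') (⊥ : Ideal (B ⊗[A] K'))
  have h2 : (⊥ : Ideal (B ⊗[A] K')).comap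
      (algebraMap (B ⊗[A] ↥(integralClosure A K')) (B ⊗[A] K')) = ⊥ := by
    rw [← RingHom.ker_eq_comap_bot]
    exact (RingHom.injective_iff_ker_eq_bot _).mp (J_injective A B K')
  rw [h2] at h1
  show ((⊥ : Ideal (B ⊗[A] ↥(integralClosure A K'))).minimalPrimes).Finite
  rw [h1]
  exact (minimalPrimes.finite_of_isNoetherianRing (B ⊗[A] K')).image _

end Gen


section Hens

variable (A : Type u) [CommRing A] [IsDomain A] (B : Type u) [CommRing B] [Algebra A B]
  [IsNoetherianRing B] [HenselianLocalRing B] [Module.FaithfullyFlat A B]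
  (K' : Type u) [Field K'] [Algebra A K'] [Algebra (FractionRing A) K']
  [IsScalarTower A (FractionRing A) K'] [FiniteDimensional (FractionRing A) K']

/-- `A' → B ⊗ A'`. -/
noncomputable def ι : ↥(integralClosure A K') →+* B ⊗[A] ↥(integralClosure A K') :=
  (Algebra.TensorProduct.includeRight :
    ↥(integralClosure A K') →ₐ[A] B ⊗[A] ↥(integralClosure A K')).toRingHom

omit [IsDomain A] [IsNoetherianRing B] [Module.FaithfullyFlat A B]
  [FiniteDimensional (FractionRing A) K'] in
/-- Quotients of `B ⊗ A'` by primes are local (integral domains over a henselian local ring). -/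
theorem isLocalRing_quot (𝔭 : Ideal (B ⊗[A] ↥(integralClosure A K'))) [𝔭.IsPrime] :
    IsLocalRing ((B ⊗[A] ↥(integralClosure A K')) ⧸ 𝔭) := by
  obtain ⟨hE, -⟩ := Groth.Agent.S1964.result B ((B ⊗[A] ↥(integralClosure A K')) ⧸ 𝔭)
  exact hE.toIsLocalRing

omit [IsDomain A] [IsNoetherianRing B] [Module.FaithfullyFlat A B]
  [FiniteDimensional (FractionRing A) K'] in
theorem eq_comap_maximalIdeal (𝔭 : Ideal (B ⊗[A] ↥(integralClosure A K'))) [𝔭.IsPrime]
    [IsLocalRing ((B ⊗[A] ↥(integralClosure A K')) ⧸ 𝔭)]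
    (M : Ideal (B ⊗[A] ↥(integralClosure A K'))) (hM : M.IsMaximal) (hle : 𝔭 ≤ M) :
    M = (maximalIdeal ((B ⊗[A] ↥(integralClosure A K')) ⧸ 𝔭)).comap (Ideal.Quotient.mk 𝔭) := by
  have hne : M.map (Ideal.Quotient.mk 𝔭) ≠ ⊤ := by
    intro h
    have h2 : (M.map (Ideal.Quotient.mk 𝔭)).comap (Ideal.Quotient.mk 𝔭) = M := by
      rw [Ideal.comap_map_of_surjective _ Ideal.Quotient.mk_surjective, ← RingHom.ker_eq_comap_bot,
        Ideal.mk_ker]
      exact sup_eq_left.mpr hle
    rw [h, Ideal.comap_top] at h2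
    exact hM.ne_top h2.symm
  have h1 : M ≤ (maximalIdeal ((B ⊗[A] ↥(integralClosure A K')) ⧸ 𝔭)).comap
      (Ideal.Quotient.mk 𝔭) := by
    intro x hx
    exact IsLocalRing.le_maximalIdeal hne (Ideal.mem_map_of_mem _ hx)
  exact hM.eq_of_le (Ideal.comap_ne_top _ (maximalIdeal.isMaximal _).ne_top) h1

omit [IsNoetherianRing B] [FiniteDimensional (FractionRing A) K'] in
/-- Every maximal ideal of `A'` is the contraction of a maximal ideal of `B ⊗ A'`. -/
theorem exists_data (m' : Ideal ↥(integralClosure A K')) (hm' : m'.IsMaximal) :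
    ∃ 𝔭 ∈ minimalPrimes (B ⊗[A] ↥(integralClosure A K')),
      ∃ M : Ideal (B ⊗[A] ↥(integralClosure A K')), M.IsMaximal ∧ 𝔭 ≤ M ∧
        M.comap (ι A B K') = m' := by
  haveI : Nontrivial (↥(integralClosure A K') ⧸ m') := Ideal.Quotient.nontrivial_iff.mpr hm'.ne_top
  let φ : B ⊗[A] ↥(integralClosure A K') →ₐ[B] B ⊗[A] (↥(integralClosure A K') ⧸ m') :=
    Algebra.TensorProduct.map (AlgHom.id B B) (Ideal.Quotient.mkₐ A m')
  have hker : RingHom.ker φ.toRingHom ≠ ⊤ := RingHom.ker_ne_top _
  obtain ⟨M, hM, hle⟩ := Ideal.exists_le_maximal _ hker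
  haveI := hM.isPrime
  have hcomap : M.comap (ι A B K') = m' := by
    symm
    refine hm'.eq_of_le (Ideal.comap_ne_top _ hM.ne_top) ?_
    intro x hx
    apply hle
    show φ ((1 : B) ⊗ₜ[A] x) = 0
    rw [Algebra.TensorProduct.map_tmul]
    have : (Ideal.Quotient.mkₐ A m') x = 0 := by
      rw [Ideal.Quotient.mkₐ_eq_mk, Ideal.Quotient.eq_zero_iff_mem]; exact hx
    rw [this, TensorProduct.tmul_zero]
  obtain ⟨𝔭, h𝔭, hle'⟩ := Ideal.exists_minimalPrimes_le (bot_le : (⊥ : Ideal _) ≤ M)
  exact ⟨𝔭, h𝔭, M, hM, hle', hcomap⟩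

include B in
/-- **Part 1.** The integral closure has finitely many maximal ideals. -/
theorem finite_maximal : {m : Ideal ↥(integralClosure A K') | m.IsMaximal}.Finite := by
  classical
  have hfin := finite_minimalPrimes A B K'
  choose! f hf M hM hle hcomap using exists_data A B K'
  refine Set.Finite.of_finite_image (f := f) (hfin.subset ?_) ?_
  · rintro _ ⟨m', hm', rfl⟩
    exact hf m' hm'
  · intro m₁ hm₁ m₂ hm₂ h12
    have hp₁ := hf m₁ hm₁
    haveI : (f m₁).IsPrime := hp₁.isPrime
    haveI := isLocalRing_quot A B K' (f m₁)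
    have e1 := eq_comap_maximalIdeal A B K' (f m₁) (M m₁) (hM m₁ hm₁) (hle m₁ hm₁)
    have e2 := eq_comap_maximalIdeal A B K' (f m₁) (M m₂) (hM m₂ hm₂)
      (by rw [h12]; exact hle m₂ hm₂)
    rw [← hcomap m₁ hm₁, ← hcomap m₂ hm₂, e1, e2]

end Hens


section Span

variable (A : Type u) [CommRing A] [IsDomain A]
  (K' : Type u) [Field K'] [Algebra A K'] [Algebra (FractionRing A) K']
  [IsScalarTower A (FractionRing A) K'] [FiniteDimensional (FractionRing A) K']

/-- A finite family of integral elements spanning `A'` "up to denominators". -/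
theorem exists_span : ∃ (n : ℕ) (x : Fin n → ↥(integralClosure A K')),
    ∀ a' : ↥(integralClosure A K'), ∃ (d : A) (c : Fin n → A), d ≠ 0 ∧
      algebraMap A ↥(integralClosure A K') d * a' =
        ∑ i, algebraMap A ↥(integralClosure A K') (c i) * x i := by
  classical
  obtain ⟨n, s, hs⟩ := Module.Finite.exists_fin (R := FractionRing A) (M := K')
  have halg : ∀ i, IsAlgebraic A (s i) := fun i =>
    (IsFractionRing.isAlgebraic_iff A (FractionRing A) K').mpr
      (Algebra.IsAlgebraic.isAlgebraic (s i))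
  choose y hy0 hy using fun i => (halg i).exists_integral_multiple
  refine ⟨n, fun i => ⟨y i • s i, hy i⟩, fun a' => ?_⟩
  have hmem : (a' : K') ∈ Submodule.span (FractionRing A) (Set.range s) := by
    rw [hs]; trivial
  obtain ⟨c', hc'⟩ := (Submodule.mem_span_range_iff_exists_fun (FractionRing A)).mp hmem
  have hyK : ∀ i, algebraMap A (FractionRing A) (y i) ≠ 0 := fun i h0 =>
    hy0 i (IsFractionRing.injective A (FractionRing A) (h0.trans (map_zero _).symm))
  obtain ⟨b, hb⟩ := IsLocalization.exist_integer_multiples (nonZeroDivisors A) Finset.univ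
    (fun i => c' i / algebraMap A (FractionRing A) (y i))
  choose nn hnn using fun i => hb i (Finset.mem_univ i)
  refine ⟨b, nn, nonZeroDivisors.ne_zero b.2, ?_⟩
  apply Subtype.ext
  rw [Subalgebra.coe_mul, AddSubmonoidClass.coe_finset_sum, ← hc', Finset.mul_sum]
  refine Finset.sum_congr rfl (fun i _ => ?_)
  rw [Subalgebra.coe_mul]
  show algebraMap A K' b * (c' i • s i) = algebraMap A K' (nn i) * (y i • s i)
  have h1 : algebraMap A K' (nn i) = algebraMap (FractionRing A) K'
      ((b : A) • (c' i / algebraMap A (FractionRing A) (y i))) := by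
    rw [IsScalarTower.algebraMap_apply A (FractionRing A) K', hnn i]
  rw [h1, Algebra.smul_def (y i) (s i), Algebra.smul_def (c' i) (s i),
    IsScalarTower.algebraMap_apply A (FractionRing A) K' (y i),
    IsScalarTower.algebraMap_apply A (FractionRing A) K' b, Algebra.smul_def, map_mul,
    map_div₀]
  have h2 : algebraMap (FractionRing A) K' (algebraMap A (FractionRing A) (y i)) ≠ 0 := by
    rw [Ne, map_eq_zero]; exact hyK i
  field_simp

end Span

section FinDim

variable (A : Type u) [CommRing A] [IsDomain A]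
  (K' : Type u) [Field K'] [Algebra A K'] [Algebra (FractionRing A) K']
  [IsScalarTower A (FractionRing A) K'] [FiniteDimensional (FractionRing A) K']

theorem finiteDimensional_fractionRing
    (D E : Type u) [CommRing D] [IsDomain D] [CommRing E] [IsDomain E] [Algebra D E]
    (α : A →+* D) (hα : Function.Injective α) (ψ : ↥(integralClosure A K') →+* E)
    (hcomp : ∀ a, ψ (algebraMap A _ a) = algebraMap D E (α a))
    (hgen : ∀ e : E, e ∈ Submodule.span D (Set.range ψ))
    (L₀ F : Type u) [Field L₀] [Field F] [Algebra D L₀] [IsFractionRing D L₀] [Algebra E F]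
    [IsFractionRing E F] [Algebra D F] [IsScalarTower D E F] [Algebra L₀ F]
    [IsScalarTower D L₀ F] : FiniteDimensional L₀ F := by
  classical
  obtain ⟨n, x, hx⟩ := exists_span A K'
  let V : Submodule L₀ F :=
    Submodule.span L₀ (Set.range (fun i : Fin n => algebraMap E F (ψ (x i))))
  haveI hVfin : FiniteDimensional L₀ V := FiniteDimensional.span_of_finite L₀ (Set.finite_range _)
  have hDF : ∀ δ : D, algebraMap E F (algebraMap D E δ) = algebraMap L₀ F (algebraMap D L₀ δ) := by
    intro δ
    rw [← IsScalarTower.algebraMap_apply D E F, ← IsScalarTower.algebraMap_apply D L₀ F]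
  -- step a
  have stepa : ∀ a' : ↥(integralClosure A K'), algebraMap E F (ψ a') ∈ V := by
    intro a'
    obtain ⟨d, c, hd, hdc⟩ := hx a'
    have h1 := congrArg (fun z => algebraMap E F (ψ z)) hdc
    simp only [map_mul, map_sum, hcomp, hDF] at h1
    have hδ : algebraMap L₀ F (algebraMap D L₀ (α d)) ≠ 0 := by
      rw [Ne, map_eq_zero]
      intro h0
      exact hd (hα ((IsFractionRing.injective D L₀ (h0.trans (map_zero _).symm)).trans
        (map_zero α).symm))
    have h2 : algebraMap E F (ψ a') = ∑ i, ((algebraMap D L₀ (α d))⁻¹ * algebraMap D L₀ (α (c i))) •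
        algebraMap E F (ψ (x i)) := by
      rw [← mul_right_inj' hδ, h1, Finset.mul_sum]
      refine Finset.sum_congr rfl (fun i _ => ?_)
      rw [Algebra.smul_def, map_mul, map_inv₀]
      field_simp
    rw [h2]
    exact Submodule.sum_mem _ (fun i _ => Submodule.smul_mem _ _
      (Submodule.subset_span ⟨i, rfl⟩))
  -- step b
  have stepb : ∀ e : E, algebraMap E F e ∈ V := by
    intro e
    refine Submodule.span_induction (p := fun e _ => algebraMap E F e ∈ V) ?_ ?_ ?_ ?_ (hgen e)
    · rintro _ ⟨a', rfl⟩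
      exact stepa a'
    · rw [map_zero]; exact V.zero_mem
    · intro e₁ e₂ _ _ h₁ h₂
      rw [map_add]; exact V.add_mem h₁ h₂
    · intro δ e₁ _ h₁
      rw [Algebra.smul_def, map_mul, hDF, ← Algebra.smul_def]
      exact V.smul_mem _ h₁
  -- step c
  let W : Subalgebra L₀ F := Algebra.adjoin L₀ (Set.range (algebraMap E F))
  have hWV : Subalgebra.toSubmodule W ≤ V := by
    intro w hw
    have hw' : w ∈ Algebra.adjoin L₀ (Set.range (algebraMap E F)) := hw
    rw [← Subalgebra.mem_toSubmodule, Algebra.adjoin_eq_span] at hw'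
    refine Submodule.span_induction (p := fun w _ => w ∈ V) ?_ V.zero_mem
      (fun _ _ _ _ h₁ h₂ => V.add_mem h₁ h₂) (fun _ _ _ h₁ => V.smul_mem _ h₁) hw'
    intro z hz
    have : z ∈ Set.range (algebraMap E F) := by
      have hcl : Submonoid.closure (Set.range (algebraMap E F)) =
          (MonoidHom.mrange (algebraMap E F : E →* F)) := by
        apply le_antisymm
        · rw [Submonoid.closure_le]; rintro _ ⟨e, rfl⟩; exact ⟨e, rfl⟩
        · rintro _ ⟨e, rfl⟩; exact Submonoid.subset_closure ⟨e, rfl⟩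
      rw [hcl] at hz
      obtain ⟨e, rfl⟩ := hz
      exact ⟨e, rfl⟩
    obtain ⟨e, rfl⟩ := this
    exact stepb e
  haveI hWfin : FiniteDimensional L₀ (Subalgebra.toSubmodule W) :=
    Submodule.finiteDimensional_of_le hWV
  have hWfg : (Subalgebra.toSubmodule W).FG := Module.Finite.iff_fg.mp hWfin
  have hWtop : ∀ f : F, f ∈ W := by
    intro f
    obtain ⟨e₁, e₂, he₂, rfl⟩ := IsFractionRing.div_surjective (A := E) f
    have h1 : algebraMap E F e₁ ∈ W := Algebra.subset_adjoin ⟨e₁, rfl⟩
    have h2 : algebraMap E F e₂ ∈ W := Algebra.subset_adjoin ⟨e₂, rfl⟩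
    have halg : IsAlgebraic L₀ (algebraMap E F e₂) :=
      (IsIntegral.of_mem_of_fg W hWfg _ h2).isAlgebraic
    have h3 : (algebraMap E F e₂)⁻¹ ∈ W :=
      W.inv_mem_of_algebraic (x := (⟨_, h2⟩ : W)) halg
    rw [div_eq_mul_inv]
    exact W.mul_mem h1 h3
  haveI : Module.Finite L₀ W := hWfin
  exact Module.Finite.of_surjective W.val.toLinearMap (fun f => ⟨⟨f, hWtop f⟩, rfl⟩)

end FinDim

end Groth.Agent.H11.SemiLocalIC
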