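import Mathlib
import Groth.Agent.H11.SemiLocalIC
import Groth.Agent.Lead.CompleteNoetherian
import Groth.Agent.H61.CRingLib

/-!
# Residue fields of the integral closure of a Noetherian local domain in a finite extension
(helper11; part 2 of EGA 0_IV 23.2.?)
-/

set_option autoImplicit false
set_option maxHeartbeats 800000
set_option linter.style.haveILetI false
set_option linter.unusedVariables false
set_option linter.unusedSectionVars false

universe u

open TensorProduct IsLocalRing

namespace Groth.Agent.H11.SemiLocalIC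

section Cpl

variable (A : Type u) [CommRing A] [IsLocalRing A] [IsNoetherianRing A]

theorem exists_sub_mem_maximalIdeal (x : AdicCompletion (maximalIdeal A) A) :
    ∃ a : A, x - algebraMap A (AdicCompletion (maximalIdeal A) A) a ∈
      maximalIdeal (AdicCompletion (maximalIdeal A) A) := by
  obtain ⟨a, ha⟩ := Submodule.Quotient.mk_surjective _ (x.1 1)
  refine ⟨a, ?_⟩
  rw [AdicCompletion.mem_maximalIdeal_iff_eval_one_eq_zero]
  rw [AdicCompletion.val_sub_apply, ← ha, sub_eq_zero]
  rfl

theorem finite_of_smul_eq_zero (N : Type u) [AddCommGroup N] [Module A N]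
    [Module (AdicCompletion (maximalIdeal A) A) N]
    [IsScalarTower A (AdicCompletion (maximalIdeal A) A) N]
    [Module.Finite (AdicCompletion (maximalIdeal A) A) N]
    (h : ∀ μ ∈ maximalIdeal (AdicCompletion (maximalIdeal A) A), ∀ n : N, μ • n = 0) :
    Module.Finite A N := by
  obtain ⟨s, hs⟩ := Module.Finite.fg_top (R := AdicCompletion (maximalIdeal A) A) (M := N)
  refine ⟨⟨s, ?_⟩⟩
  rw [eq_top_iff]
  intro n _
  have hn : n ∈ Submodule.span (AdicCompletion (maximalIdeal A) A) (s : Set N) := by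
    rw [hs]; trivial
  refine Submodule.span_induction (p := fun n _ => n ∈ Submodule.span A (s : Set N))
    ?_ ?_ ?_ ?_ hn
  · intro y hy
    exact Submodule.subset_span hy
  · exact Submodule.zero_mem _
  · intro y z _ _ hy hz
    exact Submodule.add_mem _ hy hz
  · intro r y _ hy
    obtain ⟨a, ha⟩ := exists_sub_mem_maximalIdeal A r
    have h1 := h _ ha y
    rw [sub_smul, sub_eq_zero, algebraMap_smul] at h1
    rw [h1]
    exact Submodule.smul_mem _ _ hy

end Cpl

section Core

theorem residue_core (D : Type u) [CommRing D] [IsDomain D] [IsLocalRing D] [IsNoetherianRing D]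
    [IsAdicComplete (maximalIdeal D) D]
    (E : Type u) [CommRing E] [IsDomain E] [Algebra D E] [Algebra.IsIntegral D E]
    (L₀ F : Type u) [Field L₀] [Field F] [Algebra D L₀] [IsFractionRing D L₀] [Algebra E F]
    [IsFractionRing E F] [Algebra D F] [IsScalarTower D E F] [Algebra L₀ F]
    [IsScalarTower D L₀ F] [FiniteDimensional L₀ F] (𝔪 : Ideal E) [𝔪.IsMaximal] :
    Module.Finite D (E ⧸ 𝔪) := by
  have hN2 : CAlg.IsN2 D :=
    Groth.Agent.H11.NagataFT.isN2_of_isNagata_domain D (Groth.Agent.S0568.result D)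
  haveI hfin : Module.Finite D (integralClosure D F) :=
    Groth.Agent.H11.LocalGlobalN2.finite_integralClosure_of_isN2 hN2 L₀ F
  let g : E →ₐ[D] ↥(integralClosure D F) :=
    (IsScalarTower.toAlgHom D E F).codRestrict (integralClosure D F)
      (fun e => (Algebra.IsIntegral.isIntegral e).map (IsScalarTower.toAlgHom D E F))
  letI : Algebra E ↥(integralClosure D F) := g.toRingHom.toAlgebra
  haveI : IsScalarTower D E ↥(integralClosure D F) :=
    IsScalarTower.of_algebraMap_eq (fun d => (g.commutes d).symm)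
  haveI : Algebra.IsIntegral E ↥(integralClosure D F) :=
    ⟨fun y => IsIntegral.tower_top (R := D) (Algebra.IsIntegral.isIntegral y)⟩
  have hginj : Function.Injective g := by
    intro e₁ e₂ h
    have h2 := congrArg (Subtype.val) h
    exact IsFractionRing.injective E F h2
  have hker : RingHom.ker (algebraMap E ↥(integralClosure D F)) ≤ 𝔪 := by
    intro e he
    have : e = 0 := hginj (he.trans (map_zero g).symm)
    rw [this]; exact 𝔪.zero_mem
  obtain ⟨𝔫, h𝔫max, h𝔫⟩ := Ideal.exists_ideal_over_maximal_of_isIntegral 𝔪 hker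
  have hle : 𝔪 ≤ 𝔫.comap g := by
    intro e he
    rw [← h𝔫] at he
    exact he
  let q : (E ⧸ 𝔪) →ₐ[D] (↥(integralClosure D F) ⧸ 𝔫) := Ideal.quotientMapₐ 𝔫 g hle
  have hq : Function.Injective q := by
    rw [injective_iff_map_eq_zero]
    intro x hx
    obtain ⟨e, rfl⟩ := Ideal.Quotient.mk_surjective x
    have h2 : q (Ideal.Quotient.mk 𝔪 e) = Ideal.Quotient.mk 𝔫 (g e) := rfl
    rw [h2, Ideal.Quotient.eq_zero_iff_mem] at hx
    rw [Ideal.Quotient.eq_zero_iff_mem, ← h𝔫]
    exact hx
  haveI : Module.Finite D (↥(integralClosure D F) ⧸ 𝔫) :=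
    Module.Finite.of_surjective (Ideal.Quotient.mkₐ D 𝔫).toLinearMap
      (Ideal.Quotient.mkₐ_surjective D 𝔫)
  exact Module.Finite.of_injective q.toLinearMap hq

theorem residue_core' (A : Type u) [CommRing A] [IsDomain A]
    (K' : Type u) [Field K'] [Algebra A K'] [Algebra (FractionRing A) K']
    [IsScalarTower A (FractionRing A) K'] [FiniteDimensional (FractionRing A) K']
    (D : Type u) [CommRing D] [IsDomain D] [IsLocalRing D] [IsNoetherianRing D]
    [IsAdicComplete (maximalIdeal D) D]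
    (E : Type u) [CommRing E] [IsDomain E] [Algebra D E] [Algebra.IsIntegral D E]
    (hinj : Function.Injective (algebraMap D E))
    (α : A →+* D) (hα : Function.Injective α) (ψ : ↥(integralClosure A K') →+* E)
    (hcomp : ∀ a, ψ (algebraMap A _ a) = algebraMap D E (α a))
    (hgen : ∀ e : E, e ∈ Submodule.span D (Set.range ψ))
    (𝔪 : Ideal E) [𝔪.IsMaximal] : Module.Finite D (E ⧸ 𝔪) := by
  haveI : IsScalarTower D E (FractionRing E) := inferInstance
  haveI : FaithfulSMul D (FractionRing E) := by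
    rw [faithfulSMul_iff_algebraMap_injective, IsScalarTower.algebraMap_eq D E (FractionRing E)]
    exact (IsFractionRing.injective E _).comp hinj
  letI : Algebra (FractionRing D) (FractionRing E) := FractionRing.liftAlgebra D (FractionRing E)
  haveI : IsScalarTower D (FractionRing D) (FractionRing E) :=
    FractionRing.isScalarTower_liftAlgebra D (FractionRing E)
  haveI : FiniteDimensional (FractionRing D) (FractionRing E) :=
    finiteDimensional_fractionRing A K' D E α hα ψ hcomp hgen (FractionRing D) (FractionRing E)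
  exact residue_core D E (FractionRing D) (FractionRing E) 𝔪

end Core

section Main

variable (A : Type u) [CommRing A] [IsDomain A]
  (K' : Type u) [Field K'] [Algebra A K'] [Algebra (FractionRing A) K']
  [IsScalarTower A (FractionRing A) K'] [FiniteDimensional (FractionRing A) K']
  (B : Type u) [CommRing B] [Algebra A B]
  [IsNoetherianRing B] [HenselianLocalRing B] [Module.FaithfullyFlat A B]

/-- Shortcut instance: nested instance searches fail to unify
`Subalgebra.instModuleSubtypeMem` with `Algebra.toModule`. -/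
noncomputable local instance instCommRingT (A : Type u) [CommRing A] (K' : Type u) [Field K']
    [Algebra A K'] (B : Type u) [CommRing B] [Algebra A B] :
    CommRing (B ⊗[A] ↥(integralClosure A K')) := inferInstance

omit [IsNoetherianRing B] [HenselianLocalRing B] in
/-- Nonzero elements of `A` are nonzerodivisors on `B ⊗ A'`. -/
theorem algebraMap_mem_nonZeroDivisors (a : A) (ha : a ≠ 0) :
    algebraMap A (B ⊗[A] ↥(integralClosure A K')) a ∈
      nonZeroDivisors (B ⊗[A] ↥(integralClosure A K')) := by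
  rw [mem_nonZeroDivisors_iff_right]
  intro t ht
  have h1 := congrArg (J A B K') ht
  rw [map_mul, map_zero, J_algebraMap] at h1
  have hu := isUnit_algebraMap A B K' a ha
  have h2 : J A B K' t = 0 := (hu.mul_left_eq_zero).mp h1
  exact J_injective A B K' (h2.trans (map_zero _).symm)

omit [IsNoetherianRing B] [HenselianLocalRing B] in
theorem alpha_injective (𝔭 : Ideal (B ⊗[A] ↥(integralClosure A K')))
    (h𝔭 : 𝔭 ∈ minimalPrimes (B ⊗[A] ↥(integralClosure A K'))) :
    Function.Injective ((Ideal.Quotient.mk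
      (𝔭.comap (algebraMap B (B ⊗[A] ↥(integralClosure A K'))))).comp (algebraMap A B)) := by
  rw [injective_iff_map_eq_zero]
  intro a ha
  by_contra hne
  have h1 : algebraMap A B a ∈ 𝔭.comap (algebraMap B (B ⊗[A] ↥(integralClosure A K'))) :=
    Ideal.Quotient.eq_zero_iff_mem.mp ha
  rw [Ideal.mem_comap, ← IsScalarTower.algebraMap_apply] at h1
  exact Set.disjoint_left.mp (Ideal.disjoint_nonZeroDivisors_of_mem_minimalPrimes h𝔭) h1
    (algebraMap_mem_nonZeroDivisors A K' B a hne)

omit [IsDomain A] [FiniteDimensional (FractionRing A) K'] [IsNoetherianRing B]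
  [HenselianLocalRing B] [Module.FaithfullyFlat A B] in
theorem psi_comp (𝔭 : Ideal (B ⊗[A] ↥(integralClosure A K'))) (a : A) :
    ((Ideal.Quotient.mk 𝔭).comp (ι A B K')) (algebraMap A _ a) =
      algebraMap (B ⧸ 𝔭.comap (algebraMap B (B ⊗[A] ↥(integralClosure A K'))))
        ((B ⊗[A] ↥(integralClosure A K')) ⧸ 𝔭)
        (((Ideal.Quotient.mk
      (𝔭.comap (algebraMap B (B ⊗[A] ↥(integralClosure A K'))))).comp (algebraMap A B)) a) := by
  show Ideal.Quotient.mk 𝔭 ((Algebra.TensorProduct.includeRight :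
      ↥(integralClosure A K') →ₐ[A] B ⊗[A] ↥(integralClosure A K')) (algebraMap A _ a)) =
    Ideal.Quotient.mk 𝔭 (algebraMap B (B ⊗[A] ↥(integralClosure A K')) (algebraMap A B a))
  rw [AlgHom.commutes, ← IsScalarTower.algebraMap_apply]

omit [IsDomain A] [FiniteDimensional (FractionRing A) K'] [IsNoetherianRing B]
  [HenselianLocalRing B] [Module.FaithfullyFlat A B] in
theorem psi_gen (𝔭 : Ideal (B ⊗[A] ↥(integralClosure A K')))
    (e : (B ⊗[A] ↥(integralClosure A K')) ⧸ 𝔭) : e ∈ Submodule.span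
      (B ⧸ 𝔭.comap (algebraMap B (B ⊗[A] ↥(integralClosure A K'))))
      (Set.range ((Ideal.Quotient.mk 𝔭).comp (ι A B K'))) := by
  obtain ⟨t, rfl⟩ := Ideal.Quotient.mk_surjective e
  induction t using TensorProduct.induction_on with
  | zero => rw [RingHom.map_zero]; exact Submodule.zero_mem _
  | tmul b x =>
    have e1 : b ⊗ₜ[A] x =
        algebraMap B (B ⊗[A] ↥(integralClosure A K')) b * ((1 : B) ⊗ₜ[A] x) := by
      rw [Algebra.TensorProduct.algebraMap_apply, Algebra.TensorProduct.tmul_mul_tmul, one_mul]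
      show _ = (b * 1) ⊗ₜ[A] x
      rw [mul_one]
    have h1 : Ideal.Quotient.mk 𝔭 (b ⊗ₜ[A] x) =
        (Ideal.Quotient.mk (𝔭.comap (algebraMap B (B ⊗[A] ↥(integralClosure A K')))) b) •
          ((Ideal.Quotient.mk 𝔭).comp (ι A B K')) x := by
      rw [Algebra.smul_def, e1, RingHom.map_mul]
      rfl
    rw [h1]
    exact Submodule.smul_mem _ _ (Submodule.subset_span ⟨x, rfl⟩)
  | add t₁ t₂ h₁ h₂ => rw [RingHom.map_add]; exact Submodule.add_mem _ h₁ h₂

theorem finite_residue_D [IsAdicComplete (maximalIdeal B) B]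
    (𝔭 : Ideal (B ⊗[A] ↥(integralClosure A K')))
    (h𝔭 : 𝔭 ∈ minimalPrimes (B ⊗[A] ↥(integralClosure A K'))) [𝔭.IsPrime]
    [IsLocalRing ((B ⊗[A] ↥(integralClosure A K')) ⧸ 𝔭)] :
    Module.Finite (B ⧸ 𝔭.comap (algebraMap B (B ⊗[A] ↥(integralClosure A K'))))
      (((B ⊗[A] ↥(integralClosure A K')) ⧸ 𝔭) ⧸
        maximalIdeal ((B ⊗[A] ↥(integralClosure A K')) ⧸ 𝔭)) := by
  haveI : Algebra.IsIntegral B (B ⊗[A] ↥(integralClosure A K')) := inferInstance
  haveI hp0 : (𝔭.comap (algebraMap B (B ⊗[A] ↥(integralClosure A K')))).IsPrime :=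
    Ideal.comap_isPrime _ _
  haveI : IsLocalRing (B ⧸ 𝔭.comap (algebraMap B (B ⊗[A] ↥(integralClosure A K')))) :=
    IsLocalRing.of_surjective' (Ideal.Quotient.mk _) Ideal.Quotient.mk_surjective
  haveI : IsAdicComplete
      (maximalIdeal (B ⧸ 𝔭.comap (algebraMap B (B ⊗[A] ↥(integralClosure A K')))))
      (B ⧸ 𝔭.comap (algebraMap B (B ⊗[A] ↥(integralClosure A K')))) :=
    Groth.Agent.H61.isAdicComplete_quotient _
  have hDEinj : Function.Injective
      (algebraMap (B ⧸ 𝔭.comap (algebraMap B (B ⊗[A] ↥(integralClosure A K'))))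
        ((B ⊗[A] ↥(integralClosure A K')) ⧸ 𝔭)) := Ideal.algebraMap_quotient_injective
  exact residue_core' A K' _ _ hDEinj _ (alpha_injective A K' B 𝔭 h𝔭) _
    (psi_comp A K' B 𝔭) (psi_gen A K' B 𝔭) _

set_option synthInstance.maxHeartbeats 400000 in
theorem finite_quot_aux [IsAdicComplete (maximalIdeal B) B] [IsNoetherianRing A]
    (hres : ∀ (N : Type u) [AddCommGroup N] [Module A N] [Module B N] [IsScalarTower A B N]
      [Module.Finite B N], (∀ μ ∈ maximalIdeal B, ∀ n : N, μ • n = 0) → Module.Finite A N)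
    (m' : Ideal ↥(integralClosure A K')) (hm' : m'.IsMaximal) :
    Module.Finite A (↥(integralClosure A K') ⧸ m') := by
  classical
  obtain ⟨𝔭, h𝔭, M, hM, hle, hcomap⟩ := exists_data A B K' m' hm'
  haveI h𝔭prime : 𝔭.IsPrime := h𝔭.1.1
  haveI hEloc : IsLocalRing ((B ⊗[A] ↥(integralClosure A K')) ⧸ 𝔭) := isLocalRing_quot A B K' 𝔭
  have hMeq := eq_comap_maximalIdeal A B K' 𝔭 M hM hle
  haveI hfinD := finite_residue_D A K' B 𝔭 h𝔭
  haveI hfinB : Module.Finite B (((B ⊗[A] ↥(integralClosure A K')) ⧸ 𝔭) ⧸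
        maximalIdeal ((B ⊗[A] ↥(integralClosure A K')) ⧸ 𝔭)) :=
    Module.Finite.trans (B ⧸ 𝔭.comap (algebraMap B (B ⊗[A] ↥(integralClosure A K')))) _
  haveI : Algebra.IsIntegral B ((B ⊗[A] ↥(integralClosure A K')) ⧸ 𝔭) := inferInstance
  have hloc : (maximalIdeal ((B ⊗[A] ↥(integralClosure A K')) ⧸ 𝔭)).comap
      (algebraMap B ((B ⊗[A] ↥(integralClosure A K')) ⧸ 𝔭)) = maximalIdeal B := by
    have := Ideal.isMaximal_comap_of_isIntegral_of_isMaximal (R := B)
      (maximalIdeal ((B ⊗[A] ↥(integralClosure A K')) ⧸ 𝔭))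
    exact IsLocalRing.eq_maximalIdeal this
  have hkill : ∀ μ ∈ maximalIdeal B, ∀ n : (((B ⊗[A] ↥(integralClosure A K')) ⧸ 𝔭) ⧸
        maximalIdeal ((B ⊗[A] ↥(integralClosure A K')) ⧸ 𝔭)), μ • n = 0 := by
    intro μ hμ n
    rw [← hloc, Ideal.mem_comap] at hμ
    rw [Algebra.smul_def, IsScalarTower.algebraMap_apply B
      ((B ⊗[A] ↥(integralClosure A K')) ⧸ 𝔭), Ideal.Quotient.algebraMap_eq,
      Ideal.Quotient.eq_zero_iff_mem.mpr hμ, zero_mul]
  haveI hfinA : Module.Finite A (((B ⊗[A] ↥(integralClosure A K')) ⧸ 𝔭) ⧸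
        maximalIdeal ((B ⊗[A] ↥(integralClosure A K')) ⧸ 𝔭)) := hres _ hkill
  -- the embedding
  let g : ↥(integralClosure A K') →ₐ[A] (((B ⊗[A] ↥(integralClosure A K')) ⧸ 𝔭) ⧸
        maximalIdeal ((B ⊗[A] ↥(integralClosure A K')) ⧸ 𝔭)) :=
    ((Ideal.Quotient.mkₐ A (maximalIdeal ((B ⊗[A] ↥(integralClosure A K')) ⧸ 𝔭))).comp
      (Ideal.Quotient.mkₐ A 𝔭)).comp
      (Algebra.TensorProduct.includeRight :
        ↥(integralClosure A K') →ₐ[A] B ⊗[A] ↥(integralClosure A K'))
  have hmem : ∀ x, x ∈ m' ↔ g x = 0 := by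
    intro x
    rw [← hcomap, Ideal.mem_comap, hMeq, Ideal.mem_comap]
    show _ ↔ Ideal.Quotient.mk (maximalIdeal ((B ⊗[A] ↥(integralClosure A K')) ⧸ 𝔭))
      (Ideal.Quotient.mk 𝔭 (ι A B K' x)) = 0
    rw [Ideal.Quotient.eq_zero_iff_mem]
  let f : (↥(integralClosure A K') ⧸ m') →ₐ[A] (((B ⊗[A] ↥(integralClosure A K')) ⧸ 𝔭) ⧸
        maximalIdeal ((B ⊗[A] ↥(integralClosure A K')) ⧸ 𝔭)) :=
    Ideal.Quotient.liftₐ m' g (fun x hx => (hmem x).mp hx)
  have hf : Function.Injective f := by
    rw [injective_iff_map_eq_zero]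
    intro y hy
    obtain ⟨x, rfl⟩ := Ideal.Quotient.mk_surjective y
    have h2 : f (Ideal.Quotient.mk m' x) = g x := rfl
    rw [h2] at hy
    rw [Ideal.Quotient.eq_zero_iff_mem, hmem]
    exact hy
  haveI : IsNoetherian A (((B ⊗[A] ↥(integralClosure A K')) ⧸ 𝔭) ⧸
        maximalIdeal ((B ⊗[A] ↥(integralClosure A K')) ⧸ 𝔭)) :=
    isNoetherian_of_isNoetherianRing_of_finite A _
  exact Module.Finite.of_injective f.toLinearMap hf

end Main

section Final

variable (A : Type u) [CommRing A] [IsDomain A] [IsLocalRing A] [IsNoetherianRing A]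
  (K' : Type u) [Field K'] [Algebra A K'] [Algebra (FractionRing A) K']
  [IsScalarTower A (FractionRing A) K'] [FiniteDimensional (FractionRing A) K']

/-- **EGA 0_IV 23.2.? / Nagata (33.10)**: the integral closure of a Noetherian local domain in a
finite extension of its fraction field is semi-local with finite residue field extensions. -/
theorem semilocal_integralClosure :
    {m : Ideal ↥(integralClosure A K') | m.IsMaximal}.Finite ∧
      ∀ m : Ideal ↥(integralClosure A K'), m.IsMaximal →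
        Module.Finite A (↥(integralClosure A K') ⧸ m) := by
  haveI : IsNoetherianRing (AdicCompletion (maximalIdeal A) A) :=
    Groth.Agent.Lead.isNoetherianRing_adicCompletion (maximalIdeal A)
      (maximalIdeal A).fg_of_isNoetherianRing
  haveI : Module.FaithfullyFlat A (AdicCompletion (maximalIdeal A) A) :=
    Module.FaithfullyFlat.of_flat_of_isLocalHom
  haveI : HenselianLocalRing (AdicCompletion (maximalIdeal A) A) :=
    Groth.Agent.H3.henselianLocalRing_of_henselianRing_maximalIdeal _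
  exact ⟨finite_maximal A (AdicCompletion (maximalIdeal A) A) K', fun m hm =>
    finite_quot_aux A K' (AdicCompletion (maximalIdeal A) A)
      (fun N _ _ _ _ _ h => finite_of_smul_eq_zero A N h) m hm⟩

end Final

end Groth.Agent.H11.SemiLocalIC
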