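import Mathlib
import Groth.Prelude.Def_DDual2

/-! (ISO) for the S11183 squad (helper46): `Dual.IsDualizing` is invariant under isomorphism. -/

set_option autoImplicit false
universe w₁ w₂ v₁ v₂ u₁ u₂ u
open CategoryTheory Limits
attribute [local instance] HasDerivedCategory.standard

namespace Groth.Agent.H11.Inv_ISO

theorem ISO (A : Type u) [CommRing A] {ω ω' : Dual.D A} (e : ω ≅ ω')
    (hω : Dual.IsDualizing A ω) : Dual.IsDualizing A ω' := by
  obtain ⟨h1, ⟨a, b, h2⟩, h3, h4, h5⟩ := hω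
  refine ⟨h1, ⟨a, b, ?_⟩, ?_, ?_, ?_⟩
  · intro M _ _ i hi
    haveI := h2 M i hi
    let E : (Dual.inD A M ⟶ ω⟦i⟧) ≃ (Dual.inD A M ⟶ ω'⟦i⟧) :=
      Iso.homCongr (Iso.refl _) ((shiftFunctor (Dual.D A) i).mapIso e)
    exact E.symm.subsingleton
  · intro i
    haveI := h3 i
    let ei : Dual.HD A ω i ≃ₗ[A] Dual.HD A ω' i :=
      ((DerivedCategory.homologyFunctor (ModuleCat.{u} A) i).mapIso e).toLinearEquiv
    exact Module.Finite.equiv ei
  · -- a • 𝟙 ω' = e.inv ≫ (a • 𝟙 ω) ≫ e.hom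
    have hconj : ∀ a : A, a • 𝟙 ω' = e.inv ≫ (a • 𝟙 ω) ≫ e.hom := by
      intro a
      rw [Linear.smul_comp, Linear.comp_smul, Category.id_comp, e.inv_hom_id]
    have hconjeq : (fun a : A => a • 𝟙 ω') = (fun φ : ω ⟶ ω => e.inv ≫ φ ≫ e.hom) ∘
        (fun a : A => a • 𝟙 ω) := by
      funext a; exact hconj a
    rw [hconjeq]
    refine Function.Bijective.comp ?_ h4
    refine ⟨fun φ ψ h => ?_, fun ψ => ⟨e.hom ≫ ψ ≫ e.inv, by simp⟩⟩
    have := congrArg (fun t => e.hom ≫ t ≫ e.inv) h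
    simpa using this
  · intro i hi
    haveI := h5 i hi
    let E : (ω ⟶ ω⟦i⟧) ≃ (ω' ⟶ ω'⟦i⟧) :=
      Iso.homCongr e ((shiftFunctor (Dual.D A) i).mapIso e)
    exact E.symm.subsingleton

end Groth.Agent.H11.Inv_ISO
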