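import Mathlib.RingTheory.Jacobson.Ring
import Mathlib.RingTheory.Jacobson.Polynomial
import Mathlib.RingTheory.Algebraic.Basic
import Mathlib.RingTheory.Localization.Away.Basic
import Mathlib.RingTheory.Localization.Ideal
import Mathlib.RingTheory.MvPolynomial.Basic
import Mathlib.RingTheory.MvPolynomial
import Mathlib.LinearAlgebra.Dimension.Basic
import Mathlib.SetTheory.Cardinal.Finsupp
import Mathlib.RingTheory.FiniteType
import Mathlib.RingTheory.IntegralClosure.IsIntegralClosure.Basic

set_option autoImplicit false

universe u

namespace Groth.Agent.H11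

open Cardinal

theorem linearIndependent_inv_sub {k L : Type u} [Field k] [Field L] [Algebra k L] (x : L)
    (hx : Transcendental k x) :
    LinearIndependent k (fun a : k => (x - algebraMap k L a)⁻¹) := by
  classical
  rw [linearIndependent_iff']
  intro A c hsum a₀ ha₀
  have hne : ∀ a : k, x - algebraMap k L a ≠ 0 := fun a h =>
    hx (by rw [sub_eq_zero.mp h]; exact isAlgebraic_algebraMap a)
  let p : Polynomial k :=
    ∑ a ∈ A, Polynomial.C (c a) * ∏ b ∈ A.erase a, (Polynomial.X - Polynomial.C b)
  have hp : Polynomial.aeval x p = 0 := by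
    have h1 : Polynomial.aeval x p = (∏ b ∈ A, (x - algebraMap k L b)) *
        ∑ a ∈ A, c a • (x - algebraMap k L a)⁻¹ := by
      simp only [p, map_sum, map_mul, map_prod, map_sub, Polynomial.aeval_X, Polynomial.aeval_C,
        Finset.mul_sum]
      refine Finset.sum_congr rfl fun a ha => ?_
      rw [← Finset.mul_prod_erase A _ ha, Algebra.smul_def]
      have := hne a
      field_simp
    rw [h1, hsum, mul_zero]
  have hp0 : p = 0 := by
    by_contra hne0
    exact hx ⟨p, hne0, hp⟩
  have heval : Polynomial.eval a₀ p = c a₀ * ∏ b ∈ A.erase a₀, (a₀ - b) := by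
    simp only [p, Polynomial.eval_finsetSum, Polynomial.eval_mul, Polynomial.eval_C,
      Polynomial.eval_prod, Polynomial.eval_sub, Polynomial.eval_X]
    rw [Finset.sum_eq_single a₀]
    · intro a ha hne'
      have : a₀ ∈ A.erase a := Finset.mem_erase.mpr ⟨hne'.symm, ha₀⟩
      rw [Finset.prod_eq_zero this (sub_self a₀), mul_zero]
    · intro h
      exact absurd ha₀ h
  rw [hp0, Polynomial.eval_zero] at heval
  have hprod : ∏ b ∈ A.erase a₀, (a₀ - b) ≠ 0 :=
    Finset.prod_ne_zero_iff.mpr fun b hb => sub_ne_zero.mpr (Finset.ne_of_mem_erase hb).symm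
  exact (mul_eq_zero.mp heval.symm).resolve_right hprod

theorem isAlgebraic_of_card_lt {k L : Type u} [Field k] [Field L] [Algebra k L] (t : Set L)
    (ht : Algebra.adjoin k t = ⊤) (hcard : max #t ℵ₀ < #k) : Algebra.IsAlgebraic k L := by
  have hrank : Module.rank k L ≤ max #t ℵ₀ := by
    have hf : Function.Surjective
        (MvPolynomial.aeval (R := k) (fun i : t => (i : L))) := by
      rw [← AlgHom.range_eq_top, ← Algebra.adjoin_eq_range, ht]
    have h1 := LinearMap.rank_le_of_surjective
      (MvPolynomial.aeval (R := k) (fun i : t => (i : L))).toLinearMap hf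
    rw [MvPolynomial.rank_eq] at h1
    refine h1.trans ?_
    rcases isEmpty_or_nonempty t with h | h
    · have : #(t →₀ ℕ) = 1 := Cardinal.mk_eq_one _
      rw [this]
      exact (Cardinal.one_le_aleph0).trans (le_max_right _ _)
    · rw [Cardinal.mk_finsupp_nat]
  constructor
  intro x
  by_contra hx
  have hli := linearIndependent_inv_sub x hx
  have := hli.cardinal_le_rank
  exact absurd (this.trans hrank) (not_le.mpr hcard)

theorem jacobson_of_generators_lt_card {k S : Type u} [Field k] [CommRing S] [Algebra k S]
    (s : Set S) (hs : Algebra.adjoin k s = ⊤) (hcard : #s < #k) :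
    (∀ (m : Ideal S) [m.IsMaximal], Algebra.IsAlgebraic k (S ⧸ m)) ∧ IsJacobsonRing S := by
  by_cases hfin : s.Finite
  · have : Algebra.FiniteType k S := ⟨⟨hfin.toFinset, by simpa using hs⟩⟩
    refine ⟨fun m _ => ?_, isJacobsonRing_of_finiteType (A := k)⟩
    let := Ideal.Quotient.field m
    have : Algebra.FiniteType k (S ⧸ m) :=
      Algebra.FiniteType.of_surjective (Ideal.Quotient.mkₐ k m) (Ideal.Quotient.mkₐ_surjective k m)
    have : Module.Finite k (S ⧸ m) := finite_of_finite_type_of_isJacobsonRing k (S ⧸ m)
    exact Algebra.IsAlgebraic.of_finite k (S ⧸ m)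
  · have hinf : ℵ₀ ≤ #s := Cardinal.infinite_iff.mp (Set.infinite_coe_iff.mpr hfin)
    have key : ∀ (B : Type u) [CommRing B] [Algebra k B] (t : Set B), Algebra.adjoin k t = ⊤ →
        #t ≤ #s → ∀ (M : Ideal B) [M.IsMaximal], Algebra.IsAlgebraic k (B ⧸ M) := by
      intro B _ _ t ht htc M _
      let := Ideal.Quotient.field M
      apply isAlgebraic_of_card_lt (Ideal.Quotient.mkₐ k M '' t)
      · rw [← AlgHom.map_adjoin, ht, Algebra.map_top, AlgHom.range_eq_top]
        exact Ideal.Quotient.mkₐ_surjective k M
      · calc max #(Ideal.Quotient.mkₐ k M '' t) ℵ₀ ≤ max #s ℵ₀ :=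
              max_le_max (Cardinal.mk_image_le.trans htc) le_rfl
          _ = #s := max_eq_left hinf
          _ < #k := hcard
    refine ⟨fun m _ => key S s hs le_rfl m, ?_⟩
    rw [isJacobsonRing_iff_prime_eq]
    intro P hP
    refine le_antisymm ?_ Ideal.le_jacobson
    intro f hf
    by_contra hfP
    have hPf : Ideal.map (algebraMap S (Localization.Away f)) P ≠ ⊤ := by
      rw [IsLocalization.map_algebraMap_ne_top_iff_disjoint (Submonoid.powers f)]
      rw [Set.disjoint_left]
      rintro x ⟨n, rfl⟩ hx
      exact hfP (hP.mem_of_pow_mem n hx)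
    obtain ⟨M₀, hM₀, hPM₀⟩ := Ideal.exists_le_maximal _ hPf
    have hPM : P ≤ M₀.comap (algebraMap S (Localization.Away f)) :=
      Ideal.map_le_iff_le_comap.mp hPM₀
    have hfM : f ∉ M₀.comap (algebraMap S (Localization.Away f)) := fun h =>
      hM₀.ne_top (Ideal.eq_top_of_isUnit_mem _ h (IsLocalization.Away.algebraMap_isUnit f))
    have ht : Algebra.adjoin k (algebraMap S (Localization.Away f) '' s ∪
        {IsLocalization.Away.invSelf f}) = ⊤ := by
      have h1 : ∀ a : S, algebraMap S (Localization.Away f) a ∈
          Algebra.adjoin k (algebraMap S (Localization.Away f) '' s ∪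
            {IsLocalization.Away.invSelf f}) := by
        intro a
        have ha : a ∈ Algebra.adjoin k s := by rw [hs]; exact Algebra.mem_top
        induction ha using Algebra.adjoin_induction with
        | mem x hx => exact Algebra.subset_adjoin (Or.inl ⟨x, hx, rfl⟩)
        | algebraMap r =>
          rw [← IsScalarTower.algebraMap_apply k S (Localization.Away f)]
          exact Subalgebra.algebraMap_mem _ r
        | add x y _ _ hx hy => rw [map_add]; exact add_mem hx hy
        | mul x y _ _ hx hy => rw [map_mul]; exact mul_mem hx hy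
      have h2 : (IsLocalization.Away.invSelf f : Localization.Away f) ∈
          Algebra.adjoin k (algebraMap S (Localization.Away f) '' s ∪
            {IsLocalization.Away.invSelf f}) := Algebra.subset_adjoin (Or.inr rfl)
      rw [eq_top_iff]
      rintro z -
      obtain ⟨⟨a, ⟨_, n, rfl⟩⟩, hz⟩ := IsLocalization.surj (Submonoid.powers f) z
      simp only at hz
      have hinv : algebraMap S (Localization.Away f) f * IsLocalization.Away.invSelf f = 1 :=
        IsLocalization.Away.mul_invSelf f
      have hzz : z = algebraMap S (Localization.Away f) a *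
          (IsLocalization.Away.invSelf f) ^ n := by
        calc z = z * (algebraMap S (Localization.Away f) f *
              IsLocalization.Away.invSelf f) ^ n := by rw [hinv, one_pow, mul_one]
          _ = (z * algebraMap S (Localization.Away f) (f ^ n)) *
              (IsLocalization.Away.invSelf f) ^ n := by rw [mul_pow, map_pow, mul_assoc]
          _ = _ := by rw [hz]
      rw [hzz]
      exact mul_mem (h1 a) (pow_mem h2 n)
    have htc : #(algebraMap S (Localization.Away f) '' s ∪
        {IsLocalization.Away.invSelf f} : Set (Localization.Away f)) ≤ #s := by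
      calc _ ≤ #(algebraMap S (Localization.Away f) '' s) +
            #({IsLocalization.Away.invSelf f} : Set (Localization.Away f)) :=
            Cardinal.mk_union_le _ _
        _ ≤ #s + 1 := add_le_add Cardinal.mk_image_le (by simp)
        _ = #s := Cardinal.add_one_eq hinf
    have := key (Localization.Away f) _ ht htc M₀
    have : (M₀.comap (algebraMap S (Localization.Away f))).IsPrime := Ideal.comap_isPrime _ _
    have hφ : Function.Injective (Ideal.quotientMapₐ M₀
        (IsScalarTower.toAlgHom k S (Localization.Away f))
        (le_refl (M₀.comap (algebraMap S (Localization.Away f))))) :=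
      Ideal.quotientMap_injective
    have : Algebra.IsAlgebraic k (S ⧸ M₀.comap (algebraMap S (Localization.Away f))) :=
      Algebra.IsAlgebraic.of_injective _ hφ
    have : Algebra.IsIntegral k (S ⧸ M₀.comap (algebraMap S (Localization.Away f))) :=
      Algebra.IsAlgebraic.isIntegral
    have hfield : IsField (S ⧸ M₀.comap (algebraMap S (Localization.Away f))) :=
      isField_of_isIntegral_of_isField' (Field.toIsField k)
    have hMmax : (M₀.comap (algebraMap S (Localization.Away f))).IsMaximal :=
      Ideal.Quotient.maximal_of_isField _ hfield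
    have : f ∈ M₀.comap (algebraMap S (Localization.Away f)) := by
      rw [Ideal.jacobson, Ideal.mem_sInf] at hf
      exact hf ⟨hPM, hMmax⟩
    exact hfM this

end Groth.Agent.H11
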