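import Mathlib

/-!
# Hensel's lemma for arbitrary polynomials over adically complete rings, and a Krasner-type
perturbation lemma for complete local domains of dimension one.
-/

namespace Groth.Agent.H11.Krasner

open Polynomial

/-- Hensel's lemma (Newton iteration) for an arbitrary, not necessarily monic, polynomial over an
`I`-adically complete ring.  The proof is Mathlib's proof of `IsAdicComplete.henselianRing`, which
never uses monicity. -/
theorem hensel {R : Type*} [CommRing R] (I : Ideal R) [IsAdicComplete I R] (f : R[X]) (a₀ : R)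
    (h₁ : f.eval a₀ ∈ I) (h₂ : IsUnit (Ideal.Quotient.mk I ((derivative f).eval a₀))) :
    ∃ a : R, f.IsRoot a ∧ a - a₀ ∈ I := by
  classical
  let f' := derivative f
  let c : ℕ → R := fun n => Nat.recOn n a₀ fun _ b => b - f.eval b * Ring.inverse (f'.eval b)
  have hc : ∀ n, c (n + 1) = c n - f.eval (c n) * Ring.inverse (f'.eval (c n)) := by
    intro n
    simp only [c]
  have hc_mod : ∀ n, c n ≡ a₀ [SMOD I] := by
    intro n
    induction n with
    | zero => rfl
    | succ n ih => ?_
    rw [hc, sub_eq_add_neg, ← add_zero a₀]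
    refine ih.add ?_
    rw [SModEq.zero, Ideal.neg_mem_iff]
    refine I.mul_mem_right _ ?_
    rw [← SModEq.zero] at h₁ ⊢
    exact (ih.eval f).trans h₁
  have hf'c : ∀ n, IsUnit (f'.eval (c n)) := by
    intro n
    have := isLocalHom_of_le_jacobson_bot I (IsAdicComplete.le_jacobson_bot I)
    apply IsUnit.of_map (Ideal.Quotient.mk I)
    convert h₂ using 1
    exact SModEq.def.mp ((hc_mod n).eval _)
  have hfcI : ∀ n, f.eval (c n) ∈ I ^ (n + 1) := by
    intro n
    induction n with
    | zero =>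
      have : c 0 = a₀ := rfl
      rw [this, zero_add, pow_one]; exact h₁
    | succ n ih => ?_
    rw [← taylor_eval_sub (c n), hc, sub_eq_add_neg, sub_eq_add_neg,
      add_neg_cancel_comm]
    rw [eval_eq_sum, sum_over_range' _ _ _ (lt_add_of_pos_right _ zero_lt_two), ←
      Finset.sum_range_add_sum_Ico _ (Nat.le_add_left _ _)]
    swap
    · intro i
      rw [zero_mul]
    refine Ideal.add_mem _ ?_ ?_
    · rw [← one_add_one_eq_two, Finset.sum_range_succ, Finset.range_one, Finset.sum_singleton,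
        taylor_coeff_zero, taylor_coeff_one, pow_zero, pow_one, mul_one, mul_neg,
        mul_left_comm, Ring.mul_inverse_cancel _ (hf'c n), mul_one, add_neg_cancel]
      exact Ideal.zero_mem _
    · refine Submodule.sum_mem _ ?_
      simp only [Finset.mem_Ico]
      rintro i ⟨h2i, _⟩
      have aux : n + 2 ≤ i * (n + 1) := by trans 2 * (n + 1) <;> nlinarith only [h2i]
      refine Ideal.mul_mem_left _ _ (Ideal.pow_le_pow_right aux ?_)
      rw [pow_mul']
      exact Ideal.pow_mem_pow ((Ideal.neg_mem_iff _).2 <| Ideal.mul_mem_right _ _ ih) _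
  have aux : ∀ m n, m ≤ n → c m ≡ c n [SMOD (I ^ m • ⊤ : Ideal R)] := by
    intro m n hmn
    rw [← Ideal.one_eq_top, Ideal.smul_eq_mul, mul_one]
    obtain ⟨k, rfl⟩ := Nat.exists_eq_add_of_le hmn
    clear hmn
    induction k with
    | zero => rw [add_zero]
    | succ k ih => ?_
    rw [← add_assoc, hc, ← add_zero (c m), sub_eq_add_neg]
    refine ih.add ?_
    symm
    rw [SModEq.zero, Ideal.neg_mem_iff]
    refine Ideal.mul_mem_right _ _ (Ideal.pow_le_pow_right ?_ (hfcI _))
    rw [add_assoc]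
    exact le_self_add
  obtain ⟨a, ha⟩ := IsPrecomplete.prec' c (aux _ _)
  refine ⟨a, ?_, ?_⟩
  · show f.IsRoot a
    suffices ∀ n, f.eval a ≡ 0 [SMOD (I ^ n • ⊤ : Ideal R)] by exact IsHausdorff.haus' _ this
    intro n
    specialize ha n
    rw [← Ideal.one_eq_top, Ideal.smul_eq_mul, mul_one] at ha ⊢
    refine (ha.symm.eval f).trans ?_
    rw [SModEq.zero]
    exact Ideal.pow_le_pow_right le_self_add (hfcI _)
  · show a - a₀ ∈ I
    specialize ha (0 + 1)
    rw [hc, pow_one, ← Ideal.one_eq_top, Ideal.smul_eq_mul, mul_one, sub_eq_add_neg] at ha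
    rw [← SModEq.sub_mem, ← add_zero a₀]
    refine ha.symm.trans (SModEq.rfl.add ?_)
    rw [SModEq.zero, Ideal.neg_mem_iff]
    exact Ideal.mul_mem_right _ _ h₁

/-- Substituting `α + d y` into a polynomial `F` with `F(α) = d² t` and `F'(α) = d v`. -/
theorem exists_subst {A : Type*} [CommRing A] (F : A[X]) (α d t v : A)
    (h0 : F.eval α = d ^ 2 * t) (h1 : (derivative F).eval α = d * v) :
    ∃ H : A[X], ∀ y : A, F.eval (α + d * y) = d ^ 2 * (t + v * y + y ^ 2 * H.eval y) := by
  set T := taylor α F with hT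
  have hT0 : T.coeff 0 = d ^ 2 * t := by rw [hT, taylor_coeff_zero, h0]
  have hT1 : (divX T).coeff 0 = d * v := by rw [coeff_divX, zero_add, hT, taylor_coeff_one, h1]
  obtain ⟨T₂, hT₂⟩ : ∃ T₂ : A[X], T = (T₂ * X + C (d * v)) * X + C (d ^ 2 * t) :=
    ⟨divX (divX T), by rw [← hT1, ← hT0, divX_mul_X_add, divX_mul_X_add]⟩
  refine ⟨T₂.comp (C d * X), fun y => ?_⟩
  have : F.eval (α + d * y) = T.eval (d * y) := by rw [hT, taylor_eval, add_comm]
  rw [this, hT₂]
  simp only [eval_add, eval_mul, eval_X, eval_C, eval_comp]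
  ring

/-- Krasner-type perturbation lemma for complete Noetherian local domains of dimension one. -/
theorem krasner (A : Type*) [CommRing A] [IsDomain A] [IsLocalRing A] [IsNoetherianRing A]
    [IsAdicComplete (IsLocalRing.maximalIdeal A) A] (hdim : ringKrullDim A = 1) (P : A[X]) (α : A)
    (hα : P.eval α = 0) (hα' : (derivative P).eval α ≠ 0) (c : ℕ) :
    ∃ n : ℕ, ∀ Q : A[X], (∀ i, Q.coeff i ∈ IsLocalRing.maximalIdeal A ^ n) →
      ∃ β : A, (P + Q).eval β = 0 ∧ β - α ∈ IsLocalRing.maximalIdeal A ^ c := by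
  set m := IsLocalRing.maximalIdeal A with hm
  set d := (derivative P).eval α with hd
  have : Ring.KrullDimLE 1 A := Ring.krullDimLE_iff.mpr hdim.le
  -- a power of the maximal ideal lies in `(d)`
  have hrad : m ≤ (Ideal.span {d}).radical := by
    rw [Ideal.radical_eq_sInf]
    refine le_sInf fun p hp => ?_
    obtain ⟨hdp, hpp⟩ := hp
    have hne : p ≠ ⊥ := by
      rintro rfl
      exact hα' (by simpa using hdp (Ideal.subset_span (Set.mem_singleton d)))
    have hmax : p.IsMaximal := hpp.isMaximal_of_ne_bot hne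
    rw [IsLocalRing.eq_maximalIdeal hmax]
  obtain ⟨k, hk⟩ := Ideal.exists_pow_le_of_le_radical_of_fg hrad (IsNoetherian.noetherian m)
  refine ⟨k + k + (c + 1), fun Q hQ => ?_⟩
  -- values of `Q` and its derivative at `α`
  have hQα : Q.eval α ∈ m ^ (k + k + (c + 1)) := by
    rw [eval_eq_sum_range]
    exact Ideal.sum_mem _ fun i _ => Ideal.mul_mem_right _ _ (hQ i)
  have hQ'α : (derivative Q).eval α ∈ m ^ (k + k + (c + 1)) := by
    rw [eval_eq_sum_range]
    refine Ideal.sum_mem _ fun i _ => Ideal.mul_mem_right _ _ ?_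
    rw [coeff_derivative]
    exact Ideal.mul_mem_right _ _ (hQ (i + 1))
  -- `Q(α) = d² t` with `t ∈ m^(c+1)`
  have hle1 : m ^ (k + k + (c + 1)) ≤ Ideal.span {d ^ 2} * m ^ (c + 1) := by
    rw [pow_add, pow_add, ← Ideal.span_singleton_pow, pow_two]
    exact Ideal.mul_mono_left (Ideal.mul_mono hk hk)
  obtain ⟨t, ht, hdt⟩ := Ideal.mem_span_singleton_mul.mp (hle1 hQα)
  -- `Q'(α) = d μ` with `μ ∈ m`
  have hle2 : m ^ (k + k + (c + 1)) ≤ Ideal.span {d} * m := by
    have : k + k + (c + 1) = k + (k + c + 1) := by ring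
    rw [this, pow_add]
    exact Ideal.mul_mono hk (Ideal.pow_le_self (by omega))
  obtain ⟨μ, hμ, hdμ⟩ := Ideal.mem_span_singleton_mul.mp (hle2 hQ'α)
  have hv : IsUnit (1 + μ) := by
    have h1 : ¬ IsUnit μ := (IsLocalRing.mem_maximalIdeal μ).mp hμ
    have := IsLocalRing.isUnit_or_isUnit_of_isUnit_add (a := 1 + μ) (b := -μ) (by simp)
    rcases this with h | h
    · exact h
    · exact absurd (by simpa using h) h1
  have hF0 : (P + Q).eval α = d ^ 2 * t := by rw [eval_add, hα, zero_add, hdt]
  have hF1 : (derivative (P + Q)).eval α = d * (1 + μ) := by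
    rw [derivative_add, eval_add, ← hd, ← hdμ]; ring
  obtain ⟨H, hH⟩ := exists_subst (P + Q) α d t (1 + μ) hF0 hF1
  -- the polynomial `g = t + v y + y² H(y)`
  set g : A[X] := C t + C (1 + μ) * X + X ^ 2 * H with hg
  have hg0 : g.eval 0 = t := by simp [hg]
  have hg'0 : (derivative g).eval 0 = 1 + μ := by
    simp [hg, derivative_mul, derivative_pow]
  have htm : t ∈ m := Ideal.pow_le_self (by omega) ht
  obtain ⟨y, hy, hym⟩ := hensel m g 0 (by rw [hg0]; exact htm)
    (by rw [hg'0]; exact hv.map _)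
  rw [sub_zero] at hym
  have hgy : t + (1 + μ) * y + y ^ 2 * H.eval y = 0 := by
    have : g.eval y = 0 := hy
    simpa [hg] using this
  -- `y ∈ m^(c+1)`
  have hu : IsUnit (1 + μ + y * H.eval y) := by
    have h1 : ¬ IsUnit (y * H.eval y) :=
      (IsLocalRing.mem_maximalIdeal _).mp (Ideal.mul_mem_right _ _ hym)
    have := IsLocalRing.isUnit_or_isUnit_of_isUnit_add (a := 1 + μ + y * H.eval y)
      (b := -(y * H.eval y)) (by simpa using hv)
    rcases this with h | h
    · exact h
    · exact absurd (by simpa using h) h1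
  obtain ⟨u, hu'⟩ := hu
  have hyt : y = -t * ↑u⁻¹ := by
    have h2 : y * (u : A) = -t := by rw [hu']; linear_combination hgy
    rw [← h2, mul_assoc, Units.mul_inv, mul_one]
  have hyc : y ∈ m ^ (c + 1) := by
    rw [hyt]; exact Ideal.mul_mem_right _ _ (Ideal.neg_mem_iff _ |>.mpr ht)
  refine ⟨α + d * y, ?_, ?_⟩
  · rw [hH y, hgy, mul_zero]
  · have : α + d * y - α = d * y := by ring
    rw [this]
    exact Ideal.mul_mem_left _ _ (Ideal.pow_le_pow_right (Nat.le_succ c) hyc)

end Groth.Agent.H11.Krasner
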