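import Groth.Agent.H11.MoriNagataKrull

/-!
# The integral closure of a Noetherian domain as an intersection over height-one primes

(EGA 0_IV 23.2-type statement S4568.)
-/

set_option autoImplicit false

universe u

open IsLocalRing

namespace Groth.Agent.H11.KrullGlobal

variable {A : Type u} [CommRing A] [IsDomain A] [IsNoetherianRing A]

/-- Integrality over a domain can be tested at the maximal ideals. -/
theorem isIntegral_of_forall_maximal (x : FractionRing A)
    (h : ∀ (m : Ideal A) [m.IsMaximal], IsIntegral (Localization.AtPrime m) x) :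
    IsIntegral A x := by
  let I : Ideal A :=
    { carrier := {a | IsIntegral A (algebraMap A (FractionRing A) a * x)}
      zero_mem' := by
        change IsIntegral A _
        rw [map_zero, zero_mul]; exact isIntegral_zero
      add_mem' := fun {a b} ha hb => by
        change IsIntegral A _
        rw [map_add, add_mul]; exact IsIntegral.add ha hb
      smul_mem' := fun c a ha => by
        change IsIntegral A _
        rw [smul_eq_mul, map_mul, mul_assoc]; exact IsIntegral.mul isIntegral_algebraMap ha }
  by_contra hx
  have hI : I ≠ ⊤ := by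
    intro htop
    apply hx
    have h1 : (1 : A) ∈ I := htop ▸ Submodule.mem_top
    have h2 : IsIntegral A (algebraMap A (FractionRing A) 1 * x) := h1
    rwa [map_one, one_mul] at h2
  obtain ⟨m, hm, hIm⟩ := Ideal.exists_le_maximal I hI
  haveI := hm
  obtain ⟨⟨s, hs⟩, hsx⟩ := IsIntegral.exists_multiple_integral_of_isLocalization
    (Rₘ := Localization.AtPrime m) m.primeCompl x (h m)
  have hsI : s ∈ I := by
    change IsIntegral A _
    have e : (⟨s, hs⟩ : m.primeCompl) • x = algebraMap A (FractionRing A) s * x := by
      rw [Submonoid.smul_def, Algebra.smul_def]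
    rwa [e] at hsx
  exact hs (hIm hsI)

/-- The local step: integrality over `A_m`. -/
theorem local_step
    (h : ∀ C : Subalgebra A (FractionRing A), C ≤ integralClosure A (FractionRing A) →
      Module.Finite A C →
      ∀ (q : Ideal C) [q.IsPrime], q.height = 1 → (q.comap (algebraMap A C)).height = 1)
    (m : Ideal A) [hm : m.IsMaximal] (x : FractionRing A)
    (hx : ∀ p : PrimeSpectrum A, p.asIdeal.height = 1 → ∃ s : A, s ∉ p.asIdeal ∧
      algebraMap A (FractionRing A) s * x ∈ integralClosure A (FractionRing A)) :
    IsIntegral (Localization.AtPrime m) x := by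
  classical
  haveI : IsNoetherianRing (Localization.AtPrime m) :=
    IsLocalization.isNoetherianRing m.primeCompl _ inferInstance
  obtain ⟨Cm, hCmfin, -, hb, -⟩ :=
    Groth.Agent.H11.MoriNagataKrull.main (Localization.AtPrime m) (FractionRing A)
  haveI := hCmfin
  refine (hb x).mpr ?_
  intro q hq hqht
  -- generators of `Cm`
  obtain ⟨G, hG⟩ := (Module.finite_def.mp hCmfin)
  have hgint : ∀ g : ↥Cm, ∃ t : A, t ∉ m ∧
      IsIntegral A (algebraMap A (FractionRing A) t * (g : FractionRing A)) := by
    intro g
    have h1 : IsIntegral (Localization.AtPrime m) (g : FractionRing A) :=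
      (Algebra.IsIntegral.isIntegral (R := Localization.AtPrime m) g).map Cm.val
    obtain ⟨⟨t, ht⟩, h2⟩ := IsIntegral.exists_multiple_integral_of_isLocalization
      (Rₘ := Localization.AtPrime m) m.primeCompl (g : FractionRing A) h1
    refine ⟨t, ht, ?_⟩
    have e : (⟨t, ht⟩ : m.primeCompl) • (g : FractionRing A) =
        algebraMap A (FractionRing A) t * (g : FractionRing A) := by
      rw [Submonoid.smul_def, Algebra.smul_def]
    rwa [e] at h2
  choose t ht htg using hgint
  set T : A := ∏ g ∈ G, t g with hTdef
  have hT : T ∉ m := by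
    intro hmem
    obtain ⟨g, -, hg⟩ := (Ideal.IsPrime.prod_mem_iff).mp hmem
    exact ht g hg
  have hTg : ∀ g ∈ G, IsIntegral A (algebraMap A (FractionRing A) T * (g : FractionRing A)) := by
    intro g hg
    have hsplit : T = (∏ g' ∈ G.erase g, t g') * t g := by
      rw [hTdef, mul_comm]; exact (Finset.mul_prod_erase G t hg).symm
    rw [hsplit, map_mul, mul_assoc]
    exact IsIntegral.mul isIntegral_algebraMap (htg g)
  let S : Set (FractionRing A) :=
    (fun g : ↥Cm => algebraMap A (FractionRing A) T * (g : FractionRing A)) '' (G : Set ↥Cm)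
  have hSfin : S.Finite := (G.finite_toSet).image _
  have hSint : ∀ y ∈ S, IsIntegral A y := by
    rintro y ⟨g, hg, rfl⟩
    exact hTg g hg
  let C' : Subalgebra A (FractionRing A) := Algebra.adjoin A S
  have hC'le : C' ≤ integralClosure A (FractionRing A) := Algebra.adjoin_le hSint
  have hC'fin : Module.Finite A ↥C' := Algebra.finite_adjoin_of_finite_of_isIntegral hSfin hSint
  have hAK : ∀ a : A, algebraMap A (FractionRing A) a ∈ Cm := by
    intro a
    rw [IsScalarTower.algebraMap_apply A (Localization.AtPrime m) (FractionRing A)]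
    exact Cm.algebraMap_mem _
  have hC'Cm : ∀ y ∈ C', y ∈ Cm := by
    have : C' ≤ Cm.restrictScalars A := by
      refine Algebra.adjoin_le ?_
      rintro y ⟨g, -, rfl⟩
      exact Cm.mul_mem (hAK T) g.2
    exact fun y hy => this hy
  let ι : ↥C' →+* ↥Cm :=
    { toFun := fun c => ⟨c.1, hC'Cm c.1 c.2⟩
      map_one' := rfl
      map_mul' := fun _ _ => rfl
      map_zero' := rfl
      map_add' := fun _ _ => rfl }
  letI algC' : Algebra ↥C' ↥Cm := ι.toAlgebra
  have hιA : ∀ a : A, ι (algebraMap A ↥C' a) =
      algebraMap (Localization.AtPrime m) ↥Cm (algebraMap A (Localization.AtPrime m) a) := by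
    intro a
    apply Subtype.ext
    change algebraMap A (FractionRing A) a =
      algebraMap (Localization.AtPrime m) (FractionRing A) (algebraMap A _ a)
    rw [← IsScalarTower.algebraMap_apply]
  -- description of the elements of `Cm`
  have hdesc : ∀ z : ↥Cm, ∃ c' : ↥C', ∃ s : A, s ∉ m ∧
      (z : FractionRing A) * algebraMap A (FractionRing A) s = (c' : FractionRing A) := by
    intro z
    have hz : z ∈ Submodule.span (Localization.AtPrime m) (G : Set ↥Cm) := by
      rw [hG]; exact Submodule.mem_top
    induction hz using Submodule.span_induction with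
    | mem g hg =>
      refine ⟨⟨algebraMap A (FractionRing A) T * (g : FractionRing A),
        Algebra.subset_adjoin ⟨g, hg, rfl⟩⟩, T, hT, ?_⟩
      rw [mul_comm]
    | zero => exact ⟨0, 1, hm.isPrime.one_notMem, by simp⟩
    | add z₁ z₂ _ _ h₁ h₂ =>
      obtain ⟨c₁, s₁, hs₁, e₁⟩ := h₁
      obtain ⟨c₂, s₂, hs₂, e₂⟩ := h₂
      refine ⟨algebraMap A ↥C' s₂ * c₁ + algebraMap A ↥C' s₁ * c₂, s₁ * s₂,
        fun hmem => (hm.isPrime.mem_or_mem hmem).elim hs₁ hs₂, ?_⟩
      change ((z₁ : FractionRing A) + (z₂ : FractionRing A)) * _ =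
        algebraMap A (FractionRing A) s₂ * (c₁ : FractionRing A) +
          algebraMap A (FractionRing A) s₁ * (c₂ : FractionRing A)
      rw [← e₁, ← e₂, map_mul]
      ring
    | smul a z _ hz' =>
      obtain ⟨c, s, hs, e⟩ := hz'
      obtain ⟨b, ⟨s₀, hs₀⟩, rfl⟩ := IsLocalization.exists_mk'_eq m.primeCompl a
      refine ⟨algebraMap A ↥C' b * c, s₀ * s,
        fun hmem => (hm.isPrime.mem_or_mem hmem).elim hs₀ hs, ?_⟩
      have e0 : algebraMap (Localization.AtPrime m) (FractionRing A)
          (IsLocalization.mk' (Localization.AtPrime m) b (⟨s₀, hs₀⟩ : m.primeCompl)) *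
          algebraMap A (FractionRing A) s₀ = algebraMap A (FractionRing A) b := by
        rw [IsScalarTower.algebraMap_apply A (Localization.AtPrime m) (FractionRing A) s₀,
          ← map_mul, IsLocalization.mk'_spec_mk, ← IsScalarTower.algebraMap_apply]
      change (algebraMap (Localization.AtPrime m) (FractionRing A)
          (IsLocalization.mk' (Localization.AtPrime m) b (⟨s₀, hs₀⟩ : m.primeCompl)) *
          (z : FractionRing A)) * _ =
        algebraMap A (FractionRing A) b * (c : FractionRing A)
      rw [← e, ← e0, map_mul]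
      ring
  have hloc : IsLocalization (Algebra.algebraMapSubmonoid ↥C' m.primeCompl) ↥Cm := by
    rw [isLocalization_iff]
    refine ⟨?_, ?_, ?_⟩
    · rintro ⟨y, s, hs, rfl⟩
      have hu : IsUnit (algebraMap A (Localization.AtPrime m) s) :=
        IsLocalization.map_units (Localization.AtPrime m) (⟨s, hs⟩ : m.primeCompl)
      have := hu.map (algebraMap (Localization.AtPrime m) ↥Cm)
      rw [← hιA] at this
      exact this
    · intro z
      obtain ⟨c', s, hs, e⟩ := hdesc z
      refine ⟨⟨c', ⟨algebraMap A ↥C' s, s, hs, rfl⟩⟩, ?_⟩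
      apply Subtype.ext
      exact e
    · intro x y hxy
      refine ⟨1, ?_⟩
      have hxy' : ι x = ι y := hxy
      have : x = y := Subtype.ext (congrArg (fun z : ↥Cm => (z : FractionRing A)) hxy')
      rw [this]
  have hq'ht : (q.under ↥C').height = 1 := by
    rw [IsLocalization.height_under (Algebra.algebraMapSubmonoid ↥C' m.primeCompl) q, hqht]
  haveI hq'prime : (q.under ↥C').IsPrime := Ideal.comap_isPrime _ _
  have hp := h C' hC'le hC'fin (q.under ↥C') hq'ht
  obtain ⟨s, hs, hsx⟩ := hx ⟨(q.under ↥C').comap (algebraMap A ↥C'), Ideal.comap_isPrime _ _⟩ hp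
  refine ⟨algebraMap (Localization.AtPrime m) ↥Cm (algebraMap A (Localization.AtPrime m) s), ?_, ?_⟩
  · intro hmem
    apply hs
    change ι (algebraMap A ↥C' s) ∈ q
    rw [hιA]
    exact hmem
  · have hval : ((algebraMap (Localization.AtPrime m) ↥Cm
        (algebraMap A (Localization.AtPrime m) s) : ↥Cm) : FractionRing A) =
        algebraMap A (FractionRing A) s := by
      change algebraMap (Localization.AtPrime m) (FractionRing A) (algebraMap A _ s) = _
      rw [← IsScalarTower.algebraMap_apply]
    rw [hval]
    have h1 : IsIntegral A (algebraMap A (FractionRing A) s * x) := hsx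
    have h2 : IsIntegral (Localization.AtPrime m) (algebraMap A (FractionRing A) s * x) :=
      h1.tower_top
    exact h2.tower_top

/-- Statement S4568. -/
theorem main
    (h : ∀ C : Subalgebra A (FractionRing A), C ≤ integralClosure A (FractionRing A) →
      Module.Finite A C →
      ∀ (q : Ideal C) [q.IsPrime], q.height = 1 → (q.comap (algebraMap A C)).height = 1) :
    (integralClosure A (FractionRing A) : Set (FractionRing A)) =
      ⋂ (p : PrimeSpectrum A) (_ : p.asIdeal.height = 1),
        {x : FractionRing A | ∃ s : A, s ∉ p.asIdeal ∧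
          algebraMap A (FractionRing A) s * x ∈ integralClosure A (FractionRing A)} := by
  ext x
  simp only [Set.mem_iInter, Set.mem_ofPred_eq, SetLike.mem_coe]
  constructor
  · intro hx p _
    exact ⟨1, p.isPrime.one_notMem, by rw [map_one, one_mul]; exact hx⟩
  · intro hx
    apply isIntegral_of_forall_maximal
    intro m hm
    exact local_step h m x hx

end Groth.Agent.H11.KrullGlobal
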