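import Groth.Agent.H11.KrullVal
import Groth.Agent.H11.MoriNagata
import Groth.Agent.H15.SerreNormal

/-!
# The integral closure of a Noetherian local domain is a Krull domain

Using the normal models of `H11/MoriNagata` and the abstract Krull theorem of `H11/KrullVal`.
-/

set_option autoImplicit false

universe u

open WithZero IsLocalRing IsDedekindDomain

namespace Groth.Agent.H11.KrullNormal

open Groth.Agent.H11.KrullVal

/-- The `ℤ`-valued function attached to a `ℤᵐ⁰`-valued valuation. -/
noncomputable def ofValuation {K : Type*} [Field K] (w : Valuation K ℤᵐ⁰) : DVal K where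
  v x := - WithZero.log (w x)
  map_mul' x y hx hy := by
    have hx' : w x ≠ 0 := (Valuation.ne_zero_iff _).mpr hx
    have hy' : w y ≠ 0 := (Valuation.ne_zero_iff _).mpr hy
    rw [map_mul, WithZero.log_mul hx' hy']
    ring
  map_add' x y hx hy hxy := by
    have hx' : w x ≠ 0 := (Valuation.ne_zero_iff _).mpr hx
    have hy' : w y ≠ 0 := (Valuation.ne_zero_iff _).mpr hy
    have hxy' : w (x + y) ≠ 0 := (Valuation.ne_zero_iff _).mpr hxy
    rcases le_max_iff.mp (w.map_add x y) with h | h
    · have := (WithZero.log_le_log hxy' hx').mpr h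
      exact (min_le_left _ _).trans (neg_le_neg this)
    · have := (WithZero.log_le_log hxy' hy').mpr h
      exact (min_le_right _ _).trans (neg_le_neg this)

theorem ofValuation_nonneg_iff {K : Type*} [Field K] (w : Valuation K ℤᵐ⁰) {x : K} (hx : x ≠ 0) :
    0 ≤ (ofValuation w).v x ↔ w x ≤ 1 := by
  have hx' : w x ≠ 0 := (Valuation.ne_zero_iff _).mpr hx
  change 0 ≤ - WithZero.log (w x) ↔ _
  rw [neg_nonneg, WithZero.log_le_iff_le_exp hx', WithZero.exp_zero]

section HeightOne

variable (D : Type u) [CommRing D] [IsDomain D] [IsNoetherianRing D] [IsIntegrallyClosed D]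
  (Q : Ideal D) (hQp : Q.IsPrime)

include hQp in
theorem isDVR (hQ : Q.height = 1) : IsDiscreteValuationRing (Localization.AtPrime Q) := by
  haveI := hQp
  haveI : IsNoetherianRing (Localization.AtPrime Q) :=
    IsLocalization.isNoetherianRing Q.primeCompl _ inferInstance
  haveI : IsIntegrallyClosed (Localization.AtPrime Q) :=
    isIntegrallyClosed_of_isLocalization _ Q.primeCompl Q.primeCompl_le_nonZeroDivisors
  have hdim : ringKrullDim (Localization.AtPrime Q) ≤ ((1 : ℕ) : WithBot ℕ∞) := by
    rw [IsLocalization.AtPrime.ringKrullDim_eq_height Q (Localization.AtPrime Q), hQ]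
    rfl
  haveI hK : Ring.KrullDimLE 1 (Localization.AtPrime Q) := Ring.krullDimLE_iff.mpr hdim
  have hprimes : ∀ P' : Ideal (Localization.AtPrime Q), P' ≠ ⊥ → P'.IsPrime →
      P' = maximalIdeal (Localization.AtPrime Q) :=
    fun P' h0 hP' => IsLocalRing.eq_maximalIdeal (hP'.isMaximal_of_ne_bot h0)
  have h30 : (IsIntegrallyClosed (Localization.AtPrime Q) ∧
      ∀ P' : Ideal (Localization.AtPrime Q), P' ≠ ⊥ → P'.IsPrime →
        P' = maximalIdeal (Localization.AtPrime Q)) →
      IsPrincipalIdealRing (Localization.AtPrime Q) :=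
    ((tfae_of_isNoetherianRing_of_isLocalRing_of_isDomain (Localization.AtPrime Q)).out 3 0).mp
  haveI : IsPrincipalIdealRing (Localization.AtPrime Q) := h30 ⟨inferInstance, hprimes⟩
  refine { not_a_field' := ?_ }
  intro hbot
  have hQne : Q ≠ ⊥ := Ideal.ne_bot_of_height_eq_one hQ
  obtain ⟨q, hq, hq0⟩ := Submodule.exists_mem_ne_zero_of_ne_bot hQne
  have hmem : algebraMap D (Localization.AtPrime Q) q ∈ maximalIdeal (Localization.AtPrime Q) := by
    rw [← IsLocalization.AtPrime.map_eq_maximalIdeal Q]
    exact Ideal.mem_map_of_mem _ hq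
  rw [hbot, Ideal.mem_bot] at hmem
  exact hq0 ((IsLocalization.injective _ Q.primeCompl_le_nonZeroDivisors)
    (hmem.trans (map_zero _).symm))

/-- The valuation of the fraction field attached to a height-one prime of a Noetherian normal
domain. -/
noncomputable def valQ (hQ : Q.height = 1) : Valuation (FractionRing D) ℤᵐ⁰ :=
  haveI := hQp
  haveI := isDVR D Q hQp hQ
  HeightOneSpectrum.valuation (FractionRing D)
    (⟨maximalIdeal (Localization.AtPrime Q), inferInstance,
      IsDiscreteValuationRing.not_a_field _⟩ : HeightOneSpectrum (Localization.AtPrime Q))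

theorem algebraMap_mk'_mul (d s : D) (hs : s ∈ Q.primeCompl) :
    haveI := hQp
    algebraMap (Localization.AtPrime Q) (FractionRing D)
      (IsLocalization.mk' (Localization.AtPrime Q) d (⟨s, hs⟩ : Q.primeCompl)) *
      algebraMap D (FractionRing D) s = algebraMap D (FractionRing D) d := by
  haveI := hQp
  rw [IsScalarTower.algebraMap_apply D (Localization.AtPrime Q) (FractionRing D) s, ← map_mul,
    IsLocalization.mk'_spec_mk, ← IsScalarTower.algebraMap_apply]

theorem valQ_le_one_iff (hQ : Q.height = 1) (x : FractionRing D) :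
    valQ D Q hQp hQ x ≤ 1 ↔ ∃ s : D, s ∉ Q ∧ ∃ d : D,
      algebraMap D (FractionRing D) s * x = algebraMap D (FractionRing D) d := by
  haveI := hQp
  haveI := isDVR D Q hQp hQ
  set v : HeightOneSpectrum (Localization.AtPrime Q) :=
    ⟨maximalIdeal (Localization.AtPrime Q), inferInstance,
      IsDiscreteValuationRing.not_a_field _⟩ with hv
  have hval : valQ D Q hQp hQ = v.valuation (FractionRing D) := rfl
  have key : ∀ o : Localization.AtPrime Q, ∃ s : D, s ∉ Q ∧ ∃ d : D,
      algebraMap D (FractionRing D) s * algebraMap (Localization.AtPrime Q) (FractionRing D) o =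
        algebraMap D (FractionRing D) d := by
    intro o
    obtain ⟨d, ⟨s, hs⟩, rfl⟩ := IsLocalization.exists_mk'_eq Q.primeCompl o
    exact ⟨s, Ideal.mem_primeCompl_iff.mp hs, d,
      by rw [mul_comm]; exact algebraMap_mk'_mul D Q hQp d s hs⟩
  constructor
  · intro h
    by_cases hx0 : x = 0
    · exact ⟨1, hQp.one_notMem, 0, by rw [hx0]; simp⟩
    rcases ValuationRing.isInteger_or_isInteger (Localization.AtPrime Q) x with ⟨o, ho⟩ | ⟨o, ho⟩
    · rw [← ho]; exact key o
    · by_cases hu : IsUnit o
      · obtain ⟨u, rfl⟩ := hu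
        have hx : x = algebraMap (Localization.AtPrime Q) (FractionRing D) ((u⁻¹ : _ˣ) : _) := by
          have h1 : algebraMap (Localization.AtPrime Q) (FractionRing D) (u : _) *
              algebraMap (Localization.AtPrime Q) (FractionRing D) ((u⁻¹ : _ˣ) : _) = 1 := by
            rw [← map_mul, Units.mul_inv, map_one]
          have h2 : algebraMap (Localization.AtPrime Q) (FractionRing D) (u : _) * x = 1 := by
            rw [ho]; exact inv_mul_cancel₀ hx0
          have h3 : algebraMap (Localization.AtPrime Q) (FractionRing D) (u : _) ≠ 0 := by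
            intro h0; rw [h0, zero_mul] at h2; exact zero_ne_one h2
          exact mul_left_cancel₀ h3 (h2.trans h1.symm)
        rw [hx]; exact key _
      · exfalso
        have hmem : o ∈ v.asIdeal := (IsLocalRing.mem_maximalIdeal o).mpr hu
        have h1 : v.valuation (FractionRing D)
            (algebraMap (Localization.AtPrime Q) (FractionRing D) o) < 1 :=
          (HeightOneSpectrum.valuation_lt_one_iff_mem (K := FractionRing D) v o).mpr hmem
        rw [ho, map_inv₀] at h1
        rw [hval] at h
        have hne : v.valuation (FractionRing D) x ≠ 0 := (Valuation.ne_zero_iff _).mpr hx0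
        have h2 : 1 ≤ (v.valuation (FractionRing D) x)⁻¹ :=
          (one_le_inv₀ (zero_lt_iff.mpr hne)).mpr h
        exact absurd h1 (not_lt.mpr h2)
  · rintro ⟨s, hs, d, hsd⟩
    have hs0 : algebraMap D (FractionRing D) s ≠ 0 := by
      intro h0
      have := (IsFractionRing.injective D (FractionRing D)) (h0.trans (map_zero _).symm)
      exact hs (this ▸ Q.zero_mem)
    have hs' : s ∈ Q.primeCompl := Ideal.mem_primeCompl_iff.mpr hs
    have hx : x = algebraMap (Localization.AtPrime Q) (FractionRing D)
        (IsLocalization.mk' (Localization.AtPrime Q) d (⟨s, hs'⟩ : Q.primeCompl)) := by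
      apply mul_right_cancel₀ hs0
      rw [algebraMap_mk'_mul D Q hQp d s hs', mul_comm, hsd]
    rw [hx, hval]
    exact HeightOneSpectrum.valuation_le_one v _

/-- Divisibility in a Noetherian normal domain can be tested at the height-one primes. -/
theorem dvd_of_forall_heightOne (a b : D) (ha : a ≠ 0)
    (h : ∀ (Q : Ideal D) (_ : Q.IsPrime) (_ : Q.height = 1), a ∈ Q →
      ∃ s : D, s ∉ Q ∧ ∃ d : D, s * b = d * a) : ∃ d : D, b = a * d := by
  have hS2 : LocCoh.HasSk 2 D D :=
    (Groth.Agent.H15.SerreNormal.hasRk_hasSk_of_normal (R := D) (fun p _ =>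
      ⟨inferInstance,
        isIntegrallyClosed_of_isLocalization _ p.primeCompl p.primeCompl_le_nonZeroDivisors⟩)).2
  have hreg : IsSMulRegular D a := (isRegular_of_ne_zero ha).left.isSMulRegular
  have hmem : b ∈ Ideal.span {a} := by
    refine Groth.Agent.H15.SerreNormal.mem_span_of_forall_height_le_one hS2 hreg ?_
    intro Q hQp hQle
    by_cases haQ : a ∈ Q
    · have hQne : Q ≠ ⊥ := fun hb => ha (by rw [hb] at haQ; exact haQ)
      have hQ : Q.height = 1 := by
        refine le_antisymm hQle ?_
        rw [Order.one_le_iff_pos, pos_iff_ne_zero]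
        exact fun h0 => hQne (Ideal.height_eq_zero_iff_eq_bot.mp h0)
      obtain ⟨s, hs0, d, hsd⟩ := h Q hQp hQ haQ
      have hs : s ∈ Q.primeCompl := Ideal.mem_primeCompl_iff.mpr hs0
      rw [Ideal.mem_span_singleton']
      refine ⟨IsLocalization.mk' (Localization.AtPrime Q) d (⟨s, hs⟩ : Q.primeCompl), ?_⟩
      apply (IsLocalization.map_units (Localization.AtPrime Q) (⟨s, hs⟩ : Q.primeCompl)).mul_left_inj.mp
      calc IsLocalization.mk' (Localization.AtPrime Q) d (⟨s, hs⟩ : Q.primeCompl) *
            algebraMap D (Localization.AtPrime Q) a * algebraMap D (Localization.AtPrime Q) s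
          = (IsLocalization.mk' (Localization.AtPrime Q) d (⟨s, hs⟩ : Q.primeCompl) *
            algebraMap D (Localization.AtPrime Q) s) * algebraMap D (Localization.AtPrime Q) a := by
              ring
        _ = algebraMap D (Localization.AtPrime Q) d * algebraMap D (Localization.AtPrime Q) a := by
              rw [IsLocalization.mk'_spec_mk]
        _ = algebraMap D (Localization.AtPrime Q) b * algebraMap D (Localization.AtPrime Q) s := by
              rw [← map_mul, ← hsd, map_mul, mul_comm]
    · have hu : IsUnit (algebraMap D (Localization.AtPrime Q) a) :=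
        IsLocalization.map_units (Localization.AtPrime Q)
          (⟨a, Ideal.mem_primeCompl_iff.mpr haQ⟩ : Q.primeCompl)
      rw [Ideal.span_singleton_eq_top.mpr hu]
      exact Submodule.mem_top
  obtain ⟨c, hc⟩ := Ideal.mem_span_singleton'.mp hmem
  exact ⟨c, by rw [← hc, mul_comm]⟩

end HeightOne

/-- A height-one prime containing a nonzero element is minimal over it. -/
theorem mem_minimalPrimes_span_of_height_one (D : Type*) [CommRing D] [IsDomain D]
    (Q : Ideal D) (hQp : Q.IsPrime) (hQ : Q.height = 1) (a : D) (ha : a ≠ 0)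
    (haQ : a ∈ Q) : Q ∈ (Ideal.span {a}).minimalPrimes := by
  haveI := hQp
  haveI : Q.FiniteHeight := ⟨Or.inr (by rw [hQ]; exact ENat.one_ne_top)⟩
  refine Ideal.mem_minimalPrimes_of_height_le ((Ideal.span_singleton_le_iff_mem _).mpr haQ) ?_
  rw [hQ]
  exact Ideal.one_le_height_span_singleton_of_mem_nonZeroDivisors
    (mem_nonZeroDivisors_of_ne_zero ha)

section Main

variable (A : Type u) [CommRing A] [IsDomain A] [IsLocalRing A] [IsNoetherianRing A]
  (K : Type u) [Field K] [Algebra A K] [IsFractionRing A K]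

/-- **Mori–Nagata, Krull form**: an element of the fraction field outside the integral closure `A'`
of a Noetherian local domain is excluded by the localization of `A'` at a prime which is minimal
among the nonzero primes of `A'`. -/
theorem exists_prime_integralClosure (x : K) (hx : x ∉ integralClosure A K) :
    ∃ P : Ideal ↥(integralClosure A K), P.IsPrime ∧ P ≠ ⊥ ∧
      (∀ P' : Ideal ↥(integralClosure A K), P'.IsPrime → P' ≠ ⊥ → P' ≤ P → P' = P) ∧
      ∀ s : ↥(integralClosure A K), s ∉ P → (s : K) * x ∉ integralClosure A K := by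
  classical
  letI : Algebra (FractionRing A) K := FractionRing.liftAlgebra A K
  haveI : IsScalarTower A (FractionRing A) K := FractionRing.isScalarTower_liftAlgebra A K
  haveI : FiniteDimensional (FractionRing A) K := by
    refine Module.Finite.of_surjective (Algebra.linearMap (FractionRing A) K) ?_
    intro z
    obtain ⟨a, b, _, rfl⟩ := IsFractionRing.div_surjective A z
    refine ⟨algebraMap A (FractionRing A) a / algebraMap A (FractionRing A) b, ?_⟩
    rw [Algebra.linearMap_apply, map_div₀, ← IsScalarTower.algebraMap_apply,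
      ← IsScalarTower.algebraMap_apply]
  obtain ⟨NM⟩ := Groth.Agent.H11.MoriNagata.nonempty_normalModels A K
  have hg : ∀ i, Function.Injective
      ((algebraMap (NM.Dn i) (FractionRing (NM.Dn i))).comp (NM.θ i).toRingHom) :=
    fun i => (IsFractionRing.injective _ _).comp (NM.θ_inj i)
  let θK : ∀ i, K →+* FractionRing (NM.Dn i) := fun i => IsFractionRing.lift (hg i)
  have hθK : ∀ i (c : ↥(integralClosure A K)),
      θK i (c : K) = algebraMap (NM.Dn i) (FractionRing (NM.Dn i)) (NM.θ i c) :=
    fun i c => IsFractionRing.lift_algebraMap (hg i) c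
  have hθKA : ∀ i (a : A), θK i (algebraMap A K a) =
      algebraMap (NM.Dn i) (FractionRing (NM.Dn i)) (algebraMap A (NM.Dn i) a) := by
    intro i a
    rw [← (NM.θ i).commutes a]
    exact hθK i (algebraMap A ↥(integralClosure A K) a)
  have hAD : ∀ i (a : A), a ≠ 0 → algebraMap A (NM.Dn i) a ≠ 0 := by
    intro i a ha h0
    have h1 := hθKA i a
    rw [h0, map_zero] at h1
    have h2 : algebraMap A K a = 0 := (θK i).injective (h1.trans (map_zero _).symm)
    exact ha ((IsFractionRing.injective A K) (h2.trans (map_zero _).symm))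
  let J := Σ i : NM.ι, {Q : Ideal (NM.Dn i) // Q.IsPrime ∧ Q.height = 1}
  let w : J → DVal K := fun j =>
    ofValuation ((valQ (NM.Dn j.1) j.2.1 j.2.2.1 j.2.2.2).comap (θK j.1))
  have hw : ∀ (j : J) (z : K), z ≠ 0 → (0 ≤ (w j).v z ↔
      ∃ s : NM.Dn j.1, s ∉ j.2.1 ∧ ∃ d : NM.Dn j.1,
        algebraMap (NM.Dn j.1) (FractionRing (NM.Dn j.1)) s * θK j.1 z =
          algebraMap (NM.Dn j.1) (FractionRing (NM.Dn j.1)) d) := by
    intro j z hz
    simp only [w]
    rw [ofValuation_nonneg_iff _ hz, Valuation.comap_apply, valQ_le_one_iff]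
  have hrange : ∀ z : K, z ∈ Set.range (algebraMap ↥(integralClosure A K) K) ↔
      z ∈ integralClosure A K :=
    fun z => ⟨fun ⟨r, hr⟩ => hr ▸ r.2, fun hz => ⟨⟨z, hz⟩, rfl⟩⟩
  have hinj : Function.Injective (algebraMap ↥(integralClosure A K) K) := Subtype.val_injective
  have hR : ∀ z : K, z ≠ 0 →
      (z ∈ Set.range (algebraMap ↥(integralClosure A K) K) ↔ ∀ j, 0 ≤ (w j).v z) := by
    intro z hz
    rw [hrange]
    constructor
    · intro hzA j
      rw [hw j z hz]
      refine ⟨1, j.2.2.1.one_notMem, NM.θ j.1 ⟨z, hzA⟩, ?_⟩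
      rw [map_one, one_mul]
      exact hθK j.1 ⟨z, hzA⟩
    · intro hall
      obtain ⟨n, m, hm, rfl⟩ := IsFractionRing.div_surjective A z
      have hm0 : m ≠ 0 := nonZeroDivisors.ne_zero hm
      have hmK : algebraMap A K m ≠ 0 := fun h0 =>
        hm0 ((IsFractionRing.injective A K) (h0.trans (map_zero _).symm))
      have hdesc := NM.desc m (algebraMap A ↥(integralClosure A K) n) hm0 (fun i => by
        rw [(NM.θ i).commutes]
        apply dvd_of_forall_heightOne (NM.Dn i) _ _ (hAD i m hm0)
        intro Q hQp hQ haQ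
        obtain ⟨s, hs, d, hsd⟩ := (hw ⟨i, ⟨Q, hQp, hQ⟩⟩ _ hz).mp (hall ⟨i, ⟨Q, hQp, hQ⟩⟩)
        refine ⟨s, hs, d, ?_⟩
        apply IsFractionRing.injective (NM.Dn i) (FractionRing (NM.Dn i))
        rw [map_mul, map_mul]
        have hne : algebraMap (NM.Dn i) (FractionRing (NM.Dn i)) (algebraMap A (NM.Dn i) m) ≠ 0 :=
          fun h0 => hAD i m hm0
            ((IsFractionRing.injective (NM.Dn i) _) (h0.trans (map_zero _).symm))
        have e : θK i (algebraMap A K n / algebraMap A K m) *
            algebraMap (NM.Dn i) (FractionRing (NM.Dn i)) (algebraMap A (NM.Dn i) m) =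
            algebraMap (NM.Dn i) (FractionRing (NM.Dn i)) (algebraMap A (NM.Dn i) n) := by
          rw [map_div₀, hθKA, hθKA, div_mul_cancel₀ _ hne]
        rw [← e, ← hsd]
        ring)
      obtain ⟨w', hw'⟩ := hdesc
      have e : algebraMap A K n / algebraMap A K m = (w' : K) := by
        rw [div_eq_iff hmK]
        have h1 := congrArg (Subtype.val) hw'
        rw [mul_comm]
        exact h1
      rw [e]
      exact w'.2
  have hfin : ∀ z : K, z ≠ 0 → {j | (w j).v z < 0}.Finite := by
    intro z hz
    obtain ⟨n, m, hm, rfl⟩ := IsFractionRing.div_surjective A z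
    have hm0 : m ≠ 0 := nonZeroDivisors.ne_zero hm
    have hsub : {j | (w j).v (algebraMap A K n / algebraMap A K m) < 0} ⊆
        ⋃ i : NM.ι, (Sigma.mk i) ''
          {Q : {Q : Ideal (NM.Dn i) // Q.IsPrime ∧ Q.height = 1} |
            algebraMap A (NM.Dn i) m ∈ Q.1} := by
      rintro ⟨i, Q⟩ hj
      simp only [Set.mem_iUnion, Set.mem_image]
      refine ⟨i, Q, ?_, rfl⟩
      by_contra hmQ
      have hne : algebraMap (NM.Dn i) (FractionRing (NM.Dn i)) (algebraMap A (NM.Dn i) m) ≠ 0 :=
        fun h0 => hAD i m hm0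
          ((IsFractionRing.injective (NM.Dn i) _) (h0.trans (map_zero _).symm))
      have h0 : 0 ≤ (w ⟨i, Q⟩).v (algebraMap A K n / algebraMap A K m) :=
        (hw ⟨i, Q⟩ _ hz).mpr ⟨algebraMap A (NM.Dn i) m, hmQ, algebraMap A (NM.Dn i) n, by
          rw [map_div₀, hθKA, hθKA, mul_div_cancel₀ _ hne]⟩
      exact absurd hj (not_lt.mpr h0)
    refine (Set.finite_iUnion fun i => Set.Finite.image _ ?_).subset hsub
    have hfinmin := Ideal.finite_minimalPrimes_of_isNoetherianRing (NM.Dn i)
      (Ideal.span {algebraMap A (NM.Dn i) m})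
    refine (hfinmin.preimage (Subtype.val_injective.injOn)).subset ?_
    intro Q hQ
    exact mem_minimalPrimes_span_of_height_one (NM.Dn i) Q.1 Q.2.1 Q.2.2 _ (hAD i m hm0) hQ
  have hfrac : ∀ z : K, ∃ a b : ↥(integralClosure A K), b ≠ 0 ∧
      z * algebraMap ↥(integralClosure A K) K b = algebraMap ↥(integralClosure A K) K a := by
    intro z
    obtain ⟨n, m, hm, rfl⟩ := IsFractionRing.div_surjective A z
    have hm0 : m ≠ 0 := nonZeroDivisors.ne_zero hm
    have hmK : algebraMap A K m ≠ 0 := fun h0 =>
      hm0 ((IsFractionRing.injective A K) (h0.trans (map_zero _).symm))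
    refine ⟨algebraMap A _ n, algebraMap A _ m, fun h0 => hmK (congrArg Subtype.val h0), ?_⟩
    exact div_mul_cancel₀ _ hmK
  obtain ⟨P, hP, hPne, hPmin, hPx⟩ :=
    KrullVal.exists_prime w hinj hR hfin hfrac x (fun h => hx ((hrange x).mp h))
  exact ⟨P, hP, hPne, hPmin, fun s hs hmem => hPx s hs ((hrange _).mpr hmem)⟩

end Main

end Groth.Agent.H11.KrullNormal
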