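import Mathlib

/-!
# An abstract Krull-domain theorem

A domain `R` inside a field `K` which is the intersection of a family of (possibly trivial)
`ℤ`-valued valuations of finite character: every `x ∉ R` is already excluded by the localization of
`R` at a prime which is minimal among the nonzero primes.
-/

set_option autoImplicit false

namespace Groth.Agent.H11.KrullVal

/-- A (possibly trivial) `ℤ`-valued valuation on a field; no constraint on the value at `0`. -/
structure DVal (K : Type*) [Field K] where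
  /-- the value -/
  v : K → ℤ
  map_mul' : ∀ x y : K, x ≠ 0 → y ≠ 0 → v (x * y) = v x + v y
  map_add' : ∀ x y : K, x ≠ 0 → y ≠ 0 → x + y ≠ 0 → min (v x) (v y) ≤ v (x + y)

namespace DVal

variable {K : Type*} [Field K] (w : DVal K)

theorem map_one : w.v 1 = 0 := by
  have := w.map_mul' 1 1 one_ne_zero one_ne_zero
  rw [mul_one] at this
  omega

theorem map_pow {x : K} (hx : x ≠ 0) (n : ℕ) : w.v (x ^ n) = n * w.v x := by
  induction n with
  | zero => simp [map_one]
  | succ n ih =>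
    rw [pow_succ, w.map_mul' _ _ (pow_ne_zero n hx) hx, ih]
    push_cast
    ring

theorem map_inv {x : K} (hx : x ≠ 0) : w.v x⁻¹ = - w.v x := by
  have := w.map_mul' x x⁻¹ hx (inv_ne_zero hx)
  rw [mul_inv_cancel₀ hx, map_one] at this
  omega

end DVal

section KT

variable {K : Type*} [Field K] {R : Type*} [CommRing R] [Algebra R K] {ι : Type*} (w : ι → DVal K)
  (hinj : Function.Injective (algebraMap R K))
  (hR : ∀ x : K, x ≠ 0 → (x ∈ Set.range (algebraMap R K) ↔ ∀ i, 0 ≤ (w i).v x))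

include hinj in
theorem phi_ne_zero {r : R} (h : r ≠ 0) : algebraMap R K r ≠ 0 :=
  (map_ne_zero_iff _ hinj).mpr h

include hR in
theorem v_nonneg (i : ι) (r : R) (hr : algebraMap R K r ≠ 0) : 0 ≤ (w i).v (algebraMap R K r) :=
  (hR _ hr).mp ⟨r, rfl⟩ i

/-- The elements of `R` of value at least `n`. -/
def lev (i : ι) (n : ℕ) : Ideal R where
  carrier := {r | r = 0 ∨ (n : ℤ) ≤ (w i).v (algebraMap R K r)}
  zero_mem' := Or.inl rfl
  add_mem' := by
    intro a b ha hb
    by_cases ha0 : a = 0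
    · subst ha0; simpa using hb
    by_cases hb0 : b = 0
    · subst hb0; simpa using ha
    by_cases hab : a + b = 0
    · exact Or.inl hab
    right
    have ha' := ha.resolve_left ha0
    have hb' := hb.resolve_left hb0
    have h := (w i).map_add' _ _ (phi_ne_zero hinj ha0) (phi_ne_zero hinj hb0)
      (by rw [← map_add]; exact phi_ne_zero hinj hab)
    rw [map_add]
    exact le_trans (le_min ha' hb') h
  smul_mem' := by
    intro c a ha
    by_cases hc0 : c = 0
    · left; simp [hc0]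
    by_cases ha0 : a = 0
    · left; simp [ha0]
    right
    rw [smul_eq_mul, map_mul, (w i).map_mul' _ _ (phi_ne_zero hinj hc0) (phi_ne_zero hinj ha0)]
    have h1 := v_nonneg w hR i c (phi_ne_zero hinj hc0)
    have h2 := ha.resolve_left ha0
    linarith

theorem mem_lev {i : ι} {n : ℕ} {r : R} :
    r ∈ lev w hinj hR i n ↔ r = 0 ∨ (n : ℤ) ≤ (w i).v (algebraMap R K r) := Iff.rfl

theorem v_eq_zero_of_notMem {i : ι} {r : R} (h : r ∉ lev w hinj hR i 1) :
    r ≠ 0 ∧ (w i).v (algebraMap R K r) = 0 := by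
  rw [mem_lev] at h
  push Not at h
  refine ⟨h.1, ?_⟩
  have h1 := v_nonneg w hR i r (phi_ne_zero hinj h.1)
  have h2 := h.2
  push_cast at h2
  omega

theorem lev_one_isPrime (i : ι) : (lev w hinj hR i 1).IsPrime := by
  refine ⟨?_, ?_⟩
  · rw [Ideal.ne_top_iff_one]
    intro h
    rcases (mem_lev w hinj hR).mp h with h | h
    · have h' := congrArg (algebraMap R K) h
      rw [map_one, map_zero] at h'
      exact one_ne_zero h'
    · rw [map_one, (w i).map_one] at h
      norm_num at h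
  · intro a b hab
    by_contra hcon
    push Not at hcon
    obtain ⟨ha0, hva⟩ := v_eq_zero_of_notMem w hinj hR hcon.1
    obtain ⟨hb0, hvb⟩ := v_eq_zero_of_notMem w hinj hR hcon.2
    rcases (mem_lev w hinj hR).mp hab with h | h
    · have := mul_ne_zero (phi_ne_zero hinj ha0) (phi_ne_zero hinj hb0)
      rw [← map_mul, h, map_zero] at this
      exact this rfl
    · rw [map_mul, (w i).map_mul' _ _ (phi_ne_zero hinj ha0) (phi_ne_zero hinj hb0), hva, hvb] at h
      norm_num at h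

theorem lev_mul_le (i : ι) (m n : ℕ) :
    lev w hinj hR i m * lev w hinj hR i n ≤ lev w hinj hR i (m + n) := by
  rw [Ideal.mul_le]
  intro a ha b hb
  by_cases ha0 : a = 0
  · left; simp [ha0]
  by_cases hb0 : b = 0
  · left; simp [hb0]
  right
  rw [map_mul, (w i).map_mul' _ _ (phi_ne_zero hinj ha0) (phi_ne_zero hinj hb0)]
  have h1 := ha.resolve_left ha0
  have h2 := hb.resolve_left hb0
  push_cast
  linarith

theorem pow_le_lev (i : ι) (n : ℕ) : (lev w hinj hR i 1) ^ n ≤ lev w hinj hR i n := by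
  induction n with
  | zero =>
    intro r _
    by_cases hr : r = 0
    · exact Or.inl hr
    · right
      have := v_nonneg w hR i r (phi_ne_zero hinj hr)
      simpa using this
  | succ n ih =>
    rw [pow_succ]
    exact (Ideal.mul_mono ih le_rfl).trans (lev_mul_le w hinj hR i n 1)

/-- Elements of the localization of `R` at `𝔪` have nonnegative value for valuations centered
inside `𝔪`. -/
theorem nonneg_of_loc (𝔪 : Ideal R) (i : ι) (hi : lev w hinj hR i 1 ≤ 𝔪) (σ r : R) (hσ : σ ∉ 𝔪)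
    (t : K) (ht : t ≠ 0) (h : algebraMap R K σ * t = algebraMap R K r) : 0 ≤ (w i).v t := by
  obtain ⟨hσ0, hvσ⟩ := v_eq_zero_of_notMem w hinj hR (fun h' => hσ (hi h'))
  have hr0 : algebraMap R K r ≠ 0 := by
    rw [← h]; exact mul_ne_zero (phi_ne_zero hinj hσ0) ht
  have h1 := v_nonneg w hR i r hr0
  rw [← h, (w i).map_mul' _ _ (phi_ne_zero hinj hσ0) ht, hvσ] at h1
  linarith

variable (hfin : ∀ x : K, x ≠ 0 → {i | (w i).v x < 0}.Finite)

include hfin in
/-- Elements with nonnegative value for all valuations centered inside the prime `𝔪` lie in the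
localization of `R` at `𝔪`. -/
theorem loc_of_nonneg (𝔪 : Ideal R) [h𝔪 : 𝔪.IsPrime] (t : K) (ht : t ≠ 0)
    (h : ∀ i, lev w hinj hR i 1 ≤ 𝔪 → 0 ≤ (w i).v t) :
    ∃ σ : R, σ ∉ 𝔪 ∧ algebraMap R K σ * t ∈ Set.range (algebraMap R K) := by
  classical
  set F := (hfin t ht).toFinset with hFdef
  have hF : ∀ i ∈ F, ∃ r : R, r ∈ lev w hinj hR i 1 ∧ r ∉ 𝔪 := by
    intro i hi
    have hi' : (w i).v t < 0 := by simpa [hFdef] using hi
    by_contra hcon
    push Not at hcon
    exact absurd (h i hcon) (not_le.mpr hi')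
  choose! r hr using hF
  let n : ι → ℕ := fun i => (-(w i).v t).toNat
  set σ : R := ∏ i ∈ F, r i ^ n i with hσdef
  have hσ : σ ∉ 𝔪 := by
    intro hmem
    obtain ⟨i, hi, hi'⟩ := (Ideal.IsPrime.prod_mem_iff).mp hmem
    exact (hr i hi).2 (h𝔪.mem_of_pow_mem _ hi')
  have hσ0 : σ ≠ 0 := fun h0 => hσ (h0 ▸ 𝔪.zero_mem)
  refine ⟨σ, hσ, ?_⟩
  rw [hR _ (mul_ne_zero (phi_ne_zero hinj hσ0) ht)]
  intro j
  rw [(w j).map_mul' _ _ (phi_ne_zero hinj hσ0) ht]
  by_cases hj : j ∈ F
  · have hsplit : σ = r j ^ n j * ∏ i ∈ F.erase j, r i ^ n i :=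
      (Finset.mul_prod_erase F _ hj).symm
    have hσ'0 : (∏ i ∈ F.erase j, r i ^ n i) ≠ 0 := by
      intro h0; rw [hsplit, h0, mul_zero] at hσ0; exact hσ0 rfl
    have hrj0 : r j ≠ 0 := by
      intro h0
      apply hσ0
      rw [hsplit, h0]
      have hv : (w j).v t < 0 := by simpa [hFdef] using hj
      have : n j ≠ 0 := by
        simp only [n]
        omega
      rw [zero_pow this, zero_mul]
    rw [hsplit, map_mul, map_pow,
      (w j).map_mul' _ _ (pow_ne_zero _ (phi_ne_zero hinj hrj0)) (phi_ne_zero hinj hσ'0),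
      (w j).map_pow (phi_ne_zero hinj hrj0)]
    have h1 : (1 : ℤ) ≤ (w j).v (algebraMap R K (r j)) := by
      have := ((hr j hj).1).resolve_left hrj0
      simpa using this
    have h2 := v_nonneg w hR j _ (phi_ne_zero hinj hσ'0)
    have h3 : -(w j).v t ≤ n j := Int.self_le_toNat _
    have h4 : (n j : ℤ) * 1 ≤ (n j : ℤ) * (w j).v (algebraMap R K (r j)) :=
      mul_le_mul_of_nonneg_left h1 (Int.natCast_nonneg _)
    linarith
  · have h1 : ¬ (w j).v t < 0 := by simpa [hFdef] using hj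
    have h2 := v_nonneg w hR j σ (phi_ne_zero hinj hσ0)
    omega

variable (hfrac : ∀ x : K, ∃ a b : R, b ≠ 0 ∧ x * algebraMap R K b = algebraMap R K a)

include hinj hR hfin hfrac in
/-- **Krull's theorem** on essential valuations, in elementary form: an element outside `R` is
excluded by a prime of `R` which is minimal among nonzero primes. -/
theorem exists_prime (x : K) (hx : x ∉ Set.range (algebraMap R K)) :
    ∃ P : Ideal R, P.IsPrime ∧ P ≠ ⊥ ∧
      (∀ P' : Ideal R, P'.IsPrime → P' ≠ ⊥ → P' ≤ P → P' = P) ∧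
      ∀ s : R, s ∉ P → algebraMap R K s * x ∉ Set.range (algebraMap R K) := by
  classical
  have hx0 : x ≠ 0 := by rintro rfl; exact hx ⟨0, map_zero _⟩
  have hΛne : {i | (w i).v x < 0}.Nonempty := by
    by_contra hcon
    rw [Set.not_nonempty_iff_eq_empty] at hcon
    apply hx
    rw [hR x hx0]
    intro i
    by_contra hi
    have : i ∈ {i | (w i).v x < 0} := not_le.mp hi
    rw [hcon] at this
    exact this
  obtain ⟨μ, hμΛ, hμmin⟩ :=
    (hfin x hx0).exists_minimalFor (fun i => lev w hinj hR i 1) _ hΛne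
  have hμx : (w μ).v x < 0 := hμΛ
  set 𝔪 : Ideal R := lev w hinj hR μ 1 with h𝔪def
  haveI h𝔪 : 𝔪.IsPrime := lev_one_isPrime w hinj hR μ
  -- values at `μ`
  have hv𝔪 : ∀ s : R, s ∉ 𝔪 → s ≠ 0 ∧ (w μ).v (algebraMap R K s) = 0 :=
    fun s hs => v_eq_zero_of_notMem w hinj hR hs
  have hlast : ∀ s : R, s ∉ 𝔪 → algebraMap R K s * x ∉ Set.range (algebraMap R K) := by
    intro s hs hmem
    obtain ⟨hs0, hvs⟩ := hv𝔪 s hs
    have h1 := (hR _ (mul_ne_zero (phi_ne_zero hinj hs0) hx0)).mp hmem μ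
    rw [(w μ).map_mul' _ _ (phi_ne_zero hinj hs0) hx0, hvs] at h1
    omega
  -- `𝔪 ≠ ⊥`
  have h𝔪ne : 𝔪 ≠ ⊥ := by
    obtain ⟨a, b, hb0, hab⟩ := hfrac x
    have ha0 : a ≠ 0 := by
      rintro rfl
      rw [map_zero] at hab
      exact (mul_ne_zero hx0 (phi_ne_zero hinj hb0)) hab
    have h1 := v_nonneg w hR μ a (phi_ne_zero hinj ha0)
    rw [← hab, (w μ).map_mul' _ _ hx0 (phi_ne_zero hinj hb0)] at h1
    have hb𝔪 : b ∈ 𝔪 := by
      right
      push_cast
      omega
    intro hbot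
    rw [hbot] at hb𝔪
    exact hb0 hb𝔪
  refine ⟨𝔪, h𝔪, h𝔪ne, ?_, hlast⟩
  -- the membership predicate for `T = R_𝔪`
  let inT : K → Prop := fun t => t = 0 ∨ ∀ i, lev w hinj hR i 1 ≤ 𝔪 → 0 ≤ (w i).v t
  have hxT : ¬ inT x := by
    rintro (h | h)
    · exact hx0 h
    · have := h μ le_rfl
      omega
  -- minimality: centers inside `𝔪` of valuations negative at `x` are equal to `𝔪`
  have hmin : ∀ i, (w i).v x < 0 → lev w hinj hR i 1 ≤ 𝔪 → 𝔪 ≤ lev w hinj hR i 1 :=
    fun i hi hle => hμmin hi hle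
  -- `𝔪 ^ N x ⊆ T` for large `N`
  let Q : ℕ → Prop := fun n => ∀ s : R, s ∈ 𝔪 ^ n → inT (algebraMap R K s * x)
  have hQex : ∃ N, Q N := by
    set Λ := (hfin x hx0).toFinset with hΛdef
    refine ⟨∑ i ∈ Λ, (-(w i).v x).toNat, ?_⟩
    intro s hs
    by_cases hs0 : s = 0
    · left; rw [hs0, map_zero, zero_mul]
    right
    intro i hi
    rw [(w i).map_mul' _ _ (phi_ne_zero hinj hs0) hx0]
    by_cases hix : (w i).v x < 0
    · have hle := hmin i hix hi
      have h1 : s ∈ lev w hinj hR i (∑ i ∈ Λ, (-(w i).v x).toNat) :=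
        pow_le_lev w hinj hR i _ (Ideal.pow_right_mono hle _ hs)
      have h2 := h1.resolve_left hs0
      have hiΛ : i ∈ Λ := by simpa [hΛdef] using hix
      have h3 : (-(w i).v x).toNat ≤ ∑ i ∈ Λ, (-(w i).v x).toNat :=
        Finset.single_le_sum (f := fun i => (-(w i).v x).toNat) (fun _ _ => Nat.zero_le _) hiΛ
      have h4 : -(w i).v x ≤ ((-(w i).v x).toNat : ℤ) := Int.self_le_toNat _
      have h5 : (((-(w i).v x).toNat : ℕ) : ℤ) ≤ ((∑ i ∈ Λ, (-(w i).v x).toNat : ℕ) : ℤ) := by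
        exact_mod_cast h3
      linarith
    · have := v_nonneg w hR i s (phi_ne_zero hinj hs0)
      omega
  have hQ0 : ¬ Q 0 := by
    intro h
    have := h 1 (by rw [pow_zero, Ideal.one_eq_top]; exact Submodule.mem_top)
    rw [map_one, one_mul] at this
    exact hxT this
  have hNpos : Nat.find hQex ≠ 0 := by
    intro h0
    have := Nat.find_spec hQex
    rw [h0] at this
    exact hQ0 this
  obtain ⟨k, hk⟩ := Nat.exists_eq_succ_of_ne_zero hNpos
  have hQk1 : Q (k + 1) := by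
    have := Nat.find_spec hQex
    rwa [hk] at this
  have hQk : ¬ Q k := Nat.find_min hQex (by omega)
  simp only [Q] at hQk
  push Not at hQk
  obtain ⟨s₁, hs₁, hyT⟩ := hQk
  set y : K := algebraMap R K s₁ * x with hydef
  have hy0 : y ≠ 0 := fun h => hyT (Or.inl h)
  have hs₁0 : s₁ ≠ 0 := by
    rintro rfl
    apply hy0
    rw [hydef, map_zero, zero_mul]
  -- `𝔪 y ⊆ R_𝔪`
  have H5 : ∀ s : R, s ∈ 𝔪 → ∃ σ : R, σ ∉ 𝔪 ∧
      algebraMap R K σ * (algebraMap R K s * y) ∈ Set.range (algebraMap R K) := by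
    intro s hs
    by_cases hs0 : s = 0
    · exact ⟨1, h𝔪.one_notMem, 0, by rw [hs0]; simp⟩
    have hmem : s * s₁ ∈ 𝔪 ^ (k + 1) := by
      rw [pow_succ, mul_comm s s₁]
      exact Ideal.mul_mem_mul hs₁ hs
    have hT := hQk1 _ hmem
    have hne : algebraMap R K s * y ≠ 0 := mul_ne_zero (phi_ne_zero hinj hs0) hy0
    have heq : algebraMap R K (s * s₁) * x = algebraMap R K s * y := by
      rw [hydef, map_mul, mul_assoc]
    rw [heq] at hT
    exact loc_of_nonneg w hinj hR hfin 𝔪 _ hne (hT.resolve_left hne)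
  -- a valuation centered in `𝔪` which is negative at `y`
  have hy' : ∃ i, lev w hinj hR i 1 ≤ 𝔪 ∧ (w i).v y < 0 := by
    by_contra hcon
    push Not at hcon
    exact hyT (Or.inr hcon)
  obtain ⟨i₀, hi₀le, hi₀y⟩ := hy'
  have hi₀x : (w i₀).v x < 0 := by
    rw [hydef, (w i₀).map_mul' _ _ (phi_ne_zero hinj hs₁0) hx0] at hi₀y
    have := v_nonneg w hR i₀ s₁ (phi_ne_zero hinj hs₁0)
    omega
  have hi₀ge : 𝔪 ≤ lev w hinj hR i₀ 1 := hmin i₀ hi₀x hi₀le
  -- Case distinction
  by_cases hcase : ∀ s : R, s ∈ 𝔪 → ∃ σ : R, σ ∉ 𝔪 ∧ ∃ m : R, m ∈ 𝔪 ∧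
      algebraMap R K σ * (algebraMap R K s * y) = algebraMap R K m
  · -- Case 1: contradiction with the minimal value on `𝔪`
    exfalso
    have hex : ∃ n : ℕ, ∃ m : R, m ∈ 𝔪 ∧ m ≠ 0 ∧ (w i₀).v (algebraMap R K m) = n := by
      obtain ⟨b, hb, hb0⟩ := Submodule.exists_mem_ne_zero_of_ne_bot h𝔪ne
      have h1 := v_nonneg w hR i₀ b (phi_ne_zero hinj hb0)
      exact ⟨((w i₀).v (algebraMap R K b)).toNat, b, hb, hb0, (Int.toNat_of_nonneg h1).symm⟩
    obtain ⟨s₀, hs₀, hs₀0, hs₀v⟩ := Nat.find_spec hex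
    obtain ⟨σ, hσ, m, hm, hmeq⟩ := hcase s₀ hs₀
    obtain ⟨hσ0, hvσ⟩ := v_eq_zero_of_notMem w hinj hR (fun h' => hσ (hi₀le h'))
    have hm0 : m ≠ 0 := by
      rintro rfl
      rw [map_zero] at hmeq
      exact (mul_ne_zero (phi_ne_zero hinj hσ0) (mul_ne_zero (phi_ne_zero hinj hs₀0) hy0)) hmeq
    have hvm : (w i₀).v (algebraMap R K m) < Nat.find hex := by
      rw [← hmeq, (w i₀).map_mul' _ _ (phi_ne_zero hinj hσ0)
        (mul_ne_zero (phi_ne_zero hinj hs₀0) hy0),
        (w i₀).map_mul' _ _ (phi_ne_zero hinj hs₀0) hy0, hvσ, hs₀v]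
      omega
    have hvm0 := v_nonneg w hR i₀ m (phi_ne_zero hinj hm0)
    have hlt : ((w i₀).v (algebraMap R K m)).toNat < Nat.find hex := by
      omega
    exact Nat.find_min hex hlt ⟨m, hm, hm0, (Int.toNat_of_nonneg hvm0).symm⟩
  · -- Case 2: `𝔪 R_𝔪` is principal, generated by `y⁻¹`
    push Not at hcase
    obtain ⟨s₂, hs₂, hs₂not⟩ := hcase
    obtain ⟨σ₂, hσ₂, r₂, hr₂⟩ := H5 s₂ hs₂
    have hr₂𝔪 : r₂ ∉ 𝔪 := fun h => hs₂not σ₂ hσ₂ r₂ h hr₂.symm
    have hs₂0 : s₂ ≠ 0 := by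
      rintro rfl
      exact hs₂not 1 h𝔪.one_notMem 0 𝔪.zero_mem (by simp)
    obtain ⟨hσ₂0, hvσ₂⟩ := hv𝔪 σ₂ hσ₂
    obtain ⟨hr₂0, hvr₂⟩ := hv𝔪 r₂ hr₂𝔪
    have hvy : (w μ).v y ≤ -1 := by
      have h1 : (w μ).v (algebraMap R K r₂) = (w μ).v (algebraMap R K σ₂) +
          ((w μ).v (algebraMap R K s₂) + (w μ).v y) := by
        rw [hr₂, (w μ).map_mul' _ _ (phi_ne_zero hinj hσ₂0)
          (mul_ne_zero (phi_ne_zero hinj hs₂0) hy0),
          (w μ).map_mul' _ _ (phi_ne_zero hinj hs₂0) hy0]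
      have h2 : (1 : ℤ) ≤ (w μ).v (algebraMap R K s₂) := by
        have := hs₂.resolve_left hs₂0
        simpa using this
      omega
    intro P' hP' hP'ne hP'le
    by_contra hne
    have hnle : ¬ 𝔪 ≤ P' := fun h => hne (le_antisymm hP'le h)
    -- `s₂ ∉ P'`
    have hs₂P' : s₂ ∉ P' := by
      intro hs₂P'
      apply hnle
      intro m hm
      obtain ⟨σ'', hσ'', r'', hr''⟩ := H5 m hm
      have hkey : σ'' * m * r₂ = r'' * σ₂ * s₂ := by
        apply hinj
        simp only [map_mul]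
        rw [hr₂, hr'']
        ring
      have hmem : σ'' * m * r₂ ∈ P' := by
        rw [hkey]; exact P'.mul_mem_left _ hs₂P'
      rcases hP'.mem_or_mem hmem with h | h
      · rcases hP'.mem_or_mem h with h | h
        · exact absurd (hP'le h) hσ''
        · exact h
      · exact absurd (hP'le h) hr₂𝔪
    -- the predicate `t ∈ P' R_𝔪`
    let inP : K → Prop := fun t => ∃ σ : R, σ ∉ 𝔪 ∧ ∃ p : R, p ∈ P' ∧
      algebraMap R K σ * t = algebraMap R K p
    have hstep : ∀ t, inP t → inP (t * y) := by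
      rintro t ⟨σ, hσ, p, hp, hpeq⟩
      obtain ⟨σ', hσ', r, hr⟩ := H5 p (hP'le hp)
      have hkey : r * σ₂ * s₂ = σ' * p * r₂ := by
        apply hinj
        simp only [map_mul]
        rw [hr₂, hr]
        ring
      have hmem : r * σ₂ * s₂ ∈ P' := by
        rw [hkey]; exact P'.mul_mem_right _ (P'.mul_mem_left _ hp)
      have hrP' : r ∈ P' := by
        rcases hP'.mem_or_mem hmem with h | h
        · rcases hP'.mem_or_mem h with h | h
          · exact h
          · exact absurd (hP'le h) hσ₂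
        · exact absurd h hs₂P'
      refine ⟨σ' * σ, fun h => ?_, r, hrP', ?_⟩
      · rcases h𝔪.mem_or_mem h with h | h
        · exact hσ' h
        · exact hσ h
      · rw [hr, ← hpeq, map_mul]; ring
    obtain ⟨p₀, hp₀, hp₀0⟩ := Submodule.exists_mem_ne_zero_of_ne_bot hP'ne
    have hpow : ∀ n : ℕ, inP (algebraMap R K p₀ * y ^ n) := by
      intro n
      induction n with
      | zero => exact ⟨1, h𝔪.one_notMem, p₀, hp₀, by simp⟩
      | succ n ih =>
        have := hstep _ ih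
        rwa [mul_assoc, ← pow_succ] at this
    have hvp₀ := v_nonneg w hR μ p₀ (phi_ne_zero hinj hp₀0)
    obtain ⟨σ, hσ, p, hp, hpeq⟩ := hpow (((w μ).v (algebraMap R K p₀)).toNat + 1)
    have hne0 : algebraMap R K p₀ * y ^ (((w μ).v (algebraMap R K p₀)).toNat + 1) ≠ 0 :=
      mul_ne_zero (phi_ne_zero hinj hp₀0) (pow_ne_zero _ hy0)
    have h1 := nonneg_of_loc w hinj hR 𝔪 μ le_rfl σ p hσ _ hne0 hpeq
    rw [(w μ).map_mul' _ _ (phi_ne_zero hinj hp₀0) (pow_ne_zero _ hy0), (w μ).map_pow hy0] at h1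
    have h2 : (((w μ).v (algebraMap R K p₀)).toNat : ℤ) = (w μ).v (algebraMap R K p₀) :=
      Int.toNat_of_nonneg hvp₀
    push_cast at h1
    nlinarith

end KT

end Groth.Agent.H11.KrullVal
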