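import Mathlib
import Groth.Prelude.Def_FlatMod2

/-! (LFn-ISO) for the S4820 squad (helper57): local freeness of rank `n` is invariant under
isomorphism. -/

set_option autoImplicit false
universe u
open AlgebraicGeometry CategoryTheory Limits TopologicalSpace

namespace Groth.Agent.H11.LFn_ISO

theorem isFinLocFreeOfRank_of_iso {Z : Scheme.{u}} (n : ℕ) {M N : Z.Modules} (e : M ≅ N)
    (h : FlatMod.IsFinLocFreeOfRank n M) : FlatMod.IsFinLocFreeOfRank n N := by
  intro x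
  obtain ⟨U, hxU, ⟨φ⟩⟩ := h x
  exact ⟨U, hxU, ⟨((Scheme.Modules.restrictFunctor U.ι).mapIso e).symm ≪≫ φ⟩⟩

theorem isFinLocFreeOfRank_iff_of_iso {Z : Scheme.{u}} (n : ℕ) {M N : Z.Modules} (e : M ≅ N) :
    FlatMod.IsFinLocFreeOfRank n M ↔ FlatMod.IsFinLocFreeOfRank n N :=
  ⟨isFinLocFreeOfRank_of_iso n e, isFinLocFreeOfRank_of_iso n e.symm⟩

end Groth.Agent.H11.LFn_ISO
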