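import Mathlib.LinearAlgebra.Matrix.ToLin
import Mathlib.Data.Real.Basic
import Mathlib.Algebra.Module.Submodule.Ker
import Mathlib.LinearAlgebra.Matrix.Symmetric
import Mathlib.Tactic

set_option autoImplicit false

namespace Groth.Agent.H11

open Finset

theorem lap_antisymm_sum {n : ℕ} (A : Matrix (Fin n) (Fin n) ℝ) (m y : Fin n → ℝ)
    (hsymm : A.IsSymm) :
    ∑ i, ∑ j, A i j * m i * m j * (y i ^ 2 - y j ^ 2) = 0 := by
  have h : ∑ i, ∑ j, A i j * m i * m j * (y i ^ 2 - y j ^ 2)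
      = - ∑ i, ∑ j, A i j * m i * m j * (y i ^ 2 - y j ^ 2) := by
    conv_lhs => rw [Finset.sum_comm]
    rw [← Finset.sum_neg_distrib]
    refine Finset.sum_congr rfl fun i _ => ?_
    rw [← Finset.sum_neg_distrib]
    refine Finset.sum_congr rfl fun j _ => ?_
    have : A j i = A i j := hsymm.apply i j
    rw [this]; ring
  linarith

theorem lap_quad_identity {n : ℕ} (A : Matrix (Fin n) (Fin n) ℝ) (m y : Fin n → ℝ)
    (hsymm : A.IsSymm) :
    ∑ i, ∑ j, A i j * (m i * y i) * (m j * y j) =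
      ∑ i, y i ^ 2 * m i * (∑ j, A i j * m j)
        - (1 / 2) * ∑ i, ∑ j, A i j * m i * m j * (y i - y j) ^ 2 := by
  have key := lap_antisymm_sum A m y hsymm
  have h1 : ∀ i j, A i j * (m i * y i) * (m j * y j) =
      y i ^ 2 * m i * (A i j * m j) - 1 / 2 * (A i j * m i * m j * (y i - y j) ^ 2)
        - 1 / 2 * (A i j * m i * m j * (y i ^ 2 - y j ^ 2)) := by
    intro i j; ring
  simp_rw [h1, Finset.sum_sub_distrib, ← Finset.mul_sum, key]
  ring


theorem lap_dot_eq {n : ℕ} (A : Matrix (Fin n) (Fin n) ℝ) (m x : Fin n → ℝ)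
    (hsymm : A.IsSymm) (hm : ∀ i, 0 < m i) :
    dotProduct x (A.mulVec x) =
      ∑ i, (x i / m i) ^ 2 * m i * (∑ j, A i j * m j)
        - (1 / 2) * ∑ i, ∑ j, A i j * m i * m j * (x i / m i - x j / m j) ^ 2 := by
  rw [← lap_quad_identity A m (fun i => x i / m i) hsymm]
  simp only [dotProduct, Matrix.mulVec, Finset.mul_sum]
  refine Finset.sum_congr rfl fun i _ => Finset.sum_congr rfl fun j _ => ?_
  have hi : m i ≠ 0 := (hm i).ne'
  have hj : m j ≠ 0 := (hm j).ne'
  field_simp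

theorem lap_term1_nonpos {n : ℕ} (A : Matrix (Fin n) (Fin n) ℝ) (m x : Fin n → ℝ)
    (hm : ∀ i, 0 < m i) (hrow : ∀ i, ∑ j, A i j * m j ≤ 0) (i : Fin n) :
    (x i / m i) ^ 2 * m i * (∑ j, A i j * m j) ≤ 0 :=
  mul_nonpos_of_nonneg_of_nonpos (mul_nonneg (sq_nonneg _) (hm i).le) (hrow i)

theorem lap_term2_nonneg {n : ℕ} (A : Matrix (Fin n) (Fin n) ℝ) (m x : Fin n → ℝ)
    (hA : ∀ i j, i ≠ j → 0 ≤ A i j) (hm : ∀ i, 0 < m i) (i j : Fin n) :
    0 ≤ A i j * m i * m j * (x i / m i - x j / m j) ^ 2 := by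
  by_cases hij : i = j
  · subst hij; simp
  · exact mul_nonneg (mul_nonneg (mul_nonneg (hA i j hij) (hm i).le) (hm j).le) (sq_nonneg _)

theorem lap_quad_nonpos {n : ℕ} (A : Matrix (Fin n) (Fin n) ℝ) (m x : Fin n → ℝ)
    (hsymm : A.IsSymm) (hA : ∀ i j, i ≠ j → 0 ≤ A i j) (hm : ∀ i, 0 < m i)
    (hrow : ∀ i, ∑ j, A i j * m j ≤ 0) :
    dotProduct x (A.mulVec x) ≤ 0 := by
  rw [lap_dot_eq A m x hsymm hm]
  have h1 : ∑ i, (x i / m i) ^ 2 * m i * (∑ j, A i j * m j) ≤ 0 :=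
    Finset.sum_nonpos fun i _ => lap_term1_nonpos A m x hm hrow i
  have h2 : 0 ≤ ∑ i, ∑ j, A i j * m i * m j * (x i / m i - x j / m j) ^ 2 :=
    Finset.sum_nonneg fun i _ => Finset.sum_nonneg fun j _ => lap_term2_nonneg A m x hA hm i j
  linarith

theorem lap_quad_eq_zero {n : ℕ} (A : Matrix (Fin n) (Fin n) ℝ) (m x : Fin n → ℝ)
    (hsymm : A.IsSymm) (hA : ∀ i j, i ≠ j → 0 ≤ A i j) (hm : ∀ i, 0 < m i)
    (hrow : ∀ i, ∑ j, A i j * m j ≤ 0) (hx : dotProduct x (A.mulVec x) = 0) :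
    (∀ i, x i = 0 ∨ ∑ j, A i j * m j = 0) ∧
      (∀ i j, A i j = 0 ∨ x i / m i = x j / m j) := by
  rw [lap_dot_eq A m x hsymm hm] at hx
  have h1 : ∑ i, (x i / m i) ^ 2 * m i * (∑ j, A i j * m j) ≤ 0 :=
    Finset.sum_nonpos fun i _ => lap_term1_nonpos A m x hm hrow i
  have h2 : 0 ≤ ∑ i, ∑ j, A i j * m i * m j * (x i / m i - x j / m j) ^ 2 :=
    Finset.sum_nonneg fun i _ => Finset.sum_nonneg fun j _ => lap_term2_nonneg A m x hA hm i j
  have e1 : ∑ i, (x i / m i) ^ 2 * m i * (∑ j, A i j * m j) = 0 := by linarith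
  have e2 : ∑ i, ∑ j, A i j * m i * m j * (x i / m i - x j / m j) ^ 2 = 0 := by linarith
  constructor
  · intro i
    have := (Finset.sum_eq_zero_iff_of_nonpos
      (fun i _ => lap_term1_nonpos A m x hm hrow i)).mp e1 i (Finset.mem_univ i)
    rcases mul_eq_zero.mp this with h | h
    · left
      rcases mul_eq_zero.mp h with h | h
      · have := pow_eq_zero_iff (two_ne_zero) |>.mp h
        rcases div_eq_zero_iff.mp this with h | h
        · exact h
        · exact absurd h (hm i).ne'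
      · exact absurd h (hm i).ne'
    · right; exact h
  · intro i j
    have hi := (Finset.sum_eq_zero_iff_of_nonneg
      (fun i _ => Finset.sum_nonneg fun j _ => lap_term2_nonneg A m x hA hm i j)).mp e2 i
      (Finset.mem_univ i)
    have hij := (Finset.sum_eq_zero_iff_of_nonneg
      (fun j _ => lap_term2_nonneg A m x hA hm i j)).mp hi j (Finset.mem_univ j)
    rcases mul_eq_zero.mp hij with h | h
    · left
      rcases mul_eq_zero.mp h with h | h
      · rcases mul_eq_zero.mp h with h | h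
        · exact h
        · exact absurd h (hm i).ne'
      · exact absurd h (hm j).ne'
    · right
      have := pow_eq_zero_iff (two_ne_zero) |>.mp h
      linarith

end Groth.Agent.H11
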