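import Mathlib
import Groth.Agent.H46.KrullAkizuki

/-!
# `length (M / xM) = rank · length (A / xA)` for finite torsion-free modules over a
one-dimensional Noetherian local domain, and the converse (finiteness from equality).
-/

set_option autoImplicit false
set_option linter.unusedSectionVars false
universe u

namespace Groth.Agent.H11.LenRank

open Module Pointwise

section general

variable {A : Type u} [CommRing A]

/-- Transport of `M / xM` along a linear equivalence. -/
theorem length_quot_smul_congr {M₁ M₂ : Type u} [AddCommGroup M₁] [Module A M₁] [AddCommGroup M₂]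
    [Module A M₂] (e : M₁ ≃ₗ[A] M₂) (x : A) :
    Module.length A (M₁ ⧸ (x • (⊤ : Submodule A M₁))) =
      Module.length A (M₂ ⧸ (x • (⊤ : Submodule A M₂))) := by
  refine (Submodule.Quotient.equiv _ _ e ?_).length_eq
  rw [Submodule.map_pointwise_smul, Submodule.map_top, LinearEquiv.range]

/-- If `M' ↪ M` has cokernel of finite length and `x` is `M`-regular, then
`length (M / xM) = length (M' / xM')`. -/
theorem length_quot_smul_eq_of_injective {M M' : Type u} [AddCommGroup M] [Module A M]
    [AddCommGroup M'] [Module A M'] (j : M' →ₗ[A] M) (hj : Function.Injective j) (x : A)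
    (hx : ∀ v : M, x • v = 0 → v = 0)
    (hfin : Module.length A (M ⧸ LinearMap.range j) ≠ ⊤) :
    Module.length A (M ⧸ (x • (⊤ : Submodule A M))) =
      Module.length A (M' ⧸ (x • (⊤ : Submodule A M'))) := by
  set R : Submodule A M := LinearMap.range j with hR
  have hxR_le_R : x • R ≤ R := by
    intro v hv
    obtain ⟨w, hw, rfl⟩ := (Submodule.mem_smul_pointwise_iff_exists _ _ _).mp hv
    exact R.smul_mem x hw
  have hxR_le_xM : x • R ≤ x • (⊤ : Submodule A M) := by
    intro v hv
    obtain ⟨w, -, rfl⟩ := (Submodule.mem_smul_pointwise_iff_exists _ _ _).mp hv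
    exact Submodule.smul_mem_pointwise_smul w x ⊤ Submodule.mem_top
  have ha := Groth.Agent.H46.KA.length_quot_eq_add (x • R) R hxR_le_R
  have hb := Groth.Agent.H46.KA.length_quot_eq_add (x • R) (x • (⊤ : Submodule A M)) hxR_le_xM
  -- (c)
  have hc : Module.length A ↥(R.map (x • R).mkQ) =
      Module.length A (M' ⧸ (x • (⊤ : Submodule A M'))) := by
    let φ : M' →ₗ[A] M ⧸ (x • R) := (x • R).mkQ.comp j
    have hrange : LinearMap.range φ = R.map (x • R).mkQ := by
      rw [LinearMap.range_comp]
    have hker : LinearMap.ker φ = x • (⊤ : Submodule A M') := by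
      ext v
      rw [LinearMap.mem_ker, LinearMap.comp_apply, Submodule.mkQ_apply,
        Submodule.Quotient.mk_eq_zero]
      constructor
      · intro hv
        obtain ⟨w, hw, hw'⟩ := (Submodule.mem_smul_pointwise_iff_exists _ _ _).mp hv
        obtain ⟨u, rfl⟩ := hw
        rw [← map_smul] at hw'
        rw [← hj hw']
        exact Submodule.smul_mem_pointwise_smul u x ⊤ Submodule.mem_top
      · intro hv
        obtain ⟨w, -, rfl⟩ := (Submodule.mem_smul_pointwise_iff_exists _ _ _).mp hv
        rw [map_smul]
        exact Submodule.smul_mem_pointwise_smul (j w) x R ⟨w, rfl⟩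
    rw [← (LinearEquiv.ofEq _ _ hrange).length_eq, ← φ.quotKerEquivRange.length_eq,
      (Submodule.quotEquivOfEq _ _ hker).length_eq]
  -- (d)
  have hd : Module.length A ↥((x • (⊤ : Submodule A M)).map (x • R).mkQ) =
      Module.length A (M ⧸ R) := by
    let ψ : M →ₗ[A] M ⧸ (x • R) := (x • R).mkQ.comp (LinearMap.lsmul A M x)
    have hrange : LinearMap.range ψ = (x • (⊤ : Submodule A M)).map (x • R).mkQ := by
      rw [LinearMap.range_comp]
      congr 1
      ext v
      rw [LinearMap.mem_range, Submodule.mem_smul_pointwise_iff_exists]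
      constructor
      · rintro ⟨w, rfl⟩
        exact ⟨w, Submodule.mem_top, rfl⟩
      · rintro ⟨w, -, rfl⟩
        exact ⟨w, rfl⟩
    have hker : LinearMap.ker ψ = R := by
      ext v
      rw [LinearMap.mem_ker, LinearMap.comp_apply, Submodule.mkQ_apply,
        Submodule.Quotient.mk_eq_zero, LinearMap.lsmul_apply]
      constructor
      · intro hv
        obtain ⟨w, hw, hw'⟩ := (Submodule.mem_smul_pointwise_iff_exists _ _ _).mp hv
        have h0 : x • (w - v) = 0 := by rw [smul_sub, hw', sub_self]
        have h1 := hx _ h0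
        rw [sub_eq_zero] at h1
        rwa [← h1]
      · intro hv
        exact Submodule.smul_mem_pointwise_smul v x R hv
    rw [← (LinearEquiv.ofEq _ _ hrange).length_eq, ← ψ.quotKerEquivRange.length_eq,
      (Submodule.quotEquivOfEq _ _ hker).length_eq]
  rw [hc] at ha
  rw [hd] at hb
  rw [ha, add_comm] at hb
  exact (ENat.add_right_injective_of_ne_top hfin hb).symm

/-- `A^n / x A^n` has length `n · length (A / x)`. -/
theorem length_pi_quot_smul (n : ℕ) (x : A) :
    Module.length A ((Fin n → A) ⧸ (x • (⊤ : Submodule A (Fin n → A)))) =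
      n • Module.length A (A ⧸ Ideal.span {x}) := by
  classical
  have heq : (x • (⊤ : Submodule A (Fin n → A))) =
      Submodule.pi Set.univ (fun _ : Fin n => (Ideal.span {x} : Submodule A A)) := by
    ext v
    rw [Submodule.mem_smul_pointwise_iff_exists, Submodule.mem_pi]
    constructor
    · rintro ⟨w, -, rfl⟩ i -
      exact Ideal.mem_span_singleton'.mpr ⟨w i, by simp [mul_comm]⟩
    · intro h
      have h' : ∀ i, ∃ a, a * x = v i := fun i => Ideal.mem_span_singleton'.mp (h i trivial)
      choose w hw using h'
      refine ⟨w, Submodule.mem_top, ?_⟩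
      funext i
      simp [← hw i, mul_comm]
  rw [(Submodule.quotEquivOfEq _ _ heq).length_eq,
    (Submodule.quotientPi (fun _ : Fin n => (Ideal.span {x} : Submodule A A))).length_eq,
    Module.length_pi_of_fintype]
  simp

end general

section lattice

variable (A K L B : Type u) [CommRing A] [IsDomain A] [IsNoetherianRing A] [Ring.KrullDimLE 1 A]
  [Field K] [Field L] [Algebra A K] [IsFractionRing A K] [Algebra K L] [FiniteDimensional K L]
  [Algebra A L] [IsScalarTower A K L] [CommRing B] [IsDomain B] [Algebra A B] [Algebra B L]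
  [IsScalarTower A B L] [IsFractionRing B L]

include K L in
/-- Clearing denominators: every element of `L` becomes an element of `B` after multiplication by
a nonzero element of `A`. -/
theorem exists_smul_eq_algebraMap (l : L) :
    ∃ a : A, a ≠ 0 ∧ ∃ b : B, algebraMap B L b = a • l := by
  have hBL : Function.Injective (algebraMap B L) := IsFractionRing.injective B L
  obtain ⟨b, c, hc, rfl⟩ := IsFractionRing.div_surjective (A := B) l
  have hc0 : c ≠ 0 := nonZeroDivisors.ne_zero hc
  have hI : Ideal.span {c} ≠ ⊥ := by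
    rw [Ne, Ideal.span_singleton_eq_bot]
    exact hc0
  obtain ⟨a, ha0, haI⟩ := Groth.Agent.H46.KA.exists_ne_zero_mem A K L B hBL _ hI
  obtain ⟨c', hc'⟩ := Ideal.mem_span_singleton'.mp haI
  refine ⟨a, ha0, c' * b, ?_⟩
  have hcL : algebraMap B L c ≠ 0 := fun h => hc0 (hBL (by rw [h, map_zero]))
  rw [Algebra.smul_def, IsScalarTower.algebraMap_apply A B L, ← hc', map_mul, map_mul]
  field_simp

include K L in
/-- A free `A`-lattice inside `B` of rank `[L : K]`, cofinal up to denominators. -/
theorem exists_lattice :
    ∃ e : Fin (Module.finrank K L) → B, LinearIndependent A e ∧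
      ∀ b : B, ∃ d : A, d ≠ 0 ∧ d • b ∈ Submodule.span A (Set.range e) := by
  classical
  have hBL : Function.Injective (algebraMap B L) := IsFractionRing.injective B L
  have hAK : Function.Injective (algebraMap A K) := IsFractionRing.injective A K
  let v := Module.finBasis K L
  have h := fun i => exists_smul_eq_algebraMap A K L B (v i)
  choose a ha0 e he using h
  let u : Fin (Module.finrank K L) → Kˣ := fun i =>
    Units.mk0 (algebraMap A K (a i)) (fun h0 => ha0 i (hAK (by rw [h0, map_zero])))
  let w := v.unitsSMul u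
  have hw : ∀ i, w i = algebraMap B L (e i) := by
    intro i
    rw [he i, Module.Basis.unitsSMul_apply, ← algebraMap_smul K (a i) (v i)]
    rfl
  let f : B →ₗ[A] L := (IsScalarTower.toAlgHom A B L).toLinearMap
  have hfw : (f ∘ e) = w := by
    funext i
    exact (hw i).symm
  have hliA : LinearIndependent A w := by
    refine LinearIndependent.restrict_scalars (K := K) ?_ w.linearIndependent
    intro r₁ r₂ hr
    simp only [Algebra.smul_def, mul_one] at hr
    exact hAK hr
  refine ⟨e, LinearIndependent.of_comp f (by rw [hfw]; exact hliA), ?_⟩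
  intro b
  have hmem : algebraMap B L b ∈ Submodule.span K (Set.range w) := by
    rw [w.span_eq]
    exact Submodule.mem_top
  obtain ⟨t, ht0, ht⟩ := Groth.Agent.H46.KA.exists_smul_mem_span (R := A) (Set.range w) _ hmem
  refine ⟨t, ht0, ?_⟩
  rw [← hfw, Set.range_comp, ← Submodule.map_span] at ht
  obtain ⟨y, hy, hy'⟩ := ht
  have : y = t • b := by
    apply hBL
    show f y = algebraMap B L (t • b)
    rw [hy', Algebra.smul_def, Algebra.smul_def, map_mul, ← IsScalarTower.algebraMap_apply]
  rwa [← this]

include K L in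
/-- Finite `A`-submodules of `B` containing the lattice have `length (M / xM) = n · length (A / x)`. -/
theorem length_quot_smul_of_fg (e : Fin (Module.finrank K L) → B) (hli : LinearIndependent A e)
    (he : ∀ b : B, ∃ d : A, d ≠ 0 ∧ d • b ∈ Submodule.span A (Set.range e))
    (M : Submodule A B) (hM : M.FG) (hle : Submodule.span A (Set.range e) ≤ M) (x : A)
    (hx0 : x ≠ 0) :
    Module.length A (↥M ⧸ (x • (⊤ : Submodule A ↥M))) =
      Module.finrank K L • Module.length A (A ⧸ Ideal.span {x}) := by
  classical
  have hAB : Function.Injective (algebraMap A B) :=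
    Groth.Agent.H46.KA.algebraMap_injective_of_between A K L B
  set F₀ := Submodule.span A (Set.range e) with hF₀
  have hreg : ∀ v : ↥M, x • v = 0 → v = 0 := by
    intro v hv
    have h1 : x • (v : B) = 0 := by rw [← Submodule.coe_smul, hv, Submodule.coe_zero]
    rw [Algebra.smul_def] at h1
    rcases mul_eq_zero.mp h1 with h2 | h2
    · exact absurd (hAB (by rw [h2, map_zero])) hx0
    · exact Subtype.ext h2
  -- the cokernel has finite length
  have hfin : Module.length A (↥M ⧸ LinearMap.range (Submodule.inclusion hle)) ≠ ⊤ := by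
    obtain ⟨G, hG⟩ := hM
    have hd : ∃ d : A, d ≠ 0 ∧ ∀ g ∈ G, d • g ∈ F₀ := by
      clear hG
      induction G using Finset.induction_on with
      | empty => exact ⟨1, one_ne_zero, fun g hg => absurd hg (Finset.notMem_empty g)⟩
      | insert g G _ ih =>
        obtain ⟨d, hd0, hd⟩ := ih
        obtain ⟨d', hd'0, hd'⟩ := he g
        refine ⟨d * d', mul_ne_zero hd0 hd'0, ?_⟩
        intro g' hg'
        rcases Finset.mem_insert.mp hg' with rfl | hg'
        · rw [mul_smul]
          exact F₀.smul_mem d hd'
        · rw [mul_comm, mul_smul]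
          exact F₀.smul_mem d' (hd g' hg')
    obtain ⟨d, hd0, hd⟩ := hd
    have hdM : ∀ v ∈ M, d • v ∈ F₀ := by
      intro v hv
      rw [← hG] at hv
      refine Submodule.span_induction ?_ ?_ ?_ ?_ hv
      · intro g hg
        exact hd g hg
      · rw [smul_zero]; exact zero_mem _
      · intro y z _ _ hy hz
        rw [smul_add]; exact add_mem hy hz
      · intro c y _ hy
        rw [smul_comm]; exact F₀.smul_mem c hy
    have : Module.Finite A ↥M := Module.Finite.of_fg ⟨G, hG⟩
    set Q := ↥M ⧸ LinearMap.range (Submodule.inclusion hle) with hQ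
    obtain ⟨s, hs⟩ := (Module.Finite.fg_top : (⊤ : Submodule A Q).FG)
    have hkill : ∀ q : Q, d • q = 0 := by
      intro q
      obtain ⟨v, rfl⟩ := Submodule.Quotient.mk_surjective _ q
      rw [← Submodule.Quotient.mk_smul, Submodule.Quotient.mk_eq_zero]
      exact ⟨⟨d • (v : B), hdM v v.2⟩, Subtype.ext rfl⟩
    have h1 := Groth.Agent.H46.KA.length_span_finset_le d s (fun q _ => hkill q)
    rw [hs, Module.length_top] at h1
    intro htop
    rw [htop, top_le_iff] at h1
    exact Groth.Agent.H46.KA.nsmul_ne_top _ (Groth.Agent.H46.KA.length_quot_ne_top d hd0) h1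
  rw [length_quot_smul_eq_of_injective (Submodule.inclusion hle)
    (Submodule.inclusion_injective hle) x hreg hfin,
    length_quot_smul_congr (Module.Basis.span hli).equivFun x, length_pi_quot_smul]

variable [IsLocalRing A]

include K L in
/-- If `B` is finite over `A` then `length (B / xB) = [L : K] · length (A / x)`. -/
theorem length_eq_of_finite [Module.Finite A B] (x : A) (hx0 : x ≠ 0) :
    Module.length A (B ⧸ (x • (⊤ : Submodule A B))) =
      Module.finrank K L • Module.length A (A ⧸ Ideal.span {x}) := by
  obtain ⟨e, hli, he⟩ := exists_lattice A K L B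
  rw [← length_quot_smul_of_fg A K L B e hli he ⊤ Module.Finite.fg_top le_top x hx0]
  exact (length_quot_smul_congr Submodule.topEquiv x).symm

include K L in
/-- Conversely, equality of lengths forces `B` to be finite over `A`. -/
theorem finite_of_length_eq (x : A) (hx0 : x ≠ 0) (hxm : x ∈ IsLocalRing.maximalIdeal A)
    (h : Module.length A (B ⧸ (x • (⊤ : Submodule A B))) =
      Module.finrank K L • Module.length A (A ⧸ Ideal.span {x})) : Module.Finite A B := by
  classical
  obtain ⟨e, hli, he⟩ := exists_lattice A K L B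
  have hNtop : Module.finrank K L • Module.length A (A ⧸ Ideal.span {x}) ≠ ⊤ :=
    Groth.Agent.H46.KA.nsmul_ne_top _ (Groth.Agent.H46.KA.length_quot_ne_top x hx0)
  set P : Submodule A B := x • (⊤ : Submodule A B) with hP
  have hfl : IsFiniteLength A (B ⧸ P) := by
    rw [← Module.length_ne_top_iff, h]
    exact hNtop
  obtain ⟨hNoeth, -⟩ := isFiniteLength_iff_isNoetherian_isArtinian.mp hfl
  obtain ⟨s, hs⟩ := (Module.Finite.fg_top : (⊤ : Submodule A (B ⧸ P)).FG)
  -- lift the generators
  have hlift : ∀ q : B ⧸ P, ∃ b : B, P.mkQ b = q := P.mkQ_surjective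
  choose lift hlift' using hlift
  set M₀ : Submodule A B := Submodule.span A (Set.range e) ⊔
    Submodule.span A ((s.image lift : Finset B) : Set B) with hM₀
  have hM₀fg : M₀.FG :=
    Submodule.FG.sup (Submodule.fg_span (Set.finite_range e)) (Submodule.fg_span (Finset.finite_toSet _))
  -- every element of `B` is congruent mod `xB` to an element of `M₀`
  have hsurj : ∀ b : B, ∃ w ∈ M₀, b - w ∈ P := by
    intro b
    have hb : P.mkQ b ∈ Submodule.span A (s : Set (B ⧸ P)) := by rw [hs]; exact Submodule.mem_top
    have hsub : (s : Set (B ⧸ P)) ⊆ (M₀.map P.mkQ : Set (B ⧸ P)) := by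
      intro q hq
      refine ⟨lift q, ?_, hlift' q⟩
      apply Submodule.mem_sup_right
      apply Submodule.subset_span
      rw [Finset.coe_image]
      exact ⟨q, hq, rfl⟩
    have hb' := Submodule.span_le.mpr hsub hb
    obtain ⟨w, hw, hw'⟩ := hb'
    refine ⟨w, hw, ?_⟩
    rw [← Submodule.Quotient.mk_eq_zero, Submodule.Quotient.mk_sub]
    rw [Submodule.mkQ_apply, Submodule.mkQ_apply] at hw'
    rw [hw', sub_self]
  -- injectivity of `M / xM → B / xB` for finite `M ⊇ M₀`
  have hinj : ∀ M : Submodule A B, M.FG → M₀ ≤ M → ∀ v ∈ M, v ∈ P →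
      ∃ w ∈ M, v = x • w := by
    intro M hMfg hle v hvM hvP
    have hlen := length_quot_smul_of_fg A K L B e hli he M hMfg (le_sup_left.trans hle) x hx0
    let π : (↥M ⧸ (x • (⊤ : Submodule A ↥M))) →ₗ[A] B ⧸ P :=
      Submodule.mapQ _ P M.subtype (by
        intro z hz
        obtain ⟨y, -, rfl⟩ := (Submodule.mem_smul_pointwise_iff_exists _ _ _).mp hz
        rw [Submodule.mem_comap, map_smul]
        exact Submodule.smul_mem_pointwise_smul _ x ⊤ Submodule.mem_top)
    have hπsurj : Function.Surjective π := by
      intro q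
      obtain ⟨b, rfl⟩ := Submodule.Quotient.mk_surjective _ q
      obtain ⟨w, hw, hbw⟩ := hsurj b
      refine ⟨Submodule.Quotient.mk ⟨w, hle hw⟩, ?_⟩
      show Submodule.Quotient.mk (M.subtype ⟨w, hle hw⟩) = Submodule.Quotient.mk b
      rw [Submodule.subtype_apply, eq_comm, Submodule.Quotient.eq]
      exact hbw
    have hadd := Module.length_eq_add_of_exact (LinearMap.ker π).subtype π
      (Submodule.subtype_injective _) hπsurj (LinearMap.exact_subtype_ker_map π)
    rw [hlen, h] at hadd
    have hker0 : Module.length A ↥(LinearMap.ker π) = 0 := by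
      have h2 : (0 : ℕ∞) + Module.finrank K L • Module.length A (A ⧸ Ideal.span {x}) =
          Module.length A ↥(LinearMap.ker π) +
            Module.finrank K L • Module.length A (A ⧸ Ideal.span {x}) := by
        rw [zero_add]; exact hadd
      exact (ENat.add_left_injective_of_ne_top hNtop h2).symm
    rw [Module.length_eq_zero_iff, Submodule.subsingleton_iff_eq_bot] at hker0
    have hvker : (Submodule.Quotient.mk ⟨v, hvM⟩ : ↥M ⧸ (x • (⊤ : Submodule A ↥M))) ∈
        LinearMap.ker π := by
      rw [LinearMap.mem_ker]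
      show Submodule.Quotient.mk (M.subtype ⟨v, hvM⟩) = (0 : B ⧸ P)
      rw [Submodule.Quotient.mk_eq_zero]
      exact hvP
    rw [hker0, Submodule.mem_bot, Submodule.Quotient.mk_eq_zero] at hvker
    obtain ⟨w, -, hw⟩ := (Submodule.mem_smul_pointwise_iff_exists _ _ _).mp hvker
    refine ⟨w, w.2, ?_⟩
    have := congrArg Subtype.val hw
    simpa using this.symm
  -- Nakayama
  have htop : ∀ b : B, b ∈ M₀ := by
    intro b
    set M : Submodule A B := M₀ ⊔ Submodule.span A {b} with hMdef
    have hMfg : M.FG := Submodule.FG.sup hM₀fg (Submodule.fg_span_singleton b)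
    have hle : M₀ ≤ M := le_sup_left
    have hMle : M ≤ M₀ ⊔ IsLocalRing.maximalIdeal A • M := by
      intro v hv
      obtain ⟨w, hw, hvw⟩ := hsurj v
      obtain ⟨z, hz, hz'⟩ := hinj M hMfg hle (v - w) (M.sub_mem hv (hle hw)) hvw
      have hv' : v = w + x • z := by rw [← hz']; ring
      rw [hv']
      exact Submodule.add_mem_sup hw (Submodule.smul_mem_smul hxm hz)
    have hjac : IsLocalRing.maximalIdeal A ≤ Ideal.jacobson ⊥ :=
      (IsLocalRing.jacobson_eq_maximalIdeal ⊥ bot_ne_top).ge
    have := Submodule.le_of_le_smul_of_le_jacobson_bot hMfg hjac hMle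
    exact this (Submodule.mem_sup_right (Submodule.mem_span_singleton_self b))
  have hM₀top : M₀ = ⊤ := eq_top_iff.mpr (fun b _ => htop b)
  rw [hM₀top] at hM₀fg
  exact Module.Finite.of_fg_top hM₀fg

end lattice

end Groth.Agent.H11.LenRank
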