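import Mathlib

/-!
# Length over a base ring as a sum of localized lengths

For a `B`-module `N` of finite length (with `Spec-max B` finite) and a ring map `A → B`:
`length_A N = ∑_m length_A (B/m) * length_{B_m} (N_m)`.
-/

set_option autoImplicit false
universe u

namespace Groth.Agent.H11.LenSum

open Module

variable {B : Type u} [CommRing B]

/-- The length of the localization of `N` at the maximal ideal `m`. -/
noncomputable def locLen (m : MaximalSpectrum B) (N : Type u) [AddCommGroup N] [Module B N] : ℕ∞ :=
  Module.length (Localization.AtPrime m.asIdeal) (LocalizedModule m.asIdeal.primeCompl N)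

theorem locLen_add (m : MaximalSpectrum B) {N₁ N₂ N₃ : Type u} [AddCommGroup N₁] [Module B N₁]
    [AddCommGroup N₂] [Module B N₂] [AddCommGroup N₃] [Module B N₃]
    (f : N₁ →ₗ[B] N₂) (g : N₂ →ₗ[B] N₃) (hf : Function.Injective f) (hg : Function.Surjective g)
    (h : Function.Exact f g) : locLen m N₂ = locLen m N₁ + locLen m N₃ :=
  Module.length_eq_add_of_exact (LocalizedModule.map m.asIdeal.primeCompl f)
    (LocalizedModule.map m.asIdeal.primeCompl g)
    (LocalizedModule.map_injective _ _ hf) (LocalizedModule.map_surjective _ _ hg)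
    (LocalizedModule.map_exact _ _ _ h)

theorem locLen_le_of_injective (m : MaximalSpectrum B) {N₁ N₂ : Type u} [AddCommGroup N₁]
    [Module B N₁] [AddCommGroup N₂] [Module B N₂] (f : N₁ →ₗ[B] N₂) (hf : Function.Injective f) :
    locLen m N₁ ≤ locLen m N₂ :=
  Module.length_le_of_injective (LocalizedModule.map m.asIdeal.primeCompl f)
    (LocalizedModule.map_injective _ _ hf)

theorem locLen_congr (m : MaximalSpectrum B) {N₁ N₂ : Type u} [AddCommGroup N₁]
    [Module B N₁] [AddCommGroup N₂] [Module B N₂] (e : N₁ ≃ₗ[B] N₂) :
    locLen m N₁ = locLen m N₂ :=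
  le_antisymm (locLen_le_of_injective m e.toLinearMap e.injective)
    (locLen_le_of_injective m e.symm.toLinearMap e.symm.injective)

theorem locLen_of_subsingleton (m : MaximalSpectrum B) (N : Type u) [AddCommGroup N] [Module B N]
    [Subsingleton N] : locLen m N = 0 :=
  Module.length_eq_zero

/-- The localized length can be computed with any localization of the module. -/
theorem locLen_eq_of_isLocalizedModule (m : MaximalSpectrum B) {N N' : Type u} [AddCommGroup N]
    [Module B N] [AddCommGroup N'] [Module B N'] [Module (Localization.AtPrime m.asIdeal) N']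
    [IsScalarTower B (Localization.AtPrime m.asIdeal) N'] (g : N →ₗ[B] N')
    [IsLocalizedModule m.asIdeal.primeCompl g] :
    locLen m N = Module.length (Localization.AtPrime m.asIdeal) N' := by
  have := IsLocalization.linearMap_compatibleSMul m.asIdeal.primeCompl
    (Localization.AtPrime m.asIdeal) (LocalizedModule m.asIdeal.primeCompl N) N'
  exact ((IsLocalizedModule.linearEquiv m.asIdeal.primeCompl
    (LocalizedModule.mkLinearMap m.asIdeal.primeCompl N) g).restrictScalars
      (Localization.AtPrime m.asIdeal)).length_eq

theorem locLen_quotient (m : MaximalSpectrum B) (I : Ideal B) :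
    locLen m (B ⧸ I) = Module.length (Localization.AtPrime m.asIdeal)
      (Localization.AtPrime m.asIdeal ⧸ I.map (algebraMap B (Localization.AtPrime m.asIdeal))) := by
  have h1 := locLen_eq_of_isLocalizedModule m
    (Submodule.toLocalizedQuotient' (Localization.AtPrime m.asIdeal) m.asIdeal.primeCompl
      (Algebra.linearMap B (Localization.AtPrime m.asIdeal)) I)
  rw [h1]
  have h2 : Submodule.localized' (Localization.AtPrime m.asIdeal) m.asIdeal.primeCompl
      (Algebra.linearMap B (Localization.AtPrime m.asIdeal)) I =
      I.map (algebraMap B (Localization.AtPrime m.asIdeal)) :=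
    Ideal.localized'_eq_map _ _ I
  exact (Submodule.quotEquivOfEq _ _ h2).length_eq

theorem locLen_quotient_self (m : MaximalSpectrum B) : locLen m (B ⧸ m.asIdeal) = 1 := by
  rw [locLen_quotient, Localization.AtPrime.map_eq_maximalIdeal]
  rw [Module.length_eq_one_iff]
  exact (isSimpleModule_iff_isCoatom).mpr (IsLocalRing.maximalIdeal.isMaximal _).out

theorem locLen_quotient_of_ne (m m₀ : MaximalSpectrum B) (h : m ≠ m₀) :
    locLen m (B ⧸ m₀.asIdeal) = 0 := by
  have hnle : ¬ m₀.asIdeal ≤ m.asIdeal := fun hle =>
    h (MaximalSpectrum.ext (m₀.isMaximal.eq_of_le m.isMaximal.ne_top hle)).symm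
  obtain ⟨r, hr₀, hr⟩ := SetLike.not_le_iff_exists.mp hnle
  have : Subsingleton (LocalizedModule m.asIdeal.primeCompl (B ⧸ m₀.asIdeal)) := by
    rw [LocalizedModule.subsingleton_iff]
    intro n
    refine ⟨r, hr, ?_⟩
    obtain ⟨b, rfl⟩ := Ideal.Quotient.mk_surjective n
    rw [← Ideal.Quotient.mk_eq_mk, Algebra.smul_def, Ideal.Quotient.algebraMap_eq,
      Ideal.Quotient.eq_zero_iff_mem.mpr hr₀, zero_mul]
  exact Module.length_eq_zero

section formula

variable {A : Type u} [CommRing A] [Algebra A B] [Fintype (MaximalSpectrum B)]

theorem length_eq_sum (N : Type u) [AddCommGroup N] [Module B N] (h : IsFiniteLength B N) :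
    ∀ [Module A N] [IsScalarTower A B N],
      Module.length A N =
        ∑ m : MaximalSpectrum B, Module.length A (B ⧸ m.asIdeal) * locLen m N := by
  classical
  induction h with
  | of_subsingleton =>
    intro _ _
    rw [Module.length_eq_zero]
    symm
    apply Finset.sum_eq_zero
    intro m _
    rw [locLen_of_subsingleton, mul_zero]
  | @of_simple_quotient M _ _ S hs _ ih =>
    intro _ _
    have h1 : Module.length A M = Module.length A S + Module.length A (M ⧸ S) :=
      Module.length_eq_add_of_exact (S.subtype.restrictScalars A) (S.mkQ.restrictScalars A)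
        S.subtype_injective S.mkQ_surjective (LinearMap.exact_subtype_mkQ S)
    have h2 : ∀ m : MaximalSpectrum B, locLen m M = locLen m S + locLen m (M ⧸ S) := fun m =>
      locLen_add m S.subtype S.mkQ S.subtype_injective S.mkQ_surjective
        (LinearMap.exact_subtype_mkQ S)
    obtain ⟨I, hI, ⟨e⟩⟩ := isSimpleModule_iff_quot_maximal.mp hs
    set m₀ : MaximalSpectrum B := ⟨I, hI⟩ with hm₀
    have h3 : Module.length A (M ⧸ S) = Module.length A (B ⧸ m₀.asIdeal) :=
      (e.restrictScalars A).length_eq
    have h4 : ∀ m : MaximalSpectrum B, locLen m (M ⧸ S) = if m = m₀ then 1 else 0 := by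
      intro m
      rw [locLen_congr m e]
      split_ifs with hm
      · subst hm
        exact locLen_quotient_self _
      · exact locLen_quotient_of_ne m m₀ hm
    rw [h1, ih, h3]
    simp_rw [h2, h4, mul_add, Finset.sum_add_distrib]
    congr 1
    rw [Finset.sum_eq_single m₀]
    · simp
    · intro m _ hm
      simp [hm]
    · intro hm
      exact absurd (Finset.mem_univ _) hm

end formula

end Groth.Agent.H11.LenSum
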