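import Mathlib
import Groth.Agent.H11.LenSum
import Groth.Agent.H11.LenRank

set_option autoImplicit false
universe u

namespace Groth.Agent.H11.LenDeg

open Pointwise

/-- Let A ⊆ B be a finite type extension of domains, A Noetherian local of dimension one, with
compatible fraction fields K ⊆ L and L finite over K. Then B has finitely many maximal ideals, and
for a nonzero x in the maximal ideal of A the sum over the maximal ideals m of B of (length of B/m
over A, i.e. the residue degree) times (length of B_m / x B_m over B_m) is at most the degree of L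
over K times the length of A/xA; equality holds exactly when B is a finite A-module. -/
theorem main (A B K L : Type u)
    [CommRing A] [IsDomain A] [IsNoetherianRing A] [IsLocalRing A] (hdim : ringKrullDim A = 1)
    [CommRing B] [IsDomain B] [Algebra A B] [FaithfulSMul A B] [Algebra.FiniteType A B]
    [Field K] [Field L] [Algebra A K] [IsFractionRing A K] [Algebra B L] [IsFractionRing B L]
    [Algebra K L] [Algebra A L] [IsScalarTower A K L] [IsScalarTower A B L] [FiniteDimensional K L]
    (x : A) (hx : x ∈ IsLocalRing.maximalIdeal A) (hx0 : x ≠ 0) :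
    Finite (MaximalSpectrum B) ∧
      (∑ᶠ m : MaximalSpectrum B,
          Module.length A (B ⧸ m.asIdeal) *
            Module.length (Localization.AtPrime m.asIdeal)
              (Localization.AtPrime m.asIdeal ⧸
                Ideal.span ({algebraMap A (Localization.AtPrime m.asIdeal) x} : Set _)) ≤
        (Module.finrank K L : ℕ∞) * Module.length A (A ⧸ Ideal.span ({x} : Set A))) ∧
      ((∑ᶠ m : MaximalSpectrum B,
          Module.length A (B ⧸ m.asIdeal) *
            Module.length (Localization.AtPrime m.asIdeal)
              (Localization.AtPrime m.asIdeal ⧸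
                Ideal.span ({algebraMap A (Localization.AtPrime m.asIdeal) x} : Set _)) =
        (Module.finrank K L : ℕ∞) * Module.length A (A ⧸ Ideal.span ({x} : Set A))) ↔ Module.Finite A B) := by
  classical
  have hAB : Function.Injective (algebraMap A B) := FaithfulSMul.algebraMap_injective A B
  have hBL : Function.Injective (algebraMap B L) := IsFractionRing.injective B L
  haveI : Ring.KrullDimLE 1 A := Ring.krullDimLE_iff.mpr hdim.le
  have hx'0 : algebraMap A B x ≠ 0 := fun h => hx0 (hAB (by rw [h, map_zero]))
  have hspan_ne_top : Ideal.span ({x} : Set A) ≠ ⊤ := by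
    intro htop
    have h1 : Ideal.span ({x} : Set A) ≤ IsLocalRing.maximalIdeal A :=
      (Ideal.span_singleton_le_iff_mem _).mpr hx
    rw [htop] at h1
    exact (IsLocalRing.maximalIdeal.isMaximal A).ne_top (top_le_iff.mp h1)
  have hlenpos : Module.length A (A ⧸ Ideal.span ({x} : Set A)) ≠ 0 := by
    haveI : Nontrivial (A ⧸ Ideal.span ({x} : Set A)) := Ideal.Quotient.nontrivial_iff.mpr hspan_ne_top
    exact (Module.length_pos (R := A) (M := A ⧸ Ideal.span ({x} : Set A))).ne'
  have hfrpos : (Module.finrank K L : ℕ∞) ≠ 0 := by
    have : 0 < Module.finrank K L := Module.finrank_pos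
    exact_mod_cast this.ne'
  have hRHS : (Module.finrank K L : ℕ∞) * Module.length A (A ⧸ Ideal.span ({x} : Set A)) ≠ 0 :=
    mul_ne_zero hfrpos hlenpos
  -- each term as a localized length
  have hterm : ∀ m : MaximalSpectrum B,
      Module.length (Localization.AtPrime m.asIdeal)
        (Localization.AtPrime m.asIdeal ⧸
          Ideal.span ({algebraMap A (Localization.AtPrime m.asIdeal) x} : Set _)) =
      Groth.Agent.H11.LenSum.locLen m (B ⧸ Ideal.span ({algebraMap A B x} : Set B)) := by
    intro m
    rw [Groth.Agent.H11.LenSum.locLen_quotient, Ideal.map_span, Set.image_singleton,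
      ← IsScalarTower.algebraMap_apply]
  -- comparison of the two quotients of `B`
  have hquot : Module.length A (B ⧸ Ideal.span ({algebraMap A B x} : Set B)) =
      Module.length A (B ⧸ (x • (⊤ : Submodule A B))) := by
    have heq : (x • (⊤ : Submodule A B)) =
        (Ideal.span {algebraMap A B x}).restrictScalars A := by
      ext y
      rw [Submodule.mem_smul_pointwise_iff_exists, Submodule.restrictScalars_mem,
        Ideal.mem_span_singleton']
      constructor
      · rintro ⟨z, -, rfl⟩
        exact ⟨z, by rw [Algebra.smul_def, mul_comm]⟩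
      · rintro ⟨z, rfl⟩
        exact ⟨z, Submodule.mem_top, by rw [Algebra.smul_def, mul_comm]⟩
    exact ((Submodule.quotEquivOfEq _ _ heq).trans
      (Submodule.Quotient.restrictScalarsEquiv A (Ideal.span {algebraMap A B x}))).length_eq.symm
  by_cases hB : IsField B
  · -- `B` is a field
    have hmbot : ∀ m : MaximalSpectrum B, m.asIdeal = ⊥ := by
      intro m
      rw [eq_bot_iff]
      intro b hb
      rw [Submodule.mem_bot]
      by_contra hb0
      obtain ⟨c, hc⟩ := hB.mul_inv_cancel hb0
      apply m.isMaximal.ne_top
      rw [Ideal.eq_top_iff_one, ← hc]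
      exact m.asIdeal.mul_mem_right c hb
    have : Subsingleton (MaximalSpectrum B) :=
      ⟨fun m₁ m₂ => MaximalSpectrum.ext ((hmbot m₁).trans (hmbot m₂).symm)⟩
    have hzero : ∀ m : MaximalSpectrum B,
        Module.length A (B ⧸ m.asIdeal) *
          Module.length (Localization.AtPrime m.asIdeal)
            (Localization.AtPrime m.asIdeal ⧸
              Ideal.span ({algebraMap A (Localization.AtPrime m.asIdeal) x} : Set _)) = 0 := by
      intro m
      rw [hterm m]
      obtain ⟨c, hc⟩ := hB.mul_inv_cancel hx'0
      have htop : Ideal.span ({algebraMap A B x} : Set B) = ⊤ := by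
        rw [Ideal.eq_top_iff_one, ← hc]
        exact Ideal.mul_mem_right c _ (Ideal.mem_span_singleton_self _)
      have : Subsingleton (B ⧸ Ideal.span ({algebraMap A B x} : Set B)) :=
        Ideal.Quotient.subsingleton_iff.mpr htop
      rw [Groth.Agent.H11.LenSum.locLen_of_subsingleton, mul_zero]
    have hsum0 := finsum_eq_zero_of_forall_eq_zero hzero
    refine ⟨Finite.of_subsingleton, ?_, ?_⟩
    · rw [hsum0]
      exact zero_le
    · rw [hsum0]
      constructor
      · intro h0
        exact absurd h0.symm hRHS
      · intro hfin
        haveI : Algebra.IsIntegral A B := Algebra.IsIntegral.of_finite A B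
        have hAf : IsField A := isField_of_isIntegral_of_isField hAB hB
        have h0 : ringKrullDim A = 0 := by
          letI := hAf.toField
          exact ringKrullDim_eq_zero_of_field A
        rw [hdim] at h0
        exact absurd h0 one_ne_zero
  · -- `B` is not a field: every maximal ideal contains `x`
    have hI : Ideal.span ({algebraMap A B x} : Set B) ≠ ⊥ := by
      rw [Ne, Ideal.span_singleton_eq_bot]
      exact hx'0
    have hall : ∀ m : MaximalSpectrum B, algebraMap A B x ∈ m.asIdeal := by
      intro m
      by_contra hxm
      haveI := m.isMaximal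
      have hcomap : m.asIdeal.comap (algebraMap A B) = ⊥ := by
        by_contra hne
        haveI : (m.asIdeal.comap (algebraMap A B)).IsPrime := Ideal.comap_isPrime _ _
        have hmax : (m.asIdeal.comap (algebraMap A B)).IsMaximal :=
          Ideal.IsPrime.isMaximal_of_ne_bot inferInstance hne
        have := IsLocalRing.eq_maximalIdeal hmax
        exact hxm (Ideal.mem_comap.mp (this ▸ hx))
      have hmbot : m.asIdeal = ⊥ := by
        by_contra hne
        obtain ⟨a, ha0, ham⟩ := Groth.Agent.H46.KA.exists_ne_zero_mem A K L B hBL _ hne
        have : a ∈ m.asIdeal.comap (algebraMap A B) := Ideal.mem_comap.mpr ham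
        rw [hcomap, Ideal.mem_bot] at this
        exact ha0 this
      obtain ⟨p, hp0, hp⟩ := Ring.not_isField_iff_exists_prime.mp hB
      have := m.isMaximal.eq_of_le hp.ne_top (hmbot ▸ bot_le)
      exact hp0 (this ▸ hmbot)
    haveI hNoeth : IsNoetherianRing B := Groth.Agent.H46.KA.isNoetherianRing_of_between A K L B hBL
    have hfinite : Finite (MaximalSpectrum B) := by
      have hT := Ideal.finite_minimalPrimes_of_isNoetherianRing B
        (Ideal.span ({algebraMap A B x} : Set B))
      haveI : Finite ↥((Ideal.span ({algebraMap A B x} : Set B)).minimalPrimes) := hT.to_subtype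
      have hmem : ∀ m : MaximalSpectrum B,
          m.asIdeal ∈ (Ideal.span ({algebraMap A B x} : Set B)).minimalPrimes := by
        intro m
        refine ⟨⟨m.isMaximal.isPrime, (Ideal.span_singleton_le_iff_mem _).mpr (hall m)⟩, ?_⟩
        rintro q ⟨hq, hIq⟩ hqm
        haveI := hq
        have hq0 : q ≠ ⊥ := fun h0 => hI (le_bot_iff.mp (h0 ▸ hIq))
        have hqmax := Groth.Agent.H46.KA.isMaximal_of_isPrime_of_ne_bot A K L B hBL q hq0
        exact (hqmax.eq_of_le m.isMaximal.ne_top hqm).ge
      exact Finite.of_injective (fun m => (⟨m.asIdeal, hmem m⟩ :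
        ↥((Ideal.span ({algebraMap A B x} : Set B)).minimalPrimes)))
        (fun m₁ m₂ h => MaximalSpectrum.ext (congrArg Subtype.val h))
    letI : Fintype (MaximalSpectrum B) := Fintype.ofFinite _
    have hflA : IsFiniteLength A (B ⧸ Ideal.span ({algebraMap A B x} : Set B)) :=
      Groth.Agent.H46.KA.isFiniteLength_quotient A K L B hBL _ hI
    have hflB : IsFiniteLength B (B ⧸ Ideal.span ({algebraMap A B x} : Set B)) := by
      obtain ⟨hN, hAr⟩ := isFiniteLength_iff_isNoetherian_isArtinian.mp hflA
      exact isFiniteLength_iff_isNoetherian_isArtinian.mpr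
        ⟨isNoetherian_of_tower A hN, isArtinian_of_tower A hAr⟩
    have hsum : (∑ᶠ m : MaximalSpectrum B,
          Module.length A (B ⧸ m.asIdeal) *
            Module.length (Localization.AtPrime m.asIdeal)
              (Localization.AtPrime m.asIdeal ⧸
                Ideal.span ({algebraMap A (Localization.AtPrime m.asIdeal) x} : Set _))) =
        Module.length A (B ⧸ (x • (⊤ : Submodule A B))) := by
      rw [finsum_eq_sum_of_fintype, ← hquot,
        Groth.Agent.H11.LenSum.length_eq_sum (A := A) _ hflB]
      exact Finset.sum_congr rfl (fun m _ => by rw [hterm m])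
    refine ⟨hfinite, ?_, ?_⟩
    · rw [hsum, ← nsmul_eq_mul]
      exact Groth.Agent.H46.KA.length_quot_le (K := K) (L := L) B
        (IsScalarTower.toAlgHom A B L).toLinearMap (fun y z h => hBL h) x hx0
    · rw [hsum, ← nsmul_eq_mul]
      constructor
      · intro h
        exact Groth.Agent.H11.LenRank.finite_of_length_eq A K L B x hx0 hx h
      · intro hfin
        exact Groth.Agent.H11.LenRank.length_eq_of_finite A K L B x hx0


end Groth.Agent.H11.LenDeg
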