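import Groth.Agent.H11.KrullNormal
import Groth.Agent.S4615
import Groth.Agent.H46.KrullAkizuki

/-!
# Mori–Nagata, strong form (EGA 0_IV 23.2.7)

The integral closure `A'` of a Noetherian local domain `A` is a Krull domain whose essential
valuation rings are the integral closures of the local rings of a finite sub-`A`-algebra `C` at its
height-one primes.
-/

set_option autoImplicit false

universe u

open AlgebraicGeometry IsLocalRing

namespace Groth.Agent.H11.MoriNagataKrull

section Radicial

variable (A : Type u) [CommRing A] [IsDomain A] [IsLocalRing A] [IsNoetherianRing A]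
  (K : Type u) [Field K] [Algebra A K] [IsFractionRing A K]

/-- A finite subalgebra over which the integral closure is radicial. -/
theorem exists_Cα : ∃ C : Subalgebra A K, Module.Finite A C ∧
    ∃ hint : C ≤ integralClosure A K,
      ∀ P₁ P₂ : Ideal ↥(integralClosure A K), P₁.IsPrime → P₂.IsPrime →
        P₁.comap (Subalgebra.inclusion hint) = P₂.comap (Subalgebra.inclusion hint) → P₁ = P₂ := by
  letI : Algebra (FractionRing A) K := FractionRing.liftAlgebra A K
  haveI : IsScalarTower A (FractionRing A) K := FractionRing.isScalarTower_liftAlgebra A K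
  haveI : FiniteDimensional (FractionRing A) K := by
    refine Module.Finite.of_surjective (Algebra.linearMap (FractionRing A) K) ?_
    intro z
    obtain ⟨a, b, _, rfl⟩ := IsFractionRing.div_surjective A z
    refine ⟨algebraMap A (FractionRing A) a / algebraMap A (FractionRing A) b, ?_⟩
    rw [Algebra.linearMap_apply, map_div₀, ← IsScalarTower.algebraMap_apply,
      ← IsScalarTower.algebraMap_apply]
  obtain ⟨C, hC, -, hrad⟩ := Groth.Agent.S4615.result (A := A) (K' := K)
  have hfin : Module.Finite A C := hC.1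
  have hint : C ≤ integralClosure A K := fun x hx =>
    (Algebra.IsIntegral.isIntegral (R := A) (⟨x, hx⟩ : C)).map C.val
  refine ⟨C, hfin, hint, fun P₁ P₂ h₁ h₂ h => ?_⟩
  haveI := hrad hint
  have hinj := (Spec.map (CommRingCat.ofHom (Subalgebra.inclusion hint).toRingHom)).injective
  have h12 := @hinj ⟨P₁, h₁⟩ ⟨P₂, h₂⟩ (PrimeSpectrum.ext h)
  exact congrArg PrimeSpectrum.asIdeal h12

end Radicial

section Loc

variable {A : Type u} [CommRing A] [IsDomain A] [IsNoetherianRing A]
  {K : Type u} [Field K] [Algebra A K] [IsFractionRing A K]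
  (C : Subalgebra A K) [hfin : Module.Finite A C] (hint : C ≤ integralClosure A K)

include hfin in
theorem isIntegral_iff (x : K) : IsIntegral C x ↔ IsIntegral A x :=
  ⟨fun h => isIntegral_trans x h, fun h => h.tower_top⟩

include hfin in
/-- Heights under the radicial integral map `Spec A' → Spec C`. -/
theorem height_comap_eq_one
    (hrad : ∀ P₁ P₂ : Ideal ↥(integralClosure A K), P₁.IsPrime → P₂.IsPrime →
      P₁.comap (Subalgebra.inclusion hint) = P₂.comap (Subalgebra.inclusion hint) → P₁ = P₂)
    (P : Ideal ↥(integralClosure A K)) (hP : P.IsPrime) (hPne : P ≠ ⊥)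
    (hPmin : ∀ P' : Ideal ↥(integralClosure A K), P'.IsPrime → P' ≠ ⊥ → P' ≤ P → P' = P) :
    (P.comap (Subalgebra.inclusion hint)).IsPrime ∧
      (P.comap (Subalgebra.inclusion hint)).height = 1 := by
  letI alg : Algebra ↥C ↥(integralClosure A K) := (Subalgebra.inclusion hint).toRingHom.toAlgebra
  haveI : IsScalarTower A ↥C ↥(integralClosure A K) :=
    IsScalarTower.of_algebraMap_eq (fun a => ((Subalgebra.inclusion hint).commutes a).symm)
  haveI : Algebra.IsIntegral ↥C ↥(integralClosure A K) :=
    ⟨fun a' => (Algebra.IsIntegral.isIntegral (R := A) a').tower_top⟩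
  have hinjC : Function.Injective (algebraMap ↥C ↥(integralClosure A K)) :=
    Subalgebra.inclusion_injective hint
  have hcomap : ∀ I : Ideal ↥(integralClosure A K),
      I.comap (Subalgebra.inclusion hint) = I.comap (algebraMap ↥C ↥(integralClosure A K)) :=
    fun I => rfl
  haveI := hP
  have hpprime : (P.comap (Subalgebra.inclusion hint)).IsPrime := by
    rw [hcomap]; exact Ideal.comap_isPrime _ _
  refine ⟨hpprime, ?_⟩
  haveI := hpprime
  have hpne : P.comap (Subalgebra.inclusion hint) ≠ ⊥ := by
    intro h0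
    rw [hcomap] at h0
    exact hPne (Ideal.eq_bot_of_comap_eq_bot h0)
  refine le_antisymm ?_ ?_
  · have h1 : (P.comap (Subalgebra.inclusion hint)).height ≤ ((1 : ℕ) : ℕ∞) := by
      rw [Ideal.height_le_iff]
      intro q hq hlt
      haveI := hq
      have hq0 : q = ⊥ := by
        by_contra hqne
        obtain ⟨P', -, hP', hP'q⟩ := Ideal.exists_ideal_over_prime_of_isIntegral q
          (⊥ : Ideal ↥(integralClosure A K)) (by
            rw [Ideal.comap_bot_of_injective _ hinjC]; exact bot_le)
        haveI := hP'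
        obtain ⟨P'', hP''ge, hP'', hP''p⟩ := Ideal.exists_ideal_over_prime_of_isIntegral
          (P.comap (Subalgebra.inclusion hint)) P' (by rw [hP'q]; exact hlt.le)
        have e : P'' = P := hrad P'' P hP'' hP (by rw [hcomap, hcomap]; exact hP''p)
        have hP'ne : P' ≠ ⊥ := by
          intro h0
          rw [h0, Ideal.comap_bot_of_injective _ hinjC] at hP'q
          exact hqne hP'q.symm
        have e' : P' = P := hPmin P' hP' hP'ne (e ▸ hP''ge)
        rw [e'] at hP'q
        exact (ne_of_lt hlt) (by rw [hcomap]; exact hP'q.symm)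
      rw [hq0, Ideal.height_bot]
      exact_mod_cast zero_lt_one
    exact_mod_cast h1
  · rw [Order.one_le_iff_pos, pos_iff_ne_zero]
    exact fun h0 => hpne (Ideal.height_eq_zero_iff_eq_bot.mp h0)

variable (p : Ideal C) [hp : p.IsPrime]

section Aux

variable (Cp : Type u) [CommRing Cp] [Algebra ↥C Cp] [hloc : IsLocalization.AtPrime Cp p]
  [Algebra Cp K] [IsScalarTower ↥C Cp K]

include hloc in
theorem mem_integralClosure_loc_iff (x : K) :
    x ∈ integralClosure Cp K ↔ ∃ s : C, s ∉ p ∧ IsIntegral C ((s : K) * x) := by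
  constructor
  · intro hx
    have hx' : IsIntegral Cp x := hx
    obtain ⟨⟨m, hm⟩, hmx⟩ :=
      IsIntegral.exists_multiple_integral_of_isLocalization (Rₘ := Cp) p.primeCompl x hx'
    exact ⟨m, hm, hmx⟩
  · rintro ⟨s, hs, hsx⟩
    have h1 : IsIntegral Cp ((s : K) * x) := hsx.tower_top
    have hu : IsUnit (algebraMap ↥C Cp s) :=
      IsLocalization.map_units Cp (⟨s, hs⟩ : p.primeCompl)
    obtain ⟨u, hu⟩ := hu
    have e1 : algebraMap Cp K (u : Cp) = (s : K) := by
      rw [hu, ← IsScalarTower.algebraMap_apply]; rfl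
    have e2 : algebraMap Cp K ((u⁻¹ : Cpˣ) : Cp) * (s : K) = 1 := by
      rw [← e1, ← map_mul, Units.inv_mul, map_one]
    have e : x = algebraMap Cp K ((u⁻¹ : Cpˣ) : Cp) * ((s : K) * x) := by
      rw [← mul_assoc, e2, one_mul]
    rw [e]
    exact (integralClosure Cp K).mul_mem ((integralClosure Cp K).algebraMap_mem _) h1

include hfin hloc in
/-- The integral closure of the local ring of `C` at a height-one prime is a discrete valuation
ring, when `Spec A' → Spec C` is radicial. -/
theorem exists_valuationSubring_aux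
    (hrad : ∀ P₁ P₂ : Ideal ↥(integralClosure A K), P₁.IsPrime → P₂.IsPrime →
      P₁.comap (Subalgebra.inclusion hint) = P₂.comap (Subalgebra.inclusion hint) → P₁ = P₂)
    (hht : p.height = 1) :
    ∃ V : ValuationSubring K, IsDiscreteValuationRing V ∧
      ∀ x : K, x ∈ V ↔ ∃ s : C, s ∉ p ∧ IsIntegral C ((s : K) * x) := by
  classical
  haveI : IsNoetherianRing ↥C := IsNoetherianRing.of_finite A ↥C
  haveI : IsDomain Cp := IsLocalization.isDomain_of_atPrime Cp p
  haveI : IsFractionRing Cp K :=
    IsFractionRing.isFractionRing_of_isDomain_of_isLocalization p.primeCompl Cp K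
  haveI : IsNoetherianRing Cp := IsLocalization.isNoetherianRing p.primeCompl Cp inferInstance
  haveI : IsLocalRing Cp := IsLocalization.AtPrime.isLocalRing Cp p
  have hdimeq : ringKrullDim Cp = p.height :=
    IsLocalization.AtPrime.ringKrullDim_eq_height p Cp
  have hdim : ringKrullDim Cp ≤ ((1 : ℕ) : WithBot ℕ∞) := by
    rw [hdimeq, hht]; rfl
  haveI : Ring.KrullDimLE 1 Cp := Ring.krullDimLE_iff.mpr hdim
  haveI hBded : IsDedekindDomain ↥(integralClosure Cp K) :=
    Groth.Agent.H46.KA.isDedekindDomain_of_isIntegralClosure Cp K K ↥(integralClosure Cp K)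
  have hmemB := mem_integralClosure_loc_iff (K := K) C p Cp
  have hA'B : ∀ y : K, y ∈ integralClosure A K → y ∈ integralClosure Cp K := fun y hy =>
    (hmemB y).mpr ⟨1, hp.one_notMem, by
      rw [OneMemClass.coe_one, one_mul]; exact (isIntegral_iff C y).mpr hy⟩
  let j : ↥(integralClosure A K) →+* ↥(integralClosure Cp K) :=
    { toFun := fun y => ⟨y.1, hA'B y.1 y.2⟩
      map_one' := rfl
      map_mul' := fun _ _ => rfl
      map_zero' := rfl
      map_add' := fun _ _ => rfl }
  -- contraction of a maximal ideal of `B` to `C`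
  have hcontr : ∀ M : Ideal ↥(integralClosure Cp K), M.IsMaximal →
      (M.comap j).comap (Subalgebra.inclusion hint) = p := by
    intro M hM
    have hM' : (M.comap (algebraMap Cp ↥(integralClosure Cp K))).IsMaximal :=
      Ideal.isMaximal_comap_of_isIntegral_of_isMaximal (R := Cp) M
    have e1 : M.comap (algebraMap Cp ↥(integralClosure Cp K)) = maximalIdeal Cp :=
      IsLocalRing.eq_maximalIdeal hM'
    have e2 : (maximalIdeal Cp).comap (algebraMap ↥C Cp) = p :=
      IsLocalization.AtPrime.comap_maximalIdeal Cp p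
    rw [← e2, ← e1]
    ext c
    rw [Ideal.mem_comap, Ideal.mem_comap, Ideal.mem_comap, Ideal.mem_comap]
    have e3 : j (Subalgebra.inclusion hint c) =
        algebraMap Cp ↥(integralClosure Cp K) (algebraMap ↥C Cp c) := by
      apply Subtype.ext
      change (c : K) = algebraMap Cp K (algebraMap ↥C Cp c)
      rw [← IsScalarTower.algebraMap_apply]; rfl
    rw [e3]
  have hlocal : IsLocalRing ↥(integralClosure Cp K) := by
    obtain ⟨M, hM⟩ := Ideal.exists_maximal ↥(integralClosure Cp K)
    refine IsLocalRing.of_unique_max_ideal ⟨M, hM, fun M' hM' => ?_⟩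
    have key : ∀ M₁ M₂ : Ideal ↥(integralClosure Cp K), M₁.IsMaximal → M₂.IsMaximal →
        M₁ ≤ M₂ := by
      intro M₁ M₂ hM₁ hM₂
      have hP₁ : (M₁.comap j).IsPrime := Ideal.comap_isPrime _ _
      have hP₂ : (M₂.comap j).IsPrime := Ideal.comap_isPrime _ _
      have hPeq : M₁.comap j = M₂.comap j :=
        hrad _ _ hP₁ hP₂ ((hcontr M₁ hM₁).trans (hcontr M₂ hM₂).symm)
      intro b hb
      obtain ⟨s, hs, hsb⟩ := (hmemB b).mp b.2
      have hy : (s : K) * b ∈ integralClosure A K := (isIntegral_iff C _).mp hsb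
      have hsB : (s : K) ∈ integralClosure Cp K := hA'B _ (hint s.2)
      have hjy : j ⟨(s : K) * b, hy⟩ = ⟨(s : K), hsB⟩ * b := Subtype.ext rfl
      have h1 : (⟨(s : K) * b, hy⟩ : ↥(integralClosure A K)) ∈ M₁.comap j := by
        rw [Ideal.mem_comap, hjy]
        exact M₁.mul_mem_left _ hb
      rw [hPeq, Ideal.mem_comap, hjy] at h1
      rcases hM₂.isPrime.mem_or_mem h1 with h2 | h2
      · exfalso
        apply hs
        rw [← hcontr M₂ hM₂]
        exact h2
      · exact h2
    exact le_antisymm (key M' M hM' hM) (key M M' hM hM')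
  haveI := hlocal
  have h20 : IsDedekindDomain ↥(integralClosure Cp K) →
      IsPrincipalIdealRing ↥(integralClosure Cp K) :=
    ((tfae_of_isNoetherianRing_of_isLocalRing_of_isDomain ↥(integralClosure Cp K)).out 2 0).mp
  have h21 : IsDedekindDomain ↥(integralClosure Cp K) →
      ValuationRing ↥(integralClosure Cp K) :=
    ((tfae_of_isNoetherianRing_of_isLocalRing_of_isDomain ↥(integralClosure Cp K)).out 2 1).mp
  haveI hPID : IsPrincipalIdealRing ↥(integralClosure Cp K) := h20 hBded
  haveI hVR : ValuationRing ↥(integralClosure Cp K) := h21 hBded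
  have hnf : maximalIdeal ↥(integralClosure Cp K) ≠ ⊥ := by
    intro hbot
    have hfield : IsField ↥(integralClosure Cp K) :=
      IsLocalRing.isField_iff_maximalIdeal_eq.mpr hbot
    have hRpf : IsField Cp :=
      isField_of_isIntegral_of_isField (R := Cp) (S := ↥(integralClosure Cp K))
        (FaithfulSMul.algebraMap_injective Cp ↥(integralClosure Cp K)) hfield
    have h0 : ringKrullDim Cp = 0 := ringKrullDim_eq_zero_of_isField hRpf
    rw [hdimeq, hht] at h0
    exact absurd h0 (by decide)
  haveI : IsDiscreteValuationRing ↥(integralClosure Cp K) := { not_a_field' := hnf }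
  let V : ValuationSubring K :=
    { (integralClosure Cp K).toSubring with
      mem_or_inv_mem' := fun x => by
        rcases ValuationRing.isInteger_or_isInteger ↥(integralClosure Cp K) x with
          ⟨b, hb⟩ | ⟨b, hb⟩
        · left; rw [← hb]; exact b.2
        · right; rw [← hb]; exact b.2 }
  refine ⟨V, ?_, fun x => hmemB x⟩
  let e : ↥(integralClosure Cp K) ≃+* ↥V :=
    { toFun := fun b => ⟨b.1, b.2⟩
      invFun := fun v => ⟨v.1, v.2⟩
      left_inv := fun _ => rfl
      right_inv := fun _ => rfl
      map_mul' := fun _ _ => rfl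
      map_add' := fun _ _ => rfl }
  exact IsDiscreteValuationRing.RingEquivClass.isDiscreteValuationRing e

end Aux

include hfin in
theorem exists_valuationSubring
    (hrad : ∀ P₁ P₂ : Ideal ↥(integralClosure A K), P₁.IsPrime → P₂.IsPrime →
      P₁.comap (Subalgebra.inclusion hint) = P₂.comap (Subalgebra.inclusion hint) → P₁ = P₂)
    (hht : p.height = 1) :
    ∃ V : ValuationSubring K, IsDiscreteValuationRing V ∧
      ∀ x : K, x ∈ V ↔ ∃ s : C, s ∉ p ∧ IsIntegral C ((s : K) * x) :=
  exists_valuationSubring_aux C hint p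
    ↥(Localization.subalgebra.ofField K p.primeCompl p.primeCompl_le_nonZeroDivisors) hrad hht

end Loc

section Main

variable (A : Type u) [CommRing A] [IsDomain A] [IsLocalRing A] [IsNoetherianRing A]
  (K : Type u) [Field K] [Algebra A K] [IsFractionRing A K]

/-- **Mori–Nagata, strong form** (EGA 0_IV 23.2.7). -/
theorem main : ∃ C : Subalgebra A K, Module.Finite A C ∧
    (∀ (p : Ideal C) [p.IsPrime], p.height = 1 →
      ∃ V : ValuationSubring K, IsDiscreteValuationRing V ∧
        ∀ x : K, x ∈ V ↔ ∃ s : C, s ∉ p ∧ IsIntegral C ((s : K) * x)) ∧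
    (∀ x : K, x ∈ integralClosure A K ↔
      ∀ (p : Ideal C) [p.IsPrime], p.height = 1 →
        ∃ s : C, s ∉ p ∧ IsIntegral C ((s : K) * x)) ∧
    (∀ x : K, {p : Ideal C | p.IsPrime ∧ p.height = 1 ∧
      ¬ ∃ s : C, s ∉ p ∧ IsIntegral C ((s : K) * x)}.Finite) := by
  obtain ⟨C, hfin, hint, hrad⟩ := exists_Cα A K
  haveI := hfin
  haveI : IsNoetherianRing ↥C := IsNoetherianRing.of_finite A ↥C
  refine ⟨C, hfin, ?_, ?_, ?_⟩
  · intro p hp hht
    exact exists_valuationSubring C hint p hrad hht
  · intro x
    constructor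
    · intro hx p hp _
      exact ⟨1, hp.one_notMem, by
        rw [OneMemClass.coe_one, one_mul]; exact (isIntegral_iff C x).mpr hx⟩
    · intro h
      by_contra hx
      obtain ⟨P, hP, hPne, hPmin, hPx⟩ :=
        Groth.Agent.H11.KrullNormal.exists_prime_integralClosure A K x hx
      obtain ⟨hpprime, hpht⟩ := height_comap_eq_one C hint hrad P hP hPne hPmin
      obtain ⟨s, hs, hsx⟩ := @h _ hpprime hpht
      exact hPx (Subalgebra.inclusion hint s) hs ((isIntegral_iff C _).mp hsx)
  · intro x
    obtain ⟨n, m, hm, rfl⟩ := IsFractionRing.div_surjective A x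
    have hm0 : m ≠ 0 := nonZeroDivisors.ne_zero hm
    have hmK : algebraMap A K m ≠ 0 := fun h0 =>
      hm0 ((IsFractionRing.injective A K) (h0.trans (map_zero _).symm))
    have hmC : algebraMap A ↥C m ≠ 0 := fun h0 => hmK (congrArg Subtype.val h0)
    refine (Ideal.finite_minimalPrimes_of_isNoetherianRing ↥C
      (Ideal.span {algebraMap A ↥C m})).subset ?_
    rintro p ⟨hp, hht, hnot⟩
    have hmem : algebraMap A ↥C m ∈ p := by
      by_contra hmp
      apply hnot
      refine ⟨algebraMap A ↥C m, hmp, ?_⟩
      have e : ((algebraMap A ↥C m : ↥C) : K) * (algebraMap A K n / algebraMap A K m) =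
          algebraMap ↥C K (algebraMap A ↥C n) := mul_div_cancel₀ _ hmK
      rw [e]
      exact isIntegral_algebraMap
    exact Groth.Agent.H11.KrullNormal.mem_minimalPrimes_span_of_height_one ↥C p hp hht _ hmC hmem

end Main

end Groth.Agent.H11.MoriNagataKrull
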