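import Mathlib.Algebra.Category.ModuleCat.Basic
import Mathlib.Algebra.Category.ModuleCat.Products
import Mathlib.Algebra.Category.ModuleCat.Limits
import Mathlib.CategoryTheory.Center.Localization
import Mathlib.CategoryTheory.Preadditive.AdditiveFunctor
import Mathlib.CategoryTheory.Adjunction.Limits
import Mathlib.CategoryTheory.Limits.Preserves.Shapes.Zero

set_option autoImplicit false

universe u v₁ v₂ u₁ u₂

namespace Groth.Agent.H11

open CategoryTheory CategoryTheory.Limits

section General

variable {C : Type u₁} [Category.{v₁} C] {D : Type u₂} [Category.{v₂} D]

theorem equiv_functor_additive [Preadditive C] [Preadditive D] [HasBinaryProducts C]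
    (e : C ≌ D) : e.functor.Additive := by
  have : e.functor.PreservesZeroMorphisms := inferInstance
  exact Functor.additive_of_preserves_binary_products e.functor

theorem equiv_isLocalization (e : C ≌ D) :
    e.functor.IsLocalization (MorphismProperty.isomorphisms C) :=
  Functor.IsLocalization.of_isEquivalence _ _ le_rfl

theorem center_roundtrip (e : C ≌ D) (r : CatCenter C) :
    have := equiv_isLocalization e
    have : e.inverse.IsLocalization (MorphismProperty.isomorphisms D) :=
      equiv_isLocalization e.symm
    CatCenter.localization
      (CatCenter.localization r e.functor (MorphismProperty.isomorphisms C))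
      e.inverse (MorphismProperty.isomorphisms D) = r := by
  have := equiv_isLocalization e
  have : e.inverse.IsLocalization (MorphismProperty.isomorphisms D) := equiv_isLocalization e.symm
  ext X
  set z := CatCenter.localization
      (CatCenter.localization r e.functor (MorphismProperty.isomorphisms C))
      e.inverse (MorphismProperty.isomorphisms D) with hz
  have h1 : z.app (e.inverse.obj (e.functor.obj X)) =
      e.inverse.map (e.functor.map (r.app X)) := by
    rw [hz, CatCenter.localization_app, CatCenter.localization_app]
  have h2 : e.unit.app X ≫ z.app (e.inverse.obj (e.functor.obj X)) =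
      z.app X ≫ e.unit.app X := z.naturality (e.unit.app X)
  have h3 : r.app X ≫ e.unit.app X =
      e.unit.app X ≫ e.inverse.map (e.functor.map (r.app X)) := by
    exact e.unit.naturality (r.app X)
  have h4 : z.app X ≫ e.unit.app X = r.app X ≫ e.unit.app X := by
    rw [← h2, h1, h3]
  exact (cancel_mono (e.unit.app X)).mp h4

/-- the centers of equivalent preadditive categories are isomorphic rings -/
noncomputable def centerRingEquiv [Preadditive C] [Preadditive D] (e : C ≌ D)
    [e.functor.Additive] : CatCenter C ≃+* CatCenter D :=
  have := equiv_isLocalization e
  have : e.inverse.IsLocalization (MorphismProperty.isomorphisms D) := equiv_isLocalization e.symm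
  { CatCenter.localizationRingHom e.functor (MorphismProperty.isomorphisms C) with
    invFun := fun s => CatCenter.localization s e.inverse (MorphismProperty.isomorphisms D)
    left_inv := fun r => center_roundtrip e r
    right_inv := fun s => center_roundtrip e.symm s }

end General

section ModuleCat

variable (A : Type u) [CommRing A]

/-- multiplication by `a` as an element of the center of `ModuleCat A` -/
noncomputable def smulCenter (a : A) : CatCenter (ModuleCat.{u} A) where
  app M := ModuleCat.ofHom (LinearMap.lsmul A M a)
  naturality M N f := by
    ext m
    simp

theorem smulCenter_app_apply (a : A) (M : ModuleCat.{u} A) (m : M) :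
    ((smulCenter A a).app M).hom m = a • m := rfl

/-- `A → Z(Mod A)` as a ring hom -/
noncomputable def toCenter : A →+* CatCenter (ModuleCat.{u} A) where
  toFun := smulCenter A
  map_one' := by
    ext M m
    change (1 : A) • m = m
    simp
  map_mul' a b := by
    ext M m
    rw [CatCenter.mul_app]
    change (a * b) • m = b • (a • m)
    rw [mul_comm, mul_smul]
  map_zero' := by
    ext M m
    change (0 : A) • m = 0
    simp
  map_add' a b := by
    ext M m
    change (a + b) • m = a • m + b • m
    rw [add_smul]

theorem toCenter_bijective : Function.Bijective (toCenter A) := by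
  constructor
  · intro a b hab
    have h1 : ((toCenter A a).app (ModuleCat.of A A)).hom (1 : A) =
        ((toCenter A b).app (ModuleCat.of A A)).hom (1 : A) := by rw [hab]
    change a • (1 : A) = b • (1 : A) at h1
    simpa using h1
  · intro z
    refine ⟨(z.app (ModuleCat.of A A)).hom (1 : A), ?_⟩
    ext M m
    change ((z.app (ModuleCat.of A A)).hom (1 : A)) • m = (z.app M).hom m
    have hnat := z.naturality (ModuleCat.ofHom (LinearMap.toSpanSingleton A M m))
    have := congrArg (fun g => g.hom (1 : A)) hnat
    simp only [ModuleCat.hom_comp, LinearMap.comp_apply, ModuleCat.hom_ofHom,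
      LinearMap.toSpanSingleton_apply, one_smul] at this
    exact this.symm

noncomputable def centerModuleCatEquiv : A ≃+* CatCenter (ModuleCat.{u} A) :=
  RingEquiv.ofBijective (toCenter A) (toCenter_bijective A)

end ModuleCat

theorem ringEquiv_of_moduleCat_equiv (A B : Type u) [CommRing A] [CommRing B]
    (F : ModuleCat.{u} A ≌ ModuleCat.{u} B) : Nonempty (A ≃+* B) := by
  have : F.functor.Additive := equiv_functor_additive F
  exact ⟨(centerModuleCatEquiv A).trans ((centerRingEquiv F).trans (centerModuleCatEquiv B).symm)⟩

end Groth.Agent.H11
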