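import Mathlib.RingTheory.UniqueFactorizationDomain.Basic
import Mathlib.RingTheory.Localization.Basic
import Mathlib.RingTheory.Localization.FractionRing

set_option autoImplicit false

universe u

namespace Groth.Agent.H11

variable {A : Type u} [CommRing A] [IsDomain A] (P : Set A) (hP : ∀ p ∈ P, Prime p)

include hP

theorem nag_ne_zero {s : A} (hs : s ∈ Submonoid.closure P) : s ≠ 0 := by
  induction hs using Submonoid.closure_induction with
  | mem x h => exact (hP x h).ne_zero
  | one => exact one_ne_zero
  | mul x y _ _ hx hy => exact mul_ne_zero hx hy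

/-- splitting an element of the closure dividing a product -/
theorem nag_split {u : A} (hu : u ∈ Submonoid.closure P) :
    ∀ a b : A, u ∣ a * b → ∃ u₁ ∈ Submonoid.closure P, ∃ u₂ ∈ Submonoid.closure P,
      u = u₁ * u₂ ∧ u₁ ∣ a ∧ u₂ ∣ b := by
  induction hu using Submonoid.closure_induction with
  | mem p h =>
    intro a b hab
    rcases (hP p h).dvd_or_dvd hab with h1 | h1
    · exact ⟨p, Submonoid.subset_closure h, 1, one_mem _, by simp, h1, one_dvd _⟩
    · exact ⟨1, one_mem _, p, Submonoid.subset_closure h, by simp, one_dvd _, h1⟩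
  | one =>
    intro a b _
    exact ⟨1, one_mem _, 1, one_mem _, by simp, one_dvd _, one_dvd _⟩
  | mul u v hu hv ihu ihv =>
    intro a b hab
    obtain ⟨u₁, hu₁, u₂, hu₂, rfl, ⟨a', rfl⟩, ⟨b', rfl⟩⟩ :=
      ihu a b ((dvd_mul_right u v).trans hab)
    have hne : u₁ * u₂ ≠ 0 := nag_ne_zero P hP (mul_mem hu₁ hu₂)
    have hv' : v ∣ a' * b' := by
      have : (u₁ * u₂) * v ∣ (u₁ * u₂) * (a' * b') := by
        have e : u₁ * a' * (u₂ * b') = (u₁ * u₂) * (a' * b') := by ring
        rwa [e] at hab
      exact (mul_dvd_mul_iff_left hne).mp this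
    obtain ⟨v₁, hv₁, v₂, hv₂, rfl, ⟨a'', rfl⟩, ⟨b'', rfl⟩⟩ := ihv a' b' hv'
    refine ⟨u₁ * v₁, mul_mem hu₁ hv₁, u₂ * v₂, mul_mem hu₂ hv₂, by ring, ?_, ?_⟩
    · exact ⟨a'', by ring⟩
    · exact ⟨b'', by ring⟩

/-- cancellation: an element of the closure dividing `x * c` divides `c`
if no element of `P` divides `x` -/
theorem nag_cancel {s : A} (hs : s ∈ Submonoid.closure P) :
    ∀ x c : A, (∀ p ∈ P, ¬ p ∣ x) → s ∣ x * c → s ∣ c := by
  induction hs using Submonoid.closure_induction with
  | mem p h =>
    intro x c hx hxc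
    rcases (hP p h).dvd_or_dvd hxc with h1 | h1
    · exact absurd h1 (hx p h)
    · exact h1
  | one => intro x c _ _; exact one_dvd _
  | mul u v hu hv ihu ihv =>
    intro x c hx hxc
    obtain ⟨c', rfl⟩ := ihu x c hx ((dvd_mul_right u v).trans hxc)
    have hne : u ≠ 0 := nag_ne_zero P hP hu
    have : u * v ∣ u * (x * c') := by
      have e : x * (u * c') = u * (x * c') := by ring
      rwa [e] at hxc
    have hv' : v ∣ x * c' := (mul_dvd_mul_iff_left hne).mp this
    exact mul_dvd_mul_left u (ihv x c' hx hv')

theorem nag_le_nonZeroDivisors : Submonoid.closure P ≤ nonZeroDivisors A := by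
  intro s hs
  exact mem_nonZeroDivisors_of_ne_zero (nag_ne_zero P hP hs)

/-- divisibility descends from the localization -/
theorem nag_dvd_of_map_dvd (x a : A) (hx : ∀ p ∈ P, ¬ p ∣ x)
    (h : algebraMap A (Localization (Submonoid.closure P)) x ∣
      algebraMap A (Localization (Submonoid.closure P)) a) : x ∣ a := by
  have hinj : Function.Injective (algebraMap A (Localization (Submonoid.closure P))) :=
    IsLocalization.injective _ (nag_le_nonZeroDivisors P hP)
  obtain ⟨y, hy⟩ := h
  obtain ⟨⟨c, s⟩, hcs⟩ := IsLocalization.surj (Submonoid.closure P) y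
  -- hcs : y * algebraMap s = algebraMap c
  have h1 : algebraMap A (Localization (Submonoid.closure P)) (a * s) =
      algebraMap A (Localization (Submonoid.closure P)) (x * c) := by
    simp only [map_mul]
    rw [hy, mul_assoc]
    simp only at hcs
    rw [hcs]
  have h2 : a * s = x * c := hinj h1
  have h3 : (s : A) ∣ x * c := ⟨a, by rw [← h2]; ring⟩
  obtain ⟨c', rfl⟩ := nag_cancel P hP s.2 x c hx h3
  have hs0 : (s : A) ≠ 0 := nag_ne_zero P hP s.2
  refine ⟨c', ?_⟩
  have : (s : A) * a = (s : A) * (x * c') := by rw [mul_comm, h2]; ring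
  exact mul_left_cancel₀ hs0 this

theorem nag_irreducible_map (x : A) (hx : ∀ p ∈ P, ¬ p ∣ x) (hirr : Irreducible x) :
    Irreducible (algebraMap A (Localization (Submonoid.closure P)) x) := by
  have hinj : Function.Injective (algebraMap A (Localization (Submonoid.closure P))) :=
    IsLocalization.injective _ (nag_le_nonZeroDivisors P hP)
  refine ⟨?_, ?_⟩
  · intro hu
    have : algebraMap A (Localization (Submonoid.closure P)) x ∣
        algebraMap A (Localization (Submonoid.closure P)) 1 := by
      rw [map_one]; exact hu.dvd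
    exact hirr.not_isUnit (isUnit_of_dvd_one (nag_dvd_of_map_dvd P hP x 1 hx this))
  · intro y z hyz
    obtain ⟨⟨a, s⟩, has⟩ := IsLocalization.surj (Submonoid.closure P) y
    obtain ⟨⟨b, t⟩, hbt⟩ := IsLocalization.surj (Submonoid.closure P) z
    simp only at has hbt
    have h1 : algebraMap A (Localization (Submonoid.closure P)) (x * (s * t)) =
        algebraMap A (Localization (Submonoid.closure P)) (a * b) := by
      simp only [map_mul]
      rw [hyz, ← has, ← hbt]; ring
    have h2 : x * (s * t) = a * b := hinj h1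
    have h3 : ((s : A) * t) ∣ a * b := ⟨x, by rw [← h2]; ring⟩
    obtain ⟨u₁, hu₁, u₂, hu₂, hst, ⟨a', rfl⟩, ⟨b', rfl⟩⟩ :=
      nag_split P hP (mul_mem s.2 t.2) a b h3
    have hne : (s : A) * t ≠ 0 := nag_ne_zero P hP (mul_mem s.2 t.2)
    have h4 : x = a' * b' := by
      have : ((s : A) * t) * x = ((s : A) * t) * (a' * b') := by
        rw [mul_comm, h2, hst]; ring
      exact mul_left_cancel₀ hne this
    have hunit : ∀ v ∈ Submonoid.closure P,
        IsUnit (algebraMap A (Localization (Submonoid.closure P)) v) :=
      fun v hv => IsLocalization.map_units _ (⟨v, hv⟩ : Submonoid.closure P)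
    rcases hirr.isUnit_or_isUnit h4 with h5 | h5
    · left
      have : IsUnit (y * algebraMap A (Localization (Submonoid.closure P)) s) := by
        rw [has, map_mul]
        exact (hunit u₁ hu₁).mul (h5.map _)
      exact isUnit_of_mul_isUnit_left this
    · right
      have : IsUnit (z * algebraMap A (Localization (Submonoid.closure P)) t) := by
        rw [hbt, map_mul]
        exact (hunit u₂ hu₂).mul (h5.map _)
      exact isUnit_of_mul_isUnit_left this

theorem nag_prime_of_irreducible [IsDomain (Localization (Submonoid.closure P))]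
    (hS : UniqueFactorizationMonoid (Localization (Submonoid.closure P)))
    (x : A) (hirr : Irreducible x) : Prime x := by
  by_cases hx : ∃ p ∈ P, p ∣ x
  · obtain ⟨p, hp, u, rfl⟩ := hx
    have hp' : Prime p := hP p hp
    have hu : IsUnit u := (hirr.isUnit_or_isUnit rfl).resolve_left hp'.not_isUnit
    exact (associated_mul_unit_right p u hu).prime hp'
  · push Not at hx
    have hirr' := nag_irreducible_map P hP x hx hirr
    have hprime' : Prime (algebraMap A (Localization (Submonoid.closure P)) x) :=
      UniqueFactorizationMonoid.irreducible_iff_prime.mp hirr'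
    refine ⟨hirr.ne_zero, hirr.not_isUnit, ?_⟩
    intro a b hab
    have : algebraMap A (Localization (Submonoid.closure P)) x ∣
        algebraMap A (Localization (Submonoid.closure P)) a *
          algebraMap A (Localization (Submonoid.closure P)) b := by
      rw [← map_mul]; exact map_dvd _ hab
    rcases hprime'.dvd_or_dvd this with h | h
    · exact Or.inl (nag_dvd_of_map_dvd P hP x a hx h)
    · exact Or.inr (nag_dvd_of_map_dvd P hP x b hx h)

end Groth.Agent.H11
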