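import Mathlib
import Groth.Prelude.Def_FlatCA

/-! (P1) for the S1244 squad (helper93): universal property of a ring limit. -/

set_option autoImplicit false
universe u
open CategoryTheory AlgebraicGeometry

namespace Groth.Agent.H11.NilLim_P1

variable {A : Type u} [CommRing A] {A' : ℕ → Type u} [∀ n, CommRing (A' n)]
  {φ : ∀ n, A' (n + 1) →+* A' n} {π : ∀ n, A →+* A' n}

theorem exists_lift (hlim : FlatCA.IsRingLimit A A' φ π) {C : Type u} [CommRing C]
    (c : ∀ n, C →+* A' n) (hc : ∀ n, (φ n).comp (c (n + 1)) = c n) :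
    ∃ γ : C →+* A, ∀ n, (π n).comp γ = c n := by
  classical
  obtain ⟨hcomp, huniq, hex⟩ := hlim
  have hcompat : ∀ x : C, ∀ n, φ n (c (n + 1) x) = c n x := fun x n => by
    rw [← hc n]; rfl
  choose g hg using fun x : C => hex (fun n => c n x) (hcompat x)
  refine ⟨{ toFun := g, map_one' := ?_, map_mul' := ?_, map_zero' := ?_, map_add' := ?_ }, ?_⟩
  · apply huniq; intro n; rw [hg, map_one, map_one]
  · intro x y; apply huniq; intro n; rw [hg, map_mul, map_mul, hg, hg]
  · apply huniq; intro n; rw [hg, map_zero, map_zero]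
  · intro x y; apply huniq; intro n; rw [hg, map_add, map_add, hg, hg]
  · intro n; ext x; exact hg x n

end Groth.Agent.H11.NilLim_P1
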