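import Mathlib
import Groth.Prelude.Def_FlatCA

/-! (P3) for the S1244 squad (helper93): the composite transition `A' n → A' 0` is surjective on
spectra. -/

set_option autoImplicit false
universe u
open CategoryTheory AlgebraicGeometry

namespace Groth.Agent.H11.NilLim_P3

variable {A : Type u} [CommRing A] {A' : ℕ → Type u} [∀ n, CommRing (A' n)]
  {φ : ∀ n, A' (n + 1) →+* A' n} {π : ∀ n, A →+* A' n}

/-- the comap of a surjective ring map with nil kernel is surjective on prime spectra. -/
lemma comap_surjective_of_nil {R S : Type*} [CommRing R] [CommRing S] (f : R →+* S)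
    (hf : Function.Surjective f) (hnil : ∀ x ∈ RingHom.ker f, IsNilpotent x) :
    Function.Surjective (PrimeSpectrum.comap f) := by
  intro p
  have hker : RingHom.ker f ≤ p.asIdeal := by
    intro x hx
    obtain ⟨k, hk⟩ := hnil x hx
    exact p.isPrime.mem_of_pow_mem k (hk ▸ p.asIdeal.zero_mem)
  have hprime : (p.asIdeal.map f).IsPrime := Ideal.map_isPrime_of_surjective hf hker
  refine ⟨⟨p.asIdeal.map f, hprime⟩, ?_⟩
  ext1
  change (p.asIdeal.map f).comap f = p.asIdeal
  rw [Ideal.comap_map_of_surjective f hf]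
  exact sup_eq_left.2 hker

theorem exists_psi (hlim : FlatCA.IsRingLimit A A' φ π)
    (hsurj : ∀ n, Function.Surjective (φ n)) (hnil : ∀ n, ∀ x ∈ RingHom.ker (φ n), IsNilpotent x)
    (n : ℕ) :
    ∃ ψ : A' n →+* A' 0, ψ.comp (π n) = π 0 ∧ Function.Surjective (PrimeSpectrum.comap ψ) := by
  induction n with
  | zero =>
    refine ⟨RingHom.id _, RingHom.id_comp _, ?_⟩
    intro p
    exact ⟨p, by ext1; rfl⟩
  | succ n ih =>
    obtain ⟨ψ, hψ, hψs⟩ := ih
    refine ⟨ψ.comp (φ n), ?_, ?_⟩
    · rw [RingHom.comp_assoc, hlim.1 n, hψ]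
    · intro p
      obtain ⟨r, hr⟩ := comap_surjective_of_nil (φ n) (hsurj n) (hnil n) p
      obtain ⟨q, hq⟩ := hψs r
      refine ⟨q, ?_⟩
      rw [← hr, ← hq]
      rfl

end Groth.Agent.H11.NilLim_P3
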