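import Mathlib
import Groth.Agent.H69.DirColim
import Groth.Agent.H15.NilPair.Base
import Groth.Agent.H15.NilPair.Defs
import Groth.Agent.H15.NilPair.Sys

/-! (M1) for the S18016 squad (helper15): `phi j` is surjective when `f` is. -/

set_option autoImplicit false
universe u
open CategoryTheory MvPolynomial Limits
open Groth.Agent.H69 Groth.Agent.H15.NilPair
open scoped Classical

namespace Groth.Agent.H11.NilPair_M1

variable {R B D D' P : Type u} [CommRing R] [CommRing B] [CommRing D] [CommRing D'] [CommRing P]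
  [Algebra R B] [Algebra R D] [Algebra R D'] [Algebra R P]
variable {f : B →ₐ[R] D} {i : D' →ₐ[R] D} {q₁ : P →ₐ[R] B} {q₂ : P →ₐ[R] D'}

theorem phi_surj (hf : Function.Surjective f) (j : J f i q₁ q₂) : Function.Surjective (phi j) := by
  intro z
  obtain ⟨⟨q, hq⟩, rfl⟩ := mkq_surjective _ _ z
  have hS : j.1.S = ∅ := j.2.2.2.2.2.1 hf
  have hW : j.1.WD = j.1.WB := by
    unfold Raw.WD Raw.WB
    rw [hS]
  have hq' : q ∈ PS R j.1.WB := by
    rw [← hW]; exact hq
  refine ⟨mkq _ _ ⟨q, hq'⟩, ?_⟩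
  simp only [phi, Raw.phi, tr_mkq]

end Groth.Agent.H11.NilPair_M1
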