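import Mathlib

/-! (PB) for the S18016 squad (helper15): elementwise facts about a pullback square of commutative
rings. -/

set_option autoImplicit false
universe u
open CategoryTheory MvPolynomial Limits

namespace Groth.Agent.H11.NilPair_PB

variable {R B D D' P : Type u} [CommRing R] [CommRing B] [CommRing D] [CommRing D'] [CommRing P]
  [Algebra R B] [Algebra R D] [Algebra R D'] [Algebra R P]
variable {f : B →ₐ[R] D} {i : D' →ₐ[R] D} {q₁ : P →ₐ[R] B} {q₂ : P →ₐ[R] D'}

theorem pullback_facts
    (hP : IsPullback (CommRingCat.ofHom q₁.toRingHom) (CommRingCat.ofHom q₂.toRingHom)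
      (CommRingCat.ofHom f.toRingHom) (CommRingCat.ofHom i.toRingHom)) :
    (∀ p, f (q₁ p) = i (q₂ p)) ∧ (∀ b d', f b = i d' → ∃ p, q₁ p = b ∧ q₂ p = d') ∧
      (∀ p, q₁ p = 0 → q₂ p = 0 → p = 0) := by
  -- compare with the explicit pullback cone
  let c := CommRingCat.pullbackCone (CommRingCat.ofHom f.toRingHom) (CommRingCat.ofHom i.toRingHom)
  let hc := CommRingCat.pullbackConeIsLimit (CommRingCat.ofHom f.toRingHom)
    (CommRingCat.ofHom i.toRingHom)
  let e : CommRingCat.of P ≅ c.pt := hP.isLimit.conePointUniqueUpToIso hc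
  have he1 : e.hom ≫ c.fst = CommRingCat.ofHom q₁.toRingHom :=
    hP.isLimit.conePointUniqueUpToIso_hom_comp hc WalkingCospan.left
  have he2 : e.hom ≫ c.snd = CommRingCat.ofHom q₂.toRingHom :=
    hP.isLimit.conePointUniqueUpToIso_hom_comp hc WalkingCospan.right
  have h1 : ∀ p : P, (e.hom p).1.1 = q₁ p := fun p => by
    have := congrArg (fun φ : CommRingCat.of P ⟶ CommRingCat.of B => φ.hom p) he1
    exact this
  have h2 : ∀ p : P, (e.hom p).1.2 = q₂ p := fun p => by
    have := congrArg (fun φ : CommRingCat.of P ⟶ CommRingCat.of D' => φ.hom p) he2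
    exact this
  refine ⟨?_, ?_, ?_⟩
  · intro p
    have := congrArg (fun φ : CommRingCat.of P ⟶ CommRingCat.of D => φ.hom p) hP.w
    exact this
  · intro b d' hbd
    let z : c.pt := ⟨(b, d'), hbd⟩
    refine ⟨e.inv z, ?_, ?_⟩
    · rw [← h1]
      have : e.hom (e.inv z) = z := by
        have := congrArg (fun φ : c.pt ⟶ c.pt => φ.hom z) e.inv_hom_id
        exact this
      rw [this]
    · rw [← h2]
      have : e.hom (e.inv z) = z := by
        have := congrArg (fun φ : c.pt ⟶ c.pt => φ.hom z) e.inv_hom_id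
        exact this
      rw [this]
  · intro p hp1 hp2
    have hz : e.hom p = 0 := by
      apply Subtype.ext
      apply Prod.ext
      · rw [h1, hp1]; rfl
      · rw [h2, hp2]; rfl
    have : e.inv (e.hom p) = p := by
      have := congrArg (fun φ : CommRingCat.of P ⟶ CommRingCat.of P => φ.hom p) e.hom_inv_id
      exact this
    rw [← this, hz, map_zero]

end Groth.Agent.H11.NilPair_PB
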