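import Mathlib
import Groth.Agent.H69.DirColim
import Groth.Agent.H15.NilPair.Base
import Groth.Agent.H15.NilPair.Defs
import Groth.Agent.H15.NilPair.Sys

/-! (SB), (SDa), (SDc) for the S18016 squad (helper15): surjectivity statements obtained from the
indices without relations. -/

set_option autoImplicit false
universe u
open CategoryTheory MvPolynomial Limits
open Groth.Agent.H69 Groth.Agent.H15.NilPair
open scoped Classical

namespace Groth.Agent.H11.NilPair_SB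

variable {R B D D' P : Type u} [CommRing R] [CommRing B] [CommRing D] [CommRing D'] [CommRing P]
  [Algebra R B] [Algebra R D] [Algebra R D'] [Algebra R P]
variable {f : B →ₐ[R] D} {i : D' →ₐ[R] D} {q₁ : P →ₐ[R] B} {q₂ : P →ₐ[R] D'}

/-- an index without relations is valid as soon as clauses 5 and 7 are. -/
theorem valid_of_empty (f : B →ₐ[R] D) (i : D' →ₐ[R] D) (q₁ : P →ₐ[R] B) (q₂ : P →ₐ[R] D')
    (Z : Finset P) (S : Finset D') (h5 : Function.Surjective f → S = ∅)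
    (h7 : f.toRingHom.IsIntegral → S = ∅) :
    Valid f i q₁ q₂ ({ Z := Z, S := S, TB := ∅, T' := ∅, N := ∅ } : Raw R P D') := by
  refine ⟨?_, ?_, ?_, ?_, ?_, ?_, ?_⟩
  · intro t ht; exact absurd ht (Finset.notMem_empty t)
  · intro t ht; exact absurd ht (Finset.notMem_empty t)
  · intro t ht; exact absurd ht (Finset.notMem_empty t)
  · intro x hx
    simp at hx
  · exact h5
  · intro _ _ x hx
    simp at hx
  · intro hint s hs
    have hS : S = ∅ := h7 hint
    have hs' : s ∈ S := hs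
    rw [hS] at hs'
    exact absurd hs' (Finset.notMem_empty s)

/-- the index with one `P`-variable. -/
noncomputable def idxP (f : B →ₐ[R] D) (i : D' →ₐ[R] D) (q₁ : P →ₐ[R] B) (q₂ : P →ₐ[R] D')
    (p : P) : J f i q₁ q₂ :=
  ⟨{ Z := {p}, S := ∅, TB := ∅, T' := ∅, N := ∅ },
    valid_of_empty f i q₁ q₂ {p} ∅ (fun _ => rfl) (fun _ => rfl)⟩

/-- the index with one `D'`-variable. -/
noncomputable def idxD (f : B →ₐ[R] D) (i : D' →ₐ[R] D) (q₁ : P →ₐ[R] B) (q₂ : P →ₐ[R] D')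
    (d' : D') (h5 : ¬ Function.Surjective f) (h7 : ¬ f.toRingHom.IsIntegral) : J f i q₁ q₂ :=
  ⟨{ Z := ∅, S := {d'}, TB := ∅, T' := ∅, N := ∅ },
    valid_of_empty f i q₁ q₂ ∅ {d'} (fun h => absurd h h5) (fun h => absurd h h7)⟩

theorem surj_B (hq₁ : Function.Surjective q₁) :
    ∀ b : B, ∃ (j : J f i q₁ q₂) (x : FB j), toB j x = b := by
  intro b
  obtain ⟨p, rfl⟩ := hq₁ b
  have hmem : (Sum.inl p : P ⊕ D') ∈ (idxP f i q₁ q₂ p).1.WB :=
    Finset.inl_mem_disjSum.mpr (Finset.mem_singleton_self p)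
  refine ⟨idxP f i q₁ q₂ p, mkq _ _ ⟨X (Sum.inl p), X_mem_PS hmem⟩, ?_⟩
  simp only [toB, toE_mkq]
  simp [evB]

theorem surj_D'_of_surj (hf : Function.Surjective f)
    (hPb : ∀ b d', f b = i d' → ∃ p, q₁ p = b ∧ q₂ p = d') :
    ∀ d' : D', ∃ (j : J f i q₁ q₂) (y : FD' j), toD' j y = d' := by
  intro d'
  obtain ⟨b, hb⟩ := hf (i d')
  obtain ⟨p, -, hp⟩ := hPb b d' hb
  have hmem : (Sum.inl p : P ⊕ D') ∈ (idxP f i q₁ q₂ p).1.WD :=
    Finset.inl_mem_disjSum.mpr (Finset.mem_singleton_self p)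
  refine ⟨idxP f i q₁ q₂ p, mkq _ _ ⟨X (Sum.inl p), X_mem_PS hmem⟩, ?_⟩
  simp only [toD', toE_mkq]
  simp [evD', hp]

theorem surj_D'_of_not (hf : ¬ Function.Surjective f) (hint : ¬ f.toRingHom.IsIntegral) :
    ∀ d' : D', ∃ (j : J f i q₁ q₂) (y : FD' j), toD' j y = d' := by
  intro d'
  have hmem : (Sum.inr d' : P ⊕ D') ∈ (idxD f i q₁ q₂ d' hf hint).1.WD :=
    Finset.inr_mem_disjSum.mpr (Finset.mem_singleton_self d')
  refine ⟨idxD f i q₁ q₂ d' hf hint, mkq _ _ ⟨X (Sum.inr d'), X_mem_PS hmem⟩, ?_⟩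
  simp only [toD', toE_mkq]
  simp [evD']

end Groth.Agent.H11.NilPair_SB
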