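import Mathlib
import Groth.Agent.H69.DirColim
import Groth.Agent.H15.NilPair.Base
import Groth.Agent.H15.NilPair.Defs
import Groth.Agent.H15.NilPair.Sys

/-! (SDb) for the S18016 squad (helper15): surjectivity onto `D'` in the integral, non-surjective
mode. -/

set_option autoImplicit false
universe u
open CategoryTheory MvPolynomial Limits
open Groth.Agent.H69 Groth.Agent.H15.NilPair
open scoped Classical

namespace Groth.Agent.H11.NilPair_SDb

variable {R B D D' P : Type u} [CommRing R] [CommRing B] [CommRing D] [CommRing D'] [CommRing P]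
  [Algebra R B] [Algebra R D] [Algebra R D'] [Algebra R P]
variable {f : B →ₐ[R] D} {i : D' →ₐ[R] D} {q₁ : P →ₐ[R] B} {q₂ : P →ₐ[R] D'}

theorem surj_D'_of_integral (hf : ¬ Function.Surjective f) (hint : f.toRingHom.IsIntegral)
    (hw : ∀ p, f (q₁ p) = i (q₂ p)) (hq₁ : Function.Surjective q₁)
    (hnil : ∀ x ∈ RingHom.ker i.toRingHom, IsNilpotent x) :
    ∀ d' : D', ∃ (j : J f i q₁ q₂) (y : FD' j), toD' j y = d' := by
  intro d'
  obtain ⟨h, hmonic, hroot⟩ := hint (i d')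
  set n := h.natDegree with hn
  choose pc hpc using hq₁
  let c : Fin n → P := fun k => pc (h.coeff k)
  let xd : MvPolynomial (P ⊕ D') R := X (Sum.inr d')
  let G : MvPolynomial (P ⊕ D') R := xd ^ n + ∑ k : Fin n, X (Sum.inl (c k)) * xd ^ (k : ℕ)
  have hevD' : evD' q₂ G = d' ^ n + ∑ k : Fin n, q₂ (c k) * d' ^ (k : ℕ) := by
    simp [G, xd, evD']
  have hh : Polynomial.eval₂ f.toRingHom (i d') h =
      (i d') ^ n + ∑ k : Fin n, f (h.coeff k) * (i d') ^ (k : ℕ) := by
    conv_lhs => rw [hmonic.as_sum]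
    rw [Polynomial.eval₂_add, Polynomial.eval₂_pow, Polynomial.eval₂_X,
      Polynomial.eval₂_finsetSum, Finset.sum_range]
    simp [Polynomial.eval₂_mul, Polynomial.eval₂_C, Polynomial.eval₂_pow, Polynomial.eval₂_X]
    rfl
  have hevD : evD i q₂ G = 0 := by
    rw [evD_eq_i_evD', hevD', map_add, map_pow, map_sum, ← hroot, hh]
    congr 1
    apply Finset.sum_congr rfl
    intro k _
    rw [map_mul, map_pow, ← hw, hpc]
  have hk : evD' q₂ G ∈ RingHom.ker i.toRingHom := hevD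
  obtain ⟨m, hm⟩ := hnil _ hk
  have hm' : (evD' q₂ G) ^ (m + 1) = 0 := by rw [pow_succ, hm, zero_mul]
  -- the index
  let Z : Finset P := Finset.univ.image c
  let j₀ : Raw R P D' := { Z := Z, S := {d'}, TB := ∅, T' := {G ^ (m + 1)}, N := {G} }
  have hxd : xd ∈ PS R j₀.WD :=
    X_mem_PS (Finset.inr_mem_disjSum.mpr (Finset.mem_singleton_self d'))
  have hxcB : ∀ k : Fin n, (X (Sum.inl (c k)) : MvPolynomial (P ⊕ D') R) ∈ PS R j₀.WB := fun k =>
    X_mem_PS (Finset.inl_mem_disjSum.mpr (Finset.mem_image_of_mem c (Finset.mem_univ k)))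
  have hxcD : ∀ k : Fin n, (X (Sum.inl (c k)) : MvPolynomial (P ⊕ D') R) ∈ PS R j₀.WD := fun k =>
    PS_mono Raw.WB_sub_WD (hxcB k)
  have hG : G ∈ PS R j₀.WD :=
    Subalgebra.add_mem _ (Subalgebra.pow_mem _ hxd n)
      (Subalgebra.sum_mem _ fun k _ => Subalgebra.mul_mem _ (hxcD k) (Subalgebra.pow_mem _ hxd k))
  have hGpow : G ^ (m + 1) ∈ PS R j₀.WD := Subalgebra.pow_mem _ hG _
  have hGTD : G ∈ j₀.TD := Raw.N_sub_TD (Finset.mem_singleton_self G)
  have hvalid : Valid f i q₁ q₂ j₀ := by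
    refine ⟨?_, ?_, ?_, ?_, ?_, ?_, ?_⟩
    · intro t ht; exact absurd ht (Finset.notMem_empty t)
    · intro t ht
      obtain rfl : t = G ^ (m + 1) := Finset.mem_singleton.1 ht
      exact ⟨hGpow, by rw [map_pow, hm']⟩
    · intro t ht
      obtain rfl : t = G := Finset.mem_singleton.1 ht
      exact ⟨hG, hevD⟩
    · intro x hx
      have hxG : (x : MvPolynomial (P ⊕ D') R) = G := by
        simpa [j₀] using hx
      refine ⟨m + 1, ?_⟩
      rw [← map_pow]
      apply mkq_eq_zero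
      show ((x ^ (m + 1) : PS R j₀.WD) : MvPolynomial (P ⊕ D') R) ∈ j₀.T'
      rw [SubmonoidClass.coe_pow, hxG]
      exact Finset.mem_singleton_self _
    · intro hs; exact absurd hs hf
    · intro hs; exact absurd hs hf
    · intro _ s hs
      obtain rfl : s = d' := Finset.mem_singleton.1 hs
      let pB : Polynomial j₀.CB := Polynomial.X ^ n +
        ∑ k : Fin n, Polynomial.C (mkq j₀.WB j₀.TB ⟨X (Sum.inl (c k)), hxcB k⟩) *
          Polynomial.X ^ (k : ℕ)
      refine ⟨pB, Polynomial.monic_X_pow_add (Polynomial.degree_sum_fin_lt _), ?_⟩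
      have hphi : ∀ k : Fin n, j₀.phi (mkq j₀.WB j₀.TB ⟨X (Sum.inl (c k)), hxcB k⟩) =
          mkq j₀.WD j₀.TD ⟨X (Sum.inl (c k)), hxcD k⟩ := fun k => rfl
      have heval : Polynomial.eval₂ j₀.phi.toRingHom
          (mkq j₀.WD j₀.TD ⟨X (Sum.inr s), hxd⟩) pB =
          mkq j₀.WD j₀.TD ⟨G, hG⟩ := by
        have hGeq : (⟨G, hG⟩ : PS R j₀.WD) = (⟨xd, hxd⟩ : PS R j₀.WD) ^ n +
            ∑ k : Fin n, (⟨X (Sum.inl (c k)), hxcD k⟩ : PS R j₀.WD) *
              (⟨xd, hxd⟩ : PS R j₀.WD) ^ (k : ℕ) := by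
          apply Subtype.ext
          simp [G, AddSubmonoidClass.coe_finsetSum]
        rw [hGeq, map_add, map_pow, map_sum]
        simp only [pB, Polynomial.eval₂_add, Polynomial.eval₂_pow, Polynomial.eval₂_X,
          Polynomial.eval₂_finsetSum, Polynomial.eval₂_mul, Polynomial.eval₂_C, map_mul, map_pow]
        congr 1
      rw [heval]
      exact mkq_eq_zero _ hGTD
  refine ⟨⟨j₀, hvalid⟩, mkq _ _ ⟨xd, hxd⟩, ?_⟩
  simp only [toD', toE_mkq]
  simp [xd, evD']

end Groth.Agent.H11.NilPair_SDb
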