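import Mathlib
import Groth.Prelude.Def_QCohCat
import Groth.Prelude.Def_Coh
import Groth.Agent.H22.QCohLimits
import Groth.Agent.H8.CohAffine
import Groth.Agent.H8.IsoCover
import Groth.Agent.H8.SectionsExact

/-! (N1b) for the S11129 squad (helper22): a coherent module on a Noetherian scheme is a Noetherian
object of `QCoh`. -/

set_option autoImplicit false
universe u
open CategoryTheory CategoryTheory.Limits AlgebraicGeometry TopologicalSpace Opposite

namespace Groth.Agent.H11.NoethObj_N1b

theorem mono_hom_of_mono {Y : Scheme.{u}} {A B : QCohCat.QCoh Y} (f : A ⟶ B) [Mono f] :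
    Mono f.hom := by
  haveI : A.obj.IsQuasicoherent := A.property
  haveI : B.obj.IsQuasicoherent := B.property
  have hK : (kernel f.hom).IsQuasicoherent :=
    Groth.Agent.H22.QCohLimits.isQuasicoherent_kernel f.hom
  let K : QCohCat.QCoh Y := ⟨kernel f.hom, hK⟩
  let k1 : K ⟶ A := ObjectProperty.homMk (kernel.ι f.hom)
  let k2 : K ⟶ A := ObjectProperty.homMk 0
  have h12 : k1 ≫ f = k2 ≫ f := by
    apply ObjectProperty.hom_ext
    show kernel.ι f.hom ≫ f.hom = 0 ≫ f.hom
    rw [kernel.condition, zero_comp]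
  have h : k1 = k2 := (cancel_mono f).1 h12
  have h0 : kernel.ι f.hom = 0 := congrArg (fun t : K ⟶ A => t.hom) h
  exact Preadditive.mono_of_kernel_zero h0

theorem noeth_of_coh (Y : Scheme.{u}) [IsNoetherian Y] (M : QCohCat.QCoh Y)
    (h : Coh.IsCoh M.obj) : IsNoetherianObject M := by
  classical
  rw [isNoetherianObject_iff_monotone_chain_condition]
  intro f
  haveI : M.obj.IsQuasicoherent := h.1
  haveI : SheafOfModules.IsFiniteType (R := Y.ringCatSheaf) M.obj := h.2
  -- the section submodules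
  let S : ℕ → (V : Y.Opens) → Submodule Γ(Y, V) Γ(M.obj, V) := fun k V =>
    LinearMap.range (Groth.Agent.H8.appₗ (f k).arrow.hom V)
  have hSmono : ∀ V, Monotone (fun k => S k V) := by
    intro V k k' hkk'
    have hle : f k ≤ f k' := f.monotone hkk'
    rintro _ ⟨x, rfl⟩
    refine ⟨(Subobject.ofLE _ _ hle).hom.app V x, ?_⟩
    have hfac : Subobject.ofLE _ _ hle ≫ (f k').arrow = (f k).arrow := Subobject.ofLE_arrow hle
    have := congrArg (fun t : ((f k : QCohCat.QCoh Y) ⟶ M) => t.hom.app V x) hfac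
    exact this
  -- Noetherian sections on affines
  have hNoeth : ∀ V : Y.affineOpens,
      IsNoetherian Γ(Y, (V : Y.Opens)) Γ(M.obj, (V : Y.Opens)) := by
    intro V
    haveI : IsNoetherianRing Γ(Y, (V : Y.Opens)) := IsLocallyNoetherian.component_noetherian V
    haveI : Module.Finite Γ(Y, (V : Y.Opens)) Γ(M.obj, (V : Y.Opens)) :=
      Groth.Agent.H8.finite_sections_of_isAffineOpen M.obj V.2
    exact isNoetherian_of_isNoetherianRing_of_finite _ _
  have hstab : ∀ V : Y.affineOpens, ∃ n, ∀ m, n ≤ m → S n V = S m V := by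
    intro V
    haveI := hNoeth V
    exact monotone_stabilizes_iff_noetherian.2 inferInstance ⟨fun k => S k V, hSmono V⟩
  choose N hN using hstab
  -- finite affine cover
  obtain ⟨t, ht⟩ := isCompact_univ.elim_finite_subcover
    (fun V : Y.affineOpens => ((V : Y.Opens) : Set Y)) (fun V => (V : Y.Opens).2) (by
      intro x _
      obtain ⟨_, ⟨U, hU, rfl⟩, hxU, -⟩ :=
        Y.isBasis_affineOpens.exists_subset_of_mem_open (Set.mem_univ x) isOpen_univ
      exact Set.mem_iUnion.2 ⟨⟨U, hU⟩, hxU⟩)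
  refine ⟨t.sup N, fun m hm => ?_⟩
  have hle : f (t.sup N) ≤ f m := f.monotone hm
  apply le_antisymm hle
  -- the inclusion is an iso
  let g := Subobject.ofLE _ _ hle
  have hfac : g ≫ (f m).arrow = (f (t.sup N)).arrow := Subobject.ofLE_arrow hle
  haveI : Mono g := mono_of_mono_fac hfac
  haveI hm1 : Mono g.hom := mono_hom_of_mono g
  haveI hm2 : Mono (f m).arrow.hom := mono_hom_of_mono _
  haveI : ((f (t.sup N) : QCohCat.QCoh Y)).obj.IsQuasicoherent :=
    (f (t.sup N) : QCohCat.QCoh Y).property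
  haveI : ((f m : QCohCat.QCoh Y)).obj.IsQuasicoherent := (f m : QCohCat.QCoh Y).property
  have hiso : IsIso g.hom := by
    refine Groth.Agent.H8.isIso_of_bijective_affine_cover g.hom
      (fun i : t => ((i.1 : Y.affineOpens) : Y.Opens)) ?_ (fun i => i.1.2) ?_
    · apply TopologicalSpace.IsOpenCover.mk
      apply top_unique
      intro x _
      obtain ⟨V, hV, hx⟩ := Set.mem_iUnion₂.1 (ht (Set.mem_univ x))
      exact Opens.mem_iSup.2 ⟨⟨V, hV⟩, hx⟩
    · intro i
      refine ⟨Groth.Agent.H8.app_injective_of_mono g.hom _, ?_⟩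
      intro y
      have hy : (f m).arrow.hom.app _ y ∈ S m (i.1 : Y.Opens) := ⟨y, rfl⟩
      have hSeq : S (t.sup N) (i.1 : Y.Opens) = S m (i.1 : Y.Opens) := by
        have h1 := hN i.1 (t.sup N) (Finset.le_sup i.2)
        have h2 := hN i.1 m ((Finset.le_sup i.2).trans hm)
        rw [← h1, ← h2]
      rw [← hSeq] at hy
      obtain ⟨x, hx⟩ := hy
      refine ⟨x, ?_⟩
      apply Groth.Agent.H8.app_injective_of_mono (f m).arrow.hom
      have := congrArg (fun t' : ((f (t.sup N) : QCohCat.QCoh Y) ⟶ M) => t'.hom.app _ x) hfac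
      exact this.trans hx
  haveI : IsIso g := (ObjectProperty.isIso_hom_iff g).1 hiso
  exact Subobject.le_of_comm (inv g) (by rw [IsIso.inv_comp_eq, hfac])

end Groth.Agent.H11.NoethObj_N1b
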