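import Mathlib.RingTheory.NoetherNormalization
import Mathlib.RingTheory.Localization.Integral
import Mathlib.RingTheory.Localization.BaseChange
import Mathlib.RingTheory.MvPolynomial.Localization
import Mathlib.RingTheory.AlgebraicIndependent.Basic
import Mathlib.RingTheory.FiniteType
import Mathlib.RingTheory.FiniteStability
import Mathlib.Tactic

set_option autoImplicit false

universe u

namespace Groth.Agent.H11

open TensorProduct MvPolynomial

attribute [local instance] MvPolynomial.algebraMvPolynomial

section Scaling

variable {K : Type u} [Field K] {d : ℕ} (c : Fin d → K)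

/-- the scaling endomorphism `X_i ↦ c_i X_i` -/
noncomputable def scaleHom : MvPolynomial (Fin d) K →ₐ[K] MvPolynomial (Fin d) K :=
  aeval (fun i => C (c i) * X i)

theorem scaleHom_X (i : Fin d) : scaleHom c (X i) = C (c i) * X i := by
  simp [scaleHom]

theorem scaleHom_comp (c c' : Fin d → K) (h : ∀ i, c i * c' i = 1) :
    (scaleHom c).comp (scaleHom c') = AlgHom.id K _ := by
  apply MvPolynomial.algHom_ext
  intro i
  simp only [AlgHom.comp_apply, scaleHom_X, map_mul, AlgHom.id_apply]
  rw [show (scaleHom c) (C (c' i)) = C (c' i) from by simp [scaleHom], ← mul_assoc, ← C_mul,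
    mul_comm (c' i), h i, C_1, one_mul]

theorem scaleHom_bijective (hc : ∀ i, c i ≠ 0) : Function.Bijective (scaleHom c) := by
  have h1 : (scaleHom c).comp (scaleHom fun i => (c i)⁻¹) = AlgHom.id K _ :=
    scaleHom_comp c _ fun i => mul_inv_cancel₀ (hc i)
  have h2 : (scaleHom fun i => (c i)⁻¹).comp (scaleHom c) = AlgHom.id K _ :=
    scaleHom_comp _ c fun i => inv_mul_cancel₀ (hc i)
  constructor
  · intro p q hpq
    have := congrArg (scaleHom fun i => (c i)⁻¹) hpq
    have e : ∀ x, (scaleHom fun i => (c i)⁻¹) (scaleHom c x) = x := fun x => by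
      rw [← AlgHom.comp_apply, h2, AlgHom.id_apply]
    rwa [e, e] at this
  · intro p
    exact ⟨(scaleHom fun i => (c i)⁻¹) p, by rw [← AlgHom.comp_apply, h1, AlgHom.id_apply]⟩

end Scaling

section Main

variable {R S : Type u} [CommRing R] [IsDomain R] [CommRing S] [Algebra R S]

omit [IsDomain R] in
/-- the localization property of `K ⊗ S` -/
theorem isLocalizedModule_tensor_fractionRing :
    IsLocalizedModule (nonZeroDivisors R)
      (TensorProduct.mk R (FractionRing R) S 1) :=
  (isLocalizedModule_iff_isBaseChange (nonZeroDivisors R) (FractionRing R) _).mpr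
    (TensorProduct.isBaseChange R S (FractionRing R))

theorem nontrivial_tensor_fractionRing (hinj : Function.Injective (algebraMap R S)) :
    Nontrivial (FractionRing R ⊗[R] S) := by
  have := isLocalizedModule_tensor_fractionRing (R := R) (S := S)
  refine ⟨⟨0, 1, fun h => ?_⟩⟩
  have h1 : TensorProduct.mk R (FractionRing R) S 1 (1 : S) = 0 := by
    show (1 : FractionRing R) ⊗ₜ[R] (1 : S) = 0
    rw [← Algebra.TensorProduct.one_def]
    exact h.symm
  obtain ⟨⟨m, hm⟩, hm1⟩ := (IsLocalizedModule.eq_zero_iff (nonZeroDivisors R) _).mp h1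
  have h2 : algebraMap R S m = 0 := by
    have : m • (1 : S) = 0 := hm1
    rwa [Algebra.smul_def, mul_one] at this
  have h3 : m = 0 := hinj (by rw [h2, map_zero])
  exact nonZeroDivisors.ne_zero hm h3

/-- Key step: a normalizing map `g'` defined over `K` with `g' X_i = 1 ⊗ y_i`. -/
theorem exists_normalizing_map [Algebra.FiniteType R S]
    (hinj : Function.Injective (algebraMap R S)) :
    ∃ (d : ℕ) (y : Fin d → S)
      (g : MvPolynomial (Fin d) (FractionRing R) →ₐ[FractionRing R] (FractionRing R ⊗[R] S)),
      Function.Injective g ∧ g.toRingHom.IsIntegral ∧ ∀ i, g (X i) = (1 : FractionRing R) ⊗ₜ[R] y i := by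
  have := nontrivial_tensor_fractionRing hinj
  have := isLocalizedModule_tensor_fractionRing (R := R) (S := S)
  have : Algebra.FiniteType (FractionRing R) (FractionRing R ⊗[R] S) :=
    Algebra.FiniteType.baseChange (FractionRing R)
  obtain ⟨d, g, hginj, hgint⟩ :=
    exists_integral_inj_algHom_of_fg (FractionRing R) (FractionRing R ⊗[R] S)
  have hsurj : ∀ i : Fin d, ∃ x : S × nonZeroDivisors R,
      x.2 • g (X i) = TensorProduct.mk R (FractionRing R) S 1 x.1 :=
    fun i => IsLocalizedModule.surj (nonZeroDivisors R) _ (g (X i))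
  choose ym hym using hsurj
  let c : Fin d → FractionRing R := fun i => algebraMap R (FractionRing R) ((ym i).2 : R)
  have hc : ∀ i, c i ≠ 0 := fun i => by
    intro h
    have : ((ym i).2 : R) = 0 :=
      IsFractionRing.injective R (FractionRing R) (h.trans (map_zero _).symm)
    exact nonZeroDivisors.ne_zero (ym i).2.2 this
  have hbij := scaleHom_bijective c hc
  refine ⟨d, fun i => (ym i).1, g.comp (scaleHom c), ?_, ?_, ?_⟩
  · exact hginj.comp hbij.1
  · have : (g.comp (scaleHom c)).toRingHom = g.toRingHom.comp (scaleHom c).toRingHom := rfl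
    rw [this]
    exact RingHom.IsIntegral.trans _ _ (RingHom.isIntegral_of_surjective _ hbij.2) hgint
  · intro i
    rw [AlgHom.comp_apply, scaleHom_X, map_mul, ← MvPolynomial.algebraMap_eq, AlgHom.commutes]
    have := hym i
    rw [Submonoid.smul_def, ← algebraMap_smul (FractionRing R) ((ym i).2 : R) (g (X i))] at this
    rw [← Algebra.smul_def]
    exact this

end Main

end Groth.Agent.H11
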