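import Groth.Agent.H11.NoetherDomain

set_option autoImplicit false

universe u

namespace Groth.Agent.H11

open TensorProduct MvPolynomial

attribute [local instance] MvPolynomial.algebraMvPolynomial

variable {R S : Type u} [CommRing R] [IsDomain R] [CommRing S] [Algebra R S]

omit [IsDomain R] in
theorem algebraicIndependent_of_normalizing {d : ℕ} (y : Fin d → S)
    (g : MvPolynomial (Fin d) (FractionRing R) →ₐ[FractionRing R] (FractionRing R ⊗[R] S))
    (hg : Function.Injective g) (hgy : ∀ i, g (X i) = (1 : FractionRing R) ⊗ₜ[R] y i) :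
    AlgebraicIndependent R y := by
  have h1 : AlgebraicIndependent (FractionRing R) (fun i => g (X i)) := by
    rw [algebraicIndependent_iff_injective_aeval]
    have : (aeval fun i => g (X i)) = g := by
      apply MvPolynomial.algHom_ext
      intro i
      simp
    rw [this]
    exact hg
  have h2 : AlgebraicIndependent R (fun i => g (X i)) :=
    h1.restrictScalars (IsFractionRing.injective R (FractionRing R))
  apply AlgebraicIndependent.of_comp
    (Algebra.TensorProduct.includeRight : S →ₐ[R] FractionRing R ⊗[R] S)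
  convert h2 using 1
  ext i
  simp [hgy]

theorem exists_smul_isIntegral {d : ℕ} (y : Fin d → S)
    (g : MvPolynomial (Fin d) (FractionRing R) →ₐ[FractionRing R] (FractionRing R ⊗[R] S))
    (hgint : g.toRingHom.IsIntegral) (hgy : ∀ i, g (X i) = (1 : FractionRing R) ⊗ₜ[R] y i)
    (s : S) :
    ∃ m : R, m ≠ 0 ∧ IsIntegral (Algebra.adjoin R (Set.range y)) (m • s) := by
  have hloc := isLocalizedModule_tensor_fractionRing (R := R) (S := S)
  let algPKT : Algebra (MvPolynomial (Fin d) (FractionRing R)) (FractionRing R ⊗[R] S) :=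
    g.toRingHom.toAlgebra
  let algPRT : Algebra (MvPolynomial (Fin d) R) (FractionRing R ⊗[R] S) :=
    (g.toRingHom.comp (algebraMap (MvPolynomial (Fin d) R)
      (MvPolynomial (Fin d) (FractionRing R)))).toAlgebra
  have : IsScalarTower (MvPolynomial (Fin d) R) (MvPolynomial (Fin d) (FractionRing R))
      (FractionRing R ⊗[R] S) := IsScalarTower.of_algebraMap_eq (fun _ => rfl)
  have hx : IsIntegral (MvPolynomial (Fin d) (FractionRing R))
      ((1 : FractionRing R) ⊗ₜ[R] s) := hgint _
  obtain ⟨⟨c, hc⟩, hint⟩ := IsIntegral.exists_multiple_integral_of_isLocalization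
    (Submonoid.map (C : R →+* MvPolynomial (Fin d) R) (nonZeroDivisors R))
    ((1 : FractionRing R) ⊗ₜ[R] s) hx
  obtain ⟨m₀, hm₀, rfl⟩ := hc
  -- the algebra map PR → T is ι ∘ aeval y
  have hmap : ∀ p : MvPolynomial (Fin d) R,
      algebraMap (MvPolynomial (Fin d) R) (FractionRing R ⊗[R] S) p =
        (1 : FractionRing R) ⊗ₜ[R] (aeval y p) := by
    have h : (algebraMap (MvPolynomial (Fin d) R) (FractionRing R ⊗[R] S)) =
        (Algebra.TensorProduct.includeRight : S →ₐ[R] FractionRing R ⊗[R] S).toRingHom.comp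
          (aeval y : MvPolynomial (Fin d) R →ₐ[R] S).toRingHom := by
      apply MvPolynomial.ringHom_ext
      · intro r
        show g (MvPolynomial.map (algebraMap R (FractionRing R)) (C r)) =
          (1 : FractionRing R) ⊗ₜ[R] (aeval y (C r))
        rw [map_C, ← MvPolynomial.algebraMap_eq, AlgHom.commutes, aeval_C,
          Algebra.TensorProduct.algebraMap_apply, Algebra.algebraMap_self, RingHom.id_apply,
          Algebra.algebraMap_eq_smul_one r, Algebra.algebraMap_eq_smul_one (A := S) r,
          TensorProduct.smul_tmul]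
      · intro i
        show g (MvPolynomial.map (algebraMap R (FractionRing R)) (X i)) =
          (1 : FractionRing R) ⊗ₜ[R] (aeval y (X i))
        rw [map_X, hgy, aeval_X]
    intro p
    rw [h]
    rfl
  obtain ⟨Q, hQm, hQ⟩ := hint
  have ht : (⟨C m₀, Submonoid.mem_map_of_mem _ hm₀⟩ :
      Submonoid.map (C : R →+* MvPolynomial (Fin d) R) (nonZeroDivisors R)) •
        ((1 : FractionRing R) ⊗ₜ[R] s) = (1 : FractionRing R) ⊗ₜ[R] (m₀ • s) := by
    rw [Submonoid.smul_def, Algebra.smul_def, hmap, aeval_C,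
      Algebra.TensorProduct.tmul_mul_tmul, one_mul, ← Algebra.smul_def]
  rw [ht] at hQ
  have e : (1 : FractionRing R) ⊗ₜ[R]
      (Polynomial.eval₂ (aeval y : MvPolynomial (Fin d) R →ₐ[R] S).toRingHom (m₀ • s) Q) = 0 := by
    have h1 := Polynomial.hom_eval₂ Q (aeval y : MvPolynomial (Fin d) R →ₐ[R] S).toRingHom
      (Algebra.TensorProduct.includeRight : S →ₐ[R] FractionRing R ⊗[R] S).toRingHom (m₀ • s)
    have h2 : (Algebra.TensorProduct.includeRight : S →ₐ[R] FractionRing R ⊗[R] S).toRingHom.comp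
        (aeval y : MvPolynomial (Fin d) R →ₐ[R] S).toRingHom =
        algebraMap (MvPolynomial (Fin d) R) (FractionRing R ⊗[R] S) := by
      ext p
      · exact (hmap _).symm
      · exact (hmap _).symm
    rw [h2] at h1
    exact h1.trans hQ
  obtain ⟨⟨m₁, hm₁⟩, hm₁z⟩ := (IsLocalizedModule.eq_zero_iff (nonZeroDivisors R)
    (TensorProduct.mk R (FractionRing R) S 1)).mp e
  rw [Submonoid.smul_def] at hm₁z
  have h3 : Polynomial.eval₂ (aeval y : MvPolynomial (Fin d) R →ₐ[R] S).toRingHom (m₀ • s)
      (Polynomial.C (C m₁) * Q) = 0 := by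
    rw [Polynomial.eval₂_mul, Polynomial.eval₂_C]
    show (aeval y) (C m₁) * _ = 0
    rw [aeval_C, ← Algebra.smul_def]
    exact hm₁z
  have h4 := RingHom.isIntegralElem_leadingCoeff_mul
    (aeval y : MvPolynomial (Fin d) R →ₐ[R] S).toRingHom _ (m₀ • s) h3
  rw [Polynomial.leadingCoeff_mul_monic hQm, Polynomial.leadingCoeff_C] at h4
  obtain ⟨Q₂, hQ₂m, hQ₂⟩ := h4
  let f₀ : MvPolynomial (Fin d) R →ₐ[R] Algebra.adjoin R (Set.range y) :=
    (aeval y).codRestrict _ (fun p => by
      rw [Algebra.adjoin_range_eq_range_aeval]; exact ⟨p, rfl⟩)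
  refine ⟨m₁ * m₀, mul_ne_zero (nonZeroDivisors.ne_zero hm₁) (nonZeroDivisors.ne_zero hm₀),
    Q₂.map f₀.toRingHom, hQ₂m.map _, ?_⟩
  rw [Polynomial.eval₂_map]
  have h5 : (algebraMap (Algebra.adjoin R (Set.range y)) S).comp f₀.toRingHom =
      (aeval y : MvPolynomial (Fin d) R →ₐ[R] S).toRingHom := RingHom.ext fun p => rfl
  rw [h5]
  have h6 : (m₁ * m₀) • s =
      (aeval y : MvPolynomial (Fin d) R →ₐ[R] S).toRingHom (C m₁) * m₀ • s := by
    show _ = (aeval y) (C m₁) * _
    rw [aeval_C, ← Algebra.smul_def, mul_smul]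
  rw [h6]
  exact hQ₂

theorem noether_normalization_over_domain [Algebra.FiniteType R S]
    (hinj : Function.Injective (algebraMap R S)) :
    ∃ (d : ℕ) (y : Fin d → S) (S' : Subalgebra R S), AlgebraicIndependent R y ∧
      (∀ i, y i ∈ S') ∧ S'.FG ∧
      (∀ s ∈ S', IsIntegral (Algebra.adjoin R (Set.range y)) s) ∧
      ∃ f : R, f ≠ 0 ∧ ∀ s : S, ∃ n : ℕ, (f ^ n) • s ∈ S' := by
  classical
  obtain ⟨d, y, g, hginj, hgint, hgy⟩ := exists_normalizing_map (R := R) (S := S) hinj
  have hai := algebraicIndependent_of_normalizing y g hginj hgy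
  have hstep := exists_smul_isIntegral y g hgint hgy
  choose m hm0 hmint using hstep
  obtain ⟨gens, hgens⟩ := (Algebra.FiniteType.out : (⊤ : Subalgebra R S).FG)
  set f : R := ∏ x ∈ gens, m x with hf
  have hf0 : f ≠ 0 := Finset.prod_ne_zero_iff.mpr fun x _ => hm0 x
  have hfint : ∀ x ∈ gens, IsIntegral (Algebra.adjoin R (Set.range y)) (f • x) := by
    intro x hx
    have e : f • x = algebraMap (Algebra.adjoin R (Set.range y)) S
        (algebraMap R (Algebra.adjoin R (Set.range y)) (∏ x' ∈ gens.erase x, m x')) *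
          (m x • x) := by
      rw [hf, ← Finset.mul_prod_erase gens m hx, ← IsScalarTower.algebraMap_apply,
        ← Algebra.smul_def, mul_comm, mul_smul]
    rw [e]
    exact isIntegral_algebraMap.mul (hmint x)
  refine ⟨d, y, Algebra.adjoin R (Set.range y ∪ (fun x => f • x) '' (gens : Set S)), hai,
    fun i => Algebra.subset_adjoin (Or.inl ⟨i, rfl⟩), ?_, ?_, f, hf0, ?_⟩
  · exact Subalgebra.fg_def.mpr ⟨_, (Set.finite_range y).union (gens.finite_toSet.image _), rfl⟩
  · intro s hs
    have hle : Algebra.adjoin R (Set.range y ∪ (fun x => f • x) '' (gens : Set S)) ≤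
        (integralClosure (Algebra.adjoin R (Set.range y)) S).restrictScalars R := by
      apply Algebra.adjoin_le
      rintro z (⟨i, rfl⟩ | ⟨x, hx, rfl⟩)
      · show IsIntegral (Algebra.adjoin R (Set.range y)) (y i)
        have : y i = algebraMap (Algebra.adjoin R (Set.range y)) S
            ⟨y i, Algebra.subset_adjoin ⟨i, rfl⟩⟩ := rfl
        rw [this]
        exact isIntegral_algebraMap
      · exact hfint x hx
    exact hle hs
  · intro s
    have hs : s ∈ Algebra.adjoin R (gens : Set S) := by rw [hgens]; exact Algebra.mem_top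
    induction hs using Algebra.adjoin_induction with
    | mem x hx =>
      exact ⟨1, by rw [pow_one]; exact Algebra.subset_adjoin (Or.inr ⟨x, hx, rfl⟩)⟩
    | algebraMap r =>
      exact ⟨0, by rw [pow_zero, one_smul]; exact Subalgebra.algebraMap_mem _ r⟩
    | add a b _ _ ha hb =>
      obtain ⟨na, hna⟩ := ha
      obtain ⟨nb, hnb⟩ := hb
      refine ⟨na + nb, ?_⟩
      have : f ^ (na + nb) • (a + b) = f ^ nb • (f ^ na • a) + f ^ na • (f ^ nb • b) := by
        rw [smul_add, pow_add, mul_smul, mul_smul, smul_comm (f ^ na) (f ^ nb) a]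
      rw [this]
      exact add_mem (Subalgebra.smul_mem _ hna _) (Subalgebra.smul_mem _ hnb _)
    | mul a b _ _ ha hb =>
      obtain ⟨na, hna⟩ := ha
      obtain ⟨nb, hnb⟩ := hb
      refine ⟨na + nb, ?_⟩
      have : f ^ (na + nb) • (a * b) = (f ^ na • a) * (f ^ nb • b) := by
        rw [smul_mul_smul_comm, pow_add]
      rw [this]
      exact mul_mem hna hnb

end Groth.Agent.H11
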