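import Groth.Agent.H11.GenFree3
import Groth.Prelude.Def_EGA4b
import Mathlib

set_option autoImplicit false
set_option linter.style.haveILetI false

universe u

namespace Groth.Agent.H11.NormFlat

open TensorProduct Polynomial

/-- Transport of `GFree` along a linear equivalence. -/
theorem gfree_of_linearEquiv {R M M' : Type u} [CommRing R] [AddCommGroup M] [Module R M]
    [AddCommGroup M'] [Module R M'] {f : R} (e : M ≃ₗ[R] M') (h : GFree R M f) :
    GFree R M' f := by
  obtain ⟨ι, b, hb, hsp⟩ := h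
  refine ⟨ι, e ∘ b, hb.map' e.toLinearMap e.ker, fun m => ?_⟩
  obtain ⟨k, hk⟩ := hsp (e.symm m)
  refine ⟨k, ?_⟩
  have h2 := Submodule.mem_map_of_mem (f := e.toLinearMap) hk
  rw [Submodule.map_span, ← Set.range_comp] at h2
  simpa using h2

/-- A retract of a generically free module localizes to a flat module. -/
theorem flat_of_gfree_retract {R : Type u} [CommRing R] (g : R) {B : Type u} [CommRing B]
    [Algebra R B] [IsLocalization.Away g B]
    {G : Type u} [AddCommGroup G] [Module R G] (hG : GFree R G g)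
    {H : Type u} [AddCommGroup H] [Module R H] (i : H →ₗ[R] G) (π : G →ₗ[R] H)
    (hπ : π ∘ₗ i = LinearMap.id)
    {Q : Type u} [AddCommGroup Q] [Module R Q] [Module B Q] [IsScalarTower R B Q]
    (θ : H →ₗ[R] Q) [IsLocalizedModule (Submonoid.powers g) θ] : Module.Flat B Q := by
  let φ : G →ₗ[R] B ⊗[R] G := TensorProduct.mk R B G 1
  haveI : IsLocalizedModule (Submonoid.powers g) φ :=
    (isLocalizedModule_iff_isBaseChange (Submonoid.powers g) B φ).mpr
      (TensorProduct.isBaseChange R G B)
  haveI : Module.Free B (B ⊗[R] G) := hG.free_of_isLocalizedModule φ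
  let i' : Q →ₗ[B] B ⊗[R] G :=
    IsLocalizedModule.mapExtendScalars (Submonoid.powers g) θ φ B i
  let π' : B ⊗[R] G →ₗ[B] Q :=
    IsLocalizedModule.mapExtendScalars (Submonoid.powers g) φ θ B π
  refine Module.Flat.of_retract i' π' ?_
  apply LinearMap.restrictScalars_injective R
  apply IsLocalizedModule.linearMap_ext (Submonoid.powers g) θ θ
  apply LinearMap.ext
  intro x
  have h1 : i' (θ x) = φ (i x) := by
    simp only [i', IsLocalizedModule.mapExtendScalars_apply_apply, IsLocalizedModule.map_apply]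
  have h2 : π' (φ (i x)) = θ (π (i x)) := by
    simp only [π', IsLocalizedModule.mapExtendScalars_apply_apply, IsLocalizedModule.map_apply]
  have h3 : π (i x) = x := LinearMap.congr_fun hπ x
  show π' (i' (θ x)) = θ x
  rw [h1, h2, h3]

/-- Localization of `K / I K` is `K' / I' K'`. -/
theorem exists_isLocalizedModule_quot {A : Type u} [CommRing A] (S : Submonoid A)
    {A' : Type u} [CommRing A'] [Algebra A A'] [IsLocalization S A']
    {M M' : Type u} [AddCommGroup M] [Module A M] [AddCommGroup M'] [Module A M'] [Module A' M']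
    [IsScalarTower A A' M'] (φ : M →ₗ[A] M') [IsLocalizedModule S φ]
    (I : Ideal A) (K : Submodule A M) (K' : Submodule A' M')
    (hK : K' = K.localized' A' S φ) :
    ∃ θ : (K ⧸ (I • ⊤ : Submodule A K)) →ₗ[A]
        (K' ⧸ (I.map (algebraMap A A') • ⊤ : Submodule A' K')), IsLocalizedModule S θ := by
  subst hK
  let ψ : K →ₗ[A] K.localized' A' S φ := K.toLocalized' A' S φ
  have hW : (I • (⊤ : Submodule A K)).localized' A' S ψ = I.map (algebraMap A A') • ⊤ := by
    rw [Submodule.localized'_smul, Ideal.localized'_eq_map, Submodule.localized'_top]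
  let θ₀ := (I • (⊤ : Submodule A K)).toLocalizedQuotient' A' S ψ
  let e := (Submodule.quotEquivOfEq _ _ hW).restrictScalars A
  exact ⟨(e : _ →ₗ[A] _) ∘ₗ θ₀, IsLocalizedModule.of_linearEquiv S θ₀ e⟩

/-- Reduction of a linear map modulo an ideal. -/
noncomputable def redMap {A : Type u} [CommRing A] (p : Ideal A) {X Y : Type u} [AddCommGroup X]
    [Module A X] [AddCommGroup Y] [Module A Y] (φ : X →ₗ[A] Y) :
    (X ⧸ (p • ⊤ : Submodule A X)) →ₗ[A ⧸ p] (Y ⧸ (p • ⊤ : Submodule A Y)) :=
  LinearMap.extendScalarsOfSurjective Ideal.Quotient.mk_surjective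
    (Submodule.mapQ _ _ φ (Submodule.smul_top_le_comap_smul_top p φ))

theorem redMap_mk {A : Type u} [CommRing A] (p : Ideal A) {X Y : Type u} [AddCommGroup X]
    [Module A X] [AddCommGroup Y] [Module A Y] (φ : X →ₗ[A] Y) (x : X) :
    redMap p φ (Submodule.Quotient.mk x) = Submodule.Quotient.mk (φ x) := rfl

theorem redMap_retract {A : Type u} [CommRing A] (p : Ideal A) {X Y : Type u} [AddCommGroup X]
    [Module A X] [AddCommGroup Y] [Module A Y] (i : X →ₗ[A] Y) (π : Y →ₗ[A] X)
    (h : π ∘ₗ i = LinearMap.id) : redMap p π ∘ₗ redMap p i = LinearMap.id := by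
  apply LinearMap.ext
  intro x
  obtain ⟨x, rfl⟩ := Submodule.Quotient.mk_surjective _ x
  show redMap p π (redMap p i (Submodule.Quotient.mk x)) = Submodule.Quotient.mk x
  rw [redMap_mk, redMap_mk, show π (i x) = x from LinearMap.congr_fun h x]

/-- Flatness of `K'/p'K'` over `A'/p'` from generic freeness and retractions. -/
theorem flat_quot_of_gfree {A : Type u} [CommRing A] (p : Ideal A) (f : A)
    {A' : Type u} [CommRing A'] [Algebra A A'] [IsLocalization.Away f A']
    {G : Type u} [AddCommGroup G] [Module (A ⧸ p) G]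
    (hG : GFree (A ⧸ p) G (Ideal.Quotient.mk p f))
    {H : Type u} [AddCommGroup H] [Module A H] [Module (A ⧸ p) H] [IsScalarTower A (A ⧸ p) H]
    (i : H →ₗ[A ⧸ p] G) (π : G →ₗ[A ⧸ p] H) (hπ : π ∘ₗ i = LinearMap.id)
    {K' : Type u} [AddCommGroup K'] [Module A K'] [Module A' K'] [IsScalarTower A A' K']
    (θ : H →ₗ[A] (K' ⧸ (p.map (algebraMap A A') • (⊤ : Submodule A' K'))))
    [hθ : IsLocalizedModule (Submonoid.powers f) θ] :
    Module.Flat (A' ⧸ p.map (algebraMap A A'))
      (K' ⧸ (p.map (algebraMap A A') • (⊤ : Submodule A' K'))) := by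
  letI instRQ : Module (A ⧸ p) (K' ⧸ (p.map (algebraMap A A') • (⊤ : Submodule A' K'))) :=
    Module.compHom _ (algebraMap (A ⧸ p) (A' ⧸ p.map (algebraMap A A')))
  haveI t1 : IsScalarTower (A ⧸ p) (A' ⧸ p.map (algebraMap A A'))
      (K' ⧸ (p.map (algebraMap A A') • (⊤ : Submodule A' K'))) :=
    ⟨fun r b q => by
      show (r • b) • q = algebraMap (A ⧸ p) (A' ⧸ p.map (algebraMap A A')) r • (b • q)
      rw [Algebra.smul_def, mul_smul]⟩
  haveI t0 : IsScalarTower A (A' ⧸ p.map (algebraMap A A'))
      (K' ⧸ (p.map (algebraMap A A') • (⊤ : Submodule A' K'))) := inferInstance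
  haveI t2 : IsScalarTower A (A ⧸ p)
      (K' ⧸ (p.map (algebraMap A A') • (⊤ : Submodule A' K'))) :=
    ⟨fun a r q => by
      show algebraMap (A ⧸ p) (A' ⧸ p.map (algebraMap A A')) (a • r) • q =
        a • (algebraMap (A ⧸ p) (A' ⧸ p.map (algebraMap A A')) r • q)
      rw [Algebra.smul_def, map_mul, ← IsScalarTower.algebraMap_apply A (A ⧸ p)
        (A' ⧸ p.map (algebraMap A A')), mul_smul, algebraMap_smul]⟩
  let θR : H →ₗ[A ⧸ p] (K' ⧸ (p.map (algebraMap A A') • (⊤ : Submodule A' K'))) :=
    LinearMap.extendScalarsOfSurjective Ideal.Quotient.mk_surjective θ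
  haveI h2 : IsLocalizedModule (Submonoid.powers f) (θR.restrictScalars A) := hθ
  haveI h3 : IsLocalizedModule (Algebra.algebraMapSubmonoid (A ⧸ p) (Submonoid.powers f)) θR :=
    IsLocalizedModule.of_restrictScalars (Submonoid.powers f) θR
  rw [Algebra.algebraMapSubmonoid_powers] at h3
  haveI h4 : IsLocalization (Algebra.algebraMapSubmonoid (A ⧸ p) (Submonoid.powers f))
      (A' ⧸ p.map (algebraMap A A')) := inferInstance
  rw [Algebra.algebraMapSubmonoid_powers] at h4
  exact flat_of_gfree_retract (algebraMap A (A ⧸ p) f) hG i π hπ θR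

/-- Generic freeness of `N / p N` over `A / p` for a finite module over a finite type algebra. -/
theorem exists_gfree_quot {A : Type u} [CommRing A] (p : Ideal A) [p.IsPrime]
    (T : Type u) [CommRing T] [Algebra A T] [Algebra.FiniteType A T]
    (N : Type u) [AddCommGroup N] [Module A N] [Module T N] [IsScalarTower A T N]
    [Module.Finite T N] :
    ∃ f : A, f ∉ p ∧ GFree (A ⧸ p) (N ⧸ (p • ⊤ : Submodule A N)) (Ideal.Quotient.mk p f) := by
  let P : Ideal T := p.map (algebraMap A T)
  letI instR : Module (A ⧸ p) (N ⧸ (P • ⊤ : Submodule T N)) :=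
    Module.compHom _ (algebraMap (A ⧸ p) (T ⧸ P))
  haveI t1 : IsScalarTower (A ⧸ p) (T ⧸ P) (N ⧸ (P • ⊤ : Submodule T N)) :=
    ⟨fun r s x => by
      show (r • s) • x = algebraMap (A ⧸ p) (T ⧸ P) r • (s • x)
      rw [Algebra.smul_def, mul_smul]⟩
  haveI : Algebra.FiniteType A (T ⧸ P) :=
    Algebra.FiniteType.of_surjective (Ideal.Quotient.mkₐ A P) Ideal.Quotient.mk_surjective
  haveI : Algebra.FiniteType (A ⧸ p) (T ⧸ P) :=
    Algebra.FiniteType.of_restrictScalars_finiteType A (A ⧸ p) (T ⧸ P)
  haveI : Module.Finite T (N ⧸ (P • ⊤ : Submodule T N)) := inferInstance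
  haveI : Module.Finite (T ⧸ P) (N ⧸ (P • ⊤ : Submodule T N)) :=
    Module.Finite.of_restrictScalars_finite T _ _
  obtain ⟨g, hg0, hg⟩ := exists_gfree (R := A ⧸ p) (S := T ⧸ P)
    (M := N ⧸ (P • ⊤ : Submodule T N))
  obtain ⟨f, rfl⟩ := Ideal.Quotient.mk_surjective g
  refine ⟨f, fun hf => hg0 (Ideal.Quotient.eq_zero_iff_mem.mpr hf), ?_⟩
  have hEq : (P • (⊤ : Submodule T N)).restrictScalars A = p • (⊤ : Submodule A N) := by
    rw [Ideal.smul_restrictScalars, Submodule.restrictScalars_top]
  let e : (N ⧸ (P • ⊤ : Submodule T N)) ≃ₗ[A] (N ⧸ (p • ⊤ : Submodule A N)) :=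
    (Submodule.Quotient.restrictScalarsEquiv A (P • ⊤ : Submodule T N)).symm ≪≫ₗ
      Submodule.quotEquivOfEq _ _ hEq
  have he : ∀ (r : A ⧸ p) (x : N ⧸ (P • ⊤ : Submodule T N)), e (r • x) = r • e x := by
    intro r x
    obtain ⟨a, rfl⟩ := Ideal.Quotient.mk_surjective r
    have h1 : (Ideal.Quotient.mk p a) • x = a • x := by
      show algebraMap (A ⧸ p) (T ⧸ P) (algebraMap A (A ⧸ p) a) • x = a • x
      rw [← IsScalarTower.algebraMap_apply A (A ⧸ p) (T ⧸ P), algebraMap_smul]
    have h2 : (Ideal.Quotient.mk p a) • e x = a • e x :=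
      algebraMap_smul (A ⧸ p) a (e x)
    rw [h1, h2, map_smul]
  let eR : (N ⧸ (P • ⊤ : Submodule T N)) ≃ₗ[A ⧸ p] (N ⧸ (p • ⊤ : Submodule A N)) :=
    { e.toAddEquiv with map_smul' := fun r x => he r x }
  exact gfree_of_linearEquiv eR hg

/-- The inclusion of the degree `n` piece into the Rees module. -/
noncomputable def reesIncl {A : Type u} [CommRing A] (p : Ideal A) (M : Type u) [AddCommGroup M]
    [Module A M] (n : ℕ) :
    ↥(p ^ n • (⊤ : Submodule A M)) →ₗ[A]
      ↥(p.stableFiltration (⊤ : Submodule A M)).submodule where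
  toFun x := ⟨PolynomialModule.single A n x.1,
    (Ideal.Filtration.mem_submodule _ _).mpr fun i => by
      rw [PolynomialModule.coeff_single, Finsupp.single_apply]
      split_ifs with h
      · subst h; exact x.2
      · exact Submodule.zero_mem _⟩
  map_add' x y := Subtype.ext (by simp)
  map_smul' a x := Subtype.ext (by simp [PolynomialModule.single_smul])

/-- The projection of the Rees module onto its degree `n` piece. -/
noncomputable def reesProj {A : Type u} [CommRing A] (p : Ideal A) (M : Type u) [AddCommGroup M]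
    [Module A M] (n : ℕ) :
    ↥(p.stableFiltration (⊤ : Submodule A M)).submodule →ₗ[A]
      ↥(p ^ n • (⊤ : Submodule A M)) where
  toFun m := ⟨m.1.coeff n, m.2 n⟩
  map_add' x y := Subtype.ext rfl
  map_smul' a x := Subtype.ext rfl

theorem reesProj_comp_reesIncl {A : Type u} [CommRing A] (p : Ideal A) (M : Type u)
    [AddCommGroup M] [Module A M] (n : ℕ) :
    reesProj p M n ∘ₗ reesIncl p M n = LinearMap.id := by
  apply LinearMap.ext
  intro x
  apply Subtype.ext
  show (PolynomialModule.single A n x.1).coeff n = x.1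
  rw [PolynomialModule.coeff_single, Finsupp.single_eq_same]

/-- Generic normal flatness from retractions onto a finite module over a finite type algebra. -/
theorem normallyFlat_of_retractions {A : Type u} [CommRing A] (p : Ideal A) [p.IsPrime]
    (M : Type u) [AddCommGroup M] [Module A M]
    (T : Type u) [CommRing T] [Algebra A T] [Algebra.FiniteType A T]
    (N : Type u) [AddCommGroup N] [Module A N] [Module T N] [IsScalarTower A T N]
    [Module.Finite T N]
    (i : ∀ n : ℕ, ↥(p ^ n • (⊤ : Submodule A M)) →ₗ[A] N)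
    (π : ∀ n : ℕ, N →ₗ[A] ↥(p ^ n • (⊤ : Submodule A M)))
    (hπ : ∀ n, π n ∘ₗ i n = LinearMap.id) :
    ∃ f : A, f ∉ p ∧ EGA4.IsNormallyFlat (p.map (algebraMap A (Localization.Away f)))
      (LocalizedModule (Submonoid.powers f) M) := by
  obtain ⟨f, hf, hG⟩ := exists_gfree_quot p T N
  refine ⟨f, hf, fun n => ?_⟩
  have hK : (p.map (algebraMap A (Localization.Away f)) ^ n •
      (⊤ : Submodule (Localization.Away f) (LocalizedModule (Submonoid.powers f) M))) =
      (p ^ n • (⊤ : Submodule A M)).localized' (Localization.Away f) (Submonoid.powers f)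
        (LocalizedModule.mkLinearMap (Submonoid.powers f) M) := by
    rw [Submodule.localized'_smul, Ideal.localized'_eq_map, Submodule.localized'_top,
      Ideal.map_pow]
  obtain ⟨θ, hθ⟩ := exists_isLocalizedModule_quot (Submonoid.powers f)
    (LocalizedModule.mkLinearMap (Submonoid.powers f) M) p (p ^ n • ⊤) _ hK
  exact flat_quot_of_gfree p f hG (redMap p (i n)) (redMap p (π n))
    (redMap_retract p (i n) (π n) (hπ n)) θ

/-- **Generic normal flatness**, affine form. -/
theorem main (A : Type u) [CommRing A] [IsNoetherianRing A] (p : Ideal A) [p.IsPrime]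
    (M : Type u) [AddCommGroup M] [Module A M] [Module.Finite A M] :
    ∃ f : A, f ∉ p ∧ EGA4.IsNormallyFlat (p.map (algebraMap A (Localization.Away f)))
      (LocalizedModule (Submonoid.powers f) M) := by
  haveI : Algebra.FiniteType A (reesAlgebra p) :=
    (Subalgebra.fg_iff_finiteType _).mp (reesAlgebra.fg (IsNoetherian.noetherian p))
  have hfg : (p.stableFiltration (⊤ : Submodule A M)).submodule.FG :=
    ((p.stableFiltration (⊤ : Submodule A M)).submodule_fg_iff_stable
      (fun i => IsNoetherian.noetherian _)).mpr (p.stableFiltration_stable ⊤)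
  haveI : Module.Finite (reesAlgebra p) (p.stableFiltration (⊤ : Submodule A M)).submodule :=
    Module.Finite.iff_fg.mpr hfg
  exact normallyFlat_of_retractions p M (reesAlgebra p)
    (p.stableFiltration (⊤ : Submodule A M)).submodule (reesIncl p M) (reesProj p M)
    (reesProj_comp_reesIncl p M)

end Groth.Agent.H11.NormFlat
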