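import Groth.Prelude.Def_Models
import Mathlib.Tactic
import Mathlib.Data.ZMod.Basic

set_option autoImplicit false

namespace Groth.Agent.H11

open Finset Models Models.NumericalType

variable {n : ℕ} (T : Models.NumericalType n)

theorem nt_row_sum (i : Fin n) : ∑ j, T.a i j * T.m j = 0 := by
  have := congrFun T.mulVec_m i
  simpa [Matrix.mulVec, dotProduct] using this

theorem nt_row_split (i : Fin n) :
    T.a i i * T.m i + ∑ j ∈ univ.erase i, T.a i j * T.m j = 0 := by
  rw [Finset.add_sum_erase univ (fun j => T.a i j * T.m j) (Finset.mem_univ i)]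
  exact nt_row_sum T i

theorem nt_offsum_nonneg (i : Fin n) : 0 ≤ ∑ j ∈ univ.erase i, T.a i j * T.m j :=
  Finset.sum_nonneg fun j hj =>
    mul_nonneg (T.offDiag_nonneg i j (Finset.ne_of_mem_erase hj).symm) (T.m_pos j).le

theorem nt_diag_nonpos (i : Fin n) : T.a i i ≤ 0 := by
  have h1 := nt_row_split T i
  have h2 := nt_offsum_nonneg T i
  have h3 : T.a i i * T.m i ≤ 0 := by linarith
  by_contra h
  push Not at h
  have := mul_pos h (T.m_pos i)
  linarith

theorem nt_symm (i j : Fin n) : T.a i j = T.a j i := (T.symm.apply i j).symm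

theorem nt_term_le_offsum (i j : Fin n) (hij : j ≠ i) :
    T.a i j * T.m j ≤ ∑ k ∈ univ.erase i, T.a i k * T.m k := by
  have hj : j ∈ univ.erase i := Finset.mem_erase.mpr ⟨hij, Finset.mem_univ j⟩
  exact Finset.single_le_sum (f := fun k => T.a i k * T.m k)
    (fun k hk => mul_nonneg (T.offDiag_nonneg i k (Finset.ne_of_mem_erase hk).symm) (T.m_pos k).le) hj

theorem nt_diag_neg (hn : 1 < n) (i : Fin n) : T.a i i < 0 := by
  classical
  have hne : ({i} : Finset (Fin n)) ≠ univ := by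
    intro h
    have := congrArg Finset.card h
    simp at this
    omega
  obtain ⟨i', hi', j, hj, hij⟩ := T.connected {i} ⟨i, Finset.mem_singleton_self i⟩ hne
  rw [Finset.mem_singleton] at hi'
  subst hi'
  rw [Finset.mem_singleton] at hj
  have hpos : 0 < T.a i' j := lt_of_le_of_ne (T.offDiag_nonneg i' j (Ne.symm hj)) (Ne.symm hij)
  have h1 := nt_row_split T i'
  have h2 := nt_term_le_offsum T i' j hj
  have h3 : 0 < T.a i' j * T.m j := mul_pos hpos (T.m_pos j)
  have h4 : T.a i' i' * T.m i' < 0 := by linarith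
  by_contra h
  push Not at h
  have := mul_nonneg h (T.m_pos i').le
  linarith

theorem nt_two_dvd : (2 : ℤ) ∣ ∑ i, T.m i * T.a i i := by
  classical
  suffices key : ((∑ i, T.m i * T.a i i : ℤ) : ZMod 2) = 0 by
    exact_mod_cast (ZMod.intCast_zmod_eq_zero_iff_dvd _ 2).mp key
  push_cast
  -- total quadratic form vanishes
  have hQ : ∑ p ∈ (univ : Finset (Fin n)) ×ˢ (univ : Finset (Fin n)),
      ((T.m p.1 * T.a p.1 p.2 * T.m p.2 : ℤ) : ZMod 2) = 0 := by
    rw [Finset.sum_product]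
    have : ∀ i : Fin n, ∑ j, ((T.m i * T.a i j * T.m j : ℤ) : ZMod 2) = 0 := by
      intro i
      rw [← Int.cast_sum]
      have : ∑ j, T.m i * T.a i j * T.m j = T.m i * ∑ j, T.a i j * T.m j := by
        rw [Finset.mul_sum]; refine Finset.sum_congr rfl fun j _ => by ring
      rw [this, nt_row_sum T i]; simp
    exact Finset.sum_eq_zero fun i _ => this i
  rw [← Finset.diag_union_offDiag, Finset.sum_union (Finset.disjoint_diag_offDiag _),
    Finset.sum_diag] at hQ
  have hoff : ∑ p ∈ (univ : Finset (Fin n)).offDiag,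
      ((T.m p.1 * T.a p.1 p.2 * T.m p.2 : ℤ) : ZMod 2) = 0 := by
    refine Finset.sum_involution (fun p _ => p.swap) ?_ ?_ ?_ ?_
    · intro p _
      have : T.m p.swap.1 * T.a p.swap.1 p.swap.2 * T.m p.swap.2 = T.m p.1 * T.a p.1 p.2 * T.m p.2 := by
        simp only [Prod.fst_swap, Prod.snd_swap]
        rw [nt_symm T p.2 p.1]; ring
      rw [this]
      have h2 : ∀ x : ZMod 2, x + x = 0 := by decide
      exact h2 _
    · intro p hp _ h
      rw [Finset.mem_offDiag] at hp
      apply hp.2.2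
      have := congrArg Prod.fst h
      simpa using this.symm
    · intro p hp
      rw [Finset.mem_offDiag] at hp ⊢
      exact ⟨Finset.mem_univ _, Finset.mem_univ _, fun h => hp.2.2 h.symm⟩
    · intro p _; simp
  rw [hoff, add_zero] at hQ
  rw [← hQ]
  refine Finset.sum_congr rfl fun i _ => ?_
  push_cast
  have h2 : ∀ x y : ZMod 2, x * y = x * y * x := by decide
  exact h2 _ _


theorem nt_term_nonneg (hmin : T.IsMinimal) (hn : 1 < n) (i : Fin n) :
    0 ≤ T.m i * (2 * T.w i * (T.g i - 1) - T.a i i) := by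
  apply mul_nonneg (T.m_pos i).le
  have hneg := nt_diag_neg T hn i
  have hw := T.w_pos i
  rcases (T.g_nonneg i).lt_or_eq with hg | hg
  · have : 0 ≤ 2 * T.w i * (T.g i - 1) := mul_nonneg (by linarith) (by linarith)
    linarith
  · obtain ⟨k, hk⟩ := T.w_dvd i i
    have hk1 : k < 0 := by
      by_contra h
      push Not at h
      have := mul_nonneg hw.le h
      linarith
    have hk2 : k ≠ -1 := by
      intro h
      apply hmin i
      refine ⟨hg.symm, ?_⟩
      rw [hk, h]; ring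
    have hk3 : k ≤ -2 := by omega
    rw [← hg, hk]
    nlinarith

theorem nt_genus_eq (t : ℤ) (ht : ∑ i, T.m i * T.a i i = 2 * t) :
    T.genus = 1 + (∑ i, T.m i * T.w i * (T.g i - 1)) - t := by
  unfold Models.NumericalType.genus
  rw [ht, Int.mul_ediv_cancel_left _ (by norm_num : (2 : ℤ) ≠ 0)]

theorem nt_genus_ge_one (hmin : T.IsMinimal) (hn : 1 < n) : 1 ≤ T.genus := by
  obtain ⟨t, ht⟩ := nt_two_dvd T
  rw [nt_genus_eq T t ht]
  have h : 0 ≤ ∑ i, T.m i * (2 * T.w i * (T.g i - 1) - T.a i i) :=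
    Finset.sum_nonneg fun i _ => nt_term_nonneg T hmin hn i
  have h2 : ∑ i, T.m i * (2 * T.w i * (T.g i - 1) - T.a i i)
      = 2 * (∑ i, T.m i * T.w i * (T.g i - 1)) - ∑ i, T.m i * T.a i i := by
    rw [Finset.mul_sum, ← Finset.sum_sub_distrib]
    refine Finset.sum_congr rfl fun i _ => by ring
  rw [h2, ht] at h
  linarith


/-- `κ_i = 2 w_i (g_i - 1) - a_ii` -/
def ntKappa (i : Fin n) : ℤ := 2 * T.w i * (T.g i - 1) - T.a i i

theorem nt_kappa_props (hmin : T.IsMinimal) (hn : 1 < n) (i : Fin n) :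
    0 ≤ ntKappa T i ∧ - T.a i i ≤ T.w i * (ntKappa T i + 2) := by
  unfold ntKappa
  have hneg := nt_diag_neg T hn i
  have hw := T.w_pos i
  obtain ⟨c, hc⟩ := T.w_dvd i i
  have hc1 : c < 0 := by
    by_contra h
    push Not at h
    have := mul_nonneg hw.le h
    linarith
  rcases (T.g_nonneg i).lt_or_eq with hg | hg
  · have hg1 : 1 ≤ T.g i := hg
    constructor
    · have : 0 ≤ 2 * T.w i * (T.g i - 1) := mul_nonneg (by linarith) (by linarith)
      linarith
    · rw [hc]
      have h1 : 0 ≤ T.w i * (T.g i - 1) := mul_nonneg hw.le (by linarith)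
      have h2 : 0 ≤ (T.w i - 1) * (-c) := mul_nonneg (by linarith) (by linarith)
      have h3 : 0 ≤ T.w i * (T.w i * (T.g i - 1)) := mul_nonneg hw.le h1
      nlinarith
  · have hk2 : c ≠ -1 := by
      intro h
      apply hmin i
      refine ⟨hg.symm, ?_⟩
      rw [hc, h]; ring
    have hk3 : c ≤ -2 := by omega
    rw [← hg, hc]
    constructor
    · nlinarith
    · have h2 : 0 ≤ (T.w i - 1) * (-2 - c) := mul_nonneg (by linarith) (by linarith)
      nlinarith

/-- integer indicator of an edge -/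
def ntInd (i j : Fin n) : ℤ := if i ≠ j ∧ 0 < T.a i j then 1 else 0

theorem ntInd_symm (i j : Fin n) : ntInd T i j = ntInd T j i := by
  unfold ntInd
  rw [nt_symm T i j]
  by_cases h : i = j
  · subst h; rfl
  · have h' : j ≠ i := fun e => h e.symm
    simp [h, h']

theorem ntInd_nonneg (i j : Fin n) : 0 ≤ ntInd T i j := by
  unfold ntInd; split_ifs <;> norm_num

theorem nt_w_mul_ind_le (i : Fin n) :
    T.w i * ∑ j, ntInd T i j * T.m j ≤ - T.a i i * T.m i := by
  classical
  have h1 := nt_row_split T i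
  have h2 : ∑ j, ntInd T i j * T.m j = ∑ j ∈ univ.erase i, ntInd T i j * T.m j := by
    rw [← Finset.add_sum_erase univ (fun j => ntInd T i j * T.m j) (Finset.mem_univ i)]
    simp [ntInd]
  rw [h2, Finset.mul_sum]
  have h3 : ∑ j ∈ univ.erase i, T.w i * (ntInd T i j * T.m j)
      ≤ ∑ j ∈ univ.erase i, T.a i j * T.m j := by
    refine Finset.sum_le_sum fun j hj => ?_
    have hji : i ≠ j := (Finset.ne_of_mem_erase hj).symm
    unfold ntInd
    by_cases hpos : 0 < T.a i j
    · rw [if_pos ⟨hji, hpos⟩]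
      have hw : T.w i ≤ T.a i j := Int.le_of_dvd hpos (T.w_dvd i j)
      have := mul_le_mul_of_nonneg_right hw (T.m_pos j).le
      linarith
    · rw [if_neg (fun h => hpos h.2)]
      have := mul_nonneg (T.offDiag_nonneg i j hji) (T.m_pos j).le
      linarith
  linarith

theorem nt_edgeCount_eq :
    (T.edgeCount : ℤ) = ∑ i, ∑ j, (if i < j ∧ 0 < T.a i j then (1 : ℤ) else 0) := by
  unfold Models.NumericalType.edgeCount
  rw [Finset.card_filter, ← Finset.univ_product_univ, Finset.sum_product]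
  push_cast
  rfl

theorem nt_sum_ind_eq : ∑ i, ∑ j, ntInd T i j = 2 * (T.edgeCount : ℤ) := by
  rw [nt_edgeCount_eq]
  have h1 : ∀ i j : Fin n, ntInd T i j =
      (if i < j ∧ 0 < T.a i j then (1 : ℤ) else 0) + (if j < i ∧ 0 < T.a j i then (1 : ℤ) else 0) := by
    intro i j
    unfold ntInd
    rw [nt_symm T j i]
    rcases lt_trichotomy i j with h | h | h
    · have : ¬ j < i := not_lt.mpr h.le
      by_cases hp : 0 < T.a i j <;> simp [h, h.ne, this, hp]
    · subst h; simp
    · have : ¬ i < j := not_lt.mpr h.le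
      by_cases hp : 0 < T.a i j <;> simp [h, h.ne', this, hp]
  simp_rw [h1, Finset.sum_add_distrib]
  have h2 : ∑ i : Fin n, ∑ j : Fin n, (if j < i ∧ 0 < T.a j i then (1 : ℤ) else 0)
      = ∑ i : Fin n, ∑ j : Fin n, (if i < j ∧ 0 < T.a i j then (1 : ℤ) else 0) := by
    rw [Finset.sum_comm]
  rw [h2]; ring

theorem nt_topGenus_le_genus (hmin : T.IsMinimal) (hn : 1 < n) : T.topGenus ≤ T.genus := by
  obtain ⟨t, ht⟩ := nt_two_dvd T
  rw [nt_genus_eq T t ht]
  unfold Models.NumericalType.topGenus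
  -- 2 genus - 2 = sum m_i kappa_i
  have hsum : ∑ i, T.m i * ntKappa T i = 2 * (∑ i, T.m i * T.w i * (T.g i - 1)) - 2 * t := by
    rw [← ht, Finset.mul_sum, ← Finset.sum_sub_distrib]
    refine Finset.sum_congr rfl fun i _ => by unfold ntKappa; ring
  -- m_i kappa_i >= kappa_i
  have h1 : ∑ i, ntKappa T i ≤ ∑ i, T.m i * ntKappa T i := by
    refine Finset.sum_le_sum fun i _ => ?_
    have hk := (nt_kappa_props T hmin hn i).1
    have hm : 1 ≤ T.m i := T.m_pos i
    nlinarith
  -- rational estimate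
  have h2 : ∀ i, (∑ j, (ntInd T i j : ℚ) * ((T.m j : ℚ) / (T.m i : ℚ))) ≤ (ntKappa T i : ℚ) + 2 := by
    intro i
    have hmi : (0 : ℚ) < (T.m i : ℚ) := by exact_mod_cast T.m_pos i
    have hwi : (0 : ℤ) < T.w i := T.w_pos i
    have ha := nt_w_mul_ind_le T i
    have hb := (nt_kappa_props T hmin hn i).2
    have hc : T.w i * ∑ j, ntInd T i j * T.m j ≤ T.w i * ((ntKappa T i + 2) * T.m i) := by
      have := mul_le_mul_of_nonneg_right hb (T.m_pos i).le
      linarith
    have hd : ∑ j, ntInd T i j * T.m j ≤ (ntKappa T i + 2) * T.m i :=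
      le_of_mul_le_mul_left hc hwi
    have he : ((∑ j, ntInd T i j * T.m j : ℤ) : ℚ) ≤ (((ntKappa T i + 2) * T.m i : ℤ) : ℚ) := by
      exact_mod_cast hd
    push_cast at he
    have hf : (∑ j, (ntInd T i j : ℚ) * ((T.m j : ℚ) / (T.m i : ℚ)))
        = (∑ j, (ntInd T i j : ℚ) * (T.m j : ℚ)) / (T.m i : ℚ) := by
      rw [Finset.sum_div]
      refine Finset.sum_congr rfl fun j _ => by ring
    rw [hf, div_le_iff₀ hmi]
    exact he
  -- AM-GM
  have h3 : (∑ i, ∑ j, (ntInd T i j : ℚ)) ≤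
      ∑ i, ∑ j, (ntInd T i j : ℚ) * ((T.m j : ℚ) / (T.m i : ℚ)) := by
    have hsw : ∑ i, ∑ j, (ntInd T i j : ℚ) * ((T.m j : ℚ) / (T.m i : ℚ))
        = ∑ i, ∑ j, (ntInd T i j : ℚ) * ((T.m i : ℚ) / (T.m j : ℚ)) := by
      rw [Finset.sum_comm]
      refine Finset.sum_congr rfl fun i _ => Finset.sum_congr rfl fun j _ => ?_
      rw [ntInd_symm T j i]
    have hle : ∑ i, ∑ j, (2 : ℚ) * (ntInd T i j : ℚ) ≤
        ∑ i, ∑ j, ((ntInd T i j : ℚ) * ((T.m j : ℚ) / (T.m i : ℚ))
          + (ntInd T i j : ℚ) * ((T.m i : ℚ) / (T.m j : ℚ))) := by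
      refine Finset.sum_le_sum fun i _ => Finset.sum_le_sum fun j _ => ?_
      have hmi : (0 : ℚ) < (T.m i : ℚ) := by exact_mod_cast T.m_pos i
      have hmj : (0 : ℚ) < (T.m j : ℚ) := by exact_mod_cast T.m_pos j
      have hind : (0 : ℚ) ≤ (ntInd T i j : ℚ) := by exact_mod_cast ntInd_nonneg T i j
      have hamgm : (2 : ℚ) ≤ (T.m j : ℚ) / (T.m i : ℚ) + (T.m i : ℚ) / (T.m j : ℚ) := by
        rw [div_add_div _ _ hmi.ne' hmj.ne', le_div_iff₀ (mul_pos hmi hmj)]
        nlinarith [sq_nonneg ((T.m i : ℚ) - (T.m j : ℚ))]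
      nlinarith
    simp_rw [Finset.sum_add_distrib] at hle
    rw [← hsw] at hle
    simp_rw [← Finset.mul_sum] at hle
    linarith
  have h4 : ((∑ i, ∑ j, ntInd T i j : ℤ) : ℚ) ≤ ((∑ i, (ntKappa T i + 2) : ℤ) : ℚ) := by
    push_cast
    calc (∑ i, ∑ j, (ntInd T i j : ℚ)) ≤
        ∑ i, ∑ j, (ntInd T i j : ℚ) * ((T.m j : ℚ) / (T.m i : ℚ)) := h3
      _ ≤ ∑ i, ((ntKappa T i : ℚ) + 2) := Finset.sum_le_sum fun i _ => h2 i
  have h5 : (∑ i, ∑ j, ntInd T i j) ≤ ∑ i, (ntKappa T i + 2) := by exact_mod_cast h4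
  rw [nt_sum_ind_eq, Finset.sum_add_distrib] at h5
  simp only [Finset.sum_const, Finset.card_univ, Fintype.card_fin, nsmul_eq_mul] at h5
  linarith

end Groth.Agent.H11
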