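import Groth.Agent.H11.NumType
import Groth.Agent.S2171
import Mathlib.LinearAlgebra.Dimension.RankNullity
import Mathlib.LinearAlgebra.Dimension.Localization
import Mathlib.LinearAlgebra.Dimension.Finite
import Mathlib.LinearAlgebra.Dimension.StrongRankCondition

set_option autoImplicit false

namespace Groth.Agent.H11

open Finset Models Models.NumericalType

variable {n : ℕ} (T : Models.NumericalType n)

/-- an integer kernel vector of the intersection matrix is a real multiple of `m` -/
theorem nt_ker_real (v : Fin n → ℤ) (hv : T.a.mulVec v = 0) :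
    ∃ q : ℝ, ∀ i, (v i : ℝ) = q * (T.m i : ℝ) := by
  let A : Matrix (Fin n) (Fin n) ℝ := T.a.map (Int.castRingHom ℝ)
  let mR : Fin n → ℝ := (Int.castRingHom ℝ) ∘ T.m
  let x : Fin n → ℝ := (Int.castRingHom ℝ) ∘ v
  have hsymm : A.IsSymm := by
    ext i j
    simp [A, nt_symm T j i]
  have hA : ∀ i j, i ≠ j → 0 ≤ A i j := by
    intro i j hij
    simp only [A, Matrix.map_apply, Int.coe_castRingHom]
    exact_mod_cast T.offDiag_nonneg i j hij
  have hm : ∀ i, 0 < mR i := by
    intro i
    simp only [mR, Function.comp_apply, Int.coe_castRingHom]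
    exact_mod_cast T.m_pos i
  have hAm : A.mulVec mR = 0 := by
    funext i
    rw [← RingHom.map_mulVec, T.mulVec_m]
    simp
  have hAx : A.mulVec x = 0 := by
    funext i
    rw [← RingHom.map_mulVec, hv]
    simp
  have hconn : ∀ I : Finset (Fin n), I.Nonempty → I ≠ univ → ∃ i ∈ I, ∃ j ∉ I, A i j ≠ 0 := by
    intro I hI hI'
    obtain ⟨i, hi, j, hj, hij⟩ := T.connected I hI hI'
    refine ⟨i, hi, j, hj, ?_⟩
    simp only [A, Matrix.map_apply, Int.coe_castRingHom]
    exact_mod_cast hij
  have hq : dotProduct x (A.mulVec x) = 0 := by rw [hAx]; simp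
  obtain ⟨q, hq⟩ := ((Groth.Agent.S2171.result A mR hsymm hA hm hAm hconn x).2).mp hq
  refine ⟨q, fun i => ?_⟩
  have := congrFun hq i
  simpa [x, mR] using this

theorem nt_ker_int (v : Fin n → ℤ) (hv : T.a.mulVec v = 0) (i0 : Fin n) (h0 : v i0 = 0) :
    v = 0 := by
  obtain ⟨q, hq⟩ := nt_ker_real T v hv
  have hq0 : q = 0 := by
    have h := hq i0
    rw [h0] at h
    have hm : (T.m i0 : ℝ) ≠ 0 := by exact_mod_cast (T.m_pos i0).ne'
    simp only [Int.cast_zero] at h
    rcases mul_eq_zero.mp h.symm with h | h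
    · exact h
    · exact absurd h hm
  funext i
  have := hq i
  rw [hq0, zero_mul] at this
  exact_mod_cast this

theorem nt_ker_pic_eq :
    LinearMap.ker (Matrix.mulVecLin T.picMatrix) = LinearMap.ker (Matrix.mulVecLin T.a) := by
  ext v
  simp only [LinearMap.mem_ker, Matrix.mulVecLin_apply]
  have key : ∀ i, T.w i * (T.picMatrix.mulVec v) i = (T.a.mulVec v) i := by
    intro i
    show T.w i * (∑ j, T.picMatrix i j * v j) = ∑ j, T.a i j * v j
    rw [Finset.mul_sum]; refine Finset.sum_congr rfl fun j _ => ?_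
    rw [← mul_assoc]; congr 1
    exact Int.mul_ediv_cancel' (T.w_dvd i j)
  constructor
  · intro h
    funext i
    rw [← key i, h]; simp
  · intro h
    funext i
    have := key i
    rw [h] at this
    simp only [Pi.zero_apply] at this ⊢
    rcases mul_eq_zero.mp this with h' | h'
    · exact absurd h' (T.w_pos i).ne'
    · exact h'

theorem nt_finrank_ker : Module.finrank ℤ (LinearMap.ker (Matrix.mulVecLin T.a)) = 1 := by
  let i0 : Fin n := ⟨0, T.pos⟩
  apply le_antisymm
  · let φ : LinearMap.ker (Matrix.mulVecLin T.a) →ₗ[ℤ] ℤ :=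
      (LinearMap.proj i0).comp (LinearMap.ker (Matrix.mulVecLin T.a)).subtype
    have hinj : Function.Injective φ := by
      rw [injective_iff_map_eq_zero]
      intro v hv
      apply Subtype.ext
      have hv' : T.a.mulVec (v : Fin n → ℤ) = 0 := by
        have := v.2
        rwa [LinearMap.mem_ker, Matrix.mulVecLin_apply] at this
      exact nt_ker_int T v hv' i0 hv
    have := LinearMap.finrank_le_finrank_of_injective hinj
    rwa [Module.finrank_self] at this
  · rw [Nat.succ_le_iff, Module.finrank_pos_iff_exists_ne_zero]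
    refine ⟨⟨T.m, ?_⟩, ?_⟩
    · rw [LinearMap.mem_ker, Matrix.mulVecLin_apply]; exact T.mulVec_m
    · intro h
      have := congrArg (fun v : LinearMap.ker (Matrix.mulVecLin T.a) => (v : Fin n → ℤ) i0) h
      simp only [ZeroMemClass.coe_zero, Pi.zero_apply] at this
      exact (T.m_pos i0).ne' this

theorem nt_finrank_pic : Module.finrank ℤ T.Pic = 1 := by
  have h1 := Submodule.finrank_quotient_add_finrank
    (LinearMap.range (Matrix.mulVecLin T.picMatrix))
  have h2 := Submodule.finrank_quotient_add_finrank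
    (LinearMap.ker (Matrix.mulVecLin T.picMatrix))
  have h3 : Module.finrank ℤ ((Fin n → ℤ) ⧸ LinearMap.ker (Matrix.mulVecLin T.picMatrix))
      = Module.finrank ℤ (LinearMap.range (Matrix.mulVecLin T.picMatrix)) :=
    LinearEquiv.finrank_eq (Matrix.mulVecLin T.picMatrix).quotKerEquivRange
  have h4 : Module.finrank ℤ (LinearMap.ker (Matrix.mulVecLin T.picMatrix)) = 1 := by
    rw [nt_ker_pic_eq]; exact nt_finrank_ker T
  show Module.finrank ℤ ((Fin n → ℤ) ⧸ LinearMap.range (Matrix.mulVecLin T.picMatrix)) = 1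
  omega

end Groth.Agent.H11
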