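import Mathlib

/-!
# The total ring of fractions of a reduced Noetherian ring and its maps to the fraction fields of the
quotients by minimal primes (helper11)

For a reduced Noetherian ring `A` with total ring of fractions `K = FractionRing A` and a minimal
prime `p`, we construct `ψ p hp : K →+* FractionRing (A ⧸ p)`, show that these maps are jointly
injective (`eq_zero_of_forall_ψ`), that each is surjective with a lift vanishing at all other
minimal primes (`exists_lift`), and that integrality over `A` can be tested componentwise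
(`isIntegral_iff`).
-/

set_option autoImplicit false
set_option maxHeartbeats 800000
set_option linter.style.haveILetI false

universe u

namespace Groth.Agent.H11.TotalFrac

variable {A : Type u} [CommRing A] [IsReduced A] [IsNoetherianRing A]

theorem eq_zero_of_forall_mem_minimalPrimes (z : A) (h : ∀ p ∈ minimalPrimes A, z ∈ p) : z = 0 := by
  have h1 : z ∈ nilradical A := by
    rw [nilradical, ← Ideal.sInf_minimalPrimes, Ideal.mem_sInf]
    intro p hp
    exact h p hp
  rw [nilradical_eq_zero] at h1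
  exact h1

theorem mem_nonZeroDivisors_of_forall_notMem (s : A) (h : ∀ p ∈ minimalPrimes A, s ∉ p) :
    s ∈ nonZeroDivisors A := by
  rw [mem_nonZeroDivisors_iff_right]
  intro z hz
  apply eq_zero_of_forall_mem_minimalPrimes
  intro p hp
  haveI := hp.1.1
  have h1 : z * s ∈ p := by rw [hz]; exact p.zero_mem
  exact (this.mem_or_mem h1).resolve_right (h p hp)

theorem notMem_of_mem_nonZeroDivisors {s : A} (hs : s ∈ nonZeroDivisors A) (p : Ideal A)
    (hp : p ∈ minimalPrimes A) : s ∉ p := fun h =>
  Set.disjoint_left.mp (Ideal.disjoint_nonZeroDivisors_of_mem_minimalPrimes hp) h hs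

theorem isUnit_map (p : Ideal A) (hp : p ∈ minimalPrimes A) (s : nonZeroDivisors A) :
    IsUnit (((algebraMap (A ⧸ p) (FractionRing (A ⧸ p))).comp (Ideal.Quotient.mk p)) s) := by
  haveI := hp.1.1
  have h1 : (s : A) ∉ p := notMem_of_mem_nonZeroDivisors s.2 p hp
  have h2 : Ideal.Quotient.mk p (s : A) ≠ 0 := by rwa [Ne, Ideal.Quotient.eq_zero_iff_mem]
  rw [RingHom.comp_apply]
  exact IsUnit.mk0 _ ((map_ne_zero_iff (algebraMap (A ⧸ p) (FractionRing (A ⧸ p)))
    (IsFractionRing.injective (A ⧸ p) (FractionRing (A ⧸ p)))).mpr h2)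

/-- The projection of the total ring of fractions onto the fraction field of `A ⧸ p`. -/
noncomputable def ψ (p : Ideal A) (hp : p ∈ minimalPrimes A) :
    FractionRing A →+* FractionRing (A ⧸ p) :=
  IsLocalization.lift (M := nonZeroDivisors A) (isUnit_map p hp)

theorem ψ_algebraMap (p : Ideal A) (hp : p ∈ minimalPrimes A) (a : A) :
    ψ p hp (algebraMap A (FractionRing A) a) =
      algebraMap (A ⧸ p) (FractionRing (A ⧸ p)) (Ideal.Quotient.mk p a) :=
  IsLocalization.lift_eq _ a

theorem ψ_algebraMap' (p : Ideal A) (hp : p ∈ minimalPrimes A) (a : A) :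
    ψ p hp (algebraMap A (FractionRing A) a) = algebraMap A (FractionRing (A ⧸ p)) a := by
  rw [ψ_algebraMap, IsScalarTower.algebraMap_apply A (A ⧸ p) (FractionRing (A ⧸ p))]
  rfl

theorem ψ_mk'_mul (p : Ideal A) (hp : p ∈ minimalPrimes A) (a : A) (s : nonZeroDivisors A) :
    ψ p hp (IsLocalization.mk' (FractionRing A) a s) *
        algebraMap (A ⧸ p) (FractionRing (A ⧸ p)) (Ideal.Quotient.mk p (s : A)) =
      algebraMap (A ⧸ p) (FractionRing (A ⧸ p)) (Ideal.Quotient.mk p a) := by
  have h := (IsLocalization.lift_mk'_spec (S := FractionRing A) (hg := isUnit_map p hp) a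
    (ψ p hp (IsLocalization.mk' (FractionRing A) a s)) s).mp rfl
  simp only [RingHom.comp_apply] at h
  rw [h, mul_comm]

/-- The algebra-hom version of `ψ`. -/
noncomputable def ψₐ (p : Ideal A) (hp : p ∈ minimalPrimes A) :
    FractionRing A →ₐ[A] FractionRing (A ⧸ p) :=
  { ψ p hp with commutes' := fun a => ψ_algebraMap' p hp a }

theorem ψₐ_apply (p : Ideal A) (hp : p ∈ minimalPrimes A) (x : FractionRing A) :
    ψₐ p hp x = ψ p hp x := rfl

/-- Joint injectivity. -/
theorem eq_zero_of_forall_ψ (y : FractionRing A)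
    (h : ∀ (p : Ideal A) (hp : p ∈ minimalPrimes A), ψ p hp y = 0) : y = 0 := by
  obtain ⟨a, s, rfl⟩ := IsLocalization.exists_mk'_eq (nonZeroDivisors A) y
  have ha : a = 0 := by
    apply eq_zero_of_forall_mem_minimalPrimes
    intro p hp
    haveI := hp.1.1
    have h1 := ψ_mk'_mul p hp a s
    rw [h p hp, zero_mul] at h1
    have h2 : Ideal.Quotient.mk p a = 0 :=
      (map_eq_zero_iff _ (IsFractionRing.injective (A ⧸ p) (FractionRing (A ⧸ p)))).mp h1.symm
    exact Ideal.Quotient.eq_zero_iff_mem.mp h2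
  rw [ha, IsLocalization.mk'_zero]

/-- Prime avoidance data for a minimal prime. -/
theorem exists_avoid (p : Ideal A) (hp : p ∈ minimalPrimes A) :
    ∃ t u : A, t ∉ p ∧ (∀ q ∈ minimalPrimes A, q ≠ p → t ∈ q) ∧ u ∈ p ∧
      (∀ q ∈ minimalPrimes A, q ≠ p → u ∉ q) := by
  classical
  haveI hpp := hp.1.1
  have hfin : (minimalPrimes A).Finite := minimalPrimes.finite_of_isNoetherianRing A
  set S : Finset (Ideal A) := hfin.toFinset.erase p with hS
  have hSmem : ∀ q, q ∈ S ↔ q ∈ minimalPrimes A ∧ q ≠ p := by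
    intro q
    rw [hS, Finset.mem_erase, Set.Finite.mem_toFinset]
    tauto
  -- the element `t`
  have ht : ∀ T : Finset (Ideal A), (∀ q ∈ T, q ∈ minimalPrimes A ∧ q ≠ p) →
      ∃ t : A, t ∉ p ∧ ∀ q ∈ T, t ∈ q := by
    intro T
    induction T using Finset.induction_on with
    | empty => intro _; exact ⟨1, (Ideal.ne_top_iff_one p).mp hpp.ne_top, by simp⟩
    | insert q T hqT ih =>
      intro hT
      obtain ⟨t, htp, htT⟩ := ih (fun q' hq' => hT q' (Finset.mem_insert_of_mem hq'))
      obtain ⟨hqmin, hqne⟩ := hT q (Finset.mem_insert_self q T)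
      have hnle : ¬ q ≤ p := by
        intro hle
        exact hqne (le_antisymm hle (hp.2 ⟨hqmin.1.1, bot_le⟩ hle))
      obtain ⟨x, hxq, hxp⟩ := Set.not_subset.mp hnle
      refine ⟨x * t, ?_, ?_⟩
      · intro hmem
        rcases hpp.mem_or_mem hmem with h | h
        · exact hxp h
        · exact htp h
      · intro q' hq'
        rcases Finset.mem_insert.mp hq' with rfl | h
        · exact q'.mul_mem_right _ hxq
        · exact q'.mul_mem_left _ (htT q' h)
  obtain ⟨t, htp, htS⟩ := ht S (fun q hq => (hSmem q).mp hq)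
  -- the element `u`
  have hu : ∃ u ∈ p, ∀ q ∈ S, u ∉ q := by
    by_contra hcon
    push Not at hcon
    have hsub : ((p : Ideal A) : Set A) ⊆
        ⋃ q ∈ (↑S : Set (Ideal A)), ((fun q : Ideal A => q) q : Set A) := by
      intro b hb
      obtain ⟨q, hqS, hbq⟩ := hcon b hb
      exact Set.mem_biUnion (Finset.mem_coe.mpr hqS) hbq
    rw [Ideal.subset_union_prime (f := fun q : Ideal A => q) ⊥ ⊥
      (fun q hq _ _ => ((hSmem q).mp hq).1.1.1)] at hsub
    obtain ⟨q, hqS, hle⟩ := hsub
    obtain ⟨hqmin, hqne⟩ := (hSmem q).mp hqS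
    exact hqne (le_antisymm (hqmin.2 ⟨hpp, bot_le⟩ hle) hle)
  obtain ⟨u, hup, huS⟩ := hu
  exact ⟨t, u, htp, fun q hq hne => htS q ((hSmem q).mpr ⟨hq, hne⟩), hup,
    fun q hq hne => huS q ((hSmem q).mpr ⟨hq, hne⟩)⟩

/-- Surjectivity of `ψ p`, with a lift which vanishes at all other minimal primes. -/
theorem exists_lift (p : Ideal A) (hp : p ∈ minimalPrimes A) (z : FractionRing (A ⧸ p)) :
    ∃ y : FractionRing A, ψ p hp y = z ∧
      ∀ (q : Ideal A) (hq : q ∈ minimalPrimes A), q ≠ p → ψ q hq y = 0 := by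
  haveI hpp := hp.1.1
  obtain ⟨t, u, htp, htq, hup, huq⟩ := exists_avoid p hp
  obtain ⟨c', s', rfl⟩ := IsLocalization.exists_mk'_eq (nonZeroDivisors (A ⧸ p)) z
  obtain ⟨c, rfl⟩ := Ideal.Quotient.mk_surjective c'
  obtain ⟨s, hs⟩ := Ideal.Quotient.mk_surjective (s' : A ⧸ p)
  have hsp : s ∉ p := by
    intro h
    have h0 : (s' : A ⧸ p) = 0 := by rw [← hs]; exact Ideal.Quotient.eq_zero_iff_mem.mpr h
    exact nonZeroDivisors.coe_ne_zero s' h0
  have hnzd : s * t + u ∈ nonZeroDivisors A := by
    apply mem_nonZeroDivisors_of_forall_notMem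
    intro q hq hmem
    haveI := hq.1.1
    by_cases hqp : q = p
    · subst hqp
      have h1 : s * t ∈ q := by
        have := q.sub_mem hmem hup
        rwa [add_sub_cancel_right] at this
      rcases this.mem_or_mem h1 with h | h
      · exact hsp h
      · exact htp h
    · have h1 : u ∈ q := by
        have := q.sub_mem hmem (q.mul_mem_left s (htq q hq hqp))
        rwa [add_sub_cancel_left] at this
      exact huq q hq hqp h1
  refine ⟨IsLocalization.mk' (FractionRing A) (c * t) ⟨s * t + u, hnzd⟩, ?_, ?_⟩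
  · have h1 := ψ_mk'_mul p hp (c * t) ⟨s * t + u, hnzd⟩
    have hu0 : Ideal.Quotient.mk p u = 0 := Ideal.Quotient.eq_zero_iff_mem.mpr hup
    have ht0 : algebraMap (A ⧸ p) (FractionRing (A ⧸ p)) (Ideal.Quotient.mk p t) ≠ 0 := by
      rw [Ne, map_eq_zero_iff _ (IsFractionRing.injective (A ⧸ p) (FractionRing (A ⧸ p))),
        Ideal.Quotient.eq_zero_iff_mem]
      exact htp
    simp only [map_add, map_mul, hu0, add_zero] at h1
    rw [IsLocalization.eq_mk'_iff_mul_eq, ← hs]
    apply mul_right_cancel₀ ht0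
    rw [← h1]
    ring
  · intro q hq hqp
    haveI := hq.1.1
    have h1 := ψ_mk'_mul q hq (c * t) ⟨s * t + u, hnzd⟩
    have ht0 : Ideal.Quotient.mk q t = 0 := Ideal.Quotient.eq_zero_iff_mem.mpr (htq q hq hqp)
    have hu0 : algebraMap (A ⧸ q) (FractionRing (A ⧸ q)) (Ideal.Quotient.mk q u) ≠ 0 := by
      rw [Ne, map_eq_zero_iff _ (IsFractionRing.injective (A ⧸ q) (FractionRing (A ⧸ q))),
        Ideal.Quotient.eq_zero_iff_mem]
      exact huq q hq hqp
    simp only [map_add, map_mul, ht0, mul_zero, zero_add, map_zero] at h1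
    exact (mul_eq_zero.mp h1).resolve_right hu0

/-- Integrality over `A` of an element of the total ring of fractions can be tested in the fraction
fields of the quotients by the minimal primes. -/
theorem isIntegral_iff (x : FractionRing A) :
    IsIntegral A x ↔ ∀ (p : Ideal A) (hp : p ∈ minimalPrimes A), IsIntegral A (ψ p hp x) := by
  classical
  constructor
  · intro h p hp
    exact h.map (ψₐ p hp)
  · intro h
    have hfin : (minimalPrimes A).Finite := minimalPrimes.finite_of_isNoetherianRing A
    have key : ∀ T : Finset (Ideal A), (∀ q ∈ T, q ∈ minimalPrimes A) →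
        ∃ F : Polynomial A, F.Monic ∧ ∀ (q : Ideal A) (hq : q ∈ minimalPrimes A), q ∈ T →
          Polynomial.aeval (ψ q hq x) F = 0 := by
      intro T
      induction T using Finset.induction_on with
      | empty => intro _; exact ⟨1, Polynomial.monic_one, fun q hq hqT => by simp at hqT⟩
      | insert q T hqT ih =>
        intro hT
        obtain ⟨F, hF, hFT⟩ := ih (fun q' hq' => hT q' (Finset.mem_insert_of_mem hq'))
        have hqmin := hT q (Finset.mem_insert_self q T)
        obtain ⟨f, hf, hfx⟩ := h q hqmin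
        refine ⟨f * F, hf.mul hF, ?_⟩
        intro q' hq' hq'T
        rw [map_mul]
        rcases Finset.mem_insert.mp hq'T with rfl | h'
        · have : Polynomial.aeval (ψ q' hq' x) f = 0 := hfx
          rw [this, zero_mul]
        · rw [hFT q' hq' h', mul_zero]
    obtain ⟨F, hF, hFx⟩ := key hfin.toFinset (fun q hq => hfin.mem_toFinset.mp hq)
    refine ⟨F, hF, ?_⟩
    apply eq_zero_of_forall_ψ
    intro p hp
    have h1 : ψ p hp (Polynomial.eval₂ (algebraMap A (FractionRing A)) x F) =
        Polynomial.aeval (ψ p hp x) F := by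
      have := Polynomial.aeval_algHom_apply (ψₐ p hp) x F
      rw [ψₐ_apply, ψₐ_apply] at this
      rw [this]
      rfl
    rw [h1]
    exact hFx p hp (hfin.mem_toFinset.mpr hp)

end Groth.Agent.H11.TotalFrac
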