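import Mathlib
import Groth.Agent.H11.TotalFrac
import Groth.Agent.H11.KrullNormal
import Groth.Agent.H68.Hartogs
import Groth.Prelude.Def_FEt

/-!
# Sections over the punctured spectrum are integral (helper11; EGA IV 5.10/5.11-type)

For a reduced Noetherian local ring `A` such that every maximal ideal of its normalization `A'` has
height `≥ 2`, the ring `Γ(U, 𝒪)` of sections over the punctured spectrum embeds into `A'`.
-/

set_option autoImplicit false
set_option maxHeartbeats 1600000
set_option linter.style.haveILetI false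
set_option linter.unusedVariables false
set_option linter.unusedSectionVars false

universe u

open IsLocalRing Groth.Agent.H11.TotalFrac

namespace Groth.Agent.H11.PuncturedInt

section Alg

variable (A : Type u) [CommRing A] [IsNoetherianRing A] [IsLocalRing A] [IsReduced A]

/-- Under the dimension hypothesis, the maximal ideal contains a non-zero-divisor. -/
theorem exists_nzd
    (hdim : ∀ (m' : Ideal ↥(integralClosure A (FractionRing A))) [m'.IsMaximal],
      m'.comap (algebraMap A ↥(integralClosure A (FractionRing A))) = maximalIdeal A →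
        2 ≤ ringKrullDim (Localization.AtPrime m')) :
    ∃ a ∈ maximalIdeal A, a ∈ nonZeroDivisors A := by
  classical
  by_contra hcon
  push Not at hcon
  have hfin : (minimalPrimes A).Finite := minimalPrimes.finite_of_isNoetherianRing A
  have hsub : ((maximalIdeal A : Ideal A) : Set A) ⊆
      ⋃ q ∈ (↑hfin.toFinset : Set (Ideal A)), ((fun q : Ideal A => q) q : Set A) := by
    intro b hb
    have h1 := hcon b hb
    by_contra hb'
    apply h1
    apply mem_nonZeroDivisors_of_forall_notMem
    intro p hp hbp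
    exact hb' (Set.mem_biUnion (Finset.mem_coe.mpr (hfin.mem_toFinset.mpr hp)) hbp)
  rw [Ideal.subset_union_prime (f := fun q : Ideal A => q) ⊥ ⊥
    (fun q hq _ _ => (hfin.mem_toFinset.mp hq).1.1)] at hsub
  obtain ⟨p, hpS, hle⟩ := hsub
  have hp := hfin.mem_toFinset.mp hpS
  haveI hpp : p.IsPrime := hp.1.1
  have hpm : p = maximalIdeal A := ((maximalIdeal.isMaximal A).eq_of_le hpp.ne_top hle).symm
  -- the maximal ideal is zero
  have hm0 : maximalIdeal A = ⊥ := by
    rw [eq_bot_iff]
    intro z hz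
    rw [Ideal.mem_bot]
    apply eq_zero_of_forall_mem_minimalPrimes
    intro q hq
    haveI := hq.1.1
    have hqle : q ≤ p := by rw [hpm]; exact IsLocalRing.le_maximalIdeal hq.1.1.ne_top
    have : p ≤ q := hp.2 ⟨hq.1.1, bot_le⟩ hqle
    exact this (hpm ▸ hz)
  -- a maximal ideal of `A'`
  obtain ⟨m', hm'⟩ := Ideal.exists_maximal ↥(integralClosure A (FractionRing A))
  haveI := hm'
  have hcomap : m'.comap (algebraMap A ↥(integralClosure A (FractionRing A))) = maximalIdeal A := by
    rw [hm0, eq_bot_iff, ← hm0]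
    exact IsLocalRing.le_maximalIdeal (Ideal.comap_ne_top _ hm'.ne_top)
  have h2 := hdim m' hcomap
  rw [IsLocalization.AtPrime.ringKrullDim_eq_height m' (Localization.AtPrime m')] at h2
  have h0 : m'.height ≤ ((0 : ℕ) : ℕ∞) := by
    rw [Ideal.height_le_iff]
    intro q hq hlt
    exfalso
    haveI := hq
    have hqc : q.comap (algebraMap A ↥(integralClosure A (FractionRing A))) = maximalIdeal A := by
      rw [hm0, eq_bot_iff, ← hm0]
      exact IsLocalRing.le_maximalIdeal (Ideal.comap_ne_top _ hq.ne_top)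
    have hqmax : q.IsMaximal :=
      Ideal.isMaximal_of_isIntegral_of_isMaximal_comap (R := A) q
        (by rw [hqc]; exact maximalIdeal.isMaximal A)
    exact (ne_of_lt hlt) (hqmax.eq_of_le hm'.ne_top hlt.le)
  have h3 : (((2 : ℕ) : ℕ∞) : WithBot ℕ∞) ≤ ((m'.height : ℕ∞) : WithBot ℕ∞) := h2
  have h4 : ((2 : ℕ) : ℕ∞) ≤ m'.height := WithBot.coe_le_coe.mp h3
  have h5 := h4.trans h0
  exact absurd (by exact_mod_cast h5 : (2 : ℕ) ≤ 0) (by norm_num)

/-- The key algebraic statement: an element of the total ring of fractions which is carried into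
`A` by a power of each element of the maximal ideal is integral over `A`. -/
theorem isIntegral_of_punctured
    (hdim : ∀ (m' : Ideal ↥(integralClosure A (FractionRing A))) [m'.IsMaximal],
      m'.comap (algebraMap A ↥(integralClosure A (FractionRing A))) = maximalIdeal A →
        2 ≤ ringKrullDim (Localization.AtPrime m'))
    (x : FractionRing A)
    (hx : ∀ g ∈ maximalIdeal A, ∃ (M : ℕ) (c : A),
      algebraMap A (FractionRing A) g ^ M * x = algebraMap A (FractionRing A) c) :
    IsIntegral A x := by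
  rw [isIntegral_iff]
  intro p hp
  haveI hpp : p.IsPrime := hp.1.1
  haveI : IsLocalRing (A ⧸ p) :=
    IsLocalRing.of_surjective' (Ideal.Quotient.mk p) Ideal.Quotient.mk_surjective
  haveI : Algebra.IsIntegral A (A ⧸ p) :=
    Algebra.isIntegral_of_surjective Ideal.Quotient.mk_surjective
  suffices h : IsIntegral (A ⧸ p) (ψ p hp x) from isIntegral_trans _ h
  by_contra hnot
  have hxnot : ψ p hp x ∉ integralClosure (A ⧸ p) (FractionRing (A ⧸ p)) := hnot
  obtain ⟨P, hP, hPne, hPmin, hPx⟩ :=
    Groth.Agent.H11.KrullNormal.exists_prime_integralClosure (A ⧸ p) (FractionRing (A ⧸ p))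
      (ψ p hp x) hxnot
  haveI := hP
  -- every element of the maximal ideal maps into `P`
  have hmP : ∀ g ∈ maximalIdeal A,
      algebraMap (A ⧸ p) ↥(integralClosure (A ⧸ p) (FractionRing (A ⧸ p)))
        (Ideal.Quotient.mk p g) ∈ P := by
    intro g hg
    obtain ⟨M, c, hc⟩ := hx g hg
    have h1 : algebraMap (A ⧸ p) (FractionRing (A ⧸ p)) (Ideal.Quotient.mk p g) ^ M * ψ p hp x =
        algebraMap (A ⧸ p) (FractionRing (A ⧸ p)) (Ideal.Quotient.mk p c) := by
      have := congrArg (ψ p hp) hc
      rwa [map_mul, map_pow, ψ_algebraMap, ψ_algebraMap] at this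
    by_contra hgP
    have hpow : (algebraMap (A ⧸ p) ↥(integralClosure (A ⧸ p) (FractionRing (A ⧸ p)))
        (Ideal.Quotient.mk p g)) ^ M ∉ P := fun h => hgP (hP.mem_of_pow_mem M h)
    apply hPx _ hpow
    have h2 : (((algebraMap (A ⧸ p) ↥(integralClosure (A ⧸ p) (FractionRing (A ⧸ p)))
        (Ideal.Quotient.mk p g)) ^ M : ↥(integralClosure (A ⧸ p) (FractionRing (A ⧸ p)))) :
          FractionRing (A ⧸ p)) * ψ p hp x =
        algebraMap (A ⧸ p) (FractionRing (A ⧸ p)) (Ideal.Quotient.mk p c) := by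
      rw [← h1]
      rfl
    rw [h2]
    exact Subalgebra.algebraMap_mem _ _
  -- the projection `A' → D'`
  have hπmem : ∀ y : ↥(integralClosure A (FractionRing A)),
      ((ψ p hp).comp (algebraMap ↥(integralClosure A (FractionRing A)) (FractionRing A))) y ∈
        integralClosure (A ⧸ p) (FractionRing (A ⧸ p)) := by
    intro y
    have h1 : IsIntegral A (ψ p hp (y : FractionRing A)) :=
      (y.2 : IsIntegral A (y : FractionRing A)).map (ψₐ p hp)
    exact h1.tower_top
  let π : ↥(integralClosure A (FractionRing A)) →+*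
      ↥(integralClosure (A ⧸ p) (FractionRing (A ⧸ p))) :=
    RingHom.codRestrict
      ((ψ p hp).comp (algebraMap ↥(integralClosure A (FractionRing A)) (FractionRing A)))
      (integralClosure (A ⧸ p) (FractionRing (A ⧸ p))) hπmem
  have hπ_coe : ∀ y : ↥(integralClosure A (FractionRing A)),
      ((π y : ↥(integralClosure (A ⧸ p) (FractionRing (A ⧸ p)))) : FractionRing (A ⧸ p)) =
        ψ p hp (y : FractionRing A) := fun y => rfl
  have hπ_alg : ∀ a : A, π (algebraMap A ↥(integralClosure A (FractionRing A)) a) =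
      algebraMap (A ⧸ p) ↥(integralClosure (A ⧸ p) (FractionRing (A ⧸ p)))
        (Ideal.Quotient.mk p a) := by
    intro a
    apply Subtype.ext
    rw [hπ_coe]
    exact ψ_algebraMap p hp a
  -- surjectivity and the idempotent
  have hlift : ∀ z : ↥(integralClosure (A ⧸ p) (FractionRing (A ⧸ p))),
      ∃ y : ↥(integralClosure A (FractionRing A)), π y = z ∧
        ∀ (q : Ideal A) (hq : q ∈ minimalPrimes A), q ≠ p → ψ q hq (y : FractionRing A) = 0 := by
    intro z
    obtain ⟨y₀, hy₀, hy₀q⟩ := exists_lift p hp (z : FractionRing (A ⧸ p))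
    have hint : IsIntegral A y₀ := by
      rw [isIntegral_iff]
      intro q hq
      by_cases hqp : q = p
      · subst hqp
        rw [hy₀]
        exact isIntegral_trans _ z.2
      · rw [hy₀q q hq hqp]
        exact isIntegral_zero
    exact ⟨⟨y₀, hint⟩, Subtype.ext hy₀, hy₀q⟩
  have hπsurj : Function.Surjective π := fun z => by
    obtain ⟨y, hy, -⟩ := hlift z
    exact ⟨y, hy⟩
  obtain ⟨e, he1, heq⟩ := hlift 1
  have hker : ∀ y : ↥(integralClosure A (FractionRing A)), π y = 0 → e * y = 0 := by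
    intro y hy
    apply Subtype.ext
    apply eq_zero_of_forall_ψ
    intro q hq
    show ψ q hq ((e : FractionRing A) * (y : FractionRing A)) = 0
    rw [map_mul]
    by_cases hqp : q = p
    · subst hqp
      have : ψ q hq (y : FractionRing A) = 0 := by
        rw [← hπ_coe, hy]; rfl
      rw [this, mul_zero]
    · rw [heq q hq hqp, zero_mul]
  -- the maximal ideal `m'`
  set m' : Ideal ↥(integralClosure A (FractionRing A)) := P.comap π with hm'def
  haveI hm'prime : m'.IsPrime := Ideal.comap_isPrime π P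
  have hm'A : m'.comap (algebraMap A ↥(integralClosure A (FractionRing A))) = maximalIdeal A := by
    ext a
    rw [Ideal.mem_comap, hm'def, Ideal.mem_comap, hπ_alg]
    constructor
    · intro h
      by_contra ha
      have hu : IsUnit a := by
        rwa [mem_maximalIdeal, mem_nonunits_iff, not_not] at ha
      exact hP.ne_top (Ideal.eq_top_of_isUnit_mem _ h
        ((hu.map (Ideal.Quotient.mk p)).map
          (algebraMap (A ⧸ p) ↥(integralClosure (A ⧸ p) (FractionRing (A ⧸ p))))))
    · exact hmP a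
  haveI hm'max : m'.IsMaximal :=
    Ideal.isMaximal_of_isIntegral_of_isMaximal_comap (R := A) m'
      (by rw [hm'A]; exact maximalIdeal.isMaximal A)
  have h2 := hdim m' hm'A
  rw [IsLocalization.AtPrime.ringKrullDim_eq_height m' (Localization.AtPrime m')] at h2
  have h3 : (((2 : ℕ) : ℕ∞) : WithBot ℕ∞) ≤ ((m'.height : ℕ∞) : WithBot ℕ∞) := h2
  have h4 : ((2 : ℕ) : ℕ∞) ≤ m'.height := WithBot.coe_le_coe.mp h3
  -- a chain `Q₀ < Q₁ < m'`
  have hnot1 : ¬ m'.height ≤ ((1 : ℕ) : ℕ∞) := by
    intro h
    have := h4.trans h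
    exact absurd (by exact_mod_cast this : (2 : ℕ) ≤ 1) (by norm_num)
  rw [Ideal.height_le_iff] at hnot1
  push Not at hnot1
  obtain ⟨Q₁, hQ₁, hQ₁lt, hQ₁h⟩ := hnot1
  haveI := hQ₁
  have hnot0 : ¬ Q₁.height ≤ ((0 : ℕ) : ℕ∞) := by
    intro h
    have h' : Q₁.height < 1 := lt_of_le_of_lt h (by norm_num)
    exact absurd h' (not_lt.mpr hQ₁h)
  rw [Ideal.height_le_iff] at hnot0
  push Not at hnot0
  obtain ⟨Q₀, hQ₀, hQ₀lt, -⟩ := hnot0
  haveI := hQ₀
  -- the kernel of `π` is contained in every prime below `m'`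
  have he_notMem : e ∉ m' := by
    intro h
    have : π e ∈ P := h
    rw [he1] at this
    exact hP.ne_top ((Ideal.eq_top_iff_one P).mpr this)
  have hkerle : ∀ Q : Ideal ↥(integralClosure A (FractionRing A)), Q.IsPrime → Q ≤ m' →
      RingHom.ker π ≤ Q := by
    intro Q hQ hQle y hy
    have h1 : e * y ∈ Q := by rw [hker y hy]; exact Q.zero_mem
    exact (hQ.mem_or_mem h1).resolve_left (fun h => he_notMem (hQle h))
  -- push the chain down
  have hP₁prime : (Q₁.map π).IsPrime :=
    Ideal.map_isPrime_of_surjective hπsurj (hkerle Q₁ hQ₁ hQ₁lt.le)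
  have hcm : (Q₁.map π).comap π = Q₁ := by
    rw [Ideal.comap_map_of_surjective π hπsurj, sup_eq_left]
    exact fun y hy => hkerle Q₁ hQ₁ hQ₁lt.le hy
  have hP₁le : Q₁.map π ≤ P := Ideal.map_le_iff_le_comap.mpr hQ₁lt.le
  have hP₁ne : Q₁.map π ≠ ⊥ := by
    intro h0
    have h1 : Q₁ ≤ RingHom.ker π := by
      intro y hy
      rw [RingHom.mem_ker]
      have : π y ∈ Q₁.map π := Ideal.mem_map_of_mem π hy
      rw [h0] at this
      exact this
    exact absurd (h1.trans (hkerle Q₀ hQ₀ (hQ₀lt.le.trans hQ₁lt.le))) (not_le_of_gt hQ₀lt)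
  have hP₁eq : Q₁.map π = P := hPmin _ hP₁prime hP₁ne hP₁le
  rw [hP₁eq] at hcm
  exact (ne_of_lt hQ₁lt) hcm.symm

end Alg

section Sch

open AlgebraicGeometry CategoryTheory Opposite Groth.Agent.H68.Hartogs Groth.Agent.H68.DepthConn

variable (A : Type u) [CommRing A] [IsNoetherianRing A] [IsLocalRing A] [IsReduced A]

set_option backward.isDefEq.respectTransparency false in
/-- **Main theorem**: sections over the punctured spectrum are integral over `A` and embed into the
normalization. -/
theorem main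
    (hdim : ∀ (m' : Ideal ↥(integralClosure A (FractionRing A))) [m'.IsMaximal],
      m'.comap (algebraMap A ↥(integralClosure A (FractionRing A))) = IsLocalRing.maximalIdeal A →
        2 ≤ ringKrullDim (Localization.AtPrime m')) :
    (((Spec (CommRingCat.of A)).presheaf.map
        (homOfLE (le_top : FEt.puncturedSpec A ≤ ⊤)).op).hom.comp
        (Scheme.ΓSpecIso (CommRingCat.of A)).inv.hom).IsIntegral ∧
      ∃ φ : ↑((Spec (CommRingCat.of A)).presheaf.obj (op (FEt.puncturedSpec A))) →+*
          ↥(integralClosure A (FractionRing A)),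
        Function.Injective φ ∧
          φ.comp (((Spec (CommRingCat.of A)).presheaf.map
            (homOfLE (le_top : FEt.puncturedSpec A ≤ ⊤)).op).hom.comp
            (Scheme.ΓSpecIso (CommRingCat.of A)).inv.hom) =
            algebraMap A ↥(integralClosure A (FractionRing A)) := by
  set Y : Scheme.{u} := Spec (CommRingCat.of A) with hY
  set U : Y.Opens := FEt.puncturedSpec A with hU
  let ι : A →+* Γ(Y, ⊤) := (Scheme.ΓSpecIso (CommRingCat.of A)).inv.hom
  let κ : Γ(Y, ⊤) →+* A := (Scheme.ΓSpecIso (CommRingCat.of A)).hom.hom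
  have hκι : ∀ r : A, κ (ι r) = r := fun r =>
    Iso.inv_hom_id_apply (Scheme.ΓSpecIso (CommRingCat.of A)) r
  have hικ : ∀ s : Γ(Y, ⊤), ι (κ s) = s := fun s =>
    Iso.hom_inv_id_apply (Scheme.ΓSpecIso (CommRingCat.of A)) s
  obtain ⟨a, ham, hanzd⟩ := exists_nzd A hdim
  set â : Γ(Y, ⊤) := ι a with hâdef
  have hâ : ∀ z : Γ(Y, ⊤), â * z = 0 → z = 0 := by
    intro z hz
    have h1 : a * κ z = 0 := by
      have := congrArg κ hz
      rwa [map_mul, map_zero, hκι] at this
    have h2 : κ z = 0 := by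
      rw [mul_comm] at h1
      exact (mem_nonZeroDivisors_iff_right.mp hanzd) _ h1
    rw [← hικ z, h2, map_zero]
  have hDle : ∀ g ∈ IsLocalRing.maximalIdeal A, Y.basicOpen (ι g) ≤ U := by
    intro g hg y hy
    have h1 : Y.basicOpen (ι g) = PrimeSpectrum.basicOpen g :=
      basicOpen_eq_of_affine (R := CommRingCat.of A) g
    rw [h1] at hy
    have hy' : g ∉ y.asIdeal := hy
    show y ∈ ({IsLocalRing.closedPoint A}ᶜ : Set (PrimeSpectrum A))
    intro hyc
    rw [Set.mem_singleton_iff] at hyc
    apply hy'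
    rw [hyc]
    exact hg
  have haU : Y.basicOpen â ≤ U := hDle a ham
  let g₀ : Γ(Y, ⊤) →+* FractionRing A := (algebraMap A (FractionRing A)).comp κ
  have hg₀ι : ∀ r : A, g₀ (ι r) = algebraMap A (FractionRing A) r := fun r => by
    show algebraMap A (FractionRing A) (κ (ι r)) = _
    rw [hκι]
  have hunit : IsUnit (g₀ â) := by
    rw [hâdef, hg₀ι]
    exact IsLocalization.map_units (FractionRing A) (⟨a, hanzd⟩ : nonZeroDivisors A)
  let L : Γ(Y, Y.basicOpen â) →+* FractionRing A := IsLocalization.Away.lift â hunit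
  have hL : ∀ s : Γ(Y, ⊤), L (res ⊤ (Y.basicOpen â) le_top s) = g₀ s := fun s =>
    IsLocalization.Away.lift_eq â hunit s
  let φ₀ : Γ(Y, U) →+* FractionRing A := L.comp (res U (Y.basicOpen â) haU)
  have hLinj : ∀ s : Γ(Y, Y.basicOpen â), L s = 0 → s = 0 := by
    intro s hs
    obtain ⟨n, x₀, hx₀⟩ := exists_res_eq â s
    have h1 := congrArg L hx₀
    rw [map_mul, hs, zero_mul, hL] at h1
    have h2 : κ x₀ = 0 :=
      IsFractionRing.injective A (FractionRing A) (by rw [map_zero]; exact h1.symm)
    have h3 : x₀ = 0 := by rw [← hικ x₀, h2, map_zero]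
    rw [h3, map_zero] at hx₀
    exact ((isUnit_res â).pow n).mul_left_eq_zero.mp hx₀
  have hφ₀inj : ∀ t : Γ(Y, U), φ₀ t = 0 → t = 0 := by
    intro t ht
    exact eq_zero_of_res_basicOpen_eq_zero â hâ U haU t (hLinj _ ht)
  -- the key property
  have hstar : ∀ t : Γ(Y, U), ∀ g ∈ IsLocalRing.maximalIdeal A, ∃ (M : ℕ) (c : A),
      algebraMap A (FractionRing A) g ^ M * φ₀ t = algebraMap A (FractionRing A) c := by
    intro t g hg
    set ĝ : Γ(Y, ⊤) := ι g with hĝdef
    obtain ⟨n, x₀, hx₀⟩ := exists_res_eq â (res U (Y.basicOpen â) haU t)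
    obtain ⟨k, y, hy⟩ := exists_res_eq ĝ (res U (Y.basicOpen ĝ) (hDle g hg) t)
    have hW1 : Y.basicOpen (â * ĝ) ≤ Y.basicOpen â := by
      rw [Scheme.basicOpen_mul]; exact inf_le_left
    have hW2 : Y.basicOpen (â * ĝ) ≤ Y.basicOpen ĝ := by
      rw [Scheme.basicOpen_mul]; exact inf_le_right
    have e1 := congrArg (res (Y.basicOpen â) (Y.basicOpen (â * ĝ)) hW1) hx₀
    have e2 := congrArg (res (Y.basicOpen ĝ) (Y.basicOpen (â * ĝ)) hW2) hy
    rw [map_mul, map_pow, res_res, res_res, res_res] at e1 e2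
    have e2' : res U (Y.basicOpen (â * ĝ)) (hW1.trans haU) t *
        res ⊤ (Y.basicOpen (â * ĝ)) le_top ĝ ^ k = res ⊤ (Y.basicOpen (â * ĝ)) le_top y := e2
    have e1' : res U (Y.basicOpen (â * ĝ)) (hW1.trans haU) t *
        res ⊤ (Y.basicOpen (â * ĝ)) le_top â ^ n = res ⊤ (Y.basicOpen (â * ĝ)) le_top x₀ := e1
    have e3 : res ⊤ (Y.basicOpen (â * ĝ)) le_top (ĝ ^ k * x₀ - â ^ n * y) = 0 := by
      rw [map_sub, map_mul, map_mul, map_pow, map_pow, ← e1', ← e2']
      ring
    obtain ⟨N, hN⟩ := res_eq_zero_imp (â * ĝ) _ e3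
    have e4 : ĝ ^ N * (ĝ ^ k * x₀ - â ^ n * y) = 0 := by
      apply pow_nzd hâ N
      rw [← mul_assoc, ← mul_pow]
      exact hN
    have e5 := congrArg g₀ e4
    simp only [map_mul, map_sub, map_pow, map_zero] at e5
    have hg₀â : g₀ â = algebraMap A (FractionRing A) a := hg₀ι a
    have hg₀ĝ : g₀ ĝ = algebraMap A (FractionRing A) g := hg₀ι g
    rw [hg₀â, hg₀ĝ] at e5
    have e6 : φ₀ t * algebraMap A (FractionRing A) a ^ n = g₀ x₀ := by
      have := congrArg L hx₀
      rw [map_mul, map_pow, hL, hL, hg₀â] at this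
      exact this
    refine ⟨N + k, g ^ N * κ y, ?_⟩
    have hun : IsUnit (algebraMap A (FractionRing A) a ^ n) := by
      have := hunit
      rw [hg₀â] at this
      exact this.pow n
    apply hun.mul_right_cancel
    have hy' : g₀ y = algebraMap A (FractionRing A) (κ y) := rfl
    rw [map_mul, map_pow]
    rw [hy'] at e5
    linear_combination (algebraMap A (FractionRing A) g ^ (N + k)) * e6 + e5
  have hint : ∀ t : Γ(Y, U), φ₀ t ∈ integralClosure A (FractionRing A) := fun t =>
    isIntegral_of_punctured A hdim (φ₀ t) (hstar t)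
  let φ : Γ(Y, U) →+* ↥(integralClosure A (FractionRing A)) :=
    RingHom.codRestrict φ₀ (integralClosure A (FractionRing A)) hint
  have hφinj : Function.Injective φ := by
    rw [injective_iff_map_eq_zero]
    intro t ht
    apply hφ₀inj
    have := congrArg (fun c : ↥(integralClosure A (FractionRing A)) => (c : FractionRing A)) ht
    exact this
  have hcomp₀ : ∀ r : A, φ₀ (res ⊤ U le_top (ι r)) = algebraMap A (FractionRing A) r := by
    intro r
    show L (res U (Y.basicOpen â) haU (res ⊤ U le_top (ι r))) = _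
    rw [res_res, hL, hg₀ι]
  have hcomp : φ.comp ((res ⊤ U le_top).comp ι) =
      algebraMap A ↥(integralClosure A (FractionRing A)) := by
    ext r
    exact hcomp₀ r
  refine ⟨?_, φ, hφinj, hcomp⟩
  intro t
  obtain ⟨F, hF, hFt⟩ := hint t
  refine ⟨F, hF, ?_⟩
  apply hφ₀inj
  rw [Polynomial.hom_eval₂]
  have h1 : φ₀.comp ((res ⊤ U le_top).comp ι) = algebraMap A (FractionRing A) := by
    ext r
    exact hcomp₀ r
  have h2 : φ₀.comp (((Spec (CommRingCat.of A)).presheaf.map
        (homOfLE (le_top : FEt.puncturedSpec A ≤ ⊤)).op).hom.comp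
        (Scheme.ΓSpecIso (CommRingCat.of A)).inv.hom) = algebraMap A (FractionRing A) := h1
  rw [h2]
  exact hFt

end Sch

end Groth.Agent.H11.PuncturedInt
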