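import Groth.Prelude.Def_Found
import Groth.Prelude.Def_EGA4b
import Groth.Agent.H11.LocalGlobalN2
import Groth.Agent.H11.FormalFibreNagata
import Groth.Agent.S0558
import Groth.Agent.S9829
import Mathlib

set_option autoImplicit false
set_option linter.style.haveILetI false
set_option linter.unusedSectionVars false

universe u

namespace Groth.Agent.H11.QENagata

open TensorProduct IsLocalRing

/-- A regular ring is reduced. -/
theorem isReduced_of_isRegularRing (S : Type u) [CommRing S] [IsRegularRing S] : IsReduced S := by
  refine isReduced_ofLocalizationMaximal S fun m hm => ?_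
  haveI : IsRegularLocalRing (Localization.AtPrime m) :=
    IsRegularRing.isRegularLocalRing_localization m
  haveI : IsDomain (Localization.AtPrime m) := Groth.Agent.S0558.result _
  infer_instance

/-- Geometric regularity (finite extensions) implies geometric reducedness. -/
theorem isGeometricallyReduced_of_isGeometricallyRegular (k : Type u) [Field k] (S : Type u)
    [CommRing S] [Algebra k S] (h : CAlg.IsGeometricallyRegular k S) :
    Algebra.IsGeometricallyReduced k S := by
  rw [Algebra.isGeometricallyReduced_field_iff]
  have h1 : IsReduced (S ⊗[k] AlgebraicClosure k) := by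
    refine IsReduced.tensorProduct_of_flat_of_forall_fg fun B hB => ?_
    obtain ⟨t, ht, rfl⟩ := Subalgebra.fg_def.mp hB
    let k' := IntermediateField.adjoin k t
    haveI : Finite t := ht
    haveI : FiniteDimensional k k' :=
      IntermediateField.finiteDimensional_adjoin fun x _ => Algebra.IsIntegral.isIntegral x
    haveI : IsRegularRing (k' ⊗[k] S) := h k' inferInstance
    haveI : IsReduced (k' ⊗[k] S) := isReduced_of_isRegularRing (k' ⊗[k] S)
    let ι : Algebra.adjoin k t →ₐ[k] k' :=
      Subalgebra.inclusion (IntermediateField.algebra_adjoin_le_adjoin k t)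
    have hι : Function.Injective ι := Subalgebra.inclusion_injective _
    let f : S ⊗[k] (Algebra.adjoin k t) →ₐ[k] k' ⊗[k] S :=
      (Algebra.TensorProduct.comm k S k').toAlgHom.comp
        (Algebra.TensorProduct.map (AlgHom.id k S) ι)
    have hf : Function.Injective f := by
      have h2 : Function.Injective (Algebra.TensorProduct.map (AlgHom.id k S) ι) :=
        Module.Flat.lTensor_preserves_injective_linearMap (M := S) ι.toLinearMap hι
      exact (Algebra.TensorProduct.comm k S k').injective.comp h2
    exact isReduced_of_injective f.toRingHom hf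
  exact isReduced_of_injective (Algebra.TensorProduct.comm k (AlgebraicClosure k) S).toAlgHom.toRingHom
    (Algebra.TensorProduct.comm k (AlgebraicClosure k) S).injective

/-- A G-ring has local rings with geometrically reduced formal fibres. -/
theorem hasGeomReducedFormalFibres_of_isGRing (A : Type u) [CommRing A] (hG : CAlg.IsGRing A)
    (m : Ideal A) [m.IsPrime] : EGA4.HasGeomReducedFormalFibres (Localization.AtPrime m) := by
  intro q _
  exact isGeometricallyReduced_of_isGeometricallyRegular _ _ ((hG.2 m).2 q).2

/-- The localization of a domain at `⊥` is a regular local ring. -/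
theorem isRegularLocalRing_localization_bot (B : Type u) [CommRing B] [IsDomain B]
    [IsNoetherianRing B] : IsRegularLocalRing (Localization.AtPrime (⊥ : Ideal B)) := by
  have hmax : maximalIdeal (Localization.AtPrime (⊥ : Ideal B)) = ⊥ := by
    rw [← IsLocalization.AtPrime.map_eq_maximalIdeal (⊥ : Ideal B), Ideal.map_bot]
  have hfield : IsField (Localization.AtPrime (⊥ : Ideal B)) :=
    IsLocalRing.isField_iff_maximalIdeal_eq.mpr hmax
  rw [isRegularLocalRing_iff, hmax, ringKrullDim_eq_zero_of_isField hfield]
  simp [Submodule.spanFinrank_bot]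

/-- Generic normality from openness of the regular locus. -/
theorem exists_isIntegrallyClosed_away (B : Type u) [CommRing B] [IsDomain B] [IsNoetherianRing B]
    (hopen : IsOpen (EGA4.regLocus B)) :
    ∃ f : B, f ≠ 0 ∧ IsIntegrallyClosed (Localization.Away f) := by
  let x₀ : PrimeSpectrum B := ⟨⊥, Ideal.isPrime_bot⟩
  have hx₀ : x₀ ∈ EGA4.regLocus B := isRegularLocalRing_localization_bot B
  obtain ⟨v, ⟨g, rfl⟩, hgx, hgsub⟩ :=
    PrimeSpectrum.isTopologicalBasis_basic_opens.exists_subset_of_mem_open hx₀ hopen
  have hg0 : g ≠ 0 := by
    intro h0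
    apply hgx
    show g ∈ (⊥ : Ideal B)
    rw [h0]; exact zero_mem _
  refine ⟨g, hg0, ?_⟩
  haveI : IsDomain (Localization.Away g) :=
    IsLocalization.isDomain_localization (powers_le_nonZeroDivisors_of_noZeroDivisors hg0)
  refine IsIntegrallyClosed.of_localization_maximal fun q _ _ => ?_
  let q' : Ideal B := q.comap (algebraMap B (Localization.Away g))
  haveI : q'.IsPrime := Ideal.comap_isPrime _ _
  have hgq' : g ∉ q' := by
    intro hmem
    have hunit : IsUnit (algebraMap B (Localization.Away g) g) :=
      IsLocalization.map_units (Localization.Away g) (⟨g, Submonoid.mem_powers g⟩ : Submonoid.powers g)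
    exact (Ideal.IsPrime.ne_top inferInstance) (Ideal.eq_top_of_isUnit_mem q hmem hunit)
  have hreg : IsRegularLocalRing (Localization.AtPrime q') :=
    hgsub (show (⟨q', inferInstance⟩ : PrimeSpectrum B) ∈ (PrimeSpectrum.basicOpen g : Set _) from hgq')
  haveI : IsIntegrallyClosed (Localization.AtPrime q') := Groth.Agent.S9829.result _
  exact IsIntegrallyClosed.of_equiv
    (IsLocalization.localizationLocalizationAtPrimeIsoLocalization (Submonoid.powers g) q).toRingEquiv

/-- A quasi-excellent ring is Nagata. -/
theorem isNagata_of_isQuasiExcellent (A : Type u) [CommRing A] (hA : EGA4.IsQuasiExcellent A) :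
    CAlg.IsNagata A := by
  obtain ⟨hNoeth, hG, hJ⟩ := hA
  refine ⟨hNoeth, fun p _ => ?_⟩
  refine Groth.Agent.H11.LocalGlobalN2.isN2_of_local_of_generic (A ⧸ p) ?_ ?_
  · intro mb _
    refine Groth.Agent.H11.LocalGlobalN2.isN2_localization_quotient p mb fun P _ => ?_
    have hfib := hasGeomReducedFormalFibres_of_isGRing A hG (mb.comap (Ideal.Quotient.mk p))
    exact (Groth.Agent.H11.FormalFibreNagata.isNagata_of_geomReducedFormalFibres _ hfib).2 P
  · intro K' _ _ _ _ _ _ B' hfin hfrac
    haveI := hfin
    haveI : IsNoetherianRing B' := IsNoetherianRing.of_finite (A ⧸ p) B'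
    letI : Algebra A B' := ((algebraMap (A ⧸ p) B').comp (Ideal.Quotient.mk p)).toAlgebra
    haveI : IsScalarTower A (A ⧸ p) B' := IsScalarTower.of_algebraMap_eq fun _ => rfl
    have hft : Algebra.FiniteType A B' :=
      Algebra.FiniteType.trans (S := A ⧸ p) inferInstance inferInstance
    exact exists_isIntegrallyClosed_away B' (hJ B' hft)

end Groth.Agent.H11.QENagata
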