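import Mathlib
import Groth.Prelude.Def_SGA1

/-! (RA) for the S2907 squad (helper79): restriction of a group action to a stable open. -/

set_option autoImplicit false
universe u
open CategoryTheory CategoryTheory.Limits AlgebraicGeometry

namespace Groth.Agent.H11.QuotGlue_RA

theorem exists_resAct {X : Scheme.{u}} {G : Type u} [Group G] (ρ : G →* Aut X) (V : X.Opens)
    (hV : ∀ g : G, (ρ g).hom ⁻¹ᵁ V = V) :
    ∃ ρV : G →* Aut V.toScheme, ∀ g : G, (ρV g).hom ≫ V.ι = V.ι ≫ (ρ g).hom := by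
  -- the restricted morphisms
  have hrange : ∀ g : G, Set.range (V.ι ≫ (ρ g).hom).base ⊆ Set.range V.ι.base := by
    intro g
    rintro _ ⟨x, rfl⟩
    rw [Scheme.Opens.range_ι]
    have hx : (V.ι x) ∈ (V : Set X) := by
      rw [← Scheme.Opens.range_ι]; exact ⟨x, rfl⟩
    have : V.ι x ∈ ((ρ g).hom ⁻¹ᵁ V : X.Opens) := by rw [hV g]; exact hx
    exact this
  let r : G → (V.toScheme ⟶ V.toScheme) := fun g =>
    IsOpenImmersion.lift V.ι (V.ι ≫ (ρ g).hom) (hrange g)
  have hr : ∀ g, r g ≫ V.ι = V.ι ≫ (ρ g).hom := fun g => IsOpenImmersion.lift_fac _ _ _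
  have hr_one : r 1 = 𝟙 _ := by
    rw [← cancel_mono V.ι, hr, map_one]
    simp
    rfl
  have hr_mul : ∀ g h : G, r (g * h) = r h ≫ r g := by
    intro g h
    rw [← cancel_mono V.ι, hr, Category.assoc, hr, ← Category.assoc, hr, Category.assoc, map_mul]
    rfl
  let a : G → Aut V.toScheme := fun g =>
    { hom := r g
      inv := r g⁻¹
      hom_inv_id := by rw [← hr_mul, inv_mul_cancel, hr_one]
      inv_hom_id := by rw [← hr_mul, mul_inv_cancel, hr_one] }
  refine ⟨{ toFun := a, map_one' := ?_, map_mul' := ?_ }, fun g => hr g⟩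
  · apply Iso.ext
    exact hr_one
  · intro g h
    apply Iso.ext
    exact hr_mul g h

end Groth.Agent.H11.QuotGlue_RA
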