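import Mathlib
import Groth.Prelude.Def_SGA1
import Groth.Agent.S2908
import Groth.Agent.S13606
import Groth.Agent.S2925
import Groth.Agent.H11.QuotGlue_RA

/-! (UQ) for the S2907 squad (helper79): the quotient of a stable open is an open of the
quotient. -/

set_option autoImplicit false
universe u
open CategoryTheory CategoryTheory.Limits AlgebraicGeometry

namespace Groth.Agent.H11.QuotGlue_UQ

theorem isOpenImmersion_of_isQuot_of_isQuot {X Y V Z : Scheme.{u}} {G : Type u} [Group G]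
    [Finite G] (ρ : G →* Aut X) (p : X ⟶ Y) (hp : SGA1.IsQuot ρ p) (i : V ⟶ X)
    [IsOpenImmersion i] (ρV : G →* Aut V) (hρV : ∀ g : G, (ρV g).hom ≫ i = i ≫ (ρ g).hom)
    (q : V ⟶ Z) (hq : SGA1.IsQuot ρV q) (j : Z ⟶ Y) (hj : q ≫ j = i ≫ p) :
    IsOpenImmersion j ∧ ∀ x : X, p.base x ∈ Set.range j.base → x ∈ Set.range i.base := by
  obtain ⟨hsurj, horb, hquot⟩ := Groth.Agent.S2908.result ρ p hp
  -- range of `i` is stable and saturated
  have hstab : ∀ (g : G) (v : V), (ρ g).hom.base (i.base v) ∈ Set.range i.base := by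
    intro g v
    refine ⟨(ρV g).hom.base v, ?_⟩
    have := congrArg (fun f : V ⟶ X => f.base v) (hρV g)
    simpa using this
  have hsat : ∀ x : X, p.base x ∈ p.base '' Set.range i.base → x ∈ Set.range i.base := by
    rintro x ⟨_, ⟨v, rfl⟩, hv⟩
    obtain ⟨g, hg⟩ := (horb (i.base v) x).1 hv
    rw [← hg]
    exact hstab g v
  have hpre_set : p.base ⁻¹' (p.base '' Set.range i.base) = Set.range i.base := by
    ext x
    exact ⟨fun hx => hsat x hx, fun hx => ⟨x, hx, rfl⟩⟩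
  have hOopen : IsOpen (p.base '' Set.range i.base) := by
    rw [← hquot.isOpen_preimage, hpre_set]
    exact i.isOpenEmbedding.isOpen_range
  let O : Y.Opens := ⟨p.base '' Set.range i.base, hOopen⟩
  have hpreO : ((p ⁻¹ᵁ O : X.Opens) : Set X) = Set.range i.base := hpre_set
  -- the action on `p⁻¹ O`
  have hstabO : ∀ g : G, (ρ g).hom ⁻¹ᵁ (p ⁻¹ᵁ O) = p ⁻¹ᵁ O := by
    intro g
    rw [← Scheme.Hom.comp_preimage, hp.inv g]
  obtain ⟨ρU, hρU⟩ := Groth.Agent.H11.QuotGlue_RA.exists_resAct ρ (p ⁻¹ᵁ O) hstabO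
  have hp' : SGA1.IsQuot ρU (p ∣_ O) := Groth.Agent.S13606.result ρ p hp O ρU hρU
  -- the equivariant iso
  have hrange : Set.range i.base = Set.range (p ⁻¹ᵁ O).ι.base := by
    rw [Scheme.Opens.range_ι, hpreO]
  let e : V ≅ (p ⁻¹ᵁ O).toScheme := IsOpenImmersion.isoOfRangeEq i (p ⁻¹ᵁ O).ι hrange
  have he : e.hom ≫ (p ⁻¹ᵁ O).ι = i := IsOpenImmersion.isoOfRangeEq_hom_fac _ _ _
  have he' : e.inv ≫ i = (p ⁻¹ᵁ O).ι := by rw [← he, Iso.inv_hom_id_assoc]
  have hequiv : ∀ g : G, e.hom ≫ (ρU g).hom = (ρV g).hom ≫ e.hom := by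
    intro g
    rw [← cancel_mono (p ⁻¹ᵁ O).ι, Category.assoc, hρU, ← Category.assoc, he, Category.assoc, he,
      hρV]
  have hequiv' : ∀ g : G, (ρU g).hom ≫ e.inv = e.inv ≫ (ρV g).hom := by
    intro g
    rw [← cancel_epi e.hom, ← Category.assoc, hequiv, Category.assoc, Iso.hom_inv_id,
      Category.comp_id, Iso.hom_inv_id_assoc]
  have hres : (p ∣_ O) ≫ O.ι = (p ⁻¹ᵁ O).ι ≫ p := morphismRestrict_ι p O
  -- the two comparison maps
  obtain ⟨a, ha, -⟩ := Groth.Agent.S2925.result ρV q hq O.toScheme (e.hom ≫ (p ∣_ O)) (by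
    intro g
    rw [← Category.assoc, ← hequiv, Category.assoc, hp'.inv])
  obtain ⟨b, hb, -⟩ := Groth.Agent.S2925.result ρU (p ∣_ O) hp' Z (e.inv ≫ q) (by
    intro g
    rw [← Category.assoc, hequiv', Category.assoc, hq.inv])
  have hab : a ≫ b = 𝟙 Z := by
    obtain ⟨c, -, hc⟩ := Groth.Agent.S2925.result ρV q hq Z q hq.inv
    have h1 : a ≫ b = c := hc _ (by
      beta_reduce
      rw [← Category.assoc, ha, Category.assoc, hb, Iso.hom_inv_id_assoc])
    have h2 : 𝟙 Z = c := hc _ (by beta_reduce; exact Category.comp_id _)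
    rw [h1, h2]
  have hba : b ≫ a = 𝟙 O.toScheme := by
    obtain ⟨c, -, hc⟩ := Groth.Agent.S2925.result ρU (p ∣_ O) hp' O.toScheme (p ∣_ O) hp'.inv
    have h1 : b ≫ a = c := hc _ (by
      beta_reduce
      rw [← Category.assoc, hb, Category.assoc, ha, Iso.inv_hom_id_assoc])
    have h2 : 𝟙 _ = c := hc _ (by beta_reduce; exact Category.comp_id _)
    rw [h1, h2]
  have haiso : IsIso a := ⟨b, hab, hba⟩
  have hjfac : j = a ≫ O.ι := by
    obtain ⟨c, -, hc⟩ := Groth.Agent.S2925.result ρV q hq Y (i ≫ p) (by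
      intro g
      rw [← Category.assoc, hρV, Category.assoc, hp.inv])
    have h1 : j = c := hc _ hj
    have h2 : a ≫ O.ι = c := hc _ (by
      beta_reduce
      rw [← Category.assoc, ha, Category.assoc, hres, ← Category.assoc, he])
    rw [h1, h2]
  refine ⟨?_, ?_⟩
  · rw [hjfac]
    infer_instance
  · intro x hx
    apply hsat
    rw [hjfac] at hx
    obtain ⟨z, hz⟩ := hx
    have : (O.ι.base (a.base z)) ∈ (O : Set Y) := by
      rw [← Scheme.Opens.range_ι]
      exact ⟨_, rfl⟩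
    have hz' : (a ≫ O.ι).base z = O.ι.base (a.base z) := by simp
    rw [← hz, hz']
    exact this

end Groth.Agent.H11.QuotGlue_UQ
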