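import Mathlib

/-!
# Integral closure in a purely inseparable extension `x ^ p = a` with `D a ≠ 0`

Elementary proof: if `b = ∑ α_i x^i` is integral, then `b ^ p = ∑ α_i^p a^i ∈ R`; applying the
derivation repeatedly bounds the denominators of the `α_i^p`, hence of the `α_i`.
-/

namespace Groth.Agent.H11.RadExt

open Polynomial

variable {R : Type*} [CommRing R] {K : Type*} [Field K] [Algebra R K]

/-- `S R u k = u^{-k} R` as an `R`-submodule of `K`. -/
def S (R : Type*) [CommRing R] {K : Type*} [Field K] [Algebra R K] (u : K) (k : ℕ) :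
    Submodule R K :=
  Submodule.comap (LinearMap.mulLeft R (u ^ k)) (LinearMap.range (Algebra.linearMap R K))

lemma mem_S {u : K} {k : ℕ} {z : K} : z ∈ S R u k ↔ ∃ r : R, algebraMap R K r = u ^ k * z := by
  simp only [S, Submodule.mem_comap, LinearMap.mulLeft_apply, LinearMap.mem_range,
    Algebra.linearMap_apply]

lemma S_succ {u : K} (hu : ∃ u₀ : R, algebraMap R K u₀ = u) {k : ℕ} {z : K}
    (hz : z ∈ S R u k) : z ∈ S R u (k + 1) := by
  obtain ⟨u₀, rfl⟩ := hu
  obtain ⟨r, hr⟩ := mem_S.mp hz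
  exact mem_S.mpr ⟨u₀ * r, by rw [map_mul, hr, pow_succ]; ring⟩

lemma S_mono {u : K} (hu : ∃ u₀ : R, algebraMap R K u₀ = u) {k k' : ℕ} (h : k ≤ k') :
    S R u k ≤ S R u k' := by
  induction h with
  | refl => exact le_rfl
  | step _ ih => exact fun z hz => S_succ hu (ih hz)

lemma S_inv {u : K} (hu0 : u ≠ 0) {k : ℕ} {z : K} (hz : z ∈ S R u k) :
    u⁻¹ * z ∈ S R u (k + 1) := by
  obtain ⟨r, hr⟩ := mem_S.mp hz
  exact mem_S.mpr ⟨r, by rw [hr, pow_succ, mul_assoc, mul_inv_cancel_left₀ hu0]⟩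

lemma S_D (D : Derivation ℤ K K)
    (hD : ∀ r : R, ∃ s : R, D (algebraMap R K r) = algebraMap R K s)
    {u : K} (hu : ∃ u₀ : R, algebraMap R K u₀ = u) {k : ℕ} {z : K} (hz : z ∈ S R u k) :
    D z ∈ S R u (k + 1) := by
  obtain ⟨u₀, rfl⟩ := hu
  obtain ⟨r, hr⟩ := mem_S.mp hz
  obtain ⟨r', hr'⟩ := hD r
  obtain ⟨u₁, hu₁⟩ := hD u₀
  have h1 : D (algebraMap R K u₀ ^ k * z) = algebraMap R K r' := by rw [← hr, hr']
  rw [Derivation.leibniz, Derivation.leibniz_pow, hu₁] at h1
  simp only [smul_eq_mul, nsmul_eq_mul] at h1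
  cases k with
  | zero =>
    refine mem_S.mpr ⟨u₀ * r', ?_⟩
    simp only [pow_zero, one_mul, Nat.cast_zero, zero_mul, mul_zero, add_zero] at h1 hr
    rw [map_mul, ← h1]; ring
  | succ k =>
    refine mem_S.mpr ⟨u₀ * r' - ((k + 1 : ℕ) : R) * r * u₁, ?_⟩
    simp only [map_sub, map_mul, map_natCast, Nat.add_sub_cancel] at h1 ⊢
    linear_combination (-(algebraMap R K u₀)) * h1 -
      (((k + 1 : ℕ) : K) * algebraMap R K u₁) * hr

lemma claim (p : ℕ) [Fact p.Prime] [CharP K p] (D : Derivation ℤ K K)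
    (hD : ∀ r : R, ∃ s : R, D (algebraMap R K r) = algebraMap R K s) (a₀ : R)
    (hu0 : D (algebraMap R K a₀) ≠ 0) :
    ∀ n, n ≤ p → ∀ (k : ℕ) (β : ℕ → K), (∀ i, D (β i) = 0) →
      (∑ i ∈ Finset.range n, β i * (algebraMap R K a₀) ^ i) ∈ S R (D (algebraMap R K a₀)) k →
      ∀ i < n, β i ∈ S R (D (algebraMap R K a₀)) (k + 2 * n) := by
  have hu' : ∃ u₀ : R, algebraMap R K u₀ = D (algebraMap R K a₀) := by
    obtain ⟨s, hs⟩ := hD a₀; exact ⟨s, hs.symm⟩
  intro n
  induction n with
  | zero => intro _ k β _ _ i hi; exact absurd hi (Nat.not_lt_zero _)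
  | succ n ih =>
    intro hn k β hβ hc i hi
    set a := algebraMap R K a₀ with ha
    set u := D a with hu
    have key : ∀ i, D (β (i + 1) * a ^ (i + 1)) = u * (((i + 1 : ℕ) : K) * β (i + 1) * a ^ i) := by
      intro i
      rw [Derivation.leibniz, Derivation.leibniz_pow, hβ, smul_zero, add_zero, Nat.add_sub_cancel]
      simp only [smul_eq_mul, nsmul_eq_mul]
      ring
    have hDc : D (∑ i ∈ Finset.range (n + 1), β i * a ^ i) =
        u * ∑ i ∈ Finset.range n, ((i + 1 : ℕ) : K) * β (i + 1) * a ^ i := by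
      rw [map_sum, Finset.sum_range_succ', Finset.mul_sum]
      rw [pow_zero, mul_one, hβ 0, add_zero]
      exact Finset.sum_congr rfl fun i _ => key i
    have hmem : (∑ i ∈ Finset.range n, ((i + 1 : ℕ) : K) * β (i + 1) * a ^ i) ∈ S R u (k + 2) := by
      have h1 := S_inv (R := R) hu0 (S_D D hD hu' hc)
      rwa [hDc, inv_mul_cancel_left₀ hu0] at h1
    have hβ' : ∀ i, D (((i + 1 : ℕ) : K) * β (i + 1)) = 0 := by
      intro i
      rw [Derivation.leibniz, hβ, smul_zero, zero_add, Derivation.map_natCast, smul_zero]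
    have ih' := ih (by omega) (k + 2) (fun i => ((i + 1 : ℕ) : K) * β (i + 1)) hβ' hmem
    have hidx : k + 2 + 2 * n = k + 2 * (n + 1) := by ring
    rw [hidx] at ih'
    have hp := (Fact.out : p.Prime)
    have hsucc : ∀ j < n, β (j + 1) ∈ S R u (k + 2 * (n + 1)) := by
      intro j hj
      have hcop : Nat.Coprime (j + 1) p :=
        ((Nat.Prime.coprime_iff_not_dvd hp).mpr
          (Nat.not_dvd_of_pos_of_lt (Nat.succ_pos j) (by omega))).symm
      obtain ⟨x, y, hxy⟩ := Nat.isCoprime_iff_coprime.mpr hcop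
      have hK : (x : K) * ((j + 1 : ℕ) : K) = 1 := by
        have := congrArg (Int.cast : ℤ → K) hxy
        push_cast at this
        rw [CharP.cast_eq_zero K p, mul_zero, add_zero] at this
        push_cast; exact this
      have h2 := zsmul_mem (ih' j hj) x
      rwa [zsmul_eq_mul, ← mul_assoc, hK, one_mul] at h2
    rcases Nat.eq_zero_or_pos i with rfl | hpos
    · have hsum : β 0 = (∑ i ∈ Finset.range (n + 1), β i * a ^ i) -
          ∑ i ∈ Finset.range n, β (i + 1) * a ^ (i + 1) := by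
        rw [Finset.sum_range_succ']; simp
      rw [hsum]
      refine Submodule.sub_mem _ (S_mono hu' (by omega) hc) (Submodule.sum_mem _ fun j hj => ?_)
      have := Submodule.smul_mem _ (a₀ ^ (j + 1)) (hsucc j (Finset.mem_range.mp hj))
      rw [Algebra.smul_def, map_pow, ← ha, mul_comm (a ^ (j + 1))] at this
      exact this
    · obtain ⟨j, rfl⟩ := Nat.exists_eq_succ_of_ne_zero hpos.ne'
      exact hsucc j (by omega)

/-- Main lemma: the case `x ^ p = a₀ ∈ R`. -/
theorem finite_of_rep [IsDomain R] [IsNoetherianRing R] [IsIntegrallyClosed R]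
    [IsFractionRing R K] (p : ℕ) [Fact p.Prime] [CharP K p] (D : Derivation ℤ K K)
    (hD : ∀ r : R, ∃ s : R, D (algebraMap R K r) = algebraMap R K s) (a₀ : R)
    (hu0 : D (algebraMap R K a₀) ≠ 0)
    {L : Type*} [Field L] [Algebra K L] [Algebra R L] [IsScalarTower R K L] (x : L)
    (hx : x ^ p = algebraMap R L a₀)
    (hrep : ∀ b : L, ∃ α : ℕ → K, b = ∑ i ∈ Finset.range p, algebraMap K L (α i) * x ^ i) :
    Module.Finite R (integralClosure R L) := by
  set a := algebraMap R K a₀ with ha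
  set u := D a with hu
  have hp := (Fact.out : p.Prime)
  have : CharP L p := charP_of_injective_algebraMap (algebraMap K L).injective p
  have hxa : x ^ p = algebraMap K L a := by rw [hx, IsScalarTower.algebraMap_apply R K L]
  let T : Submodule R L :=
    Submodule.span R (Set.range fun i : Fin p => algebraMap K L (u⁻¹ ^ 2) * x ^ (i : ℕ))
  have hle : Subalgebra.toSubmodule (integralClosure R L) ≤ T := by
    intro b hb
    have hb' : IsIntegral R b := hb
    obtain ⟨α, hα⟩ := hrep b
    -- `b ^ p` lies in `K`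
    have hbp : b ^ p = algebraMap K L (∑ i ∈ Finset.range p, α i ^ p * a ^ i) := by
      rw [hα, sum_pow_char, map_sum]
      refine Finset.sum_congr rfl fun i _ => ?_
      rw [mul_pow, ← pow_mul, mul_comm i p, pow_mul, hxa, map_mul, map_pow, map_pow]
    have hc_int : IsIntegral R (∑ i ∈ Finset.range p, α i ^ p * a ^ i) := by
      rw [← isIntegral_algebraMap_iff (algebraMap K L).injective, ← hbp]
      exact hb'.pow p
    obtain ⟨c₀, hc₀⟩ := IsIntegrallyClosed.isIntegral_iff.mp hc_int
    have hcS : (∑ i ∈ Finset.range p, (fun i => α i ^ p) i * a ^ i) ∈ S R u 0 :=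
      mem_S.mpr ⟨c₀, by rw [hc₀, pow_zero, one_mul]⟩
    have hβ : ∀ i, D ((fun i => α i ^ p) i) = 0 := by
      intro i
      show D (α i ^ p) = 0
      rw [Derivation.leibniz_pow, nsmul_eq_mul, CharP.cast_eq_zero K p, zero_mul]
    have hcl := claim p D hD a₀ hu0 p le_rfl 0 (fun i => α i ^ p) hβ hcS
    rw [hα]
    refine Submodule.sum_mem _ fun i hi => ?_
    obtain ⟨r, hr⟩ := mem_S.mp (hcl i (Finset.mem_range.mp hi))
    have hint : IsIntegral R (u ^ 2 * α i) := by
      refine IsIntegral.of_pow hp.pos ?_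
      have : (u ^ 2 * α i) ^ p = algebraMap R K r := by
        rw [hr, mul_pow, ← pow_mul, zero_add]
      rw [this]; exact isIntegral_algebraMap
    obtain ⟨s, hs⟩ := IsIntegrallyClosed.isIntegral_iff.mp hint
    have hαi : α i = algebraMap R K s * u⁻¹ ^ 2 := by
      rw [hs, inv_pow, mul_comm, ← mul_assoc, inv_mul_cancel₀ (pow_ne_zero 2 hu0), one_mul]
    have hmem : s • (algebraMap K L (u⁻¹ ^ 2) * x ^ i) ∈ T :=
      Submodule.smul_mem _ _ (Submodule.subset_span ⟨⟨i, Finset.mem_range.mp hi⟩, rfl⟩)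
    rwa [Algebra.smul_def, IsScalarTower.algebraMap_apply R K L, ← mul_assoc, ← map_mul,
      ← hαi] at hmem
  have : IsNoetherian R T := isNoetherian_span_of_finite R (Set.finite_range _)
  have : IsNoetherian R (Subalgebra.toSubmodule (integralClosure R L)) := isNoetherian_of_le hle
  exact Module.Finite.equiv (Subalgebra.toSubmoduleEquiv (integralClosure R L))

/-- General case: `x ^ p = a ∈ K`. -/
theorem finite_integralClosure [IsDomain R] [IsNoetherianRing R] [IsIntegrallyClosed R]
    [IsFractionRing R K] (p : ℕ) [Fact p.Prime] [CharP K p] (D : Derivation ℤ K K)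
    (hD : ∀ r : R, ∃ s : R, D (algebraMap R K r) = algebraMap R K s) (a : K) (ha : D a ≠ 0)
    {L : Type*} [Field L] [Algebra K L] [Algebra R L] [IsScalarTower R K L] (x : L)
    (hx : x ^ p = algebraMap K L a) (hgen : IntermediateField.adjoin K {x} = ⊤) :
    Module.Finite R (integralClosure R L) := by
  have hp := (Fact.out : p.Prime)
  -- representation of elements of `L`
  have hxint : IsIntegral K x :=
    IsIntegral.of_pow hp.pos (by rw [hx]; exact isIntegral_algebraMap)
  have hrep : ∀ b : L, ∃ α : ℕ → K, b = ∑ i ∈ Finset.range p, algebraMap K L (α i) * x ^ i := by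
    intro b
    have hb : b ∈ (IntermediateField.adjoin K {x}).toSubalgebra := by rw [hgen]; trivial
    rw [IntermediateField.adjoin_simple_toSubalgebra_of_isAlgebraic hxint.isAlgebraic,
      Algebra.adjoin_singleton_eq_range_aeval] at hb
    obtain ⟨q, hq⟩ := hb
    have hf : aeval x (X ^ p - C a) = 0 := by simp [hx]
    have hmonic : (X ^ p - C a : K[X]).Monic := monic_X_pow_sub_C a hp.ne_zero
    have hdeg : (q %ₘ (X ^ p - C a)).natDegree < p := by
      have h1 := natDegree_modByMonic_lt q hmonic (by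
        intro h
        have := congrArg natDegree h
        rw [natDegree_X_pow_sub_C, natDegree_one] at this
        exact hp.ne_zero this)
      rwa [natDegree_X_pow_sub_C] at h1
    refine ⟨fun i => (q %ₘ (X ^ p - C a)).coeff i, ?_⟩
    have h2 : (aeval x) q = b := hq
    rw [← h2, ← aeval_modByMonic_eq_self_of_root hf, aeval_eq_sum_range' hdeg]
    exact Finset.sum_congr rfl fun i _ => by rw [Algebra.smul_def]
  obtain ⟨r, s, hs, hrs⟩ := IsFractionRing.div_surjective (A := R) a
  have hσ : algebraMap R K s ≠ 0 := by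
    have := nonZeroDivisors.ne_zero hs
    exact (map_ne_zero_iff _ (IsFractionRing.injective R K)).mpr this
  obtain ⟨σ, hσdef⟩ : ∃ σ : K, σ = algebraMap R K s := ⟨_, rfl⟩
  rw [← hσdef] at hσ hrs
  -- new generator
  have ha₀ : algebraMap R K (s ^ (p - 1) * r) = σ ^ p * a := by
    rw [map_mul, map_pow, ← hrs, ← hσdef]
    have : σ ^ p = σ ^ (p - 1) * σ := by rw [← pow_succ, Nat.sub_add_cancel hp.one_le]
    rw [this]; field_simp
  have hDa : D (algebraMap R K (s ^ (p - 1) * r)) ≠ 0 := by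
    rw [ha₀, Derivation.leibniz, Derivation.leibniz_pow, nsmul_eq_mul, CharP.cast_eq_zero K p,
      zero_mul, smul_zero, add_zero, smul_eq_mul]
    exact mul_ne_zero (pow_ne_zero _ hσ) ha
  have hσL : algebraMap R L s = algebraMap K L σ := by
    rw [hσdef]; exact IsScalarTower.algebraMap_apply R K L s
  refine finite_of_rep p D hD (s ^ (p - 1) * r) hDa (algebraMap R L s * x) ?_ ?_
  · rw [mul_pow, hx, IsScalarTower.algebraMap_apply R K L (s ^ (p - 1) * r), ha₀, hσL, map_mul,
      map_pow]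
  · intro b
    obtain ⟨α, hα⟩ := hrep b
    refine ⟨fun i => α i * (σ ^ i)⁻¹, ?_⟩
    rw [hα]
    refine Finset.sum_congr rfl fun i _ => ?_
    have hσL' : algebraMap K L σ ≠ 0 := (_root_.map_ne_zero _).mpr hσ
    rw [hσL, mul_pow, map_mul, map_inv₀, map_pow]
    field_simp

end Groth.Agent.H11.RadExt
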