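import Groth.Agent.H11.UnivOpenFlatSch
import Groth.Agent.H67.DvrRed

/-!
# Reducedness of the local rings after base change to a discrete valuation ring (towards
EGA IV 15.2.2 with reduced neighbourhood)
-/

set_option autoImplicit false
set_option linter.style.haveILetI false
universe u
open CategoryTheory CategoryTheory.Limits AlgebraicGeometry TopologicalSpace IsLocalRing TensorProduct

namespace Groth.Agent.H11.RedNbhdA

open Groth.Agent.H11.UnivOpenFlatSch

variable {X Y : Scheme.{u}} (f : X ⟶ Y)

set_option maxHeartbeats 1600000 in
/-- After base change to a discrete valuation ring, the local rings at the points over `x` and the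
closed point are reduced. -/
theorem isReduced_stalk_snd_of_dvr [LocallyOfFiniteType f] (x : X) (hopen : GenOpen f x)
    (hred : FBase.IsGeomReducedAt (f.fiberToSpecResidueField (f.base x)) (f.asFiber x))
    (V' : Type u) [CommRing V'] [IsDomain V'] [IsDiscreteValuationRing V']
    (g : Spec (CommRingCat.of V') ⟶ Y) (x' : ↥(pullback f g))
    (hx'x : (pullback.fst f g).base x' = x)
    (hx's : (pullback.snd f g).base x' = IsLocalRing.closedPoint V') :
    _root_.IsReduced ((pullback f g).presheaf.stalk x') := by
  have hfl := flat_stalkMap_snd_of_dvr f x hopen hred V' g x' hx'x hx's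
  have hpf : ∀ z, f.base ((pullback.fst f g).base z) = g.base ((pullback.snd f g).base z) :=
    fun z => by
      have := congrArg (fun h => h.base z) (pullback.condition (f := f) (g := g))
      simpa only [Scheme.Hom.comp_base, TopCat.comp_app] using this
  have hfx : f.base x = g.base ((pullback.snd f g).base x') := by rw [← hx'x]; exact hpf x'
  have hgr : ∀ (y : Y), f.base x = y → ∃ a : f.fiber y,
      FBase.IsGeomReducedAt (f.fiberToSpecResidueField y) a ∧ (f.fiberι y).base a = x := by
    rintro _ rfl
    exact ⟨f.asFiber x, hred, f.fiberι_asFiber x⟩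
  obtain ⟨a, ha, hax⟩ := hgr _ hfx
  have hfib := Groth.Agent.H11.FibreBC.isReduced_stalk_fiber_of_isGeomReducedAt f g
      ((pullback.snd f g).base x') a ha ((pullback.snd f g).asFiber x')
      (by rw [(pullback.snd f g).fiberι_asFiber x', hx'x, hax])
  obtain ⟨hsurj, hker⟩ := Groth.Agent.H9.stalkMap_fiberι_surjective_and_ker_eq
    (pullback.snd f g) ((pullback.snd f g).base x') ((pullback.snd f g).asFiber x')
  have hrad := (RingHom.ker_isRadical_iff_reduced_of_surjective hsurj).mpr hfib
  rw [hker] at hrad
  have key : ∀ z : ↥(pullback f g), (pullback.snd f g).base z = IsLocalRing.closedPoint V' →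
      ((pullback.snd f g).stalkMap z).hom.Flat →
      (Ideal.map ((pullback.snd f g).stalkMap z).hom (IsLocalRing.maximalIdeal
        ((Spec (CommRingCat.of V')).presheaf.stalk ((pullback.snd f g).base z)))).IsRadical →
      _root_.IsReduced ((pullback f g).presheaf.stalk z) := by
    intro z hzs hflz hr
    letI : Algebra V' ((Spec (CommRingCat.of V')).presheaf.stalk ((pullback.snd f g).base z)) :=
      StructureSheaf.stalkAlgebra (R := V') ((pullback.snd f g).base z)
    haveI : ((pullback.snd f g).base z).asIdeal.IsPrime := ((pullback.snd f g).base z).isPrime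
    haveI : IsLocalization.AtPrime
        ((Spec (CommRingCat.of V')).presheaf.stalk ((pullback.snd f g).base z))
        ((pullback.snd f g).base z).asIdeal :=
      StructureSheaf.IsLocalization.to_stalk (R := V') ((pullback.snd f g).base z)
    haveI : IsDomain ((Spec (CommRingCat.of V')).presheaf.stalk ((pullback.snd f g).base z)) :=
      IsLocalization.isDomain_of_atPrime _ ((pullback.snd f g).base z).asIdeal
    have hne : ((pullback.snd f g).base z).asIdeal ≠ ⊥ := by
      rw [hzs]
      exact IsDiscreteValuationRing.not_a_field V'
    haveI hdvr : IsDiscreteValuationRing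
        ((Spec (CommRingCat.of V')).presheaf.stalk ((pullback.snd f g).base z)) :=
      IsLocalization.AtPrime.isDiscreteValuationRing_of_dedekind_domain V' hne _
    haveI : IsLocallyNoetherian (pullback f g) :=
      LocallyOfFiniteType.isLocallyNoetherian (pullback.snd f g)
    haveI hN : IsNoetherianRing ((pullback f g).presheaf.stalk z) := inferInstance
    haveI hL : IsLocalHom ((pullback.snd f g).stalkMap z).hom := inferInstance
    exact Groth.Agent.H67.DvrRed.isReduced_of_flat_dvr ((pullback.snd f g).stalkMap z).hom hflz hr
  have hz := (pullback.snd f g).fiberι_asFiber x'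
  have h1 := key _ (by rw [hz]; exact hx's) (by rw [hz]; exact hfl) hrad
  rw [hz] at h1
  exact h1

end Groth.Agent.H11.RedNbhdA
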