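import Groth.Agent.H11.RedNbhdA

/-!
# Chart-level reducedness after base change to a discrete valuation ring
-/

set_option autoImplicit false
set_option linter.style.haveILetI false
universe u
open CategoryTheory CategoryTheory.Limits AlgebraicGeometry TopologicalSpace IsLocalRing TensorProduct

namespace Groth.Agent.H11.RedNbhdB

open Groth.Agent.H11.UnivOpenFlatSch Groth.Agent.H11.RedNbhdA

variable {X Y : Scheme.{u}} (f : X ⟶ Y)

set_option maxHeartbeats 3200000 in
/-- Chart-level consequence of stalkwise reducedness after base change to a discrete valuation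
ring: nilpotent elements of the chart of the base change die in the localization at `n`. -/
theorem nilpotent_chart_aux [LocallyOfFiniteType f] (x : X) {V : Y.Opens} (hV : IsAffineOpen V)
    {W : X.Opens} (hW : IsAffineOpen W) (hxW : x ∈ W) (hWV : W ≤ f ⁻¹ᵁ V)
    [Algebra Γ(Y, V) Γ(X, W)] (halg : algebraMap Γ(Y, V) Γ(X, W) = (f.appLE V W hWV).hom)
    (V' : Type u) [CommRing V'] [IsDomain V'] [IsDiscreteValuationRing V'] [Algebra Γ(Y, V) V']
    (g : Spec (CommRingCat.of V') ⟶ Y)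
    (hV'V : (⊤ : (Spec (CommRingCat.of V')).Opens) ≤ g ⁻¹ᵁ V)
    (hstar : g.appLE V ⊤ hV'V = CommRingCat.ofHom (algebraMap Γ(Y, V) V') ≫
      (Scheme.ΓSpecIso (CommRingCat.of V')).inv)
    (hredS : ∀ x' : ↥(pullback f g), (pullback.fst f g).base x' = x →
      (pullback.snd f g).base x' = IsLocalRing.closedPoint V' →
      _root_.IsReduced ((pullback f g).presheaf.stalk x'))
    (E : Type u) [CommRing E] [Algebra Γ(X, W) E] [Algebra V' E] [Algebra Γ(Y, V) E]
    [IsScalarTower Γ(Y, V) Γ(X, W) E] [IsScalarTower Γ(Y, V) V' E]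
    [Algebra.IsPushout Γ(Y, V) Γ(X, W) V' E] [SMulCommClass Γ(X, W) V' E]
    (n : Ideal E) [n.IsPrime]
    (hn1 : n.comap (algebraMap Γ(X, W) E) = (hW.primeIdealOf ⟨x, hxW⟩).asIdeal)
    (hn2 : n.comap (algebraMap V' E) = maximalIdeal V') :
    ∀ a : E, IsNilpotent a → ∃ u : E, u ∉ n ∧ u * a = 0 := by
  obtain rfl : ‹Algebra Γ(Y, V) Γ(X, W)› = (f.appLE V W hWV).hom.toAlgebra :=
    Algebra.algebra_ext _ _ (fun r => DFunLike.congr_fun halg r)
  letI aRC : Algebra Γ(Y, V) Γ(X, W) := (f.appLE V W hWV).hom.toAlgebra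
  classical
  have hV' : IsAffineOpen (⊤ : (Spec (CommRingCat.of V')).Opens) := isAffineOpen_top _
  let W' : (pullback f g).Opens := pullback.fst f g ⁻¹ᵁ W ⊓ pullback.snd f g ⁻¹ᵁ ⊤
  have HP := IsPullback.of_hasPullback f g
  have hW'W : W' ≤ pullback.fst f g ⁻¹ᵁ W := inf_le_left
  have hW'V' : W' ≤ pullback.snd f g ⁻¹ᵁ ⊤ := inf_le_right
  have hW' : IsAffineOpen W' := by
    have : IsAffine V.toScheme := hV
    have : IsAffine (⊤ : (Spec (CommRingCat.of V')).Opens).toScheme := hV'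
    have : IsAffine W.toScheme := hW
    exact .of_isIso (Scheme.Hom.isPullback_resLE HP hV'V hWV (rfl : W' = _)).isoPullback.hom
  have hpo := (isIso_pushoutSection_iff HP hV'V hWV (rfl : W' = _)).mp
    (isIso_pushoutSection_of_isAffineOpen HP hV'V hWV rfl hV hV' hW)
  letI aRB : Algebra Γ(Y, V) Γ(Spec (CommRingCat.of V'), ⊤) := (g.appLE V ⊤ hV'V).hom.toAlgebra
  letI aCE : Algebra Γ(X, W) Γ(pullback f g, W') :=
    ((pullback.fst f g).appLE W W' hW'W).hom.toAlgebra
  letI aBE : Algebra Γ(Spec (CommRingCat.of V'), ⊤) Γ(pullback f g, W') :=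
    ((pullback.snd f g).appLE ⊤ W' hW'V').hom.toAlgebra
  letI aRE : Algebra Γ(Y, V) Γ(pullback f g, W') :=
    (((pullback.fst f g).appLE W W' hW'W).hom.comp (f.appLE V W hWV).hom).toAlgebra
  haveI t1 : IsScalarTower Γ(Y, V) Γ(X, W) Γ(pullback f g, W') := .of_algebraMap_eq' rfl
  haveI t2 : IsScalarTower Γ(Y, V) Γ(Spec (CommRingCat.of V'), ⊤) Γ(pullback f g, W') :=
    .of_algebraMap_eq' (by
      change (((pullback.fst f g).appLE W W' hW'W).hom.comp (f.appLE V W hWV).hom) =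
        (((pullback.snd f g).appLE ⊤ W' hW'V').hom.comp (g.appLE V ⊤ hV'V).hom)
      rw [← CommRingCat.hom_comp, ← CommRingCat.hom_comp, hpo.w])
  haveI po1 : Algebra.IsPushout Γ(Y, V) Γ(X, W) Γ(Spec (CommRingCat.of V'), ⊤)
      Γ(pullback f g, W') := CommRingCat.isPushout_iff_isPushout.mp hpo
  let eB : Γ(Spec (CommRingCat.of V'), ⊤) ≃+* V' :=
    (Scheme.ΓSpecIso (CommRingCat.of V')).commRingCatIsoToRingEquiv
  haveI : IsLocalRing Γ(Spec (CommRingCat.of V'), ⊤) := eB.symm.isLocalRing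
  have k1 : ∀ r : Γ(Y, V), eB (algebraMap Γ(Y, V) Γ(Spec (CommRingCat.of V'), ⊤) r) =
      algebraMap Γ(Y, V) V' r := by
    intro r
    change eB ((g.appLE V ⊤ hV'V).hom r) = _
    rw [hstar]
    exact eB.apply_symm_apply (algebraMap Γ(Y, V) V' r)
  let eBa : V' ≃ₐ[Γ(Y, V)] Γ(Spec (CommRingCat.of V'), ⊤) :=
    AlgEquiv.ofRingEquiv (f := eB.symm) (fun r => by
      rw [RingEquiv.symm_apply_eq]; exact (k1 r).symm)
  let e : E ≃ₐ[Γ(X, W)] Γ(pullback f g, W') :=
    ((Algebra.IsPushout.equiv Γ(Y, V) Γ(X, W) V' E).symm.trans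
      (Algebra.TensorProduct.congr AlgEquiv.refl eBa)).trans
      (Algebra.IsPushout.equiv Γ(Y, V) Γ(X, W) Γ(Spec (CommRingCat.of V'), ⊤)
        Γ(pullback f g, W'))
  have heV : ∀ v : V', e (algebraMap V' E v) =
      algebraMap Γ(Spec (CommRingCat.of V'), ⊤) Γ(pullback f g, W') (eB.symm v) := by
    intro v
    simp only [e, AlgEquiv.trans_apply]
    rw [Algebra.IsPushout.equiv_symm_algebraMap_right, Algebra.TensorProduct.congr_apply,
      Algebra.TensorProduct.map_tmul, Algebra.IsPushout.equiv_tmul, map_one, map_one, one_mul]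
    rfl
  -- the prime of the standard chart
  let nS : Ideal Γ(pullback f g, W') := n.comap (e.symm : Γ(pullback f g, W') →+* E)
  haveI hnS : nS.IsPrime := Ideal.comap_isPrime _ n
  have hmem : ∀ a : E, e a ∈ nS ↔ a ∈ n := by
    intro a
    change e.symm (e a) ∈ n ↔ _
    rw [AlgEquiv.symm_apply_apply]
  have h1 : nS.comap (algebraMap Γ(X, W) Γ(pullback f g, W')) =
      (hW.primeIdealOf ⟨x, hxW⟩).asIdeal := by
    rw [← hn1]
    ext c
    change algebraMap Γ(X, W) Γ(pullback f g, W') c ∈ nS ↔ algebraMap Γ(X, W) E c ∈ n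
    rw [← e.commutes c, hmem]
  have h2 : nS.comap (algebraMap Γ(Spec (CommRingCat.of V'), ⊤) Γ(pullback f g, W')) =
      maximalIdeal Γ(Spec (CommRingCat.of V'), ⊤) := by
    ext v
    change algebraMap Γ(Spec (CommRingCat.of V'), ⊤) Γ(pullback f g, W') v ∈ nS ↔
      v ∈ maximalIdeal Γ(Spec (CommRingCat.of V'), ⊤)
    have hv : algebraMap Γ(Spec (CommRingCat.of V'), ⊤) Γ(pullback f g, W') v =
        e (algebraMap V' E (eB v)) := by
      rw [heV, RingEquiv.symm_apply_apply]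
    rw [hv, hmem]
    change eB v ∈ n.comap (algebraMap V' E) ↔ _
    rw [hn2, mem_maximalIdeal, mem_maximalIdeal, mem_nonunits_iff,
      mem_nonunits_iff, not_iff_not]
    exact ⟨fun h => by simpa using h.map eB.symm, fun h => h.map eB⟩
  obtain ⟨x', hx', hx'n⟩ := Groth.Agent.H57.ArtFamSch.exists_mem_primeIdealOf_eq hW' ⟨nS, hnS⟩
  have hn' : (hW'.primeIdealOf ⟨x', hx'⟩).asIdeal = nS := congrArg PrimeSpectrum.asIdeal hx'n
  have e1 : (pullback.fst f g).base x' = x :=
    Groth.Agent.H57.ArtFamSch.map_eq_of_comap_eq (pullback.fst f g) hW hW' hW'W hx' hxW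
      (by rw [hn']; exact h1)
  have e2 : (pullback.snd f g).base x' = IsLocalRing.closedPoint V' := by
    apply Groth.Agent.H57.ArtFamSch.eq_closedPoint_of_primeIdealOf hV'
    rw [← h2, ← hn']
    exact congrArg PrimeSpectrum.asIdeal
      (IsAffineOpen.comap_primeIdealOf_appLE ⊤ hV' W' hW' hW'V' hx').symm
  haveI hrd := hredS x' e1 e2
  -- the stalks
  letI aEO : Algebra Γ(pullback f g, W') ((pullback f g).presheaf.stalk x') :=
    (pullback f g).presheaf.algebra_section_stalk ⟨x', hx'⟩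
  haveI locO := hW'.isLocalization_stalk ⟨x', hx'⟩
  intro a ha
  have h1 : IsNilpotent (algebraMap Γ(pullback f g, W') ((pullback f g).presheaf.stalk x') (e a)) :=
    (ha.map e).map _
  have h2 : algebraMap Γ(pullback f g, W') ((pullback f g).presheaf.stalk x') (e a) = 0 :=
    h1.eq_zero
  obtain ⟨c, hc⟩ := (IsLocalization.map_eq_zero_iff
    (hW'.primeIdealOf ⟨x', hx'⟩).asIdeal.primeCompl ((pullback f g).presheaf.stalk x') (e a)).mp h2
  have haux : ∀ I : Ideal Γ(pullback f g, W'), I = nS →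
      ∀ y : Γ(pullback f g, W'), y ∉ I → y ∉ nS := by
    rintro _ rfl y hy
    exact hy
  have hc' : (c : Γ(pullback f g, W')) ∉ nS := haux _ hn' c c.2
  refine ⟨e.symm c, hc', ?_⟩
  apply e.injective
  rw [map_mul, AlgEquiv.apply_symm_apply, hc, map_zero]

end Groth.Agent.H11.RedNbhdB
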