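import Groth.Agent.H11.RedNbhdB
import Groth.Agent.H11.ValFlatSch2
import Groth.Agent.H77.RedAlg3
import Groth.Agent.H77.RedAlg2

/-!
# EGA IV 15.2.2, reducedness of the local ring: universally open at the generic points of the
fibre components through `x`, fibre geometrically reduced at `x`, base reduced at `f x` ⟹
`O_{X,x}` reduced
-/

set_option autoImplicit false
set_option linter.style.haveILetI false
universe u
open CategoryTheory CategoryTheory.Limits AlgebraicGeometry TopologicalSpace IsLocalRing TensorProduct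

namespace Groth.Agent.H11.RedNbhdC

open Groth.Agent.H11.UnivOpenFlatSch Groth.Agent.H11.RedNbhdA Groth.Agent.H11.RedNbhdB

/-- A scheme over a field geometrically reduced at a point has a reduced local ring there. -/
theorem isReduced_stalk_of_isGeomReducedAt {k : Type u} [Field k] {Z : Scheme.{u}}
    (h : Z ⟶ Spec (CommRingCat.of k)) (a : Z) (hred : FBase.IsGeomReducedAt h a) :
    _root_.IsReduced (Z.presheaf.stalk a) := by
  haveI : IsIso (Spec.map (CommRingCat.ofHom (algebraMap k k))) := by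
    have : (CommRingCat.ofHom (algebraMap k k)) = 𝟙 (CommRingCat.of k) := rfl
    rw [this, Spec.map_id]
    infer_instance
  haveI : IsIso (FBase.bcπ h k) := by
    unfold FBase.bcπ
    exact pullback_fst_iso_of_right_iso h _
  have hx' : (FBase.bcπ h k).base ((inv (FBase.bcπ h k)).base a) = a := by
    rw [← Scheme.Hom.comp_apply, IsIso.inv_hom_id]; rfl
  haveI := hred k ((inv (FBase.bcπ h k)).base a) hx'
  have hinj : Function.Injective ((FBase.bcπ h k).stalkMap ((inv (FBase.bcπ h k)).base a)).hom :=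
    ((ConcreteCategory.isIso_iff_bijective
      ((FBase.bcπ h k).stalkMap ((inv (FBase.bcπ h k)).base a))).mp inferInstance).1
  have h1 := isReduced_of_injective _ hinj
  rw [hx'] at h1
  exact h1

variable {X Y : Scheme.{u}} (f : X ⟶ Y)

set_option maxHeartbeats 1600000 in
/-- The chart-level hypothesis of the valuative criterion for the module `C ⧸ nilradical C`. -/
theorem dvrHyp_chart_red [LocallyOfFiniteType f] (x : X) {V : Y.Opens} (hV : IsAffineOpen V)
    {W : X.Opens} (hW : IsAffineOpen W) (hxW : x ∈ W) (hWV : W ≤ f ⁻¹ᵁ V)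
    [Algebra Γ(Y, V) Γ(X, W)] (halg : algebraMap Γ(Y, V) Γ(X, W) = (f.appLE V W hWV).hom)
    (hopen : GenOpen f x)
    (hred : FBase.IsGeomReducedAt (f.fiberToSpecResidueField (f.base x)) (f.asFiber x)) :
    Groth.Agent.H11.ValFlatCore.DVRHyp Γ(Y, V) (hW.primeIdealOf ⟨x, hxW⟩).asIdeal
      (Γ(X, W) ⧸ nilradical Γ(X, W)) := by
  intro V' _ _ _ _ hmax E _ _ _ _ _ _ _ _ n _ hn1 hn2
  have hV'V : (⊤ : (Spec (CommRingCat.of V')).Opens) ≤
      (Spec.map (CommRingCat.ofHom (algebraMap Γ(Y, V) V')) ≫ hV.fromSpec) ⁻¹ᵁ V := by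
    intro z _
    show (Spec.map (CommRingCat.ofHom (algebraMap Γ(Y, V) V')) ≫ hV.fromSpec) z ∈ V
    rw [Scheme.Hom.comp_apply]
    have : hV.fromSpec (Spec.map (CommRingCat.ofHom (algebraMap Γ(Y, V) V')) z) ∈
        Set.range hV.fromSpec := ⟨_, rfl⟩
    rwa [hV.range_fromSpec] at this
  have hstar : (Spec.map (CommRingCat.ofHom (algebraMap Γ(Y, V) V')) ≫ hV.fromSpec).appLE V ⊤
      hV'V = CommRingCat.ofHom (algebraMap Γ(Y, V) V') ≫
        (Scheme.ΓSpecIso (CommRingCat.of V')).inv := by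
    rw [Scheme.Hom.comp_appLE, hV.fromSpec_app_self, Category.assoc]
    erw [Scheme.Hom.map_appLE]
    have h1 : (Spec.map (CommRingCat.ofHom (algebraMap Γ(Y, V) V'))).appLE ⊤ ⊤ le_top =
        (Spec.map (CommRingCat.ofHom (algebraMap Γ(Y, V) V'))).appTop := by
      rw [Scheme.Hom.appTop, Scheme.Hom.app_eq_appLE]
      rfl
    have h2 := Scheme.ΓSpecIso_inv_naturality (CommRingCat.ofHom (algebraMap Γ(Y, V) V'))
    rw [h1]
    exact h2.symm
  have hfl := dvrHyp_chart_aux f x hV hW hxW hWV halg V' _ hV'V hstar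
    (fun x' h1 h2 => flat_stalkMap_snd_of_dvr f x hopen hred V' _ x' h1 h2) E n hn1 hn2
  have hnil := nilpotent_chart_aux f x hV hW hxW hWV halg V' _ hV'V hstar
    (fun x' h1 h2 => isReduced_stalk_snd_of_dvr f x hopen hred V' _ x' h1 h2) E n hn1 hn2
  exact Groth.Agent.H77.RedAlg2.flat_localizedModule_tensor_quotient n (nilradical Γ(X, W)) le_rfl hnil hfl

set_option maxHeartbeats 1600000 in
/-- **EGA IV 15.2.2**, reducedness part. -/
theorem isReduced_stalk_of_genOpen [IsLocallyNoetherian Y] [LocallyOfFiniteType f] (x : X)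
    (hopen : GenOpen f x)
    (hred : FBase.IsGeomReducedAt (f.fiberToSpecResidueField (f.base x)) (f.asFiber x))
    (hy : _root_.IsReduced (Y.presheaf.stalk (f.base x))) :
    _root_.IsReduced (X.presheaf.stalk x) := by
  classical
  obtain ⟨V, hV, hyV, -⟩ := exists_isAffineOpen_mem_and_subset (x := f x)
    (U := (⊤ : Y.Opens)) trivial
  obtain ⟨W, hW, hxW, hWV⟩ := exists_isAffineOpen_mem_and_subset (x := x)
    (U := f ⁻¹ᵁ V) hyV
  haveI : IsNoetherianRing Γ(Y, V) := IsLocallyNoetherian.component_noetherian ⟨V, hV⟩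
  letI aRC : Algebra Γ(Y, V) Γ(X, W) := (f.appLE V W hWV).hom.toAlgebra
  haveI : Algebra.FiniteType Γ(Y, V) Γ(X, W) := Scheme.Hom.finiteType_appLE f hV hW hWV
  letI aRA₀ : Algebra Γ(Y, V) (Y.presheaf.stalk (f x)) :=
    Y.presheaf.algebra_section_stalk ⟨f x, hyV⟩
  haveI locA₀ := hV.isLocalization_stalk ⟨f x, hyV⟩
  letI aCSx : Algebra Γ(X, W) (X.presheaf.stalk x) := X.presheaf.algebra_section_stalk ⟨x, hxW⟩
  haveI locSx := hW.isLocalization_stalk ⟨x, hxW⟩
  letI aA₀Sx : Algebra (Y.presheaf.stalk (f x)) (X.presheaf.stalk x) :=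
    (f.stalkMap x).hom.toAlgebra
  letI aRSx : Algebra Γ(Y, V) (X.presheaf.stalk x) :=
    ((algebraMap Γ(X, W) (X.presheaf.stalk x)).comp (algebraMap Γ(Y, V) Γ(X, W))).toAlgebra
  haveI tRCSx : IsScalarTower Γ(Y, V) Γ(X, W) (X.presheaf.stalk x) := .of_algebraMap_eq' rfl
  haveI tRA₀Sx : IsScalarTower Γ(Y, V) (Y.presheaf.stalk (f x)) (X.presheaf.stalk x) :=
    .of_algebraMap_eq (fun r => (Groth.Agent.H57.stalkMap_germ_appLE f hWV x hxW r).symm)
  have hp𝔭 : (hW.primeIdealOf ⟨x, hxW⟩).asIdeal.comap (algebraMap Γ(Y, V) Γ(X, W)) =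
      (hV.primeIdealOf ⟨f x, hyV⟩).asIdeal :=
    congrArg PrimeSpectrum.asIdeal (IsAffineOpen.comap_primeIdealOf_appLE V hV W hW hWV hxW)
  have haux : ∀ (I J : Ideal Γ(Y, V)) [I.IsPrime] [J.IsPrime], I = J →
      IsLocalization.AtPrime (Y.presheaf.stalk (f x)) J →
      IsLocalization.AtPrime (Y.presheaf.stalk (f x)) I := by
    rintro I J _ _ rfl h
    exact h
  haveI : _root_.IsReduced (Y.presheaf.stalk (f x)) := hy
  haveI locA₀' : IsLocalization.AtPrime (Y.presheaf.stalk (f x))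
      ((hW.primeIdealOf ⟨x, hxW⟩).asIdeal.comap (algebraMap Γ(Y, V) Γ(X, W))) :=
    haux _ _ hp𝔭 locA₀
  have hcore : Module.Flat Γ(Y, V)
      (LocalizedModule (hW.primeIdealOf ⟨x, hxW⟩).asIdeal.primeCompl
        (Γ(X, W) ⧸ nilradical Γ(X, W))) := by
    refine Groth.Agent.H11.ValFlatCore.flat_localizedModule_of_dvr (R := Γ(Y, V)) (C := Γ(X, W))
      (hW.primeIdealOf ⟨x, hxW⟩).asIdeal (Y.presheaf.stalk (f x))
      (Γ(X, W) ⧸ nilradical Γ(X, W)) ?_
    exact dvrHyp_chart_red f x hV hW hxW hWV rfl hopen hred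
  -- the closed fibre is reduced at `x`
  have hfib := isReduced_stalk_of_isGeomReducedAt _ _ hred
  obtain ⟨hsurj, hker⟩ := Groth.Agent.H9.stalkMap_fiberι_surjective_and_ker_eq
    f (f.base x) (f.asFiber x)
  have hrad := (RingHom.ker_isRadical_iff_reduced_of_surjective hsurj).mpr hfib
  rw [hker] at hrad
  have hrad' : (Ideal.map (f.stalkMap x).hom
      (IsLocalRing.maximalIdeal (Y.presheaf.stalk (f.base x)))).IsRadical := by
    have hz := f.fiberι_asFiber x
    have key : ∀ z : X, z = x → (Ideal.map (f.stalkMap z).hom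
        (IsLocalRing.maximalIdeal (Y.presheaf.stalk (f.base z)))).IsRadical →
        (Ideal.map (f.stalkMap x).hom
          (IsLocalRing.maximalIdeal (Y.presheaf.stalk (f.base x)))).IsRadical := by
      rintro _ rfl h
      exact h
    exact key _ hz hrad
  haveI : IsLocallyNoetherian X := LocallyOfFiniteType.isLocallyNoetherian f
  exact Groth.Agent.H77.RedAlg3.isReduced_of_flat_quotient_nilradical (R := Γ(Y, V)) (C := Γ(X, W))
    (hW.primeIdealOf ⟨x, hxW⟩).asIdeal (A₀ := Y.presheaf.stalk (f x))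
    (B := X.presheaf.stalk x) hcore hrad'

end Groth.Agent.H11.RedNbhdC
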