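import Groth.Agent.H11.RedNbhdC
import Groth.Agent.S0386
import Groth.Agent.H77.RedOpen

/-!
# EGA IV 15.2.2 with neighbourhood: flat and reduced on an open neighbourhood
-/

set_option autoImplicit false
set_option linter.style.haveILetI false
universe u
open CategoryTheory CategoryTheory.Limits AlgebraicGeometry TopologicalSpace IsLocalRing

namespace Groth.Agent.H11.RedNbhdD

open Groth.Agent.H11.UnivOpenFlatSch Groth.Agent.H11.RedNbhdC

theorem stalkMap_comp_hom {X Y Z : Scheme.{u}} (f : X ⟶ Y) (g : Y ⟶ Z) (x : X) :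
    ((f ≫ g).stalkMap x).hom = (f.stalkMap x).hom.comp (g.stalkMap (f.base x)).hom :=
  (congrArg CommRingCat.Hom.hom (Scheme.Hom.stalkMap_comp f g x)).trans rfl

variable {X Y : Scheme.{u}} (f : X ⟶ Y)

theorem exists_open_flat_isReduced [IsLocallyNoetherian Y] [LocallyOfFiniteType f] (x : X)
    (hopen : GenOpen f x)
    (hred : FBase.IsGeomReducedAt (f.fiberToSpecResidueField (f.base x)) (f.asFiber x))
    (hy : _root_.IsReduced (Y.presheaf.stalk (f.base x))) :
    ∃ U : X.Opens, x ∈ U ∧ Flat (U.ι ≫ f) ∧ IsReduced (U : Scheme.{u}) := by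
  have hflx := flat_stalkMap_of_genOpen f x hopen hred hy
  have hredx := isReduced_stalk_of_genOpen f x hopen hred hy
  haveI : LocallyOfFinitePresentation f :=
    LocallyOfFinitePresentation.iff_locallyOfFiniteType.mpr inferInstance
  haveI : IsLocallyNoetherian X := LocallyOfFiniteType.isLocallyNoetherian f
  have hF := Groth.Agent.S0386.result f
  obtain ⟨U₁, hxU₁, hU₁⟩ := Groth.Agent.H77.RedOpen.exists_open_isReduced_stalk x hredx
  let F : X.Opens := ⟨_, hF⟩
  refine ⟨F ⊓ U₁, ⟨hflx, hxU₁⟩, ?_, ?_⟩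
  · apply Flat.of_stalkMap
    intro u
    rw [stalkMap_comp_hom]
    have h1 : (f.stalkMap ((F ⊓ U₁).ι.base u)).hom.Flat := u.2.1
    exact RingHom.Flat.comp h1 (Flat.stalkMap _ _)
  · haveI : ∀ u : ↥((F ⊓ U₁ : X.Opens) : Scheme.{u}),
        _root_.IsReduced (((F ⊓ U₁ : X.Opens) : Scheme.{u}).presheaf.stalk u) := by
      intro u
      haveI := hU₁ u.1 u.2.2
      have hinj : Function.Injective ((F ⊓ U₁).stalkIso u).hom.hom :=
        ((ConcreteCategory.isIso_iff_bijective ((F ⊓ U₁).stalkIso u).hom).mp inferInstance).1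
      exact isReduced_of_injective _ hinj
    exact isReduced_of_isReduced_stalk _

end Groth.Agent.H11.RedNbhdD
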