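import Mathlib

/-! (T3) for the S13109 squad (helper13): if `n` is the unique prime of `C` over `p`, then some
`u ∉ p` and some `k` have `u * n^k ⊆ pC`. -/

set_option autoImplicit false
universe u

namespace Groth.Agent.H11.SN_T3

theorem exists_notMem_mul_pow_mem_map {A C : Type u} [CommRing A] [CommRing C] [Algebra A C]
    [IsNoetherianRing C] (p : PrimeSpectrum A) (n : PrimeSpectrum C)
    (hn : PrimeSpectrum.comap (algebraMap A C) n = p)
    (huniq : ∀ q : PrimeSpectrum C, PrimeSpectrum.comap (algebraMap A C) q = p → q = n) :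
    ∃ (u : A) (k : ℕ), u ∉ p.asIdeal ∧ ∀ x ∈ n.asIdeal ^ k,
      algebraMap A C u * x ∈ p.asIdeal.map (algebraMap A C) := by
  classical
  set φ := algebraMap A C with hφ
  set J : Ideal C := p.asIdeal.map φ with hJ
  have hfin : J.minimalPrimes.Finite := Ideal.finite_minimalPrimes_of_isNoetherianRing C J
  -- the choice function
  let g : Ideal C → A := fun q =>
    if h : ∃ a, a ∈ q.comap φ ∧ a ∉ p.asIdeal then h.choose else 1
  have hg_not : ∀ q, g q ∉ p.asIdeal := by
    intro q
    by_cases h : ∃ a, a ∈ q.comap φ ∧ a ∉ p.asIdeal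
    · simp only [g, dif_pos h]; exact h.choose_spec.2
    · simp only [g, dif_neg h]
      exact fun h1 => p.isPrime.ne_top ((Ideal.eq_top_iff_one _).2 h1)
  have hg_mem : ∀ q ∈ J.minimalPrimes, q ≠ n.asIdeal → φ (g q) ∈ q := by
    intro q hq hqn
    have hqprime : q.IsPrime := hq.1.1
    have hle : p.asIdeal ≤ q.comap φ := Ideal.map_le_iff_le_comap.1 hq.1.2
    have hne : q.comap φ ≠ p.asIdeal := by
      intro heq
      apply hqn
      have := huniq ⟨q, hqprime⟩ (by ext1; exact heq)
      rw [← this]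
    have h : ∃ a, a ∈ q.comap φ ∧ a ∉ p.asIdeal := by
      by_contra hcon
      push_neg at hcon
      exact hne (le_antisymm (fun a ha => hcon a ha) hle)
    simp only [g, dif_pos h]
    exact h.choose_spec.1
  set u : A := ∏ q ∈ hfin.toFinset, g q with hu
  have hu_not : u ∉ p.asIdeal := by
    intro hmem
    rw [hu, Ideal.IsPrime.prod_mem_iff] at hmem
    obtain ⟨q, _, hq⟩ := hmem
    exact hg_not q hq
  have hnJ : J ≤ n.asIdeal := by
    rw [hJ, Ideal.map_le_iff_le_comap]
    rw [← hn]
    exact le_of_eq rfl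
  have hrad : ∀ x ∈ n.asIdeal, φ u * x ∈ J.radical := by
    intro x hx
    rw [← Ideal.sInf_minimalPrimes, Ideal.mem_sInf]
    intro q hq
    by_cases hqn : q = n.asIdeal
    · rw [hqn]; exact Ideal.mul_mem_left _ _ hx
    · apply Ideal.mul_mem_right
      rw [hu, map_prod]
      have hqprime : q.IsPrime := hq.1.1
      rw [Ideal.IsPrime.prod_mem_iff]
      exact ⟨q, hfin.mem_toFinset.2 hq, hg_mem q hq hqn⟩
  obtain ⟨k, hk⟩ := Ideal.exists_radical_pow_le_of_fg J (IsNoetherian.noetherian J.radical)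
  refine ⟨u ^ k, k, fun h => hu_not (p.isPrime.mem_of_pow_mem k h), ?_⟩
  intro x hx
  have hK : Ideal.span {φ u} * n.asIdeal ≤ J.radical := by
    rw [Ideal.mul_le]
    intro r hr s hs
    obtain ⟨c, rfl⟩ := Ideal.mem_span_singleton'.1 hr
    rw [mul_assoc]
    exact Ideal.mul_mem_left _ _ (hrad s hs)
  have h1 : φ (u ^ k) * x ∈ (Ideal.span {φ u} * n.asIdeal) ^ k := by
    rw [mul_pow, Ideal.span_singleton_pow, map_pow]
    exact Ideal.mul_mem_mul (Ideal.mem_span_singleton_self _) hx
  exact hk (Ideal.pow_right_mono hK k h1)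

end Groth.Agent.H11.SN_T3
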