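import Mathlib

set_option autoImplicit false
set_option linter.style.haveILetI false

universe u

namespace Groth.Agent.H11.Spread

section basic

variable {S : Type u} [CommRing S]

theorem isUnit_of_dvd' {g' s : S} (h : s ∣ g') :
    IsUnit (algebraMap S (Localization.Away g') s) :=
  isUnit_of_dvd_unit (map_dvd _ h) (IsLocalization.Away.algebraMap_isUnit g')

/-- The transition map `S_g → S_{g'}` for `g ∣ g'`. -/
noncomputable def tr (g g' : S) (h : g ∣ g') : Localization.Away g →ₐ[S] Localization.Away g' :=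
  IsLocalization.liftAlgHom (M := Submonoid.powers g)
    (f := Algebra.ofId S (Localization.Away g'))
    (fun y => by
      obtain ⟨y, n, rfl⟩ := y
      show IsUnit (algebraMap S (Localization.Away g') (g ^ n))
      rw [map_pow]
      exact (isUnit_of_dvd' h).pow n)

theorem tr_tr (g g' g'' : S) (h : g ∣ g') (h' : g' ∣ g'') (x : Localization.Away g) :
    tr g' g'' h' (tr g g' h x) = tr g g'' (h.trans h') x := by
  haveI := IsLocalization.algHom_subsingleton (M := Submonoid.powers g)
    (S := Localization.Away g) (P := Localization.Away g'')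
  exact DFunLike.congr_fun
    (Subsingleton.elim ((tr g' g'' h').comp (tr g g' h)) (tr g g'' (h.trans h'))) x

variable (q : Ideal S) [q.IsPrime]

/-- The canonical map `S_g → S_q` for `g ∉ q`. -/
noncomputable def can (g : S) (hg : g ∉ q) :
    Localization.Away g →ₐ[S] Localization.AtPrime q :=
  IsLocalization.liftAlgHom (M := Submonoid.powers g)
    (f := Algebra.ofId S (Localization.AtPrime q))
    (fun y => by
      obtain ⟨y, n, rfl⟩ := y
      show IsUnit (algebraMap S (Localization.AtPrime q) (g ^ n))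
      exact IsLocalization.map_units (M := q.primeCompl) _
        (⟨g ^ n, pow_mem (show g ∈ q.primeCompl from hg) n⟩ : q.primeCompl))

theorem can_tr (g g' : S) (h : g ∣ g') (hg : g ∉ q) (hg' : g' ∉ q) (x : Localization.Away g) :
    can q g' hg' (tr g g' h x) = can q g hg x := by
  haveI := IsLocalization.algHom_subsingleton (M := Submonoid.powers g)
    (S := Localization.Away g) (P := Localization.AtPrime q)
  exact DFunLike.congr_fun
    (Subsingleton.elim ((can q g' hg').comp (tr g g' h)) (can q g hg)) x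

theorem exists_num (g : S) (x : Localization.Away g) :
    ∃ (c : S) (k : ℕ),
      x * (algebraMap S (Localization.Away g) g) ^ k = algebraMap S (Localization.Away g) c := by
  obtain ⟨⟨s, m⟩, hs⟩ := IsLocalization.surj (Submonoid.powers g) x
  obtain ⟨m, k, rfl⟩ := m
  exact ⟨s, k, by rw [← map_pow]; exact hs⟩

theorem num_notMem (g : S) (hg : g ∉ q) (x : Localization.Away g)
    (hx : IsUnit (can q g hg x)) (c : S) (k : ℕ)
    (h : x * (algebraMap S (Localization.Away g) g) ^ k =
      algebraMap S (Localization.Away g) c) : c ∉ q := by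
  have h1 := congrArg (can q g hg) h
  rw [map_mul, map_pow, AlgHom.commutes, AlgHom.commutes] at h1
  have h2 : IsUnit (algebraMap S (Localization.AtPrime q) c) := by
    rw [← h1]
    exact hx.mul ((IsLocalization.map_units _ (⟨g, hg⟩ : q.primeCompl)).pow k)
  exact (IsLocalization.AtPrime.isUnit_to_map_iff (Localization.AtPrime q) q c).mp h2

theorem isUnit_tr_of_num (g c : S) (x : Localization.Away g) (k : ℕ)
    (h : x * (algebraMap S (Localization.Away g) g) ^ k =
      algebraMap S (Localization.Away g) c) :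
    IsUnit (tr g (g * c) (dvd_mul_right g c) x) := by
  have h1 := congrArg (tr g (g * c) (dvd_mul_right g c)) h
  rw [map_mul, map_pow, AlgHom.commutes, AlgHom.commutes] at h1
  have h2 : IsUnit (tr g (g * c) (dvd_mul_right g c) x *
      algebraMap S (Localization.Away (g * c)) g ^ k) := by
    rw [h1]; exact isUnit_of_dvd' (dvd_mul_left c g)
  exact isUnit_of_mul_isUnit_left h2

theorem isUnit_map_mul_of_num {B : Type u} [CommRing B] (g c : S) (x : Localization.Away g)
    (k : ℕ) (h : x * (algebraMap S (Localization.Away g) g) ^ k =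
      algebraMap S (Localization.Away g) c)
    (φ : Localization.Away g →+* B) (hφ : IsUnit (φ x)) :
    IsUnit (φ (algebraMap S (Localization.Away g) (g * c))) := by
  have hg : IsUnit (φ (algebraMap S (Localization.Away g) g)) :=
    (IsLocalization.Away.algebraMap_isUnit g).map φ
  rw [map_mul, map_mul, ← h, map_mul, map_pow]
  exact hg.mul (hφ.mul (hg.pow k))

theorem exists_isUnit_tr (g : S) (hg : g ∉ q) (x : Localization.Away g)
    (hx : IsUnit (can q g hg x)) :
    ∃ (g' : S) (hd : g ∣ g'), g' ∉ q ∧ IsUnit (tr g g' hd x) ∧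
      ∀ (B : Type u) [CommRing B] (φ : Localization.Away g →+* B), IsUnit (φ x) →
        IsUnit (φ (algebraMap S (Localization.Away g) g')) := by
  obtain ⟨c, k, h⟩ := exists_num g x
  have hc := num_notMem q g hg x hx c k h
  exact ⟨g * c, dvd_mul_right g c,
    fun h' => (Ideal.IsPrime.mem_or_mem ‹q.IsPrime› h').elim hg hc,
    isUnit_tr_of_num g c x k h, fun B _ φ hφ => isUnit_map_mul_of_num g c x k h φ hφ⟩

theorem exists_tr_eq_zero (g : S) (hg : g ∉ q) (x : Localization.Away g)
    (hx : can q g hg x = 0) :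
    ∃ c, c ∉ q ∧ tr g (g * c) (dvd_mul_right g c) x = 0 := by
  obtain ⟨⟨s, m⟩, hs⟩ := IsLocalization.surj (Submonoid.powers g) x
  have h1 : algebraMap S (Localization.AtPrime q) s = 0 := by
    have := congrArg (can q g hg) hs
    rw [map_mul, hx, zero_mul, AlgHom.commutes] at this
    exact this.symm
  obtain ⟨⟨c, hc⟩, hcs⟩ := (IsLocalization.map_eq_zero_iff q.primeCompl _ _).mp h1
  refine ⟨c, hc, ?_⟩
  have h2 := congrArg (tr g (g * c) (dvd_mul_right g c)) hs
  rw [map_mul, AlgHom.commutes, AlgHom.commutes] at h2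
  have h3 : algebraMap S (Localization.Away (g * c)) s = 0 := by
    have hcu : IsUnit (algebraMap S (Localization.Away (g * c)) c) :=
      isUnit_of_dvd' (dvd_mul_left c g)
    have h4 : algebraMap S (Localization.Away (g * c)) c *
        algebraMap S (Localization.Away (g * c)) s = 0 := by
      rw [← map_mul]
      have : c * s = 0 := hcs
      rw [this, map_zero]
    exact (hcu.mul_right_eq_zero).mp h4
  have hmu : IsUnit (algebraMap S (Localization.Away (g * c)) (m : S)) := by
    obtain ⟨m, n, rfl⟩ := m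
    show IsUnit (algebraMap S (Localization.Away (g * c)) (g ^ n))
    rw [map_pow]
    exact (isUnit_of_dvd' (dvd_mul_right g c)).pow n
  rw [h3] at h2
  exact (hmu.mul_left_eq_zero).mp h2

theorem exists_tr_eq_zero_finset {ι : Type*} (t : Finset ι) (g : S) (hg : g ∉ q)
    (x : ι → Localization.Away g) (hx : ∀ i ∈ t, can q g hg (x i) = 0) :
    ∃ (g' : S) (hd : g ∣ g'), g' ∉ q ∧ ∀ i ∈ t, tr g g' hd (x i) = 0 := by
  classical
  have h1 : ∀ i : ι, ∃ c, c ∉ q ∧ (i ∈ t → tr g (g * c) (dvd_mul_right g c) (x i) = 0) := by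
    intro i
    by_cases hi : i ∈ t
    · obtain ⟨c, hc, h⟩ := exists_tr_eq_zero q g hg (x i) (hx i hi)
      exact ⟨c, hc, fun _ => h⟩
    · exact ⟨1, fun h => (Ideal.IsPrime.ne_top ‹q.IsPrime›) ((Ideal.eq_top_iff_one q).mpr h),
        fun h => absurd h hi⟩
  choose c hc hcx using h1
  refine ⟨g * ∏ i ∈ t, c i, dvd_mul_right _ _, ?_, ?_⟩
  · intro h
    rcases Ideal.IsPrime.mem_or_mem ‹q.IsPrime› h with h | h
    · exact hg h
    · obtain ⟨i, _, hi⟩ := (Ideal.IsPrime.prod_mem_iff).mp h
      exact hc i hi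
  · intro i hi
    have hd : g * c i ∣ g * ∏ j ∈ t, c j := mul_dvd_mul_left g (Finset.dvd_prod_of_mem c hi)
    rw [← tr_tr g (g * c i) (g * ∏ j ∈ t, c j) (dvd_mul_right _ _) hd, hcx i hi, map_zero]

end basic

section main

variable {R S : Type u} [CommRing R] [CommRing S] [Algebra R S]

theorem away_algHom_ext {B : Type u} [CommRing B] [Algebra R B] (g : S)
    (φ₁ φ₂ : Localization.Away g →ₐ[R] B)
    (h : ∀ s : S, φ₁ (algebraMap S (Localization.Away g) s) =
      φ₂ (algebraMap S (Localization.Away g) s)) : φ₁ = φ₂ := by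
  apply AlgHom.coe_ringHom_injective
  apply IsLocalization.ringHom_ext (Submonoid.powers g)
  ext s
  exact h s

/-- Extend an `R`-algebra map `S → B` inverting `g` to `S_g`. -/
noncomputable def awayLift {B : Type u} [CommRing B] [Algebra R B] (g : S) (γ : S →ₐ[R] B)
    (h : IsUnit (γ g)) : Localization.Away g →ₐ[R] B :=
  IsLocalization.liftAlgHom (M := Submonoid.powers g) (f := γ)
    (fun y => by
      obtain ⟨y, n, rfl⟩ := y
      show IsUnit (γ (g ^ n))
      rw [map_pow]
      exact h.pow n)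

theorem awayLift_algebraMap {B : Type u} [CommRing B] [Algebra R B] (g : S) (γ : S →ₐ[R] B)
    (h : IsUnit (γ g)) (s : S) :
    awayLift g γ h (algebraMap S (Localization.Away g) s) = γ s := by
  unfold awayLift
  rw [IsLocalization.liftAlgHom_apply, IsLocalization.lift_eq]
  rfl

variable (q : Ideal S) [q.IsPrime]

/-- A map from a finitely presented algebra to the local ring `S_q` factors through some `S_g`. -/
theorem exists_lift_of_finitePresentation {S' : Type u} [CommRing S'] [Algebra R S']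
    [Algebra.FinitePresentation R S'] (ψ : S' →ₐ[R] Localization.AtPrime q) :
    ∃ g, ∃ hg : g ∉ q, ∃ β : S' →ₐ[R] Localization.Away g, ∀ s', can q g hg (β s') = ψ s' := by
  classical
  obtain ⟨n, π, hπ, F, hF⟩ := Algebra.FinitePresentation.out (R := R) (A := S')
  obtain ⟨⟨b, hb⟩, hb'⟩ := IsLocalization.exist_integer_multiples_of_finite q.primeCompl
    (fun i : Fin n => ψ (π (MvPolynomial.X i)))
  have hb'' : ∀ i : Fin n, ∃ a : S, algebraMap S (Localization.AtPrime q) a =
      b • ψ (π (MvPolynomial.X i)) := fun i => hb' i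
  choose a ha using hb''
  have hb0 : b ∉ q := hb
  let z : Fin n → Localization.Away b := fun i =>
    algebraMap S (Localization.Away b) (a i) * IsLocalization.Away.invSelf b
  have hz : ∀ i, can q b hb0 (z i) = ψ (π (MvPolynomial.X i)) := by
    intro i
    have hbu : IsUnit (algebraMap S (Localization.AtPrime q) b) :=
      IsLocalization.map_units _ (⟨b, hb⟩ : q.primeCompl)
    apply hbu.mul_left_cancel
    have h1 : algebraMap S (Localization.AtPrime q) b *
        can q b hb0 (IsLocalization.Away.invSelf b) = 1 := by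
      rw [← AlgHom.commutes (can q b hb0), ← map_mul, IsLocalization.Away.mul_invSelf, map_one]
    show _ * can q b hb0 (algebraMap S (Localization.Away b) (a i) *
      IsLocalization.Away.invSelf b) = _
    rw [map_mul, AlgHom.commutes, mul_left_comm, h1, mul_one, ha i, Algebra.smul_def]
  let β₀ : MvPolynomial (Fin n) R →ₐ[R] Localization.Away b := MvPolynomial.aeval z
  have hβ₀ : ∀ p, can q b hb0 (β₀ p) = ψ (π p) := by
    have key : ((can q b hb0).restrictScalars R).comp β₀ = ψ.comp π := by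
      apply MvPolynomial.algHom_ext
      intro i
      show can q b hb0 (MvPolynomial.aeval z (MvPolynomial.X i)) = ψ (π (MvPolynomial.X i))
      rw [MvPolynomial.aeval_X]
      exact hz i
    exact fun p => DFunLike.congr_fun key p
  obtain ⟨g, hd, hg, hgF⟩ := exists_tr_eq_zero_finset q F b hb0 (fun p => β₀ p)
    (fun p hp => by
      rw [hβ₀ p]
      have : p ∈ RingHom.ker π.toRingHom := hF ▸ Ideal.subset_span hp
      have h0 : π p = 0 := this
      rw [h0, map_zero])
  let β₁ : MvPolynomial (Fin n) R →ₐ[R] Localization.Away g :=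
    ((tr b g hd).restrictScalars R).comp β₀
  have hker : RingHom.ker π.toRingHom ≤ RingHom.ker β₁.toRingHom := by
    rw [← hF, Ideal.span_le]
    intro p hp
    exact hgF p hp
  refine ⟨g, hg, AlgHom.liftOfSurjective π hπ β₁ hker, ?_⟩
  intro s'
  obtain ⟨p, rfl⟩ := hπ s'
  rw [AlgHom.liftOfSurjective_apply]
  show can q g hg (tr b g hd (β₀ p)) = _
  rw [can_tr q b g hd hb0 hg, hβ₀]

/-- Two maps from a finite type algebra to `S_g` agreeing in `S_q` agree in some `S_{g'}`. -/
theorem exists_tr_comp_eq {S' : Type u} [CommRing S'] [Algebra R S']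
    [Algebra.FiniteType R S'] (g : S) (hg : g ∉ q)
    (β₁ β₂ : S' →ₐ[R] Localization.Away g)
    (h : ∀ s', can q g hg (β₁ s') = can q g hg (β₂ s')) :
    ∃ (g' : S) (hd : g ∣ g'), g' ∉ q ∧ ∀ s', tr g g' hd (β₁ s') = tr g g' hd (β₂ s') := by
  classical
  obtain ⟨G, hG⟩ := (Algebra.FiniteType.out : (⊤ : Subalgebra R S').FG)
  obtain ⟨g', hd, hg', hgG⟩ := exists_tr_eq_zero_finset q G g hg (fun y => β₁ y - β₂ y)
    (fun y _ => by rw [map_sub, h y, sub_self])
  refine ⟨g', hd, hg', ?_⟩
  have key : ((tr g g' hd).restrictScalars R).comp β₁ =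
      ((tr g g' hd).restrictScalars R).comp β₂ := by
    apply AlgHom.ext_of_adjoin_eq_top hG
    intro y hy
    have := hgG y hy
    rw [map_sub, sub_eq_zero] at this
    exact this
  exact fun s' => DFunLike.congr_fun key s'

end main

section iso

variable {R S S' : Type u} [CommRing R] [CommRing S] [CommRing S'] [Algebra R S] [Algebra R S']

/-- Spreading out an isomorphism of local rings of finitely presented algebras. -/
theorem exists_away_algEquiv [Algebra.FinitePresentation R S] [Algebra.FinitePresentation R S']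
    (q : Ideal S) [q.IsPrime] (q' : Ideal S') [q'.IsPrime]
    (e : Localization.AtPrime q ≃ₐ[R] Localization.AtPrime q') :
    ∃ (g : S) (g' : S'), g ∉ q ∧ g' ∉ q' ∧
      Nonempty (Localization.Away g ≃ₐ[R] Localization.Away g') := by
  classical
  obtain ⟨g'₁, hg'₁, α₀, hα₀⟩ := exists_lift_of_finitePresentation (R := R) q'
    (e.toAlgHom.comp (IsScalarTower.toAlgHom R S (Localization.AtPrime q)))
  obtain ⟨g₁, hg₁, β₀, hβ₀⟩ := exists_lift_of_finitePresentation (R := R) q
    (e.symm.toAlgHom.comp (IsScalarTower.toAlgHom R S' (Localization.AtPrime q')))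
  have hα₀' : ∀ s : S, can q' g'₁ hg'₁ (α₀ s) =
      e (algebraMap S (Localization.AtPrime q) s) := hα₀
  have hβ₀' : ∀ s' : S', can q g₁ hg₁ (β₀ s') =
      e.symm (algebraMap S' (Localization.AtPrime q') s') := hβ₀
  have hunit : ∀ s : S, s ∉ q → IsUnit (algebraMap S (Localization.AtPrime q) s) :=
    fun s hs => IsLocalization.map_units _ (⟨s, hs⟩ : q.primeCompl)
  have hunit' : ∀ s : S', s ∉ q' → IsUnit (algebraMap S' (Localization.AtPrime q') s) :=
    fun s hs => IsLocalization.map_units _ (⟨s, hs⟩ : q'.primeCompl)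
  -- Step 3
  obtain ⟨g'₂, hd'₂, hg'₂, hu₃, -⟩ := exists_isUnit_tr q' g'₁ hg'₁ (α₀ g₁)
    (by rw [hα₀']; exact (hunit g₁ hg₁).map e)
  let α₁ : Localization.Away g₁ →ₐ[R] Localization.Away g'₂ :=
    awayLift g₁ (((tr g'₁ g'₂ hd'₂).restrictScalars R).comp α₀) hu₃
  have hα₁ι : ∀ s : S, α₁ (algebraMap S (Localization.Away g₁) s) =
      tr g'₁ g'₂ hd'₂ (α₀ s) := fun s => awayLift_algebraMap _ _ _ s
  have P3 : ∀ y, can q' g'₂ hg'₂ (α₁ y) = e (can q g₁ hg₁ y) := by
    have key : ((can q' g'₂ hg'₂).restrictScalars R).comp α₁ =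
        e.toAlgHom.comp ((can q g₁ hg₁).restrictScalars R) :=
      away_algHom_ext g₁ _ _ (fun s => by
        show can q' g'₂ hg'₂ (α₁ (algebraMap S (Localization.Away g₁) s)) =
          e (can q g₁ hg₁ (algebraMap S (Localization.Away g₁) s))
        rw [hα₁ι, can_tr q' g'₁ g'₂ hd'₂ hg'₁ hg'₂, hα₀', AlgHom.commutes])
    exact fun y => DFunLike.congr_fun key y
  -- Step 4
  obtain ⟨g'₃, hd'₃, hg'₃, h4⟩ := exists_tr_comp_eq (R := R) q' g'₂ hg'₂ (α₁.comp β₀)
    (IsScalarTower.toAlgHom R S' (Localization.Away g'₂)) (fun s' => by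
      show can q' g'₂ hg'₂ (α₁ (β₀ s')) =
        can q' g'₂ hg'₂ (algebraMap S' (Localization.Away g'₂) s')
      rw [P3, hβ₀', AlgEquiv.apply_symm_apply, AlgHom.commutes])
  let α₂ : Localization.Away g₁ →ₐ[R] Localization.Away g'₃ :=
    ((tr g'₂ g'₃ hd'₃).restrictScalars R).comp α₁
  have P4a : ∀ s' : S', α₂ (β₀ s') = algebraMap S' (Localization.Away g'₃) s' := fun s' =>
    (h4 s').trans (AlgHom.commutes _ _)
  have P4b : ∀ y, can q' g'₃ hg'₃ (α₂ y) = e (can q g₁ hg₁ y) := fun y => by
    show can q' g'₃ hg'₃ (tr g'₂ g'₃ hd'₃ (α₁ y)) = _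
    rw [can_tr q' g'₂ g'₃ hd'₃ hg'₂ hg'₃, P3]
  -- Step 5
  obtain ⟨g₂, hd₂, hg₂, hu₅, hu₅'⟩ := exists_isUnit_tr q g₁ hg₁ (β₀ g'₃)
    (by rw [hβ₀']; exact (hunit' g'₃ hg'₃).map e.symm)
  let β₁ : Localization.Away g'₃ →ₐ[R] Localization.Away g₂ :=
    awayLift g'₃ (((tr g₁ g₂ hd₂).restrictScalars R).comp β₀) hu₅
  have hβ₁ι : ∀ s' : S', β₁ (algebraMap S' (Localization.Away g'₃) s') =
      tr g₁ g₂ hd₂ (β₀ s') := fun s' => awayLift_algebraMap _ _ _ s'
  let α₃ : Localization.Away g₂ →ₐ[R] Localization.Away g'₃ :=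
    awayLift g₂ (α₂.comp (IsScalarTower.toAlgHom R S (Localization.Away g₁)))
      (hu₅' _ (α₂ : Localization.Away g₁ →+* Localization.Away g'₃) (by
        show IsUnit (α₂ (β₀ g'₃))
        rw [P4a]
        exact IsLocalization.Away.algebraMap_isUnit g'₃))
  have hα₃ι : ∀ s : S, α₃ (algebraMap S (Localization.Away g₂) s) =
      α₂ (algebraMap S (Localization.Away g₁) s) := fun s => awayLift_algebraMap _ _ _ s
  have P5a : ∀ y, α₃ (tr g₁ g₂ hd₂ y) = α₂ y := by
    have key : α₃.comp ((tr g₁ g₂ hd₂).restrictScalars R) = α₂ :=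
      away_algHom_ext g₁ _ _ (fun s => by
        show α₃ (tr g₁ g₂ hd₂ (algebraMap S (Localization.Away g₁) s)) = _
        rw [AlgHom.commutes, hα₃ι])
    exact fun y => DFunLike.congr_fun key y
  have P5b : ∀ y', α₃ (β₁ y') = y' := by
    have key : α₃.comp β₁ = AlgHom.id R _ :=
      away_algHom_ext g'₃ _ _ (fun s' => by
        show α₃ (β₁ (algebraMap S' (Localization.Away g'₃) s')) =
          algebraMap S' (Localization.Away g'₃) s'
        rw [hβ₁ι, P5a, P4a])
    exact fun y' => DFunLike.congr_fun key y'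
  have P5c : ∀ y', can q g₂ hg₂ (β₁ y') = e.symm (can q' g'₃ hg'₃ y') := by
    have key : ((can q g₂ hg₂).restrictScalars R).comp β₁ =
        e.symm.toAlgHom.comp ((can q' g'₃ hg'₃).restrictScalars R) :=
      away_algHom_ext g'₃ _ _ (fun s' => by
        show can q g₂ hg₂ (β₁ (algebraMap S' (Localization.Away g'₃) s')) =
          e.symm (can q' g'₃ hg'₃ (algebraMap S' (Localization.Away g'₃) s'))
        rw [hβ₁ι, can_tr q g₁ g₂ hd₂ hg₁ hg₂, hβ₀', AlgHom.commutes])
    exact fun y' => DFunLike.congr_fun key y'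
  have P5d : ∀ y, can q' g'₃ hg'₃ (α₃ y) = e (can q g₂ hg₂ y) := by
    have key : ((can q' g'₃ hg'₃).restrictScalars R).comp α₃ =
        e.toAlgHom.comp ((can q g₂ hg₂).restrictScalars R) :=
      away_algHom_ext g₂ _ _ (fun s => by
        show can q' g'₃ hg'₃ (α₃ (algebraMap S (Localization.Away g₂) s)) =
          e (can q g₂ hg₂ (algebraMap S (Localization.Away g₂) s))
        rw [hα₃ι, P4b, AlgHom.commutes, AlgHom.commutes])
    exact fun y => DFunLike.congr_fun key y
  -- Step 6
  obtain ⟨g₃, hd₃, hg₃, h6⟩ := exists_tr_comp_eq (R := R) q g₂ hg₂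
    ((β₁.comp α₃).comp (IsScalarTower.toAlgHom R S (Localization.Away g₂)))
    (IsScalarTower.toAlgHom R S (Localization.Away g₂)) (fun s => by
      show can q g₂ hg₂ (β₁ (α₃ (algebraMap S (Localization.Away g₂) s))) =
        can q g₂ hg₂ (algebraMap S (Localization.Away g₂) s)
      rw [P5c, P5d, AlgEquiv.symm_apply_apply])
  have h6' : ∀ s : S, tr g₂ g₃ hd₃ (β₁ (α₃ (algebraMap S (Localization.Away g₂) s))) =
      algebraMap S (Localization.Away g₃) s := fun s =>
    (h6 s).trans (AlgHom.commutes _ _)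
  obtain ⟨g'₄, hd'₄, hg'₄, hu₆, hu₆'⟩ := exists_isUnit_tr q' g'₃ hg'₃
    (α₃ (algebraMap S (Localization.Away g₂) g₃))
    (by rw [P5d, AlgHom.commutes]; exact (hunit g₃ hg₃).map e)
  let α₄ : Localization.Away g₃ →ₐ[R] Localization.Away g'₄ :=
    awayLift g₃ (((tr g'₃ g'₄ hd'₄).restrictScalars R).comp
      (α₃.comp (IsScalarTower.toAlgHom R S (Localization.Away g₂)))) hu₆
  have hα₄ι : ∀ s : S, α₄ (algebraMap S (Localization.Away g₃) s) =
      tr g'₃ g'₄ hd'₄ (α₃ (algebraMap S (Localization.Away g₂) s)) :=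
    fun s => awayLift_algebraMap _ _ _ s
  let β₄ : Localization.Away g'₄ →ₐ[R] Localization.Away g₃ :=
    awayLift g'₄ (((tr g₂ g₃ hd₃).restrictScalars R).comp
      (β₁.comp (IsScalarTower.toAlgHom R S' (Localization.Away g'₃))))
      (hu₆' _ ((((tr g₂ g₃ hd₃).restrictScalars R).comp β₁ :
          Localization.Away g'₃ →ₐ[R] Localization.Away g₃) :
          Localization.Away g'₃ →+* Localization.Away g₃) (by
        show IsUnit (tr g₂ g₃ hd₃ (β₁ (α₃ (algebraMap S (Localization.Away g₂) g₃))))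
        rw [h6']
        exact IsLocalization.Away.algebraMap_isUnit g₃))
  have hβ₄ι : ∀ s' : S', β₄ (algebraMap S' (Localization.Away g'₄) s') =
      tr g₂ g₃ hd₃ (β₁ (algebraMap S' (Localization.Away g'₃) s')) :=
    fun s' => awayLift_algebraMap _ _ _ s'
  have Q1 : ∀ y, α₄ (tr g₂ g₃ hd₃ y) = tr g'₃ g'₄ hd'₄ (α₃ y) := by
    have key : α₄.comp ((tr g₂ g₃ hd₃).restrictScalars R) =
        ((tr g'₃ g'₄ hd'₄).restrictScalars R).comp α₃ :=
      away_algHom_ext g₂ _ _ (fun s => by
        show α₄ (tr g₂ g₃ hd₃ (algebraMap S (Localization.Away g₂) s)) =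
          tr g'₃ g'₄ hd'₄ (α₃ (algebraMap S (Localization.Away g₂) s))
        rw [AlgHom.commutes, hα₄ι])
    exact fun y => DFunLike.congr_fun key y
  have Q2 : ∀ y', β₄ (tr g'₃ g'₄ hd'₄ y') = tr g₂ g₃ hd₃ (β₁ y') := by
    have key : β₄.comp ((tr g'₃ g'₄ hd'₄).restrictScalars R) =
        ((tr g₂ g₃ hd₃).restrictScalars R).comp β₁ :=
      away_algHom_ext g'₃ _ _ (fun s' => by
        show β₄ (tr g'₃ g'₄ hd'₄ (algebraMap S' (Localization.Away g'₃) s')) =
          tr g₂ g₃ hd₃ (β₁ (algebraMap S' (Localization.Away g'₃) s'))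
        rw [AlgHom.commutes, hβ₄ι])
    exact fun y' => DFunLike.congr_fun key y'
  have hleft : α₄.comp β₄ = AlgHom.id R _ :=
    away_algHom_ext g'₄ _ _ (fun s' => by
      show α₄ (β₄ (algebraMap S' (Localization.Away g'₄) s')) =
        algebraMap S' (Localization.Away g'₄) s'
      rw [hβ₄ι, Q1, P5b, AlgHom.commutes])
  have hright : β₄.comp α₄ = AlgHom.id R _ :=
    away_algHom_ext g₃ _ _ (fun s => by
      show β₄ (α₄ (algebraMap S (Localization.Away g₃) s)) =
        algebraMap S (Localization.Away g₃) s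
      rw [hα₄ι, Q2, h6'])
  exact ⟨g₃, g'₄, hg₃, hg'₄, ⟨AlgEquiv.ofAlgHom α₄ β₄ hleft hright⟩⟩

end iso

end Groth.Agent.H11.Spread
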