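import Mathlib
import Groth.Prelude.Def_SGA1

/-!
# Separatedness descends along universally submersive base change
-/

set_option autoImplicit false
universe u
open CategoryTheory CategoryTheory.Limits AlgebraicGeometry

namespace Groth.Agent.H11.SpreadC

/-- The diagonal of a base change is the base change of the diagonal, along a map which is itself
a base change of the base-change morphism. -/
theorem isPullback_diagonal {C : Type*} [Category C] [HasPullbacks C] {X Y X' Y' : C} {f : X ⟶ Y}
    {g : Y' ⟶ Y} {f' : X' ⟶ Y'} {g' : X' ⟶ X} (h : IsPullback g' f' f g) :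
    IsPullback (pullback.map f' f' f f g' g' g h.w.symm h.w.symm)
      (pullback.fst f' f' ≫ f') (pullback.fst f f ≫ f) g ∧
    IsPullback (pullback.diagonal f') g' (pullback.map f' f' f f g' g' g h.w.symm h.w.symm)
      (pullback.diagonal f) := by
  have hq2 : pullback.map f' f' f f g' g' g h.w.symm h.w.symm ≫ pullback.snd f f =
      pullback.snd f' f' ≫ g' := pullback.lift_snd _ _ _
  have hq1 : pullback.map f' f' f f g' g' g h.w.symm h.w.symm ≫ pullback.fst f f =
      pullback.fst f' f' ≫ g' := pullback.lift_fst _ _ _
  -- the big rectangle
  have hbig : IsPullback (pullback.snd f' f' ≫ g') (pullback.fst f' f') f (f' ≫ g) :=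
    (IsPullback.of_hasPullback f' f').flip.paste_horiz h
  have hbig' : IsPullback (pullback.map f' f' f f g' g' g h.w.symm h.w.symm ≫ pullback.snd f f)
      (pullback.fst f' f') f (g' ≫ f) := by
    rw [hq2, h.w]
    exact hbig
  have hright : IsPullback (pullback.map f' f' f f g' g' g h.w.symm h.w.symm)
      (pullback.fst f' f') (pullback.fst f f) g' :=
    IsPullback.of_right hbig' hq1 (IsPullback.of_hasPullback f f).flip
  refine ⟨hright.paste_vert h, ?_⟩
  have hout : IsPullback (pullback.diagonal f' ≫ pullback.fst f' f') g' g'
      (pullback.diagonal f ≫ pullback.fst f f) := by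
    rw [pullback.diagonal_fst, pullback.diagonal_fst]
    exact IsPullback.of_horiz_isIso ⟨by simp⟩
  refine IsPullback.of_right hout ?_ hright.flip
  apply pullback.hom_ext
  · rw [Category.assoc, hq1, ← Category.assoc, pullback.diagonal_fst, Category.id_comp,
      Category.assoc, pullback.diagonal_fst, Category.comp_id]
  · rw [Category.assoc, hq2, ← Category.assoc, pullback.diagonal_snd, Category.id_comp,
      Category.assoc, pullback.diagonal_snd, Category.comp_id]

theorem isSeparated_of_isPullback {X Y X' Y' : Scheme.{u}} {f : X ⟶ Y} {g : Y' ⟶ Y}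
    {f' : X' ⟶ Y'} {g' : X' ⟶ X} (h : IsPullback g' f' f g) (hg : SGA1.UnivSubmersive g)
    [IsSeparated f'] : IsSeparated f := by
  obtain ⟨hq, hd⟩ := isPullback_diagonal h
  have hquot : Topology.IsQuotientMap
      (pullback.map f' f' f f g' g' g h.w.symm h.w.symm).base := hg _ _ _ hq
  have hrange : (pullback.map f' f' f f g' g' g h.w.symm h.w.symm).base ⁻¹'
      Set.range (pullback.diagonal f).base = Set.range (pullback.diagonal f').base := by
    have := Scheme.image_preimage_eq_of_isPullback hd.flip (Set.univ : Set X)
    simpa [Set.image_univ] using this.symm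
  have hclosed : IsClosed (Set.range (pullback.diagonal f).base) := by
    rw [← hquot.isClosed_preimage, hrange]
    exact (pullback.diagonal f').isClosedEmbedding.isClosed_range
  exact ⟨IsClosedImmersion.of_isPreimmersion _ hclosed⟩

end Groth.Agent.H11.SpreadC
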