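import Mathlib
import Groth.Prelude.Def_SGA4b
import Groth.Prelude.Def_EtOpen

/-! (P3) for the S3896 squad (helper67): the sheaf attached to a Zariski open is subterminal. -/

set_option autoImplicit false
universe u
open CategoryTheory CategoryTheory.Limits AlgebraicGeometry Opposite

namespace Groth.Agent.H11.SubT_P3

variable {X : Scheme.{u}}

/-- Two morphisms in the small étale site into a Zariski open agree. -/
lemma hom_ofOpen_subsingleton (U : X.Opens) (W : X.Etale) :
    Subsingleton (W ⟶ EtDesc.ofOpen U) := by
  refine ⟨fun a b => ?_⟩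
  apply MorphismProperty.Over.Hom.ext
  have ha := MorphismProperty.Over.w a
  have hb := MorphismProperty.Over.w b
  have h : a.left ≫ (EtDesc.ofOpen U).hom = b.left ≫ (EtDesc.ofOpen U).hom := ha.trans hb.symm
  haveI : Mono (EtDesc.ofOpen U).hom := inferInstanceAs (Mono U.ι)
  exact (cancel_mono (EtDesc.ofOpen U).hom).1 h

/-- General: if `f : A ⟶ T` is mono and `T` is terminal then `terminal.from A` is mono. -/
lemma mono_terminal_from_of_mono {C : Type*} [Category C] [HasTerminal C] {A T : C}
    (hT : IsTerminal T) (f : A ⟶ T) [Mono f] : Mono (terminal.from A) := by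
  refine ⟨fun g h _ => ?_⟩
  rw [← cancel_mono f]
  exact hT.hom_ext _ _

theorem mono_terminal_from_repSh_ofOpen (U : X.Opens) :
    Mono (terminal.from (EtDesc.repSh (EtDesc.ofOpen U))) := by
  let P : (X.Etale)ᵒᵖ ⥤ Type (u + 1) := yoneda.obj (EtDesc.ofOpen U) ⋙ uliftFunctor.{u + 1, u}
  have hsub : ∀ W : (X.Etale)ᵒᵖ, Subsingleton (P.obj W) := by
    intro W
    have := hom_ofOpen_subsingleton U W.unop
    change Subsingleton (ULift.{u + 1, u} (W.unop ⟶ EtDesc.ofOpen U))
    infer_instance
  have hmono : Mono (terminal.from P) := by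
    refine ⟨fun g h _ => ?_⟩
    ext W x
    exact (hsub W).elim _ _
  have h2 : Mono ((presheafToSheaf X.smallEtaleTopology (Type (u + 1))).map (terminal.from P)) :=
    inferInstance
  exact mono_terminal_from_of_mono
    (terminalIsTerminal.isTerminalObj (presheafToSheaf X.smallEtaleTopology (Type (u + 1))) _)
    ((presheafToSheaf X.smallEtaleTopology (Type (u + 1))).map (terminal.from P))

end Groth.Agent.H11.SubT_P3
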