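import Mathlib
import Groth.Agent.H73.DVRExists

/-!
# Lifting discrete valuation rings: ring-level part

Given a local homomorphism `β : A' → B` from a discrete valuation ring to a Noetherian local ring
such that the image of a uniformizer is not nilpotent, there is a discrete valuation ring `V` with
a local homomorphism `B → V` such that `A' → V` is injective (hence flat).
-/

set_option autoImplicit false
universe u
open IsLocalRing

namespace Groth.Agent.H11.SubmDVRAlg

theorem exists_dvr_of_not_isNilpotent {A' B : Type u} [CommRing A'] [IsDomain A']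
    [IsDiscreteValuationRing A'] [CommRing B] [IsLocalRing B] [IsNoetherianRing B]
    (β : A' →+* B) [IsLocalHom β] (ϖ : A') (hϖ : Irreducible ϖ) (hnil : ¬ IsNilpotent (β ϖ)) :
    ∃ (V : Type u) (_ : CommRing V) (_ : IsDomain V) (_ : IsDiscreteValuationRing V)
      (ψ : B →+* V), IsLocalHom ψ ∧ Function.Injective (ψ.comp β) := by
  classical
  rw [nilpotent_iff_mem_prime] at hnil
  push_neg at hnil
  obtain ⟨𝔮, h𝔮, hx𝔮⟩ := hnil
  let L := FractionRing (B ⧸ 𝔮)
  let φL : B →+* L := (algebraMap (B ⧸ 𝔮) L).comp (Ideal.Quotient.mk 𝔮)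
  have hφx : φL (β ϖ) ≠ 0 := by
    intro h0
    have h1 : (Ideal.Quotient.mk 𝔮) (β ϖ) = 0 :=
      (IsFractionRing.injective (B ⧸ 𝔮) L) (by simpa [φL] using h0)
    exact hx𝔮 (Ideal.Quotient.eq_zero_iff_mem.mp h1)
  have hxm : β ϖ ∈ maximalIdeal B := by
    rw [mem_maximalIdeal, mem_nonunits_iff]
    exact fun hu => hϖ.not_isUnit (isUnit_of_map_unit β ϖ hu)
  have hs : Subfield.closure (Set.range φL ∪ ((∅ : Finset L) : Set L)) = ⊤ := by
    rw [_root_.eq_top_iff]
    intro x _
    obtain ⟨a, b, _, rfl⟩ := IsFractionRing.div_surjective (A := B ⧸ 𝔮) x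
    obtain ⟨a', rfl⟩ := Ideal.Quotient.mk_surjective a
    obtain ⟨b', rfl⟩ := Ideal.Quotient.mk_surjective b
    exact div_mem (Subfield.subset_closure (Or.inl ⟨a', rfl⟩))
      (Subfield.subset_closure (Or.inl ⟨b', rfl⟩))
  obtain ⟨V, hV, hmem, hlt⟩ :=
    Groth.Agent.H73.KA.exists_dvr_of_ringHom φL ⟨β ϖ, hxm, hφx⟩ ∅ hs
  let ψ : B →+* V := φL.codRestrict V hmem
  have hψloc : IsLocalHom ψ := by
    constructor
    intro b hb
    by_contra hnu
    have hbm : b ∈ maximalIdeal B := by rwa [mem_maximalIdeal, mem_nonunits_iff]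
    have h1 : V.valuation ((ψ b : V) : L) < 1 := hlt b hbm
    have h2 : ψ b ∈ maximalIdeal V := (ValuationSubring.valuation_lt_one_iff V (ψ b)).mpr h1
    rw [mem_maximalIdeal, mem_nonunits_iff] at h2
    exact h2 hb
  refine ⟨V, inferInstance, inferInstance, hV, ψ, hψloc, ?_⟩
  rw [RingHom.injective_iff_ker_eq_bot]
  by_contra hne
  haveI : (RingHom.ker (ψ.comp β)).IsPrime := RingHom.ker_isPrime _
  have hmax : (RingHom.ker (ψ.comp β)).IsMaximal := Ideal.IsPrime.isMaximal inferInstance hne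
  have heq : RingHom.ker (ψ.comp β) = maximalIdeal A' := eq_maximalIdeal hmax
  have hϖm : ϖ ∈ maximalIdeal A' := by
    rw [mem_maximalIdeal, mem_nonunits_iff]; exact hϖ.not_isUnit
  rw [← heq, RingHom.mem_ker] at hϖm
  apply hφx
  have := congrArg (Subtype.val : V → L) hϖm
  simpa [ψ] using this

end Groth.Agent.H11.SubmDVRAlg
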