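import Mathlib
import Groth.Prelude.Def_SGA1
import Groth.Agent.H11.SubmDVRAlg

/-!
# Lifting discrete valuation rings along universally submersive morphisms

If `g : S' ⟶ S` is universally submersive and locally of finite type, then any morphism
`h : Spec A' ⟶ S` from the spectrum of a discrete valuation ring lifts to `S'` after an injective
local extension `A' → V` of discrete valuation rings.
-/

set_option autoImplicit false
universe u
open CategoryTheory CategoryTheory.Limits AlgebraicGeometry IsLocalRing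

namespace Groth.Agent.H11.SubmDVR

/-- On a neighbourhood of a point where the germ of a section is nilpotent, the section is not
invertible anywhere. -/
theorem exists_open_disjoint_basicOpen {T : Scheme.{u}} {U : T.Opens} (τ : Γ(T, U)) (t : T)
    (ht : t ∈ U) (hnil : IsNilpotent (T.presheaf.germ U t ht τ)) :
    ∃ W : T.Opens, t ∈ W ∧ W ⊓ T.basicOpen τ = ⊥ := by
  obtain ⟨n, hn⟩ := hnil
  have hn1 : T.presheaf.germ U t ht (τ ^ (n + 1)) = T.presheaf.germ U t ht 0 := by
    rw [map_pow, pow_succ, hn, zero_mul, map_zero]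
  obtain ⟨W, htW, iU, iV, hW⟩ := TopCat.Presheaf.germ_eq T.presheaf t ht ht _ _ hn1
  refine ⟨W, htW, ?_⟩
  have h1 : T.basicOpen (T.presheaf.map iU.op τ) = W ⊓ T.basicOpen τ := Scheme.basicOpen_res _ _ _
  rw [← h1, ← Scheme.basicOpen_pow T (T.presheaf.map iU.op τ) (Nat.succ_pos n), ← map_pow, hW,
    map_zero, Scheme.basicOpen_zero]

theorem exists_dvr_lift {S S' : Scheme.{u}} (g : S' ⟶ S) [LocallyOfFiniteType g]
    (hg : SGA1.UnivSubmersive g)
    (A' : Type u) [CommRing A'] [IsDomain A'] [IsDiscreteValuationRing A']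
    (h : Spec (CommRingCat.of A') ⟶ S) :
    ∃ (V : Type u) (_ : CommRing V) (_ : IsDomain V) (_ : IsDiscreteValuationRing V)
      (ψ₀ : A' →+* V) (k : Spec (CommRingCat.of V) ⟶ S'), IsLocalHom ψ₀ ∧
        Function.Injective ψ₀ ∧ k ≫ g = Spec.map (CommRingCat.ofHom ψ₀) ≫ h := by
  classical
  obtain ⟨ϖ, hϖ⟩ := IsDiscreteValuationRing.exists_irreducible A'
  let T := pullback g h
  let gT : T ⟶ Spec (CommRingCat.of A') := pullback.snd g h
  have hq : Topology.IsQuotientMap gT.base :=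
    hg _ _ _ (IsPullback.of_hasPullback g h).flip
  let r : Γ(Spec (CommRingCat.of A'), ⊤) := (Scheme.ΓSpecIso (CommRingCat.of A')).inv ϖ
  let τ : Γ(T, gT ⁻¹ᵁ ⊤) := gT.app ⊤ r
  have hbo : T.basicOpen τ = gT ⁻¹ᵁ ((Spec (CommRingCat.of A')).basicOpen r) :=
    (Scheme.preimage_basicOpen gT r).symm
  have hr : (Spec (CommRingCat.of A')).basicOpen r = PrimeSpectrum.basicOpen ϖ :=
    basicOpen_eq_of_affine (R := CommRingCat.of A') ϖ
  have hmem : ∀ t : T, t ∈ T.basicOpen τ ↔ ϖ ∉ (gT.base t).asIdeal := by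
    intro t
    rw [hbo]
    show gT.base t ∈ (Spec (CommRingCat.of A')).basicOpen r ↔ _
    rw [hr]
    rfl
  have hmax : maximalIdeal A' = Ideal.span {ϖ} := hϖ.maximalIdeal_eq
  have hclosed : ∀ p : PrimeSpectrum A', ϖ ∈ p.asIdeal → p = closedPoint A' := by
    intro p hp'
    apply PrimeSpectrum.ext
    have hle : maximalIdeal A' ≤ p.asIdeal := by
      rw [hmax, Ideal.span_singleton_le_iff_mem]; exact hp'
    exact ((maximalIdeal.isMaximal A').eq_of_le p.2.ne_top hle).symm
  -- the key point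
  obtain ⟨t₀, ht₀, hnn⟩ : ∃ t₀ : T, t₀ ∉ T.basicOpen τ ∧
      ¬ IsNilpotent (T.presheaf.germ (gT ⁻¹ᵁ ⊤) t₀ trivial τ) := by
    by_contra hcon
    push Not at hcon
    have hopenZ : IsOpen ((T.basicOpen τ : Set T)ᶜ) := by
      rw [isOpen_iff_forall_mem_open]
      intro t ht
      obtain ⟨W, htW, hW⟩ := exists_open_disjoint_basicOpen τ t trivial (hcon t ht)
      refine ⟨W, ?_, W.2, htW⟩
      intro u hu hub
      have : u ∈ W ⊓ T.basicOpen τ := ⟨hu, hub⟩
      rw [hW] at this
      exact this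
    have hpre : (T.basicOpen τ : Set T)ᶜ =
        gT.base ⁻¹' {p : PrimeSpectrum A' | ϖ ∈ p.asIdeal} := by
      ext t
      show t ∉ T.basicOpen τ ↔ ϖ ∈ (gT.base t).asIdeal
      rw [hmem t, not_not]
    rw [hpre] at hopenZ
    have hopenZ' : IsOpen {p : PrimeSpectrum A' | ϖ ∈ p.asIdeal} := hq.isOpen_preimage.mp hopenZ
    let D : TopologicalSpace.Opens (PrimeSpectrum A') := ⟨_, hopenZ'⟩
    have hcp : closedPoint A' ∈ D := by
      show ϖ ∈ maximalIdeal A'
      rw [hmax]; exact Ideal.mem_span_singleton_self ϖ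
    have htop : D = ⊤ := (closedPoint_mem_iff D).mp hcp
    have hbot : (⊥ : PrimeSpectrum A') ∈ D := by rw [htop]; trivial
    have hbot' : ϖ ∈ (⊥ : Ideal A') := hbot
    rw [Ideal.mem_bot] at hbot'
    exact hϖ.ne_zero hbot'
  have hgt₀ : gT.base t₀ = closedPoint A' := by
    apply hclosed
    by_contra hc
    exact ht₀ ((hmem t₀).mpr hc)
  -- the ring map `A' → O_{T,t₀}`
  let βc : CommRingCat.of A' ⟶ T.presheaf.stalk t₀ :=
    (Scheme.ΓSpecIso (CommRingCat.of A')).inv ≫
      (Spec (CommRingCat.of A')).presheaf.germ ⊤ (gT.base t₀) trivial ≫ gT.stalkMap t₀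
  have hβspec : Spec.map βc = T.fromSpecStalk t₀ ≫ gT := by
    rw [← Scheme.SpecMap_stalkMap_fromSpecStalk, Spec.fromSpecStalk_eq, ← Spec.map_comp]
    simp only [βc, Category.assoc]
  have hβϖ : βc.hom ϖ = T.presheaf.germ (gT ⁻¹ᵁ ⊤) t₀ trivial τ := by
    have := Scheme.Hom.germ_stalkMap_apply gT ⊤ t₀ trivial r
    simp only [βc, CommRingCat.hom_comp, RingHom.comp_apply]
    exact this
  haveI hβloc : IsLocalHom βc.hom := by
    rw [isLocalHom_iff_comap_closedPoint]
    have h1 : (Spec.map βc).base (closedPoint (T.presheaf.stalk t₀)) = closedPoint A' := by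
      rw [hβspec]
      show gT.base ((T.fromSpecStalk t₀).base (closedPoint (T.presheaf.stalk t₀))) = _
      rw [Scheme.fromSpecStalk_closedPoint]
      exact hgt₀
    exact h1
  haveI : LocallyOfFiniteType gT := by
    show LocallyOfFiniteType (pullback.snd g h)
    infer_instance
  haveI : IsLocallyNoetherian T := LocallyOfFiniteType.isLocallyNoetherian gT
  haveI : IsNoetherianRing (T.presheaf.stalk t₀) := inferInstance
  obtain ⟨V, iV1, iV2, iV3, ψ, hψloc, hinj⟩ :=
    Groth.Agent.H11.SubmDVRAlg.exists_dvr_of_not_isNilpotent βc.hom ϖ hϖ (by rw [hβϖ]; exact hnn)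
  refine ⟨V, iV1, iV2, iV3, ψ.comp βc.hom,
    Spec.map (CommRingCat.ofHom ψ) ≫ T.fromSpecStalk t₀ ≫ pullback.fst g h, ?_, hinj, ?_⟩
  · exact RingHom.isLocalHom_comp _ _
  · have e1 : Spec.map (CommRingCat.ofHom (ψ.comp βc.hom)) =
        Spec.map (CommRingCat.ofHom ψ) ≫ Spec.map βc := Spec.map_comp βc (CommRingCat.ofHom ψ)
    rw [e1, hβspec]
    simp only [Category.assoc]
    rw [pullback.condition]

end Groth.Agent.H11.SubmDVR
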