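import Mathlib
import Groth.Prelude.Def_SGA1
import Groth.Agent.H11.SubmDVR
import Groth.Agent.H11.ValFlatSch2
import Groth.Agent.H8.FlatBaseChange
import Groth.Agent.H29.FiberStalkAt

/-!
# Flatness descends along universally submersive morphisms of finite type over a reduced
locally Noetherian base

Proof: valuative criterion of flatness (EGA IV 11.8.1) + lifting of discrete valuation rings along
universally submersive morphisms + pointwise faithfully flat descent of flatness.
-/

set_option autoImplicit false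
universe u
open CategoryTheory CategoryTheory.Limits AlgebraicGeometry IsLocalRing

namespace Groth.Agent.H11.SubmFlat

/-- An injective homomorphism from a discrete valuation ring to a domain is flat. -/
theorem flat_of_injective_dvr {A' V : Type u} [CommRing A'] [IsDomain A']
    [IsDiscreteValuationRing A'] [CommRing V] [IsDomain V] (ψ₀ : A' →+* V)
    (hinj : Function.Injective ψ₀) : ψ₀.Flat := by
  letI : Algebra A' V := ψ₀.toAlgebra
  haveI : Module.IsTorsionFree A' V := Module.isTorsionFree_iff_algebraMap_injective.mpr hinj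
  show Module.Flat A' V
  infer_instance

/-- Pointwise descent of flatness along a base change which is flat at the point. -/
theorem flat_stalkMap_of_isPullback {X' X Y' Y : Scheme.{u}} {g' : X' ⟶ X} {f' : X' ⟶ Y'}
    {f : X ⟶ Y} {g : Y' ⟶ Y} (hc : IsPullback g' f' f g) (x' : X')
    (hg : (g.stalkMap (f'.base x')).hom.Flat) (hf' : (f'.stalkMap x').hom.Flat) :
    (f.stalkMap (g'.base x')).hom.Flat := by
  have h1 : (g'.stalkMap x').hom.Flat := Groth.Agent.H8.flat_stalkMap_baseChange hc x' hg
  have h2 : ((g' ≫ f).stalkMap x').hom.Flat := by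
    have : ∀ (k : X' ⟶ Y), k = f' ≫ g → (k.stalkMap x').hom.Flat := by
      rintro k rfl
      rw [Groth.Agent.H29.FiberStalkAt.stalkMap_comp_hom]
      exact RingHom.Flat.comp hg hf'
    exact this _ hc.w
  rw [Groth.Agent.H29.FiberStalkAt.stalkMap_comp_hom] at h2
  exact Groth.Agent.H29.FiberStalkAt.flat_of_comp _ _ h1 h2

/-- Flatness of the base change passes to further base changes. -/
theorem flat_snd_comp {X S S' S'' : Scheme.{u}} (f : X ⟶ S) (g : S' ⟶ S) (k : S'' ⟶ S')
    [Flat (pullback.snd f g)] : Flat (pullback.snd f (k ≫ g)) := by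
  have h1 : pullback.snd f (k ≫ g) =
      (pullbackLeftPullbackSndIso f g k).inv ≫ pullback.snd (pullback.snd f g) k := by
    rw [pullbackLeftPullbackSndIso_inv_snd_snd]
  rw [h1]
  infer_instance

theorem flat_of_flat_baseChange {X S S' : Scheme.{u}} [IsLocallyNoetherian S] [IsReduced S]
    (f : X ⟶ S) [LocallyOfFiniteType f] (g : S' ⟶ S) [LocallyOfFiniteType g]
    (hg : SGA1.UnivSubmersive g) (hflat : Flat (pullback.snd f g)) : Flat f := by
  apply Flat.of_stalkMap
  intro x
  apply Groth.Agent.H11.ValFlatSch2.flat_stalkMap_of_dvr_local f x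
  intro A' _ _ _ φ _ x' hx'1 hx'2
  obtain ⟨V, iV1, iV2, iV3, ψ₀, k, hψloc, hψinj, hk⟩ :=
    Groth.Agent.H11.SubmDVR.exists_dvr_lift g hg A'
      (Spec.map (CommRingCat.ofHom φ) ≫ S.fromSpecStalk (f.base x))
  have hψflat : ψ₀.Flat := flat_of_injective_dvr ψ₀ hψinj
  haveI hSflat : Flat (Spec.map (CommRingCat.ofHom ψ₀)) :=
    (HasRingHomProperty.Spec_iff (P := @Flat)).mpr hψflat
  have hB : Flat (pullback.snd f (k ≫ g)) := flat_snd_comp f g k
  rw [hk] at hB
  have hsndP : Flat (pullback.snd (pullback.snd f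
      (Spec.map (CommRingCat.ofHom φ) ≫ S.fromSpecStalk (f.base x)))
      (Spec.map (CommRingCat.ofHom ψ₀))) := by
    rw [← pullbackLeftPullbackSndIso_hom_snd]
    infer_instance
  have hpt : (pullback.snd f (Spec.map (CommRingCat.ofHom φ) ≫ S.fromSpecStalk (f.base x))).base x' =
      (Spec.map (CommRingCat.ofHom ψ₀)).base (closedPoint V) := by
    rw [hx'2]
    exact ((isLocalHom_iff_comap_closedPoint ψ₀).mp hψloc).symm
  obtain ⟨x'', hx''1, hx''2⟩ := Scheme.Pullback.exists_preimage_pullback
    (f := pullback.snd f (Spec.map (CommRingCat.ofHom φ) ≫ S.fromSpecStalk (f.base x)))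
    (g := Spec.map (CommRingCat.ofHom ψ₀)) x' (closedPoint V) hpt
  have key := flat_stalkMap_of_isPullback
    (IsPullback.of_hasPullback (pullback.snd f
      (Spec.map (CommRingCat.ofHom φ) ≫ S.fromSpecStalk (f.base x)))
      (Spec.map (CommRingCat.ofHom ψ₀))) x'' (Flat.stalkMap _ _) (Flat.stalkMap _ _)
  rw [hx''1] at key
  exact key

end Groth.Agent.H11.SubmFlat
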