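import Mathlib.RingTheory.Flat.EquationalCriterion
import Mathlib.RingTheory.Localization.AtPrime.Basic
import Mathlib.RingTheory.Localization.Ideal
import Mathlib.RingTheory.Ideal.Maps
import Mathlib.LinearAlgebra.Finsupp.LinearCombination
import Mathlib.Tactic

set_option autoImplicit false

universe u

namespace Groth.Agent.H11

variable {R S : Type u} [CommRing R] [CommRing S] [Algebra R S]

section Flat

variable [Module.Flat R S]

/-- relations modulo an extended ideal come from relations modulo the ideal (flatness) -/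
theorem flat_relation_mem {ι : Type*} [Fintype ι] (J : Ideal R) (a : ι → R) (x : ι → S)
    (h : ∑ i, algebraMap R S (a i) * x i ∈ J.map (algebraMap R S)) :
    ∃ (k : ℕ) (c : ι → Fin k → R) (u : Fin k → S),
      (∀ i, x i = ∑ j, algebraMap R S (c i j) * u j) ∧ ∀ j, ∑ i, a i * c i j ∈ J := by
  classical
  have h0 : ∑ i, algebraMap R S (a i) * x i ∈
      Submodule.span S (algebraMap R S '' (J : Set R)) := h
  obtain ⟨r', d, b, hb⟩ := Submodule.mem_span_set'.mp h0
  have hb' : ∀ l, ∃ b' : R, b' ∈ J ∧ algebraMap R S b' = (b l : S) := fun l => (b l).2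
  choose b' hb'J hb'eq using hb'
  have hrel : ∑ m : ι ⊕ Fin r', (Sum.elim a (fun l => - b' l) m) • (Sum.elim x d m) = 0 := by
    have e1 : ∑ i, a i • x i = ∑ i, algebraMap R S (a i) * x i := by
      simp [Algebra.smul_def]
    have e2 : ∑ l, (- b' l) • d l = - ∑ l, d l • (b l : S) := by
      rw [← Finset.sum_neg_distrib]
      refine Finset.sum_congr rfl fun l _ => ?_
      rw [← hb'eq l, Algebra.smul_def, smul_eq_mul, map_neg]
      ring
    rw [Fintype.sum_sum_type]
    simp only [Sum.elim_inl, Sum.elim_inr]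
    rw [e1, e2, hb]
    ring
  obtain ⟨k, A, u, hA1, hA2⟩ := Module.Flat.isTrivialRelation_of_sum_smul_eq_zero (R := R) (M := S)
    (f := Sum.elim a (fun l => - b' l)) (x := Sum.elim x d) hrel
  refine ⟨k, fun i j => A (Sum.inl i) j, u, fun i => ?_, fun j => ?_⟩
  · have := hA1 (Sum.inl i)
    simpa [Algebra.smul_def] using this
  · have := hA2 j
    rw [Fintype.sum_sum_type] at this
    simp only [Sum.elim_inl, Sum.elim_inr, neg_mul, Finset.sum_neg_distrib] at this
    have h3 : ∑ i, a i * A (Sum.inl i) j = ∑ l, b' l * A (Sum.inr l) j := by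
      linear_combination this
    rw [h3]
    exact sum_mem fun l _ => Ideal.mul_mem_right _ _ (hb'J l)

theorem flat_relation_mem_finset {ι : Type*} [DecidableEq ι] (T : Finset ι) (J : Ideal R)
    (a : ι → R) (x : ι → S)
    (h : ∑ i ∈ T, algebraMap R S (a i) * x i ∈ J.map (algebraMap R S)) :
    ∃ (k : ℕ) (c : ι → Fin k → R) (u : Fin k → S),
      (∀ i ∈ T, x i = ∑ j, algebraMap R S (c i j) * u j) ∧ ∀ j, ∑ i ∈ T, a i * c i j ∈ J := by
  have h' : ∑ i : T, algebraMap R S (a i) * x i ∈ J.map (algebraMap R S) := by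
    rwa [Finset.sum_coe_sort T (fun i => algebraMap R S (a i) * x i)]
  obtain ⟨k, c, u, h1, h2⟩ := flat_relation_mem J (fun i : T => a i) (fun i : T => x i) h'
  refine ⟨k, fun i j => if hi : i ∈ T then c ⟨i, hi⟩ j else 0, u, fun i hi => ?_, fun j => ?_⟩
  · have := h1 ⟨i, hi⟩
    simp only [dif_pos hi]
    exact this
  · have := h2 j
    rw [← Finset.sum_coe_sort T (fun i => a i * (if hi : i ∈ T then c ⟨i, hi⟩ j else 0))]
    have e : ∑ i : T, a i * (if hi : (i : ι) ∈ T then c ⟨i, hi⟩ j else 0) =
        ∑ i : T, a i * c i j :=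
      Finset.sum_congr rfl fun i _ => by rw [dif_pos i.2]
    rw [e]
    exact this

theorem flat_mem_colon (I : Ideal R) (s : R) (y : S)
    (h : algebraMap R S s * y ∈ I.map (algebraMap R S)) :
    ∃ (k : ℕ) (c : Fin k → R) (u : Fin k → S),
      y = ∑ j, algebraMap R S (c j) * u j ∧ ∀ j, s * c j ∈ I := by
  have h' : ∑ i : Unit, algebraMap R S ((fun _ => s) i) * (fun _ => y) i ∈
      I.map (algebraMap R S) := by simpa using h
  obtain ⟨k, c, u, h1, h2⟩ := flat_relation_mem I (fun _ : Unit => s) (fun _ => y) h'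
  exact ⟨k, c (), u, h1 (), fun j => by simpa using h2 j⟩

theorem flat_not_mem_map_of_not_mem (p : Ideal R) [hp : p.IsPrime]
    (hq : p.map (algebraMap R S) ≠ ⊤) {s : R} (hs : s ∉ p) :
    algebraMap R S s ∉ p.map (algebraMap R S) := by
  intro h
  obtain ⟨k, c, u, h1, h2⟩ := flat_mem_colon p s (1 : S) (by simpa using h)
  apply hq
  rw [Ideal.eq_top_iff_one, h1]
  exact sum_mem fun j _ => Ideal.mul_mem_right _ _
    (Ideal.mem_map_of_mem _ ((hp.mem_or_mem (h2 j)).resolve_left hs))

end Flat

/-- symbolic power, as in the statement -/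
noncomputable def symb (p : Ideal R) [p.IsPrime] (n : ℕ) : Ideal R :=
  ((p ^ n).map (algebraMap R (Localization.AtPrime p))).comap
    (algebraMap R (Localization.AtPrime p))

theorem mem_symb (p : Ideal R) [p.IsPrime] (n : ℕ) (x : R) :
    x ∈ symb p n ↔ ∃ s, s ∉ p ∧ s * x ∈ p ^ n := by
  rw [symb, Ideal.mem_comap,
    IsLocalization.algebraMap_mem_map_algebraMap_iff p.primeCompl]
  constructor
  · rintro ⟨m, hm, h⟩
    exact ⟨m, hm, h⟩
  · rintro ⟨m, hm, h⟩
    exact ⟨m, hm, h⟩

section Main

variable [Module.Flat R S] (p : Ideal R) [hp : p.IsPrime]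
  [hq : (p.map (algebraMap R S)).IsPrime]

omit hq in
/-- Lemma B: membership in the extension of the symbolic power -/
theorem mem_map_symb_iff (n : ℕ) (y : S) :
    y ∈ (symb p n).map (algebraMap R S) ↔
      ∃ s, s ∉ p ∧ algebraMap R S s * y ∈ (p ^ n).map (algebraMap R S) := by
  constructor
  · intro hy
    have hy' : y ∈ Submodule.span S (algebraMap R S '' (symb p n : Set R)) := hy
    clear hy
    induction hy' using Submodule.span_induction with
    | mem z hz =>
      obtain ⟨x, hx, rfl⟩ := hz
      obtain ⟨s, hs, hsx⟩ := (mem_symb p n x).mp hx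
      exact ⟨s, hs, by rw [← map_mul]; exact Ideal.mem_map_of_mem _ hsx⟩
    | zero => exact ⟨1, fun h => hp.ne_top ((Ideal.eq_top_iff_one p).mpr h), by simp⟩
    | add z w _ _ hz hw =>
      obtain ⟨s₁, hs₁, h1⟩ := hz
      obtain ⟨s₂, hs₂, h2⟩ := hw
      refine ⟨s₁ * s₂, fun h => (hp.mem_or_mem h).elim hs₁ hs₂, ?_⟩
      have : algebraMap R S (s₁ * s₂) * (z + w) =
          algebraMap R S s₂ * (algebraMap R S s₁ * z) +
            algebraMap R S s₁ * (algebraMap R S s₂ * w) := by
        rw [map_mul]; ring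
      rw [this]
      exact Ideal.add_mem _ (Ideal.mul_mem_left _ _ h1) (Ideal.mul_mem_left _ _ h2)
    | smul c z _ hz =>
      obtain ⟨s, hs, h1⟩ := hz
      refine ⟨s, hs, ?_⟩
      have : algebraMap R S s * (c • z) = c * (algebraMap R S s * z) := by
        rw [smul_eq_mul]; ring
      rw [this]
      exact Ideal.mul_mem_left _ _ h1
  · rintro ⟨s, hs, h⟩
    obtain ⟨k, c, u, h1, h2⟩ := flat_mem_colon (p ^ n) s y h
    rw [h1]
    refine sum_mem fun j _ => Ideal.mul_mem_right _ _ (Ideal.mem_map_of_mem _ ?_)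
    exact (mem_symb p n (c j)).mpr ⟨s, hs, h2 j⟩

include hq in
/-- Claim C' -/
theorem exists_mul_mem_of_mul_mem_succ (n : ℕ) (t : S)
    (ht : t ∉ p.map (algebraMap R S)) (y : S) (hy : y ∈ (p ^ n).map (algebraMap R S))
    (hty : t * y ∈ (p ^ (n + 1)).map (algebraMap R S)) :
    ∃ s, s ∉ p ∧ algebraMap R S s * y ∈ (p ^ (n + 1)).map (algebraMap R S) := by
  classical
  have hy' : y ∈ Submodule.span S (algebraMap R S '' ((p ^ n : Ideal R) : Set R)) := hy
  obtain ⟨r, d, b, hb⟩ := Submodule.mem_span_set'.mp hy'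
  have hb' : ∀ l, ∃ b' : R, b' ∈ p ^ n ∧ algebraMap R S b' = (b l : S) := fun l => (b l).2
  choose a haJ haeq using hb'
  -- the inductive statement over subsets of indices
  have H : ∀ (T : Finset (Fin r)) (z : Fin r → S) (y : S),
      y - ∑ i ∈ T, algebraMap R S (a i) * z i ∈ (p ^ (n + 1)).map (algebraMap R S) →
      t * y ∈ (p ^ (n + 1)).map (algebraMap R S) →
      ∃ s, s ∉ p ∧ algebraMap R S s * y ∈ (p ^ (n + 1)).map (algebraMap R S) := by
    intro T
    induction T using Finset.strongInduction with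
    | H T ih =>
      intro z y hw hty
      by_cases hLI : ∀ c : Fin r → R, ∑ i ∈ T, a i * c i ∈ p ^ (n + 1) → ∀ i ∈ T, c i ∈ p
      · -- linearly independent case
        refine ⟨1, fun h => hp.ne_top ((Ideal.eq_top_iff_one p).mpr h), ?_⟩
        rw [map_one, one_mul]
        have he : ∑ i ∈ T, algebraMap R S (a i) * (t * z i) ∈
            (p ^ (n + 1)).map (algebraMap R S) := by
          have : ∑ i ∈ T, algebraMap R S (a i) * (t * z i) =
              t * y - t * (y - ∑ i ∈ T, algebraMap R S (a i) * z i) := by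
            rw [mul_sub, Finset.mul_sum]
            have : ∀ i ∈ T, algebraMap R S (a i) * (t * z i) =
                t * (algebraMap R S (a i) * z i) := fun i _ => by ring
            rw [Finset.sum_congr rfl this]
            ring
          rw [this]
          exact Ideal.sub_mem _ hty (Ideal.mul_mem_left _ _ hw)
        obtain ⟨k, c, u, h1, h2⟩ :=
          flat_relation_mem_finset T (p ^ (n + 1)) a (fun i => t * z i) he
        have hz : ∀ i ∈ T, z i ∈ p.map (algebraMap R S) := by
          intro i hi
          have hc : ∀ j, c i j ∈ p := fun j => hLI (fun i => c i j) (h2 j) i hi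
          have : t * z i ∈ p.map (algebraMap R S) := by
            rw [h1 i hi]
            exact sum_mem fun j _ => Ideal.mul_mem_right _ _
              (Ideal.mem_map_of_mem _ (hc j))
          exact (hq.mem_or_mem this).resolve_left ht
        have hsum : ∑ i ∈ T, algebraMap R S (a i) * z i ∈
            (p ^ (n + 1)).map (algebraMap R S) := by
          refine sum_mem fun i hi => ?_
          rw [pow_succ, Ideal.map_mul]
          exact Ideal.mul_mem_mul (Ideal.mem_map_of_mem _ (haJ i)) (hz i hi)
        have : y = (y - ∑ i ∈ T, algebraMap R S (a i) * z i) +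
            ∑ i ∈ T, algebraMap R S (a i) * z i := by ring
        rw [this]
        exact Ideal.add_mem _ hw hsum
      · -- dependent case: remove an index
        push Not at hLI
        obtain ⟨c, hc, k₀, hk₀, hck₀⟩ := hLI
        set z' : Fin r → S := fun i =>
          algebraMap R S (c k₀) * z i - algebraMap R S (c i) * z k₀ with hz'
        have hw' : algebraMap R S (c k₀) * y -
            ∑ i ∈ T.erase k₀, algebraMap R S (a i) * z' i ∈
              (p ^ (n + 1)).map (algebraMap R S) := by
          have h1 : ∑ i ∈ T.erase k₀, algebraMap R S (a i) * z' i =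
              algebraMap R S (c k₀) * ∑ i ∈ T.erase k₀, algebraMap R S (a i) * z i -
                (∑ i ∈ T.erase k₀, algebraMap R S (a i * c i)) * z k₀ := by
            rw [Finset.mul_sum, Finset.sum_mul, ← Finset.sum_sub_distrib]
            refine Finset.sum_congr rfl fun i _ => ?_
            simp only [hz', map_mul]
            ring
          have h2 : ∑ i ∈ T.erase k₀, algebraMap R S (a i) * z i =
              ∑ i ∈ T, algebraMap R S (a i) * z i - algebraMap R S (a k₀) * z k₀ :=
            Finset.sum_erase_eq_sub hk₀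
          have h3 : ∑ i ∈ T.erase k₀, algebraMap R S (a i * c i) =
              algebraMap R S (∑ i ∈ T, a i * c i) - algebraMap R S (a k₀ * c k₀) := by
            rw [map_sum]
            exact Finset.sum_erase_eq_sub hk₀
          have h4 : algebraMap R S (c k₀) * y -
              ∑ i ∈ T.erase k₀, algebraMap R S (a i) * z' i =
              algebraMap R S (c k₀) * (y - ∑ i ∈ T, algebraMap R S (a i) * z i) +
                algebraMap R S (∑ i ∈ T, a i * c i) * z k₀ := by
            rw [h1, h2, h3, map_mul]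
            ring
          rw [h4]
          exact Ideal.add_mem _ (Ideal.mul_mem_left _ _ hw)
            (Ideal.mul_mem_right _ _ (Ideal.mem_map_of_mem _ hc))
        have hty' : t * (algebraMap R S (c k₀) * y) ∈ (p ^ (n + 1)).map (algebraMap R S) := by
          have : t * (algebraMap R S (c k₀) * y) = algebraMap R S (c k₀) * (t * y) := by ring
          rw [this]
          exact Ideal.mul_mem_left _ _ hty
        obtain ⟨s', hs', hs'y⟩ := ih (T.erase k₀) (Finset.erase_ssubset hk₀) z'
          (algebraMap R S (c k₀) * y) hw' hty'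
        refine ⟨s' * c k₀, fun h => (hp.mem_or_mem h).elim hs' hck₀, ?_⟩
        rw [map_mul, mul_assoc]
        exact hs'y
  refine H Finset.univ (fun i => d i) y ?_ hty
  have : y - ∑ i ∈ Finset.univ, algebraMap R S (a i) * d i = 0 := by
    rw [← hb, sub_eq_zero]
    refine Finset.sum_congr rfl fun i _ => ?_
    rw [haeq i, smul_eq_mul, mul_comm]
  rw [this]
  exact Ideal.zero_mem _

include hq in
/-- Claim C -/
theorem exists_mul_mem_of_mul_mem (n : ℕ) (t : S)
    (ht : t ∉ p.map (algebraMap R S)) (y : S)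
    (hty : t * y ∈ (p ^ n).map (algebraMap R S)) :
    ∃ s, s ∉ p ∧ algebraMap R S s * y ∈ (p ^ n).map (algebraMap R S) := by
  induction n generalizing y with
  | zero =>
    refine ⟨1, fun h => hp.ne_top ((Ideal.eq_top_iff_one p).mpr h), ?_⟩
    simp [Ideal.one_eq_top, Ideal.map_top]
  | succ n ih =>
    have hle : (p ^ (n + 1)).map (algebraMap R S) ≤ (p ^ n).map (algebraMap R S) :=
      Ideal.map_mono (Ideal.pow_le_pow_right (Nat.le_succ n))
    obtain ⟨s₁, hs₁, h1⟩ := ih y (hle hty)
    have h2 : t * (algebraMap R S s₁ * y) ∈ (p ^ (n + 1)).map (algebraMap R S) := by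
      have : t * (algebraMap R S s₁ * y) = algebraMap R S s₁ * (t * y) := by ring
      rw [this]
      exact Ideal.mul_mem_left _ _ hty
    obtain ⟨s₂, hs₂, h3⟩ :=
      exists_mul_mem_of_mul_mem_succ p n t ht (algebraMap R S s₁ * y) h1 h2
    refine ⟨s₂ * s₁, fun h => (hp.mem_or_mem h).elim hs₂ hs₁, ?_⟩
    rw [map_mul, mul_assoc]
    exact h3

theorem symbolicPower_map_of_flat (n : ℕ) :
    (symb p n).map (algebraMap R S) = symb (p.map (algebraMap R S)) n := by
  ext y
  rw [mem_map_symb_iff p n y, mem_symb]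
  constructor
  · rintro ⟨s, hs, h⟩
    refine ⟨algebraMap R S s, flat_not_mem_map_of_not_mem p hq.ne_top hs, ?_⟩
    rw [← Ideal.map_pow]
    exact h
  · rintro ⟨t, ht, h⟩
    rw [← Ideal.map_pow] at h
    exact exists_mul_mem_of_mul_mem p n t ht y h

end Main

end Groth.Agent.H11
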