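import Mathlib
import Groth.Agent.H11.UnibranchConn
import Groth.Agent.H38.GeomRedDense
import Groth.Agent.S4366

/-!
# Connectedness of complements over a geometrically unibranch base: scheme version (helper11)
-/

set_option autoImplicit false
set_option maxHeartbeats 800000
set_option linter.style.haveILetI false
set_option linter.unusedVariables false
set_option linter.unusedSectionVars false

universe u

open TensorProduct IsLocalRing
open Groth.Agent.H25.GeomConn (ConnIdem)
open Groth.Agent.H11.HensConnGen Groth.Agent.H11.UnibranchConn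

namespace Groth.Agent.H11.UnibranchConnSch

section Alg

variable (A : Type u) [CommRing A] [IsLocalRing A] [IsNoetherianRing A]
  (B : Type u) [CommRing B] [IsLocalRing B] [Algebra A B] [IsLocalHom (algebraMap A B)]
  [Module.Flat A B]

/-- Variant of `UnibranchConn.isConnected_compl_of_isGeomUnibranch` where the closed set is only
assumed to miss the generic fibre. -/
theorem isConnected_compl_of_isGeomUnibranch' (hA : CAlg2.IsGeomUnibranch A)
    (hred : ∀ (L : Type u) [Field L] [Algebra A L], IsReduced (L ⊗[A] B))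
    (T : Set (PrimeSpectrum B)) (hT : IsClosed T)
    (hT' : ∀ t ∈ T, (PrimeSpectrum.comap (algebraMap A B) t).asIdeal ≠ nilradical A) :
    IsConnected Tᶜ := by
  haveI : IsDomain (CAlg2.red A) := hA.1.1
  haveI hprime : (nilradical A).IsPrime := (Ideal.Quotient.isDomain_iff_prime _).mp inferInstance
  let η : PrimeSpectrum A := ⟨nilradical A, hprime⟩
  have hK : ConnIdem (FractionRing (CAlg2.red A) ⊗[A] B) :=
    connIdem_generic_of_isGeomUnibranch A B hA hred
  have hK' : ConnIdem ((nilradical A).ResidueField ⊗[A] B) := by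
    let e0 : FractionRing (A ⧸ nilradical A) ≃ₐ[A ⧸ nilradical A] (nilradical A).ResidueField :=
      FractionRing.algEquiv (A ⧸ nilradical A) (nilradical A).ResidueField
    let e1 : FractionRing (CAlg2.red A) ≃ₐ[A] (nilradical A).ResidueField :=
      e0.restrictScalars A
    let e2 := Algebra.TensorProduct.congr e1 (AlgEquiv.refl : B ≃ₐ[A] B)
    exact Groth.Agent.H25.GeomConn.ConnIdem.of_injective e2.symm.toRingEquiv.toRingHom
      e2.symm.injective hK
  haveI : ConnectedSpace (PrimeSpectrum (η.asIdeal.Fiber B)) :=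
    (Groth.Agent.H25.GeomConn.connectedSpace_iff _).mpr hK'
  let G : Set (PrimeSpectrum B) := PrimeSpectrum.comap (algebraMap A B) ⁻¹' {η}
  have hG : IsConnected G := by
    rw [isConnected_iff_connectedSpace]
    let e := PrimeSpectrum.preimageHomeomorphFiber A B η
    exact e.symm.surjective.connectedSpace e.symm.continuous
  have hη : ∀ p : PrimeSpectrum A, η ≤ p := fun p => by
    show nilradical A ≤ p.asIdeal
    exact nilradical_le_prime p.asIdeal
  have hGT : G ⊆ Tᶜ := by
    intro g hg hgT
    apply hT' g hgT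
    have : PrimeSpectrum.comap (algebraMap A B) g = η := hg
    rw [this]
  have hgen : ∀ x ∈ Tᶜ, ∃ g ∈ G, g ⤳ x := by
    intro x hx
    haveI : x.asIdeal.LiesOver (PrimeSpectrum.comap (algebraMap A B) x).asIdeal := ⟨rfl⟩
    obtain ⟨Q, hQle, hQprime, hQ⟩ := Ideal.exists_ideal_le_liesOver_of_le (p := η.asIdeal)
      (q := (PrimeSpectrum.comap (algebraMap A B) x).asIdeal) x.asIdeal
      (hη (PrimeSpectrum.comap (algebraMap A B) x))
    refine ⟨⟨Q, hQprime⟩, ?_, ?_⟩
    · show PrimeSpectrum.comap (algebraMap A B) ⟨Q, hQprime⟩ = η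
      apply PrimeSpectrum.ext
      exact (hQ.over).symm
    · rw [← PrimeSpectrum.le_iff_specializes]
      exact hQle
  refine ⟨hG.nonempty.mono hGT, ?_⟩
  apply isPreconnected_of_forall_pair
  intro x hx y hy
  obtain ⟨gx, hgx, hgx'⟩ := hgen x hx
  obtain ⟨gy, hgy, hgy'⟩ := hgen y hy
  refine ⟨G ∪ {x, y}, ?_, Or.inr (Or.inl rfl), Or.inr (Or.inr rfl), ?_⟩
  · apply Set.union_subset hGT
    intro z hz
    rcases hz with rfl | rfl
    exacts [hx, hy]
  · apply hG.isPreconnected.subset_closure Set.subset_union_left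
    apply Set.union_subset subset_closure
    intro z hz
    rcases hz with rfl | rfl
    · exact closure_mono (Set.singleton_subset_iff.mpr hgx) (specializes_iff_mem_closure.mp hgx')
    · exact closure_mono (Set.singleton_subset_iff.mpr hgy) (specializes_iff_mem_closure.mp hgy')

end Alg

section Top

open AlgebraicGeometry

/-- In a locally Noetherian scheme, a point without proper generizations lies in the interior of its
closure. -/
theorem mem_interior_closure_of_minimal (Y : Scheme.{u}) [IsLocallyNoetherian Y] (η : Y)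
    (hη : ∀ z : Y, z ⤳ η → z = η) : η ∈ interior (closure ({η} : Set Y)) := by
  have hVo : IsOpen ((closure ({η} : Set Y))ᶜ ∪ interior (closure ({η} : Set Y))) :=
    isClosed_closure.isOpen_compl.union isOpen_interior
  have hVd : Dense ((closure ({η} : Set Y))ᶜ ∪ interior (closure ({η} : Set Y))) := by
    rw [dense_iff_inter_open]
    intro O hO hOne
    by_cases hsub : O ⊆ closure ({η} : Set Y)
    · obtain ⟨o, ho⟩ := hOne
      exact ⟨o, ho, Or.inr (interior_maximal hsub hO ho)⟩
    · obtain ⟨o, ho, hno⟩ := Set.not_subset.mp hsub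
      exact ⟨o, ho, Or.inl hno⟩
  rcases Groth.Agent.H38.GeomRedDense.mem_of_dense_open Y _ hVo hVd η hη with h | h
  · exact absurd (subset_closure (Set.mem_singleton η)) h
  · exact h

set_option backward.isDefEq.respectTransparency false in
/-- In a locally Noetherian scheme, a point in the closure of an open set is a specialization of a
point of that open set. -/
theorem exists_specializes_of_mem_closure (X : Scheme.{u}) [IsLocallyNoetherian X] (U : Set X)
    (hU : IsOpen U) (x : X) (hx : x ∈ closure U) : ∃ x' ∈ U, x' ⤳ x := by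
  obtain ⟨_, ⟨W, hW, rfl⟩, hxW, -⟩ :=
    X.isBasis_affineOpens.exists_subset_of_mem_open (Set.mem_univ x) isOpen_univ
  haveI : IsNoetherianRing Γ(X, W) := IsLocallyNoetherian.component_noetherian ⟨W, hW⟩
  haveI : TopologicalSpace.NoetherianSpace W := noetherianSpace_of_isAffineOpen W hW
  haveI : QuasiSober W := inferInstanceAs (QuasiSober (W : Scheme.{u}))
  let xW : W := ⟨x, hxW⟩
  have hfin : (irreducibleComponents W).Finite :=
    TopologicalSpace.NoetherianSpace.finite_irreducibleComponents
  let 𝒵 : Set (Set W) := {Z | Z ∈ irreducibleComponents W ∧ xW ∉ Z}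
  have h𝒵fin : 𝒵.Finite := hfin.subset (fun Z hZ => hZ.1)
  have hclosed : IsClosed (⋃₀ 𝒵) := by
    rw [Set.sUnion_eq_biUnion]
    exact h𝒵fin.isClosed_biUnion (fun Z hZ => isClosed_of_mem_irreducibleComponents Z hZ.1)
  let O : Set X := Subtype.val '' ((⋃₀ 𝒵)ᶜ : Set W)
  have hOo : IsOpen O := W.2.isOpenMap_subtype_val _ hclosed.isOpen_compl
  have hxO : x ∈ O := by
    refine ⟨xW, ?_, rfl⟩
    rintro ⟨Z, hZ, hxZ⟩
    exact hZ.2 hxZ
  obtain ⟨u, huO, huU⟩ := mem_closure_iff.mp hx O hOo hxO
  obtain ⟨uW, huW, rfl⟩ := huO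
  have hcover : uW ∈ ⋃₀ irreducibleComponents W := by
    rw [sUnion_irreducibleComponents]; trivial
  obtain ⟨Z, hZ, huZ⟩ := hcover
  have hxZ : xW ∈ Z := by
    by_contra hn
    exact huW ⟨Z, ⟨hZ, hn⟩, huZ⟩
  obtain ⟨ζ, hζ⟩ := QuasiSober.sober hZ.1 (isClosed_of_mem_irreducibleComponents Z hZ)
  have h1 : ζ ⤳ uW := by rw [specializes_iff_mem_closure, hζ.def]; exact huZ
  have h2 : ζ ⤳ xW := by rw [specializes_iff_mem_closure, hζ.def]; exact hxZ
  refine ⟨ζ.1, ?_, h2.map continuous_subtype_val⟩
  exact (h1.map continuous_subtype_val).mem_open hU huU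

end Top


section Local

open AlgebraicGeometry CategoryTheory CategoryTheory.Limits

theorem isPullback_comp_mono {C : Type*} [Category C] {P X Y W Z : C} {fst : P ⟶ X}
    {snd : P ⟶ Y} {f : X ⟶ W} {g : Y ⟶ W} (h : IsPullback fst snd f g) (i : W ⟶ Z) [Mono i] :
    IsPullback fst snd (f ≫ i) (g ≫ i) :=
  IsPullback.of_isLimit (PullbackCone.isLimitOfCompMono f g i _ h.isLimit)

variable {X Y : Scheme.{u}} (f : X ⟶ Y)

/-- The stalk map of a geometrically reduced morphism is geometrically reduced. -/
theorem geometricallyReduced_SpecMap_stalkMap [GeometricallyReduced f] (x : X) :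
    GeometricallyReduced (Spec.map (f.stalkMap x)) := by
  refine ⟨fun K _ t W fst snd h => ?_⟩
  let jx := X.fromSpecStalk x
  let jy := Y.fromSpecStalk (f x)
  have hsq : Spec.map (f.stalkMap x) ≫ jy = jx ≫ f := Scheme.SpecMap_stalkMap_fromSpecStalk f
  let s := t ≫ jy
  haveI : IsReduced (pullback f s) :=
    GeometricallyReduced.geometrically_isReduced s _ _ (IsPullback.of_hasPullback f s)
  have hbig : IsPullback fst snd (jx ≫ f) s := by
    rw [← hsq]
    exact isPullback_comp_mono h jy
  let ℓ : W ⟶ pullback f s :=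
    pullback.lift (fst ≫ jx) snd (by rw [Category.assoc]; exact hbig.w)
  have htop : IsPullback fst ℓ jx (pullback.fst f s) := by
    refine IsPullback.of_bot ?_ (pullback.lift_fst _ _ _).symm (IsPullback.of_hasPullback f s)
    have : ℓ ≫ pullback.snd f s = snd := pullback.lift_snd _ _ _
    rw [this]
    exact hbig
  let g := pullback.fst f s
  haveI : IsReduced (pullback g jx) := by
    haveI : ∀ t' : ↥(pullback g jx), _root_.IsReduced ((pullback g jx).presheaf.stalk t') := by
      intro t'
      haveI := Groth.Agent.S4366.result g x t'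
      let e := asIso ((pullback.fst g jx).stalkMap t')
      exact isReduced_of_injective e.inv.hom
        ((ConcreteCategory.isIso_iff_bijective e.inv).mp inferInstance).1
    exact isReduced_of_isReduced_stalk _
  exact isReduced_of_isOpenImmersion (htop.flip.isoPullback.hom)

end Local


section Global

open AlgebraicGeometry CategoryTheory CategoryTheory.Limits

variable {X Y : Scheme.{u}} [IsLocallyNoetherian X] [IsLocallyNoetherian Y]
  (f : X ⟶ Y) [Flat f] [GeometricallyReduced f]

/-- Local statement at a point `x`: the complement of the preimage of `T` in `Spec 𝒪_{X,x}` is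
connected. -/
theorem isConnected_compl_preimage_fromSpecStalk (x : X)
    (hY : CAlg2.IsGeomUnibranch (Y.presheaf.stalk (f x)))
    (T : Set X) (hT : IsClosed T) (hT' : interior (closure (f.base '' T)) = ∅) :
    IsConnected ((X.fromSpecStalk x).base ⁻¹' T)ᶜ := by
  letI : Algebra (Y.presheaf.stalk (f x)) (X.presheaf.stalk x) := (f.stalkMap x).hom.toAlgebra
  haveI : IsLocalHom (algebraMap (Y.presheaf.stalk (f x)) (X.presheaf.stalk x)) :=
    inferInstanceAs (IsLocalHom (f.stalkMap x).hom)
  haveI : Module.Flat (Y.presheaf.stalk (f x)) (X.presheaf.stalk x) := Flat.stalkMap f x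
  haveI hGR : GeometricallyReduced (Spec.map (CommRingCat.ofHom
      (algebraMap (Y.presheaf.stalk (f x)) (X.presheaf.stalk x)))) :=
    geometricallyReduced_SpecMap_stalkMap f x
  have hred : ∀ (L : Type u) [Field L] [Algebra (Y.presheaf.stalk (f x)) L],
      _root_.IsReduced (L ⊗[Y.presheaf.stalk (f x)] X.presheaf.stalk x) :=
    fun L _ _ => isReduced_tensor_of_geometricallyReduced _ _ L
  refine isConnected_compl_of_isGeomUnibranch' (Y.presheaf.stalk (f x)) (X.presheaf.stalk x) hY
    hred _ (hT.preimage (X.fromSpecStalk x).continuous) ?_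
  intro t ht hEq
  have hsq : Spec.map (f.stalkMap x) ≫ Y.fromSpecStalk (f x) = X.fromSpecStalk x ≫ f :=
    Scheme.SpecMap_stalkMap_fromSpecStalk f
  set q : PrimeSpectrum (Y.presheaf.stalk (f x)) :=
    PrimeSpectrum.comap (algebraMap (Y.presheaf.stalk (f x)) (X.presheaf.stalk x)) t with hq
  let ηy : Y := (Y.fromSpecStalk (f x)).base q
  have hηy : ηy ∈ f.base '' T := by
    refine ⟨(X.fromSpecStalk x).base t, ht, ?_⟩
    have := congrArg (fun g => g.base t) hsq
    simp only [Scheme.Hom.comp_base, TopCat.hom_comp, ContinuousMap.comp_apply] at this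
    exact this.symm
  have hmin : ∀ z : Y, z ⤳ ηy → z = ηy := by
    intro z hz
    have hz' : z ⤳ f x := hz.trans (by
      have : ηy ∈ Set.range (Y.fromSpecStalk (f x)).base := ⟨q, rfl⟩
      rw [Scheme.range_fromSpecStalk] at this
      exact this)
    have hzr : z ∈ Set.range (Y.fromSpecStalk (f x)).base := by
      rw [Scheme.range_fromSpecStalk]; exact hz'
    obtain ⟨q', rfl⟩ := hzr
    have hsp : q' ⤳ q :=
      ((Y.fromSpecStalk (f x)).isEmbedding.isInducing.specializes_iff).mp hz
    have hle : q'.asIdeal ≤ q.asIdeal := (PrimeSpectrum.le_iff_specializes q' q).mpr hsp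
    have : q' = q := by
      apply PrimeSpectrum.ext
      apply le_antisymm hle
      rw [hEq]
      haveI : q'.asIdeal.IsPrime := q'.2
      exact nilradical_le_prime q'.asIdeal
    rw [this]
  have h1 := mem_interior_closure_of_minimal Y ηy hmin
  have h2 : ηy ∈ interior (closure (f.base '' T)) :=
    interior_mono (closure_mono (Set.singleton_subset_iff.mpr hηy)) h1
  rw [hT'] at h2
  exact h2

/-- **EGA IV 18.9.10-type**: connectedness of the complement of a closed subset with nowhere dense
image, over a base with geometrically unibranch local rings. -/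
theorem isConnected_compl [ConnectedSpace ↥X]
    (hY : ∀ y : Y, CAlg2.IsGeomUnibranch (Y.presheaf.stalk y))
    (T : Set X) (hT : IsClosed T) (hT' : interior (closure (f.base '' T)) = ∅) :
    IsConnected Tᶜ := by
  have hloc := fun x => isConnected_compl_preimage_fromSpecStalk f x (hY (f x)) T hT hT'
  -- every point has a generization outside `T`
  have hgen : ∀ x : X, ∃ x' : X, x' ∉ T ∧ x' ⤳ x := by
    intro x
    obtain ⟨t, ht⟩ := (hloc x).nonempty
    refine ⟨(X.fromSpecStalk x).base t, ht, ?_⟩
    have : (X.fromSpecStalk x).base t ∈ Set.range (X.fromSpecStalk x).base := ⟨t, rfl⟩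
    rw [Scheme.range_fromSpecStalk] at this
    exact this
  obtain ⟨x₀⟩ := (inferInstance : Nonempty ↥X)
  obtain ⟨x₀', hx₀', -⟩ := hgen x₀
  refine ⟨⟨x₀', hx₀'⟩, ?_⟩
  intro u v hu hv huv ⟨a, haT, hau⟩ ⟨b, hbT, hbv⟩
  by_contra hne
  rw [Set.not_nonempty_iff_eq_empty] at hne
  have hU₁ : IsOpen (Tᶜ ∩ u) := hT.isOpen_compl.inter hu
  have hU₂ : IsOpen (Tᶜ ∩ v) := hT.isOpen_compl.inter hv
  have hcover : (Set.univ : Set X) ⊆ closure (Tᶜ ∩ u) ∪ closure (Tᶜ ∩ v) := by
    intro x _
    obtain ⟨x', hx'T, hx'⟩ := hgen x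
    rcases huv hx'T with h | h
    · exact Or.inl (closure_mono
        (show ({x'} : Set X) ⊆ Tᶜ ∩ u from Set.singleton_subset_iff.mpr ⟨hx'T, h⟩)
        (specializes_iff_mem_closure.mp hx'))
    · exact Or.inr (closure_mono
        (show ({x'} : Set X) ⊆ Tᶜ ∩ v from Set.singleton_subset_iff.mpr ⟨hx'T, h⟩)
        (specializes_iff_mem_closure.mp hx'))
  obtain ⟨x, -, hx₁, hx₂⟩ := isPreconnected_closed_iff.mp isPreconnected_univ
    (closure (Tᶜ ∩ u)) (closure (Tᶜ ∩ v)) isClosed_closure isClosed_closure hcover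
    ⟨a, trivial, subset_closure ⟨haT, hau⟩⟩ ⟨b, trivial, subset_closure ⟨hbT, hbv⟩⟩
  obtain ⟨x₁, hx₁U, hx₁s⟩ := exists_specializes_of_mem_closure X _ hU₁ x hx₁
  obtain ⟨x₂, hx₂U, hx₂s⟩ := exists_specializes_of_mem_closure X _ hU₂ x hx₂
  have hr₁ : x₁ ∈ Set.range (X.fromSpecStalk x).base := by
    rw [Scheme.range_fromSpecStalk]; exact hx₁s
  have hr₂ : x₂ ∈ Set.range (X.fromSpecStalk x).base := by
    rw [Scheme.range_fromSpecStalk]; exact hx₂s
  obtain ⟨t₁, rfl⟩ := hr₁
  obtain ⟨t₂, rfl⟩ := hr₂
  obtain ⟨t, htT, htu, htv⟩ := (hloc x).isPreconnected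
    ((X.fromSpecStalk x).base ⁻¹' u) ((X.fromSpecStalk x).base ⁻¹' v)
    (hu.preimage (X.fromSpecStalk x).continuous) (hv.preimage (X.fromSpecStalk x).continuous)
    (fun t ht => huv ht) ⟨t₁, hx₁U.1, hx₁U.2⟩ ⟨t₂, hx₂U.1, hx₂U.2⟩
  have : (X.fromSpecStalk x).base t ∈ Tᶜ ∩ (u ∩ v) := ⟨htT, htu, htv⟩
  rw [hne] at this
  exact this

end Global

end Groth.Agent.H11.UnibranchConnSch
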