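import Mathlib
import Groth.Agent.H11.MoriNagataKrull
import Groth.Agent.H11.KrullNormal
import Groth.Agent.H11.HartshorneGen
import Groth.Agent.H11.UnibranchConnSch
import Groth.Agent.H68.ConnInf

/-!
# Depth two of the normalization of a unibranch Noetherian local domain of dimension `≥ 2`, and
connectedness of complements of closed subsets of the closed fibre for flat algebras over a
geometrically unibranch base (helper11; EGA IV 18.9-type / Hartshorne connectedness)
-/

set_option autoImplicit false
set_option maxHeartbeats 800000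
set_option linter.style.haveILetI false
set_option linter.unusedVariables false
set_option linter.unusedSectionVars false

universe u

open IsLocalRing TensorProduct

namespace Groth.Agent.H11.UnibranchDepth

section SecA

variable (A : Type u) [CommRing A] [IsDomain A] [IsLocalRing A] [IsNoetherianRing A]
  (K : Type u) [Field K] [Algebra A K] [IsFractionRing A K]

/-- If the integral closure `A'` of a Noetherian local domain `A` of dimension `≥ 2` is local, then
there is a pair `a, b` in the maximal ideal of `A` which is a regular sequence on `A'`. -/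
theorem exists_regular_pair [IsLocalRing ↥(integralClosure A K)] (hdim : 2 ≤ ringKrullDim A) :
    ∃ a b : A, a ∈ maximalIdeal A ∧ b ∈ maximalIdeal A ∧
      (∀ z : ↥(integralClosure A K), algebraMap A ↥(integralClosure A K) a * z = 0 → z = 0) ∧
      (∀ z : ↥(integralClosure A K), algebraMap A ↥(integralClosure A K) a ∣
          algebraMap A ↥(integralClosure A K) b * z →
        algebraMap A ↥(integralClosure A K) a ∣ z) := by
  classical
  have hcoe : ∀ a : A, ((algebraMap A ↥(integralClosure A K) a : ↥(integralClosure A K)) : K) =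
      algebraMap A K a := fun a => rfl
  have hinjA' : Function.Injective (algebraMap A ↥(integralClosure A K)) := fun x y h =>
    IsFractionRing.injective A K (by rw [← hcoe, ← hcoe, h])
  -- a chain of primes of length two
  have hdim' : ((2 : ℕ) : WithBot ℕ∞) ≤ Order.krullDim (PrimeSpectrum A) := by
    exact_mod_cast hdim
  obtain ⟨l, hl⟩ := Order.le_krullDim_iff.mp hdim'
  have h01 : l ⟨0, by omega⟩ < l ⟨1, by omega⟩ := l.strictMono (by simp [Fin.lt_def])
  have h12 : l ⟨1, by omega⟩ < l ⟨2, by omega⟩ := l.strictMono (by simp [Fin.lt_def])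
  set p₁ : PrimeSpectrum A := l ⟨1, by omega⟩ with hp₁
  have hp₁ne : p₁.asIdeal ≠ ⊥ := by
    intro h0
    have : (l ⟨0, by omega⟩).asIdeal < p₁.asIdeal := h01
    rw [h0] at this
    exact not_lt_bot this
  have hp₁m : p₁.asIdeal ≠ maximalIdeal A := by
    intro hm
    have h1 : p₁.asIdeal < (l ⟨2, by omega⟩).asIdeal := h12
    have h2 : (l ⟨2, by omega⟩).asIdeal ≤ maximalIdeal A :=
      IsLocalRing.le_maximalIdeal (l ⟨2, by omega⟩).2.ne_top
    rw [hm] at h1
    exact absurd h2 (not_le_of_gt h1)
  haveI hp₁prime : p₁.asIdeal.IsPrime := p₁.2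
  obtain ⟨a, hap, ha0⟩ := Submodule.exists_mem_ne_zero_of_ne_bot hp₁ne
  have ham : a ∈ maximalIdeal A := IsLocalRing.le_maximalIdeal p₁.2.ne_top hap
  -- the finite subalgebra
  obtain ⟨C, hCfin, hint, hrad⟩ := Groth.Agent.H11.MoriNagataKrull.exists_Cα A K
  haveI := hCfin
  haveI : IsNoetherianRing ↥C := IsNoetherianRing.of_finite A ↥C
  have hinjC : Function.Injective (algebraMap A ↥C) := fun x y h =>
    IsFractionRing.injective A K (by
      have := congrArg (fun c : ↥C => (c : K)) h
      exact this)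
  have hcompC : (Subalgebra.inclusion hint).toRingHom.comp (algebraMap A ↥C) =
      algebraMap A ↥(integralClosure A K) := by
    ext x
    rfl
  set QQ := (Ideal.span {algebraMap A ↥C a}).minimalPrimes with hQQdef
  have hQQ : QQ.Finite := Ideal.finite_minimalPrimes_of_isNoetherianRing ↥C _
  set PP : Set (Ideal A) := (fun q => q.comap (algebraMap A ↥C)) '' QQ with hPPdef
  have hPP : PP.Finite := hQQ.image _
  have haC0 : algebraMap A ↥C a ≠ 0 := fun h => ha0 (hinjC (by rw [h, map_zero]))
  -- key property of the minimal nonzero primes of `A'` containing `a`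
  have hF : ∀ P : Ideal ↥(integralClosure A K), P.IsPrime → P ≠ ⊥ →
      (∀ P' : Ideal ↥(integralClosure A K), P'.IsPrime → P' ≠ ⊥ → P' ≤ P → P' = P) →
      algebraMap A ↥(integralClosure A K) a ∈ P →
      P.comap (algebraMap A ↥(integralClosure A K)) ∈ PP ∧
        P.comap (algebraMap A ↥(integralClosure A K)) ≠ maximalIdeal A := by
    intro P hP hPne hPmin haP
    haveI := hP
    obtain ⟨hq, hht⟩ := Groth.Agent.H11.MoriNagataKrull.height_comap_eq_one C hint hrad P hP hPne
      hPmin
    have hmem : algebraMap A ↥C a ∈ P.comap (Subalgebra.inclusion hint) := by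
      rw [Ideal.mem_comap]
      have : (Subalgebra.inclusion hint) (algebraMap A ↥C a) =
          algebraMap A ↥(integralClosure A K) a := rfl
      rw [this]
      exact haP
    have h1 := Groth.Agent.H11.KrullNormal.mem_minimalPrimes_span_of_height_one ↥C
      (P.comap (Subalgebra.inclusion hint)) hq hht _ haC0 hmem
    refine ⟨⟨P.comap (Subalgebra.inclusion hint), h1, ?_⟩, ?_⟩
    · show (P.comap (Subalgebra.inclusion hint)).comap (algebraMap A ↥C) = _
      rw [← hcompC]
      rfl
    · intro hPm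
      have hmax : P.IsMaximal :=
        Ideal.isMaximal_of_isIntegral_of_isMaximal_comap (R := A) P
          (by rw [hPm]; exact maximalIdeal.isMaximal A)
      have hPeq : P = maximalIdeal ↥(integralClosure A K) := IsLocalRing.eq_maximalIdeal hmax
      obtain ⟨Q₁, -, hQ₁, hQ₁p⟩ := Ideal.exists_ideal_over_prime_of_isIntegral p₁.asIdeal
        (⊥ : Ideal ↥(integralClosure A K)) (by
          rw [Ideal.comap_bot_of_injective _ hinjA']; exact bot_le)
      have hQ₁ne : Q₁ ≠ ⊥ := by
        intro h0
        rw [h0, Ideal.comap_bot_of_injective _ hinjA'] at hQ₁p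
        exact hp₁ne hQ₁p.symm
      have hQ₁le : Q₁ ≤ P := by
        rw [hPeq]
        exact IsLocalRing.le_maximalIdeal hQ₁.ne_top
      have hQP : Q₁ = P := hPmin Q₁ hQ₁ hQ₁ne hQ₁le
      rw [hQP, hPm] at hQ₁p
      exact hp₁m hQ₁p.symm
  -- prime avoidance
  set s : Finset (Ideal A) := hPP.toFinset.filter (fun p => p.IsPrime ∧ p ≠ maximalIdeal A)
    with hsdef
  have hb : ∃ b ∈ maximalIdeal A, ∀ p ∈ s, b ∉ p := by
    by_contra hcon
    push Not at hcon
    have hsub : ((maximalIdeal A : Ideal A) : Set A) ⊆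
        ⋃ p ∈ (↑s : Set (Ideal A)), ((fun p : Ideal A => p) p : Set A) := by
      intro b hb
      obtain ⟨p, hps, hbp⟩ := hcon b hb
      exact Set.mem_biUnion (Finset.mem_coe.mpr hps) hbp
    rw [Ideal.subset_union_prime (f := fun p : Ideal A => p) ⊥ ⊥
      (fun p hp _ _ => (Finset.mem_filter.mp hp).2.1)] at hsub
    obtain ⟨p, hps, hle⟩ := hsub
    have h2 := (Finset.mem_filter.mp hps).2
    exact h2.2 ((maximalIdeal.isMaximal A).eq_of_le h2.1.ne_top hle).symm
  obtain ⟨b, hbm, hbs⟩ := hb
  refine ⟨a, b, ham, hbm, ?_, ?_⟩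
  · intro z hz
    rcases mul_eq_zero.mp hz with h | h
    · exact absurd (hinjA' (by rw [h, map_zero])) ha0
    · exact h
  · intro z hz
    by_contra hndvd
    obtain ⟨w, hw⟩ := hz
    have haK : algebraMap A K a ≠ 0 := fun h =>
      ha0 (IsFractionRing.injective A K (by rw [h, map_zero]))
    set x : K := (z : K) / algebraMap A K a with hx
    have hxnot : x ∉ integralClosure A K := by
      intro hxmem
      apply hndvd
      refine ⟨⟨x, hxmem⟩, ?_⟩
      apply Subtype.ext
      show (z : K) = algebraMap A K a * x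
      rw [hx, mul_div_cancel₀ _ haK]
    obtain ⟨P, hP, hPne, hPmin, hPx⟩ :=
      Groth.Agent.H11.KrullNormal.exists_prime_integralClosure A K x hxnot
    have haP : algebraMap A ↥(integralClosure A K) a ∈ P := by
      by_contra hna
      apply hPx _ hna
      have : ((algebraMap A ↥(integralClosure A K) a : ↥(integralClosure A K)) : K) * x =
          (z : K) := by
        rw [hcoe, hx, mul_div_cancel₀ _ haK]
      rw [this]
      exact z.2
    obtain ⟨hmemPP, hnem⟩ := hF P hP hPne hPmin haP
    haveI := hP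
    have hps : P.comap (algebraMap A ↥(integralClosure A K)) ∈ s := by
      rw [hsdef, Finset.mem_filter]
      exact ⟨hPP.mem_toFinset.mpr hmemPP, Ideal.comap_isPrime _ _, hnem⟩
    have hbP : algebraMap A ↥(integralClosure A K) b ∉ P := fun h => hbs _ hps h
    apply hPx _ hbP
    have : ((algebraMap A ↥(integralClosure A K) b : ↥(integralClosure A K)) : K) * x =
        (w : K) := by
      have h1 := congrArg (fun c : ↥(integralClosure A K) => (c : K)) hw
      simp only [Subalgebra.coe_mul, hcoe] at h1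
      rw [hcoe, hx, ← mul_div_assoc, h1, mul_div_cancel_left₀ _ haK]
    rw [this]
    exact w.2

end SecA

section SecB

variable (A : Type u) [CommRing A] [IsNoetherianRing A] [IsLocalRing A] [IsDomain A]
  (B : Type u) [CommRing B] [IsLocalRing B] [Algebra A B] [Module.Flat A B]

/-- **Local form**: over a geometrically unibranch Noetherian local domain of dimension `≥ 2`, for a
flat local algebra `B`, the complement in `Spec B` of a closed subset of the closed fibre is
connected. -/
theorem isConnected_compl_local (hA : CAlg2.IsGeomUnibranch A) (hdim : 2 ≤ ringKrullDim A)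
    (T : Set (PrimeSpectrum B)) (hT : IsClosed T)
    (hT' : ∀ t ∈ T, PrimeSpectrum.comap (algebraMap A B) t = closedPoint A) :
    IsConnected Tᶜ := by
  by_cases hTe : T = ∅
  · subst hTe
    rw [Set.compl_empty]
    refine ⟨⟨closedPoint B, trivial⟩, ?_⟩
    apply isPreconnected_of_forall (closedPoint B)
    intro y _
    exact ⟨closure {y}, Set.subset_univ _,
      specializes_iff_mem_closure.mp (IsLocalRing.specializes_closedPoint y),
      subset_closure rfl, isPreconnected_singleton.closure⟩
  obtain ⟨t₀, ht₀⟩ := Set.nonempty_iff_ne_empty.mpr hTe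
  haveI : IsLocalHom (algebraMap A B) := by
    constructor
    intro a ha
    by_contra hna
    have h1 : a ∈ maximalIdeal A := (mem_maximalIdeal a).mpr hna
    have h2 := hT' t₀ ht₀
    have h3 : a ∈ (PrimeSpectrum.comap (algebraMap A B) t₀).asIdeal := by rw [h2]; exact h1
    have h4 : algebraMap A B a ∈ t₀.asIdeal := h3
    exact t₀.2.ne_top (Ideal.eq_top_of_isUnit_mem _ h4 ha)
  haveI : IsDomain (CAlg2.red A) := hA.1.1
  haveI : IsLocalRing (CAlg2.normRed A) := hA.1.2
  haveI : IsLocalRing (CAlg2.red A) :=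
    IsLocalRing.of_surjective' (Ideal.Quotient.mk _) Ideal.Quotient.mk_surjective
  haveI : Algebra.IsIntegral A (CAlg2.normRed A) := Algebra.IsIntegral.trans (CAlg2.red A)
  haveI : IsLocalHom (algebraMap (CAlg2.red A) (CAlg2.normRed A)) :=
    Groth.Agent.H3.isLocalHom_of_isIntegral (CAlg2.red A) (CAlg2.normRed A)
  have hnil : nilradical A = ⊥ := nilradical_eq_zero A
  have hmkinj : Function.Injective (Ideal.Quotient.mk (nilradical A)) := by
    rw [injective_iff_map_eq_zero]
    intro a ha
    rw [Ideal.Quotient.eq_zero_iff_mem, hnil] at ha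
    exact ha
  have hdim₀ : 2 ≤ ringKrullDim (CAlg2.red A) := by
    let e : A ≃+* CAlg2.red A := RingEquiv.ofBijective (Ideal.Quotient.mk (nilradical A))
      ⟨hmkinj, Ideal.Quotient.mk_surjective⟩
    rw [← ringKrullDim_eq_of_ringEquiv e]
    exact hdim
  obtain ⟨a₀, b₀, ha₀, hb₀, hreg1, hreg2⟩ :=
    exists_regular_pair (CAlg2.red A) (FractionRing (CAlg2.red A)) hdim₀
  have hwr : RingTheory.Sequence.IsWeaklyRegular (CAlg2.normRed A)
      [algebraMap (CAlg2.red A) (CAlg2.normRed A) a₀,
        algebraMap (CAlg2.red A) (CAlg2.normRed A) b₀] :=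
    Groth.Agent.H11.HartshorneGen.isWeaklyRegular_pair _ _ hreg1 hreg2
  obtain ⟨q, hq, hpi⟩ := Groth.Agent.H11.UnibranchConn.exists_pow_data A hA
  haveI h1 : IsLocalRing (B ⊗[A] CAlg2.normRed A) :=
    Groth.Agent.H11.UnibranchConn.isLocalRing_tensor_of_pow_mem A B (CAlg2.normRed A) q hq hpi
  haveI h2 : IsLocalRing (CAlg2.normRed A ⊗[A] B) :=
    (Algebra.TensorProduct.comm A B (CAlg2.normRed A)).toRingEquiv.isLocalRing
  have hwrR := hwr.of_flat (S := CAlg2.normRed A ⊗[A] B)
  simp only [List.map_cons, List.map_nil] at hwrR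
  -- the map `Spec R → Spec B`
  let ιB : B →+* CAlg2.normRed A ⊗[A] B :=
    (Algebra.TensorProduct.includeRight : B →ₐ[A] CAlg2.normRed A ⊗[A] B).toRingHom
  have hinjA' : Function.Injective (algebraMap A (CAlg2.normRed A)) := by
    have h1 : algebraMap A (CAlg2.normRed A) =
        (algebraMap (CAlg2.red A) (CAlg2.normRed A)).comp (algebraMap A (CAlg2.red A)) :=
      IsScalarTower.algebraMap_eq A (CAlg2.red A) (CAlg2.normRed A)
    rw [h1, RingHom.coe_comp]
    refine Function.Injective.comp ?_ hmkinj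
    intro x y hxy
    exact IsFractionRing.injective (CAlg2.red A) (FractionRing (CAlg2.red A))
      (congrArg (fun c : CAlg2.normRed A => (c : FractionRing (CAlg2.red A))) hxy)
  have hsurj : Function.Surjective (PrimeSpectrum.comap ιB) := by
    intro p
    have hinjL : Function.Injective (algebraMap B (B ⊗[A] CAlg2.normRed A)) := by
      have := Algebra.TensorProduct.includeLeft_injective (R := A) (S := B) (A := B)
        (B := CAlg2.normRed A) hinjA'
      exact fun x y h => this h
    haveI : FaithfulSMul B (B ⊗[A] CAlg2.normRed A) :=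
      (faithfulSMul_iff_algebraMap_injective _ _).mpr hinjL
    obtain ⟨Q, rfl⟩ := Algebra.IsIntegral.comap_surjective B (B ⊗[A] CAlg2.normRed A) p
    refine ⟨PrimeSpectrum.comap
      (Algebra.TensorProduct.comm A B (CAlg2.normRed A)).symm.toRingEquiv.toRingHom Q, ?_⟩
    rw [← PrimeSpectrum.comap_comp_apply]
    congr 1
  set Z : Set (PrimeSpectrum (CAlg2.normRed A ⊗[A] B)) := PrimeSpectrum.comap ιB ⁻¹' T with hZdef
  have hZ : IsClosed Z := hT.preimage (PrimeSpectrum.continuous_comap ιB)
  have hmemZ : ∀ P ∈ Z, ∀ c ∈ maximalIdeal (CAlg2.red A),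
      algebraMap (CAlg2.normRed A) (CAlg2.normRed A ⊗[A] B)
        (algebraMap (CAlg2.red A) (CAlg2.normRed A) c) ∈ P.asIdeal := by
    intro P hP c hc
    haveI := P.2
    set P' : Ideal (CAlg2.normRed A) :=
      P.asIdeal.comap (algebraMap (CAlg2.normRed A) (CAlg2.normRed A ⊗[A] B)) with hP'
    haveI : P'.IsPrime := Ideal.comap_isPrime _ _
    have hcomp : (algebraMap (CAlg2.normRed A) (CAlg2.normRed A ⊗[A] B)).comp
        (algebraMap A (CAlg2.normRed A)) = ιB.comp (algebraMap A B) := by
      ext a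
      simp only [RingHom.comp_apply, ιB, AlgHom.toRingHom_eq_coe, RingHom.coe_coe,
        AlgHom.commutes]
      rw [← IsScalarTower.algebraMap_apply]
    have hP'A : P'.comap (algebraMap A (CAlg2.normRed A)) = maximalIdeal A := by
      have h3 : P'.comap (algebraMap A (CAlg2.normRed A)) =
          ((PrimeSpectrum.comap ιB P).asIdeal).comap (algebraMap A B) := by
        rw [hP', Ideal.comap_comap, hcomp, ← Ideal.comap_comap]
        rfl
      rw [h3]
      have h4 := hT' _ hP
      exact congrArg PrimeSpectrum.asIdeal h4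
    have hmax : P'.IsMaximal :=
      Ideal.isMaximal_of_isIntegral_of_isMaximal_comap (R := A) P'
        (by rw [hP'A]; exact maximalIdeal.isMaximal A)
    have hP'eq : P' = maximalIdeal (CAlg2.normRed A) := IsLocalRing.eq_maximalIdeal hmax
    have hc' : algebraMap (CAlg2.red A) (CAlg2.normRed A) c ∈ maximalIdeal (CAlg2.normRed A) := by
      rw [mem_maximalIdeal, mem_nonunits_iff] at hc ⊢
      exact fun hu => hc (isUnit_of_map_unit _ c hu)
    rw [← hP'eq] at hc'
    exact hc'
  have hconn := Groth.Agent.H11.HartshorneGen.isConnected_compl_of_weaklyRegular _ _ hwrR Z hZ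
    (fun P hP => hmemZ P hP a₀ ha₀) (fun P hP => hmemZ P hP b₀ hb₀)
  have himg : PrimeSpectrum.comap ιB '' Zᶜ = Tᶜ := by
    rw [hZdef, ← Set.preimage_compl, Set.image_preimage_eq _ hsurj]
  rw [← himg]
  exact hconn.image _ (PrimeSpectrum.continuous_comap ιB).continuousOn

end SecB

section SecC

open AlgebraicGeometry CategoryTheory

/-- Globalization: connectedness of a complement can be checked on the local schemes. -/
theorem isConnected_compl_of_local {X : Scheme.{u}} [IsLocallyNoetherian X] [ConnectedSpace ↥X]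
    (T : Set X) (hT : IsClosed T)
    (hloc : ∀ x : X, IsConnected ((X.fromSpecStalk x).base ⁻¹' T)ᶜ) : IsConnected Tᶜ := by
  have hgen : ∀ x : X, ∃ x' : X, x' ∉ T ∧ x' ⤳ x := by
    intro x
    obtain ⟨t, ht⟩ := (hloc x).nonempty
    refine ⟨(X.fromSpecStalk x).base t, ht, ?_⟩
    have : (X.fromSpecStalk x).base t ∈ Set.range (X.fromSpecStalk x).base := ⟨t, rfl⟩
    rw [Scheme.range_fromSpecStalk] at this
    exact this
  obtain ⟨x₀⟩ := (inferInstance : Nonempty ↥X)
  obtain ⟨x₀', hx₀', -⟩ := hgen x₀
  refine ⟨⟨x₀', hx₀'⟩, ?_⟩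
  intro u v hu hv huv ⟨a, haT, hau⟩ ⟨b, hbT, hbv⟩
  by_contra hne
  rw [Set.not_nonempty_iff_eq_empty] at hne
  have hU₁ : IsOpen (Tᶜ ∩ u) := hT.isOpen_compl.inter hu
  have hU₂ : IsOpen (Tᶜ ∩ v) := hT.isOpen_compl.inter hv
  have hcover : (Set.univ : Set X) ⊆ closure (Tᶜ ∩ u) ∪ closure (Tᶜ ∩ v) := by
    intro x _
    obtain ⟨x', hx'T, hx'⟩ := hgen x
    rcases huv hx'T with h | h
    · exact Or.inl (closure_mono
        (show ({x'} : Set X) ⊆ Tᶜ ∩ u from Set.singleton_subset_iff.mpr ⟨hx'T, h⟩)
        (specializes_iff_mem_closure.mp hx'))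
    · exact Or.inr (closure_mono
        (show ({x'} : Set X) ⊆ Tᶜ ∩ v from Set.singleton_subset_iff.mpr ⟨hx'T, h⟩)
        (specializes_iff_mem_closure.mp hx'))
  obtain ⟨x, -, hx₁, hx₂⟩ := isPreconnected_closed_iff.mp isPreconnected_univ
    (closure (Tᶜ ∩ u)) (closure (Tᶜ ∩ v)) isClosed_closure isClosed_closure hcover
    ⟨a, trivial, subset_closure ⟨haT, hau⟩⟩ ⟨b, trivial, subset_closure ⟨hbT, hbv⟩⟩
  obtain ⟨x₁, hx₁U, hx₁s⟩ :=
    Groth.Agent.H11.UnibranchConnSch.exists_specializes_of_mem_closure X _ hU₁ x hx₁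
  obtain ⟨x₂, hx₂U, hx₂s⟩ :=
    Groth.Agent.H11.UnibranchConnSch.exists_specializes_of_mem_closure X _ hU₂ x hx₂
  have hr₁ : x₁ ∈ Set.range (X.fromSpecStalk x).base := by
    rw [Scheme.range_fromSpecStalk]; exact hx₁s
  have hr₂ : x₂ ∈ Set.range (X.fromSpecStalk x).base := by
    rw [Scheme.range_fromSpecStalk]; exact hx₂s
  obtain ⟨t₁, rfl⟩ := hr₁
  obtain ⟨t₂, rfl⟩ := hr₂
  obtain ⟨t, htT, htu, htv⟩ := (hloc x).isPreconnected
    ((X.fromSpecStalk x).base ⁻¹' u) ((X.fromSpecStalk x).base ⁻¹' v)
    (hu.preimage (X.fromSpecStalk x).continuous) (hv.preimage (X.fromSpecStalk x).continuous)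
    (fun t ht => huv ht) ⟨t₁, hx₁U.1, hx₁U.2⟩ ⟨t₂, hx₂U.1, hx₂U.2⟩
  have : (X.fromSpecStalk x).base t ∈ Tᶜ ∩ (u ∩ v) := ⟨htT, htu, htv⟩
  rw [hne] at this
  exact this

/-- **EGA IV 18.9-type / Hartshorne connectedness over a geometrically unibranch base.** -/
theorem main (A : Type u) [CommRing A] [IsNoetherianRing A] [IsLocalRing A] [IsDomain A]
    (hA : CAlg2.IsGeomUnibranch A) (hdim : 2 ≤ ringKrullDim A)
    {X : Scheme.{u}} [IsLocallyNoetherian X] [ConnectedSpace ↥X]
    (f : X ⟶ Spec (CommRingCat.of A)) [Flat f]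
    (T : Set ↥X) (hT : IsClosed T) (hTy : ∀ x ∈ T, f.base x = IsLocalRing.closedPoint A) :
    IsConnected Tᶜ := by
  refine isConnected_compl_of_local T hT (fun x => ?_)
  let φ : CommRingCat.of A ⟶ X.presheaf.stalk x := Spec.preimage (X.fromSpecStalk x ≫ f)
  have hφ : Spec.map φ = X.fromSpecStalk x ≫ f := Spec.map_preimage _
  haveI := Groth.Agent.H68.ConnInf.flat_fromSpecStalk X x
  have hflat : Flat (Spec.map φ) := by rw [hφ]; infer_instance
  rw [Flat.SpecMap_iff] at hflat
  letI : Algebra A (X.presheaf.stalk x) := φ.hom.toAlgebra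
  haveI : Module.Flat A (X.presheaf.stalk x) := hflat
  refine isConnected_compl_local A (X.presheaf.stalk x) hA hdim _
    (hT.preimage (X.fromSpecStalk x).continuous) ?_
  intro t ht
  have h1 : (Spec.map φ).base t = f.base ((X.fromSpecStalk x).base t) := by
    rw [hφ]
    rfl
  rw [hTy _ ht] at h1
  exact h1

end SecC

end Groth.Agent.H11.UnibranchDepth
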