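import Mathlib.Algebra.Module.FinitePresentation
import Mathlib.LinearAlgebra.TensorProduct.RightExactness
import Mathlib.RingTheory.TensorProduct.DirectLimitFG
import Mathlib.LinearAlgebra.TensorProduct.Finiteness
import Mathlib.RingTheory.Finiteness.Cardinality

set_option autoImplicit false

universe u

open TensorProduct LinearMap

namespace Groth.Agent.H11

variable {R M N : Type u} [CommRing R] [AddCommGroup M] [Module R M] [AddCommGroup N] [Module R N]

/-- commutation of `lTensor` and `rTensor` -/
theorem lT_rT_comm (f : M →ₗ[R] N) {Q Q' : Type u} [AddCommGroup Q] [Module R Q]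
    [AddCommGroup Q'] [Module R Q'] (g : Q →ₗ[R] Q') (z : Q ⊗[R] M) :
    f.lTensor Q' (g.rTensor M z) = g.rTensor N (f.lTensor Q z) := by
  have h1 : (f.lTensor Q').comp (g.rTensor M) = TensorProduct.map g f :=
    LinearMap.lTensor_comp_rTensor Q g f
  have h2 : (g.rTensor N).comp (f.lTensor Q) = TensorProduct.map g f :=
    LinearMap.rTensor_comp_lTensor Q g f
  have := LinearMap.congr_fun (h1.trans h2.symm) z
  exact this

/-- Step A: injectivity on finitely presented modules implies injectivity on quotients of `R^n`. -/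
theorem lTensor_inj_quot (f : M →ₗ[R] N)
    (H : ∀ (Q : Type u) [AddCommGroup Q] [Module R Q], Module.FinitePresentation R Q →
      Function.Injective (f.lTensor Q))
    (n : ℕ) (K : Submodule R (Fin n → R)) :
    Function.Injective (f.lTensor ((Fin n → R) ⧸ K)) := by
  rw [injective_iff_map_eq_zero]
  intro z hz
  obtain ⟨z', rfl⟩ := LinearMap.rTensor_surjective M (Submodule.mkQ_surjective K) z
  rw [lT_rT_comm] at hz
  have hmem : f.lTensor (Fin n → R) z' ∈ LinearMap.ker (rTensor N K.mkQ) := hz
  rw [rTensor_mkQ] at hmem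
  obtain ⟨w, hw⟩ := hmem
  obtain ⟨k, a, b, rfl⟩ := TensorProduct.exists_sum_tmul_eq w
  let K' : Submodule R (Fin n → R) := Submodule.span R (Set.range fun i => (a i : Fin n → R))
  have hK'K : K' ≤ K := by
    rw [Submodule.span_le]
    rintro _ ⟨i, rfl⟩
    exact (a i).2
  have hK'fg : K'.FG := Submodule.fg_span (Set.finite_range _)
  have hfp : Module.FinitePresentation R ((Fin n → R) ⧸ K') :=
    Module.finitePresentation_of_surjective K'.mkQ (Submodule.mkQ_surjective K')
      (by rw [Submodule.ker_mkQ]; exact hK'fg)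
  have hz0 : f.lTensor ((Fin n → R) ⧸ K') (rTensor M K'.mkQ z') = 0 := by
    rw [lT_rT_comm, ← hw, map_sum, map_sum]
    refine Finset.sum_eq_zero fun i _ => ?_
    simp only [rTensor_tmul, Submodule.subtype_apply, Submodule.mkQ_apply]
    have : Submodule.Quotient.mk (p := K') (a i : Fin n → R) = 0 := by
      rw [Submodule.Quotient.mk_eq_zero]
      exact Submodule.subset_span ⟨i, rfl⟩
    rw [this, zero_tmul]
  have hz1 : rTensor M K'.mkQ z' = 0 := by
    have := H ((Fin n → R) ⧸ K') hfp
    rw [injective_iff_map_eq_zero] at this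
    exact this _ hz0
  have hfac : rTensor M K.mkQ z' = rTensor M (Submodule.factor hK'K) (rTensor M K'.mkQ z') := by
    rw [← LinearMap.comp_apply, ← LinearMap.rTensor_comp, Submodule.factor_comp_mk]
  rw [hfac, hz1, map_zero]

/-- transfer injectivity along a linear equivalence of the test module -/
theorem lTensor_inj_of_equiv (f : M →ₗ[R] N) {Q Q' : Type u} [AddCommGroup Q] [Module R Q]
    [AddCommGroup Q'] [Module R Q'] (e : Q ≃ₗ[R] Q')
    (h : Function.Injective (f.lTensor Q')) : Function.Injective (f.lTensor Q) := by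
  rw [injective_iff_map_eq_zero]
  intro z hz
  have h1 : f.lTensor Q' (e.toLinearMap.rTensor M z) = 0 := by
    rw [lT_rT_comm, hz, map_zero]
  have h2 : e.toLinearMap.rTensor M z = 0 := by
    rw [injective_iff_map_eq_zero] at h
    exact h _ h1
  have h3 : Function.Injective (e.toLinearMap.rTensor M) :=
    (TensorProduct.congr e (LinearEquiv.refl R M)).injective
  exact h3 (by rw [h2, map_zero])

/-- Step A': injectivity on finite modules -/
theorem lTensor_inj_finite (f : M →ₗ[R] N)
    (H : ∀ (Q : Type u) [AddCommGroup Q] [Module R Q], Module.FinitePresentation R Q →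
      Function.Injective (f.lTensor Q))
    (Q : Type u) [AddCommGroup Q] [Module R Q] [Module.Finite R Q] :
    Function.Injective (f.lTensor Q) := by
  obtain ⟨n, π, hπ⟩ := Module.Finite.exists_fin' R Q
  exact lTensor_inj_of_equiv f (π.quotKerEquivOfSurjective hπ).symm
    (lTensor_inj_quot f H n (LinearMap.ker π))

/-- Step B: injectivity on all modules -/
theorem lTensor_inj_all (f : M →ₗ[R] N)
    (H : ∀ (Q : Type u) [AddCommGroup Q] [Module R Q], Module.FinitePresentation R Q →
      Function.Injective (f.lTensor Q))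
    (Q : Type u) [AddCommGroup Q] [Module R Q] :
    Function.Injective (f.lTensor Q) := by
  rw [injective_iff_map_eq_zero]
  intro z hz
  obtain ⟨P, hP, z₁, rfl⟩ := TensorProduct.exists_of_fg z
  rw [lT_rT_comm] at hz
  obtain ⟨Q', hPQ', hQ', h0⟩ := TensorProduct.eq_zero_of_fg_of_subtype_eq_zero hP hz
  rw [← lT_rT_comm] at h0
  have : Module.Finite R Q' := Module.Finite.iff_fg.mpr hQ'
  have hinj := lTensor_inj_finite f H Q'
  rw [injective_iff_map_eq_zero] at hinj
  have h1 := hinj _ h0
  have hfac : rTensor M P.subtype z₁ =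
      rTensor M Q'.subtype (rTensor M (Submodule.inclusion hPQ') z₁) := by
    rw [← LinearMap.comp_apply, ← LinearMap.rTensor_comp, Submodule.subtype_comp_inclusion]
  rw [hfac, h1, map_zero]

end Groth.Agent.H11
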