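import Mathlib

/-!
# Algebra for: universally open with reduced fibres over a discrete valuation ring implies flat
-/

set_option autoImplicit false
set_option linter.style.haveILetI false
universe u
open IsLocalRing TensorProduct

namespace Groth.Agent.H11.UnivOpenFlatAlg

/-- Over a discrete valuation ring, a module on which a uniformizer is regular is flat. -/
theorem flat_of_irreducible_smul {V M : Type u} [CommRing V] [IsDomain V]
    [IsDiscreteValuationRing V] [AddCommGroup M] [Module V M] (ϖ : V) (hϖ : Irreducible ϖ)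
    (h : ∀ m : M, ϖ • m = 0 → m = 0) : Module.Flat V M := by
  rw [Module.Flat.flat_iff_torsion_eq_bot_of_isBezout, eq_bot_iff]
  intro m hm
  obtain ⟨a, ha⟩ := (Submodule.mem_torsion_iff m).mp hm
  obtain ⟨k, u, hu⟩ := IsDiscreteValuationRing.eq_unit_mul_pow_irreducible
    (nonZeroDivisors.ne_zero a.2) hϖ
  have h1 : (ϖ ^ k) • m = 0 := by
    have h2 : (a : V) • m = 0 := ha
    rw [hu, mul_smul] at h2
    have h3 := congrArg (fun z => ((u⁻¹ : Vˣ) : V) • z) h2
    simpa [smul_smul] using h3
  have h4 : ∀ j : ℕ, (ϖ ^ j) • m = 0 → m = 0 := by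
    intro j
    induction j with
    | zero => intro h0; simpa using h0
    | succ j ih =>
      intro h0
      rw [pow_succ', mul_smul] at h0
      exact ih (h _ h0)
  rw [Submodule.mem_bot]
  exact h4 k h1

/-- The key algebraic lemma: in the local ring `O = E_n`, if `O / t O` is reduced and `t` is
not a zero divisor modulo nilpotents in `E`, then `t` is regular on `O`. -/
theorem eq_zero_of_mul_eq_zero {E O : Type u} [CommRing E] [IsNoetherianRing E] [CommRing O]
    [Algebra E O] (n : Ideal E) [n.IsPrime] [IsLocalization.AtPrime O n] (t : E) (ht : t ∈ n)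
    (hred : IsReduced (O ⧸ Ideal.span {algebraMap E O t}))
    (hnil : ∀ g : E, ¬ IsNilpotent g → ¬ IsNilpotent (g * t)) :
    ∀ a : O, algebraMap E O t * a = 0 → a = 0 := by
  haveI : IsLocalRing O := IsLocalization.AtPrime.isLocalRing O n
  haveI : IsNoetherianRing O := IsLocalization.isNoetherianRing n.primeCompl O inferInstance
  set τ := algebraMap E O t with hτ
  have hτm : τ ∈ maximalIdeal O := by
    rw [hτ]
    exact (IsLocalization.AtPrime.to_map_mem_maximal_iff O n t).mpr ht
  have hIne : Ideal.span {τ} ≠ ⊤ := by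
    intro htop
    have : Ideal.span {τ} ≤ maximalIdeal O := (Ideal.span_singleton_le_iff_mem _).mpr hτm
    rw [htop] at this
    exact (maximalIdeal.isMaximal O).ne_top (top_le_iff.mp this)
  intro a ha
  by_contra hne
  have hK := Ideal.iInf_pow_eq_bot_of_isLocalRing (Ideal.span {τ}) hIne
  have hex : ∃ k : ℕ, a ∉ Ideal.span {τ} ^ k := by
    by_contra hall
    push Not at hall
    have : a ∈ ⨅ k : ℕ, Ideal.span {τ} ^ k := by
      rw [Ideal.mem_iInf]
      exact hall
    rw [hK] at this
    exact hne this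
  classical
  let k := Nat.find hex
  have hk : a ∉ Ideal.span {τ} ^ k := Nat.find_spec hex
  have hk0 : k ≠ 0 := by
    intro h0
    rw [h0, pow_zero, Ideal.one_eq_top] at hk
    exact hk Submodule.mem_top
  obtain ⟨j, hj⟩ := Nat.exists_eq_succ_of_ne_zero hk0
  have hjmem : a ∈ Ideal.span {τ} ^ j := by
    by_contra hcon
    exact Nat.find_min hex (by omega : j < k) hcon
  rw [Ideal.span_singleton_pow, Ideal.mem_span_singleton'] at hjmem
  obtain ⟨b, hb⟩ := hjmem
  have hbI : b ∉ Ideal.span {τ} := by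
    intro hbI
    obtain ⟨c, hc⟩ := Ideal.mem_span_singleton'.mp hbI
    apply hk
    rw [hj, Ideal.span_singleton_pow, Ideal.mem_span_singleton']
    refine ⟨c, ?_⟩
    rw [← hb, ← hc, pow_succ]
    ring
  have hrad : (Ideal.span {τ}).IsRadical := (Ideal.isRadical_iff_quotient_reduced _).mpr hred
  have hb2 : b ∉ sInf (Ideal.span {τ}).minimalPrimes := by
    rw [Ideal.sInf_minimalPrimes, hrad.radical]
    exact hbI
  rw [Ideal.mem_sInf] at hb2
  push Not at hb2
  obtain ⟨𝔮, h𝔮, hb𝔮⟩ := hb2
  haveI : 𝔮.IsPrime := h𝔮.1.1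
  obtain ⟨⟨b₀, u⟩, hbu⟩ := IsLocalization.surj n.primeCompl b
  have h0 : algebraMap E O (t ^ (j + 1) * b₀) = 0 := by
    rw [map_mul, map_pow, ← hbu, ← hτ]
    have : τ ^ (j + 1) * b = 0 := by
      rw [pow_succ, mul_assoc, mul_comm τ b, ← mul_assoc, mul_comm (τ ^ j) b, hb, mul_comm]
      exact ha
    rw [← mul_assoc, this, zero_mul]
  obtain ⟨c, hc⟩ := (IsLocalization.map_eq_zero_iff n.primeCompl O _).mp h0
  have hg : ¬ IsNilpotent ((c : E) * b₀) := by
    rintro ⟨m, hm⟩
    have h1 : (algebraMap E O ((c : E) * b₀)) ^ m = 0 := by rw [← map_pow, hm, map_zero]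
    have h2 : algebraMap E O ((c : E) * b₀) ∈ 𝔮 :=
      Ideal.IsPrime.mem_of_pow_mem inferInstance m (h1 ▸ 𝔮.zero_mem)
    rw [map_mul, ← hbu] at h2
    have hcu : IsUnit (algebraMap E O (c : E)) := IsLocalization.map_units O c
    have huu : IsUnit (algebraMap E O (u : E)) := IsLocalization.map_units O u
    have h3 : b * algebraMap E O (u : E) ∈ 𝔮 :=
      (Ideal.IsPrime.mem_or_mem inferInstance h2).resolve_left
        (fun hcq => Ideal.IsPrime.ne_top inferInstance (Ideal.eq_top_of_isUnit_mem _ hcq hcu))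
    exact hb𝔮 ((Ideal.IsPrime.mem_or_mem inferInstance h3).resolve_right
      (fun huq => Ideal.IsPrime.ne_top inferInstance (Ideal.eq_top_of_isUnit_mem _ huq huu)))
  apply hnil _ hg
  refine ⟨j + 1, ?_⟩
  rw [mul_pow, pow_succ ((c : E) * b₀), mul_assoc]
  have : (c : E) * b₀ * t ^ (j + 1) = 0 := by
    rw [mul_assoc, mul_comm b₀]
    exact hc
  rw [this, mul_zero]

theorem mk_eq_zero_iff' {R M : Type*} [CommRing R] [AddCommGroup M] [Module R M]
    (S : Submonoid R) (m : M) (s : S) : LocalizedModule.mk m s = 0 ↔ ∃ c : S, c • m = 0 := by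
  rw [← LocalizedModule.zero_mk s, LocalizedModule.mk_eq]
  constructor
  · rintro ⟨u, hu⟩
    exact ⟨u * s, by rw [mul_smul, hu, smul_zero, smul_zero]⟩
  · rintro ⟨c, hc⟩
    exact ⟨c, by rw [smul_comm, hc, smul_zero, smul_zero]⟩

/-- From regularity of a uniformizer on `E_n` to flatness of `(E ⊗ C)_n`. -/
theorem flat_localizedModule_tensor_self {C V E : Type u} [CommRing C] [CommRing V] [IsDomain V]
    [IsDiscreteValuationRing V] [CommRing E] [Algebra C E] [Algebra V E] [SMulCommClass C V E]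
    (n : Ideal E) [n.IsPrime] (ϖ : V) (hϖ : Irreducible ϖ)
    (h : ∀ a u : E, u ∉ n → u * algebraMap V E ϖ * a = 0 → ∃ u' : E, u' ∉ n ∧ u' * a = 0) :
    Module.Flat V (LocalizedModule n.primeCompl (E ⊗[C] C)) := by
  refine flat_of_irreducible_smul (M := LocalizedModule n.primeCompl (E ⊗[C] C)) ϖ hϖ ?_
  intro m
  induction m using LocalizedModule.induction_on with
  | h x s =>
    intro hm
    rw [LocalizedModule.smul'_mk, mk_eq_zero_iff'] at hm
    obtain ⟨c, hc⟩ := hm
    let e : E ⊗[C] C ≃ₗ[E] E := AlgebraTensorModule.rid C E E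
    have h1 : (c : E) * algebraMap V E ϖ * e x = 0 := by
      have h2 := congrArg e hc
      rw [map_zero, Submonoid.smul_def, map_smul, smul_eq_mul] at h2
      have h3 : e (ϖ • x) = algebraMap V E ϖ * e x := by
        rw [← smul_eq_mul, ← map_smul, algebraMap_smul]
      rw [h3, ← mul_assoc] at h2
      exact h2
    obtain ⟨u', hu', hu'a⟩ := h (e x) c c.2 h1
    rw [mk_eq_zero_iff']
    refine ⟨⟨u', hu'⟩, ?_⟩
    apply e.injective
    rw [map_zero, Submonoid.smul_def, map_smul, smul_eq_mul]
    exact hu'a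

end Groth.Agent.H11.UnivOpenFlatAlg
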