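import Groth.Agent.H11.ValFlatCore
import Groth.Agent.H11.UnivOpenFlatAlg
import Groth.Agent.H57.ArtFamSch
import Groth.Agent.H11.FibreBC
import Groth.Agent.H7.DVRFlat

/-!
# Universally open at the generic points of the fibre + geometrically reduced fibre + reduced base
implies flat (EGA IV 15.2.2), scheme level
-/

set_option autoImplicit false
set_option linter.style.haveILetI false
universe u
open CategoryTheory CategoryTheory.Limits AlgebraicGeometry TopologicalSpace IsLocalRing TensorProduct

namespace Groth.Agent.H11.UnivOpenFlatSch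

variable {X Y : Scheme.{u}} (f : X ⟶ Y)

/-- The hypothesis "universally open at the generic points of the components of the fibre through
`x`", phrased with points of `X`. -/
def GenOpen (x : X) : Prop :=
  ∀ w : X, f.base w = f.base x → w ⤳ x →
    (∀ w' : X, f.base w' = f.base x → w' ⤳ w → w' = w) → EGA43.IsUnivOpenAt f w

theorem genOpen_of_fiber (x : X)
    (hopen : ∀ z : ↥(f.fiber (f.base x)), f.asFiber x ∈ closure {z} →
      (∀ z' : ↥(f.fiber (f.base x)), z ∈ closure {z'} → z' = z) →
      EGA43.IsUnivOpenAt f ((f.fiberι (f.base x)).base z)) : GenOpen f x := by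
  intro w hw hwx hmax
  obtain ⟨z, rfl⟩ := Groth.Agent.H11.FibreBC.exists_fiber_pt f (f.base x) w hw
  refine hopen z ?_ ?_
  · rw [← specializes_iff_mem_closure,
      ← (f.fiberι (f.base x)).isEmbedding.isInducing.specializes_iff, Scheme.Hom.fiberι_asFiber]
    exact hwx
  · intro z' hz'
    rw [← specializes_iff_mem_closure] at hz'
    apply (f.fiberι (f.base x)).isEmbedding.injective
    refine hmax _ ?_ (hz'.map (f.fiberι (f.base x)).continuous)
    have : f.fiberι (f.base x) z' ∈ Set.range (f.fiberι (f.base x)) := ⟨z', rfl⟩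
    rw [f.range_fiberι] at this
    exact this

set_option maxHeartbeats 1600000 in
/-- After base change to a discrete valuation ring, flatness at the points over `x` and the closed
point. -/
theorem flat_stalkMap_snd_of_dvr [LocallyOfFiniteType f] (x : X) (hopen : GenOpen f x)
    (hred : FBase.IsGeomReducedAt (f.fiberToSpecResidueField (f.base x)) (f.asFiber x))
    (V' : Type u) [CommRing V'] [IsDomain V'] [IsDiscreteValuationRing V']
    (g : Spec (CommRingCat.of V') ⟶ Y) (x' : ↥(pullback f g))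
    (hx'x : (pullback.fst f g).base x' = x)
    (hx's : (pullback.snd f g).base x' = IsLocalRing.closedPoint V') :
    ((pullback.snd f g).stalkMap x').hom.Flat := by
  have hpf : ∀ z, f.base ((pullback.fst f g).base z) = g.base ((pullback.snd f g).base z) :=
    fun z => by
      have := congrArg (fun h => h.base z) (pullback.condition (f := f) (g := g))
      simpa only [Scheme.Hom.comp_base, TopCat.comp_app] using this
  have hfx : f.base x = g.base ((pullback.snd f g).base x') := by rw [← hx'x]; exact hpf x'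
  have hgr : ∀ (y : Y), f.base x = y → ∃ a : f.fiber y,
      FBase.IsGeomReducedAt (f.fiberToSpecResidueField y) a ∧ (f.fiberι y).base a = x := by
    rintro _ rfl
    exact ⟨f.asFiber x, hred, f.fiberι_asFiber x⟩
  obtain ⟨a, ha, hax⟩ := hgr _ hfx
  haveI : LocallyOfFiniteType (pullback.snd f g) := inferInstance
  refine Groth.Agent.H7.flat_stalkMap_of_isOpenAt_generic_of_reduced_fibre_dvr
    (pullback.snd f g) x' hx's ?_ ?_
  · intro z hz hzmax
    rw [← specializes_iff_mem_closure] at hz
    have hζs : (pullback.snd f g).base (((pullback.snd f g).fiberι ((pullback.snd f g).base x')).base z) =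
        (pullback.snd f g).base x' :=
      Groth.Agent.H11.FibreBC.fiberι_mem (pullback.snd f g) ((pullback.snd f g).base x') z
    have hζx' : ((pullback.snd f g).fiberι ((pullback.snd f g).base x')).base z ⤳ x' := by
      have := hz.map ((pullback.snd f g).fiberι ((pullback.snd f g).base x')).continuous
      rwa [Scheme.Hom.fiberι_asFiber] at this
    have hw : f.base ((pullback.fst f g).base (((pullback.snd f g).fiberι ((pullback.snd f g).base x')).base z)) =
        f.base x := by
      rw [hpf, hζs, hfx]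
    have hwx : (pullback.fst f g).base (((pullback.snd f g).fiberι ((pullback.snd f g).base x')).base z) ⤳ x := by
      have := hζx'.map (pullback.fst f g).continuous
      rwa [hx'x] at this
    refine hopen _ hw hwx ?_ _ g _ rfl
    intro w' hw' hw'w
    letI : Algebra (IsLocalRing.ResidueField (Y.presheaf.stalk (g.base ((pullback.snd f g).base x'))))
        ((Spec (CommRingCat.of V')).residueField ((pullback.snd f g).base x')) := (g.residueFieldMap ((pullback.snd f g).base x')).hom.toAlgebra
    obtain ⟨e, he⟩ := Groth.Agent.H11.FibreBC.exists_iso_fiber_bc f g ((pullback.snd f g).base x') rfl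
    have hkey : ∀ b, (pullback.fst f g).base (((pullback.snd f g).fiberι ((pullback.snd f g).base x')).base (e.hom.base b)) =
        (FBase.bcπ (f.fiberToSpecResidueField (g.base ((pullback.snd f g).base x')))
          ((Spec (CommRingCat.of V')).residueField ((pullback.snd f g).base x')) ≫ f.fiberι (g.base ((pullback.snd f g).base x'))).base b := by
      intro b
      have := congrArg (fun h => h.base b) he
      simpa only [Scheme.Hom.comp_base, TopCat.comp_app] using this
    have hb : e.hom.base (e.inv.base z) = z := by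
      rw [← Scheme.Hom.comp_apply, e.inv_hom_id]; rfl
    obtain ⟨a', ha'⟩ := Groth.Agent.H11.FibreBC.exists_fiber_pt f (g.base ((pullback.snd f g).base x')) w' (hw'.trans hfx)
    have hwb : (f.fiberι (g.base ((pullback.snd f g).base x'))).base
        ((FBase.bcπ (f.fiberToSpecResidueField (g.base ((pullback.snd f g).base x')))
          ((Spec (CommRingCat.of V')).residueField ((pullback.snd f g).base x'))).base (e.inv.base z)) =
        (pullback.fst f g).base (((pullback.snd f g).fiberι ((pullback.snd f g).base x')).base z) := by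
      have := hkey (e.inv.base z)
      rw [hb] at this
      rw [this]
      rfl
    have ha'a₀ : a' ⤳ (FBase.bcπ (f.fiberToSpecResidueField (g.base ((pullback.snd f g).base x')))
          ((Spec (CommRingCat.of V')).residueField ((pullback.snd f g).base x'))).base (e.inv.base z) := by
      rw [← (f.fiberι (g.base ((pullback.snd f g).base x'))).isEmbedding.isInducing.specializes_iff, ha', hwb]
      exact hw'w
    haveI : Flat (Spec.map (CommRingCat.ofHom (algebraMap
        (IsLocalRing.ResidueField (Y.presheaf.stalk (g.base ((pullback.snd f g).base x'))))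
        ((Spec (CommRingCat.of V')).residueField ((pullback.snd f g).base x'))))) := by
      rw [Flat.SpecMap_iff]
      exact (inferInstance : Module.Flat (IsLocalRing.ResidueField (Y.presheaf.stalk (g.base ((pullback.snd f g).base x'))))
        ((Spec (CommRingCat.of V')).residueField ((pullback.snd f g).base x')))
    haveI : Flat (FBase.bcπ (f.fiberToSpecResidueField (g.base ((pullback.snd f g).base x')))
        ((Spec (CommRingCat.of V')).residueField ((pullback.snd f g).base x'))) := by
      unfold FBase.bcπ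
      exact MorphismProperty.of_isPullback (P := @Flat) (IsPullback.of_hasPullback _ _).flip this
    obtain ⟨b', hb'b, hb'a'⟩ := Flat.generalizingMap (FBase.bcπ (f.fiberToSpecResidueField
      (g.base ((pullback.snd f g).base x'))) ((Spec (CommRingCat.of V')).residueField ((pullback.snd f g).base x'))) ha'a₀
    have hz'' : e.hom.base b' ⤳ z := by
      have := hb'b.map e.hom.continuous
      rwa [hb] at this
    have hzz : e.hom.base b' = z := hzmax _ (specializes_iff_mem_closure.mp hz'')
    rw [← ha', ← hb'a']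
    have := hkey b'
    rw [hzz] at this
    rw [this]
    rfl
  · exact Groth.Agent.H11.FibreBC.isReduced_stalk_fiber_of_isGeomReducedAt f g
      ((pullback.snd f g).base x') a ha ((pullback.snd f g).asFiber x')
      (by rw [(pullback.snd f g).fiberι_asFiber x', hx'x, hax])

set_option maxHeartbeats 3200000 in
/-- The chart-level hypothesis of the valuative criterion from stalkwise flatness after base change
to a discrete valuation ring: one discrete valuation ring at a time. -/
theorem dvrHyp_chart_aux [LocallyOfFiniteType f] (x : X) {V : Y.Opens} (hV : IsAffineOpen V)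
    {W : X.Opens} (hW : IsAffineOpen W) (hxW : x ∈ W) (hWV : W ≤ f ⁻¹ᵁ V)
    [Algebra Γ(Y, V) Γ(X, W)] (halg : algebraMap Γ(Y, V) Γ(X, W) = (f.appLE V W hWV).hom)
    (V' : Type u) [CommRing V'] [IsDomain V'] [IsDiscreteValuationRing V'] [Algebra Γ(Y, V) V']
    (g : Spec (CommRingCat.of V') ⟶ Y)
    (hV'V : (⊤ : (Spec (CommRingCat.of V')).Opens) ≤ g ⁻¹ᵁ V)
    (hstar : g.appLE V ⊤ hV'V = CommRingCat.ofHom (algebraMap Γ(Y, V) V') ≫
      (Scheme.ΓSpecIso (CommRingCat.of V')).inv)
    (hflat : ∀ x' : ↥(pullback f g), (pullback.fst f g).base x' = x →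
      (pullback.snd f g).base x' = IsLocalRing.closedPoint V' →
      ((pullback.snd f g).stalkMap x').hom.Flat)
    (E : Type u) [CommRing E] [Algebra Γ(X, W) E] [Algebra V' E] [Algebra Γ(Y, V) E]
    [IsScalarTower Γ(Y, V) Γ(X, W) E] [IsScalarTower Γ(Y, V) V' E]
    [Algebra.IsPushout Γ(Y, V) Γ(X, W) V' E] [SMulCommClass Γ(X, W) V' E]
    (n : Ideal E) [n.IsPrime]
    (hn1 : n.comap (algebraMap Γ(X, W) E) = (hW.primeIdealOf ⟨x, hxW⟩).asIdeal)
    (hn2 : n.comap (algebraMap V' E) = maximalIdeal V') :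
    Module.Flat V' (LocalizedModule n.primeCompl (E ⊗[Γ(X, W)] Γ(X, W))) := by
  obtain rfl : ‹Algebra Γ(Y, V) Γ(X, W)› = (f.appLE V W hWV).hom.toAlgebra :=
    Algebra.algebra_ext _ _ (fun r => DFunLike.congr_fun halg r)
  letI aRC : Algebra Γ(Y, V) Γ(X, W) := (f.appLE V W hWV).hom.toAlgebra
  classical
  have hV' : IsAffineOpen (⊤ : (Spec (CommRingCat.of V')).Opens) := isAffineOpen_top _
  let W' : (pullback f g).Opens := pullback.fst f g ⁻¹ᵁ W ⊓ pullback.snd f g ⁻¹ᵁ ⊤
  have HP := IsPullback.of_hasPullback f g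
  have hW'W : W' ≤ pullback.fst f g ⁻¹ᵁ W := inf_le_left
  have hW'V' : W' ≤ pullback.snd f g ⁻¹ᵁ ⊤ := inf_le_right
  have hW' : IsAffineOpen W' := by
    have : IsAffine V.toScheme := hV
    have : IsAffine (⊤ : (Spec (CommRingCat.of V')).Opens).toScheme := hV'
    have : IsAffine W.toScheme := hW
    exact .of_isIso (Scheme.Hom.isPullback_resLE HP hV'V hWV (rfl : W' = _)).isoPullback.hom
  have hpo := (isIso_pushoutSection_iff HP hV'V hWV (rfl : W' = _)).mp
    (isIso_pushoutSection_of_isAffineOpen HP hV'V hWV rfl hV hV' hW)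
  letI aRB : Algebra Γ(Y, V) Γ(Spec (CommRingCat.of V'), ⊤) := (g.appLE V ⊤ hV'V).hom.toAlgebra
  letI aCE : Algebra Γ(X, W) Γ(pullback f g, W') :=
    ((pullback.fst f g).appLE W W' hW'W).hom.toAlgebra
  letI aBE : Algebra Γ(Spec (CommRingCat.of V'), ⊤) Γ(pullback f g, W') :=
    ((pullback.snd f g).appLE ⊤ W' hW'V').hom.toAlgebra
  letI aRE : Algebra Γ(Y, V) Γ(pullback f g, W') :=
    (((pullback.fst f g).appLE W W' hW'W).hom.comp (f.appLE V W hWV).hom).toAlgebra
  haveI t1 : IsScalarTower Γ(Y, V) Γ(X, W) Γ(pullback f g, W') := .of_algebraMap_eq' rfl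
  haveI t2 : IsScalarTower Γ(Y, V) Γ(Spec (CommRingCat.of V'), ⊤) Γ(pullback f g, W') :=
    .of_algebraMap_eq' (by
      change (((pullback.fst f g).appLE W W' hW'W).hom.comp (f.appLE V W hWV).hom) =
        (((pullback.snd f g).appLE ⊤ W' hW'V').hom.comp (g.appLE V ⊤ hV'V).hom)
      rw [← CommRingCat.hom_comp, ← CommRingCat.hom_comp, hpo.w])
  haveI po1 : Algebra.IsPushout Γ(Y, V) Γ(X, W) Γ(Spec (CommRingCat.of V'), ⊤)
      Γ(pullback f g, W') := CommRingCat.isPushout_iff_isPushout.mp hpo
  let eB : Γ(Spec (CommRingCat.of V'), ⊤) ≃+* V' :=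
    (Scheme.ΓSpecIso (CommRingCat.of V')).commRingCatIsoToRingEquiv
  haveI : IsLocalRing Γ(Spec (CommRingCat.of V'), ⊤) := eB.symm.isLocalRing
  have k1 : ∀ r : Γ(Y, V), eB (algebraMap Γ(Y, V) Γ(Spec (CommRingCat.of V'), ⊤) r) =
      algebraMap Γ(Y, V) V' r := by
    intro r
    change eB ((g.appLE V ⊤ hV'V).hom r) = _
    rw [hstar]
    exact eB.apply_symm_apply (algebraMap Γ(Y, V) V' r)
  let eBa : V' ≃ₐ[Γ(Y, V)] Γ(Spec (CommRingCat.of V'), ⊤) :=
    AlgEquiv.ofRingEquiv (f := eB.symm) (fun r => by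
      rw [RingEquiv.symm_apply_eq]; exact (k1 r).symm)
  let e : E ≃ₐ[Γ(X, W)] Γ(pullback f g, W') :=
    ((Algebra.IsPushout.equiv Γ(Y, V) Γ(X, W) V' E).symm.trans
      (Algebra.TensorProduct.congr AlgEquiv.refl eBa)).trans
      (Algebra.IsPushout.equiv Γ(Y, V) Γ(X, W) Γ(Spec (CommRingCat.of V'), ⊤)
        Γ(pullback f g, W'))
  have heV : ∀ v : V', e (algebraMap V' E v) =
      algebraMap Γ(Spec (CommRingCat.of V'), ⊤) Γ(pullback f g, W') (eB.symm v) := by
    intro v
    simp only [e, AlgEquiv.trans_apply]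
    rw [Algebra.IsPushout.equiv_symm_algebraMap_right, Algebra.TensorProduct.congr_apply,
      Algebra.TensorProduct.map_tmul, Algebra.IsPushout.equiv_tmul, map_one, map_one, one_mul]
    rfl
  -- the prime of the standard chart
  let nS : Ideal Γ(pullback f g, W') := n.comap (e.symm : Γ(pullback f g, W') →+* E)
  haveI hnS : nS.IsPrime := Ideal.comap_isPrime _ n
  have hmem : ∀ a : E, e a ∈ nS ↔ a ∈ n := by
    intro a
    change e.symm (e a) ∈ n ↔ _
    rw [AlgEquiv.symm_apply_apply]
  have h1 : nS.comap (algebraMap Γ(X, W) Γ(pullback f g, W')) =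
      (hW.primeIdealOf ⟨x, hxW⟩).asIdeal := by
    rw [← hn1]
    ext c
    change algebraMap Γ(X, W) Γ(pullback f g, W') c ∈ nS ↔ algebraMap Γ(X, W) E c ∈ n
    rw [← e.commutes c, hmem]
  have h2 : nS.comap (algebraMap Γ(Spec (CommRingCat.of V'), ⊤) Γ(pullback f g, W')) =
      maximalIdeal Γ(Spec (CommRingCat.of V'), ⊤) := by
    ext v
    change algebraMap Γ(Spec (CommRingCat.of V'), ⊤) Γ(pullback f g, W') v ∈ nS ↔
      v ∈ maximalIdeal Γ(Spec (CommRingCat.of V'), ⊤)
    have hv : algebraMap Γ(Spec (CommRingCat.of V'), ⊤) Γ(pullback f g, W') v =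
        e (algebraMap V' E (eB v)) := by
      rw [heV, RingEquiv.symm_apply_apply]
    rw [hv, hmem]
    change eB v ∈ n.comap (algebraMap V' E) ↔ _
    rw [hn2, mem_maximalIdeal, mem_maximalIdeal, mem_nonunits_iff,
      mem_nonunits_iff, not_iff_not]
    exact ⟨fun h => by simpa using h.map eB.symm, fun h => h.map eB⟩
  obtain ⟨x', hx', hx'n⟩ := Groth.Agent.H57.ArtFamSch.exists_mem_primeIdealOf_eq hW' ⟨nS, hnS⟩
  have hn' : (hW'.primeIdealOf ⟨x', hx'⟩).asIdeal = nS := congrArg PrimeSpectrum.asIdeal hx'n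
  have e1 : (pullback.fst f g).base x' = x :=
    Groth.Agent.H57.ArtFamSch.map_eq_of_comap_eq (pullback.fst f g) hW hW' hW'W hx' hxW
      (by rw [hn']; exact h1)
  have e2 : (pullback.snd f g).base x' = IsLocalRing.closedPoint V' := by
    apply Groth.Agent.H57.ArtFamSch.eq_closedPoint_of_primeIdealOf hV'
    rw [← h2, ← hn']
    exact congrArg PrimeSpectrum.asIdeal
      (IsAffineOpen.comap_primeIdealOf_appLE ⊤ hV' W' hW' hW'V' hx').symm
  have hfl := hflat x' e1 e2
  -- the stalks
  letI aEO : Algebra Γ(pullback f g, W') ((pullback f g).presheaf.stalk x') :=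
    (pullback f g).presheaf.algebra_section_stalk ⟨x', hx'⟩
  haveI locO := hW'.isLocalization_stalk ⟨x', hx'⟩
  have hsT : (pullback.snd f g).base x' ∈ (⊤ : (Spec (CommRingCat.of V')).Opens) := trivial
  letI aBSt : Algebra Γ(Spec (CommRingCat.of V'), ⊤)
      ((Spec (CommRingCat.of V')).presheaf.stalk ((pullback.snd f g).base x')) :=
    (Spec (CommRingCat.of V')).presheaf.algebra_section_stalk
      ⟨(pullback.snd f g).base x', hsT⟩
  haveI locSt := hV'.isLocalization_stalk ⟨(pullback.snd f g).base x', hsT⟩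
  letI aStO : Algebra ((Spec (CommRingCat.of V')).presheaf.stalk ((pullback.snd f g).base x'))
      ((pullback f g).presheaf.stalk x') := ((pullback.snd f g).stalkMap x').hom.toAlgebra
  haveI flO : Module.Flat ((Spec (CommRingCat.of V')).presheaf.stalk ((pullback.snd f g).base x'))
      ((pullback f g).presheaf.stalk x') := hfl
  haveI : IsDomain Γ(Spec (CommRingCat.of V'), ⊤) := eB.toMulEquiv.isDomain V'
  haveI : IsDomain ((Spec (CommRingCat.of V')).presheaf.stalk ((pullback.snd f g).base x')) :=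
    IsLocalization.isDomain_of_atPrime _
      (hV'.primeIdealOf ⟨(pullback.snd f g).base x', hsT⟩).asIdeal
  obtain ⟨ϖ, hϖ⟩ := IsDiscreteValuationRing.exists_irreducible V'
  have hϖ0 : algebraMap Γ(Spec (CommRingCat.of V'), ⊤)
      ((Spec (CommRingCat.of V')).presheaf.stalk ((pullback.snd f g).base x')) (eB.symm ϖ) ≠ 0 := by
    intro h0
    have hinj := IsLocalization.injective
      ((Spec (CommRingCat.of V')).presheaf.stalk ((pullback.snd f g).base x'))
      (M := (hV'.primeIdealOf ⟨(pullback.snd f g).base x', hsT⟩).asIdeal.primeCompl)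
      (Ideal.primeCompl_le_nonZeroDivisors _)
    have h3 := hinj (h0.trans (map_zero _).symm)
    exact hϖ.ne_zero (by simpa using congrArg eB h3)
  have hreg : IsSMulRegular ((pullback f g).presheaf.stalk x')
      (algebraMap Γ(Spec (CommRingCat.of V'), ⊤)
        ((Spec (CommRingCat.of V')).presheaf.stalk ((pullback.snd f g).base x')) (eB.symm ϖ)) :=
    Module.Flat.isSMulRegular_of_nonZeroDivisors (mem_nonZeroDivisors_of_ne_zero hϖ0)
  have hτ : ∀ a : (pullback f g).presheaf.stalk x',
      algebraMap Γ(pullback f g, W') ((pullback f g).presheaf.stalk x')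
        (algebraMap Γ(Spec (CommRingCat.of V'), ⊤) Γ(pullback f g, W') (eB.symm ϖ)) * a = 0 →
      a = 0 := by
    intro a ha
    apply hreg
    change _ • a = _ • (0 : (pullback f g).presheaf.stalk x')
    rw [smul_zero, Algebra.smul_def]
    have h4 : algebraMap ((Spec (CommRingCat.of V')).presheaf.stalk ((pullback.snd f g).base x'))
        ((pullback f g).presheaf.stalk x')
        (algebraMap Γ(Spec (CommRingCat.of V'), ⊤)
          ((Spec (CommRingCat.of V')).presheaf.stalk ((pullback.snd f g).base x')) (eB.symm ϖ)) =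
        algebraMap Γ(pullback f g, W') ((pullback f g).presheaf.stalk x')
          (algebraMap Γ(Spec (CommRingCat.of V'), ⊤) Γ(pullback f g, W') (eB.symm ϖ)) :=
      Groth.Agent.H57.stalkMap_germ_appLE (pullback.snd f g) hW'V' x' hx' (eB.symm ϖ)
    rw [h4]
    exact ha
  -- regularity on the standard chart
  have hEWs : ∀ a u : Γ(pullback f g, W'), u ∉ nS →
      u * algebraMap Γ(Spec (CommRingCat.of V'), ⊤) Γ(pullback f g, W') (eB.symm ϖ) * a = 0 →
      ∃ u' : Γ(pullback f g, W'), u' ∉ nS ∧ u' * a = 0 := by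
    intro a u hu hua
    have hu' : u ∈ (hW'.primeIdealOf ⟨x', hx'⟩).asIdeal.primeCompl := by
      show u ∉ (hW'.primeIdealOf ⟨x', hx'⟩).asIdeal
      rw [hn']; exact hu
    have h5 := congrArg (algebraMap Γ(pullback f g, W') ((pullback f g).presheaf.stalk x')) hua
    rw [map_mul, map_mul, map_zero, mul_assoc] at h5
    have hunit : IsUnit (algebraMap Γ(pullback f g, W') ((pullback f g).presheaf.stalk x') u) :=
      IsLocalization.map_units ((pullback f g).presheaf.stalk x') ⟨u, hu'⟩
    have h6 := hτ _ (hunit.mul_left_cancel (h5.trans (mul_zero _).symm))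
    obtain ⟨c, hc⟩ := (IsLocalization.map_eq_zero_iff
      (hW'.primeIdealOf ⟨x', hx'⟩).asIdeal.primeCompl ((pullback f g).presheaf.stalk x') a).mp h6
    refine ⟨c, ?_, hc⟩
    have haux : ∀ I : Ideal Γ(pullback f g, W'), I = nS →
        ∀ y : Γ(pullback f g, W'), y ∉ I → y ∉ nS := by
      rintro _ rfl y hy
      exact hy
    exact haux _ hn' c c.2
  -- transport to `E`
  refine Groth.Agent.H11.UnivOpenFlatAlg.flat_localizedModule_tensor_self n ϖ hϖ ?_
  intro a u hu hua
  have h7 : e u * algebraMap Γ(Spec (CommRingCat.of V'), ⊤) Γ(pullback f g, W') (eB.symm ϖ) *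
      e a = 0 := by
    rw [← heV, ← map_mul, ← map_mul, hua, map_zero]
  obtain ⟨u', hu', hu'a⟩ := hEWs (e a) (e u) (fun h => hu ((hmem u).mp h)) h7
  refine ⟨e.symm u', hu', ?_⟩
  apply e.injective
  rw [map_mul, AlgEquiv.apply_symm_apply, hu'a, map_zero]

set_option maxHeartbeats 1600000 in
/-- The chart-level hypothesis of the valuative criterion from stalkwise flatness after base change
to discrete valuation rings. -/
theorem dvrHyp_chart [LocallyOfFiniteType f] (x : X) {V : Y.Opens} (hV : IsAffineOpen V)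
    {W : X.Opens} (hW : IsAffineOpen W) (hxW : x ∈ W) (hWV : W ≤ f ⁻¹ᵁ V)
    [Algebra Γ(Y, V) Γ(X, W)] (halg : algebraMap Γ(Y, V) Γ(X, W) = (f.appLE V W hWV).hom)
    (hflat : ∀ (V' : Type u) [CommRing V'] [IsDomain V'] [IsDiscreteValuationRing V']
      (g : Spec (CommRingCat.of V') ⟶ Y) (x' : ↥(pullback f g)),
      (pullback.fst f g).base x' = x → (pullback.snd f g).base x' = IsLocalRing.closedPoint V' →
      ((pullback.snd f g).stalkMap x').hom.Flat) :
    Groth.Agent.H11.ValFlatCore.DVRHyp Γ(Y, V) (hW.primeIdealOf ⟨x, hxW⟩).asIdeal Γ(X, W) := by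
  intro V' _ _ _ _ hmax E _ _ _ _ _ _ _ _ n _ hn1 hn2
  have hV'V : (⊤ : (Spec (CommRingCat.of V')).Opens) ≤
      (Spec.map (CommRingCat.ofHom (algebraMap Γ(Y, V) V')) ≫ hV.fromSpec) ⁻¹ᵁ V := by
    intro z _
    show (Spec.map (CommRingCat.ofHom (algebraMap Γ(Y, V) V')) ≫ hV.fromSpec) z ∈ V
    rw [Scheme.Hom.comp_apply]
    have : hV.fromSpec (Spec.map (CommRingCat.ofHom (algebraMap Γ(Y, V) V')) z) ∈
        Set.range hV.fromSpec := ⟨_, rfl⟩
    rwa [hV.range_fromSpec] at this
  have hstar : (Spec.map (CommRingCat.ofHom (algebraMap Γ(Y, V) V')) ≫ hV.fromSpec).appLE V ⊤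
      hV'V = CommRingCat.ofHom (algebraMap Γ(Y, V) V') ≫
        (Scheme.ΓSpecIso (CommRingCat.of V')).inv := by
    rw [Scheme.Hom.comp_appLE, hV.fromSpec_app_self, Category.assoc]
    erw [Scheme.Hom.map_appLE]
    have h1 : (Spec.map (CommRingCat.ofHom (algebraMap Γ(Y, V) V'))).appLE ⊤ ⊤ le_top =
        (Spec.map (CommRingCat.ofHom (algebraMap Γ(Y, V) V'))).appTop := by
      rw [Scheme.Hom.appTop, Scheme.Hom.app_eq_appLE]
      rfl
    have h2 := Scheme.ΓSpecIso_inv_naturality (CommRingCat.ofHom (algebraMap Γ(Y, V) V'))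
    rw [h1]
    exact h2.symm
  exact dvrHyp_chart_aux f x hV hW hxW hWV halg V' _ hV'V hstar (hflat V' _) E n hn1 hn2

set_option maxHeartbeats 1600000 in
/-- **EGA IV 15.2.2** (pointwise): universally open at the generic points of the components of the
fibre through `x`, fibre geometrically reduced at `x`, base reduced at `f x` ⟹ flat at `x`. -/
theorem flat_stalkMap_of_genOpen [IsLocallyNoetherian Y] [LocallyOfFiniteType f] (x : X)
    (hopen : GenOpen f x)
    (hred : FBase.IsGeomReducedAt (f.fiberToSpecResidueField (f.base x)) (f.asFiber x))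
    (hy : _root_.IsReduced (Y.presheaf.stalk (f.base x))) :
    (f.stalkMap x).hom.Flat := by
  classical
  obtain ⟨V, hV, hyV, -⟩ := exists_isAffineOpen_mem_and_subset (x := f x)
    (U := (⊤ : Y.Opens)) trivial
  obtain ⟨W, hW, hxW, hWV⟩ := exists_isAffineOpen_mem_and_subset (x := x)
    (U := f ⁻¹ᵁ V) hyV
  haveI : IsNoetherianRing Γ(Y, V) := IsLocallyNoetherian.component_noetherian ⟨V, hV⟩
  letI aRC : Algebra Γ(Y, V) Γ(X, W) := (f.appLE V W hWV).hom.toAlgebra
  haveI : Algebra.FiniteType Γ(Y, V) Γ(X, W) := Scheme.Hom.finiteType_appLE f hV hW hWV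
  letI aRA₀ : Algebra Γ(Y, V) (Y.presheaf.stalk (f x)) :=
    Y.presheaf.algebra_section_stalk ⟨f x, hyV⟩
  haveI locA₀ := hV.isLocalization_stalk ⟨f x, hyV⟩
  letI aCSx : Algebra Γ(X, W) (X.presheaf.stalk x) := X.presheaf.algebra_section_stalk ⟨x, hxW⟩
  haveI locSx := hW.isLocalization_stalk ⟨x, hxW⟩
  letI aA₀Sx : Algebra (Y.presheaf.stalk (f x)) (X.presheaf.stalk x) :=
    (f.stalkMap x).hom.toAlgebra
  letI aRSx : Algebra Γ(Y, V) (X.presheaf.stalk x) :=
    ((algebraMap Γ(X, W) (X.presheaf.stalk x)).comp (algebraMap Γ(Y, V) Γ(X, W))).toAlgebra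
  haveI tRCSx : IsScalarTower Γ(Y, V) Γ(X, W) (X.presheaf.stalk x) := .of_algebraMap_eq' rfl
  haveI tRA₀Sx : IsScalarTower Γ(Y, V) (Y.presheaf.stalk (f x)) (X.presheaf.stalk x) :=
    .of_algebraMap_eq (fun r => (Groth.Agent.H57.stalkMap_germ_appLE f hWV x hxW r).symm)
  have hp𝔭 : (hW.primeIdealOf ⟨x, hxW⟩).asIdeal.comap (algebraMap Γ(Y, V) Γ(X, W)) =
      (hV.primeIdealOf ⟨f x, hyV⟩).asIdeal :=
    congrArg PrimeSpectrum.asIdeal (IsAffineOpen.comap_primeIdealOf_appLE V hV W hW hWV hxW)
  have haux : ∀ (I J : Ideal Γ(Y, V)) [I.IsPrime] [J.IsPrime], I = J →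
      IsLocalization.AtPrime (Y.presheaf.stalk (f x)) J →
      IsLocalization.AtPrime (Y.presheaf.stalk (f x)) I := by
    rintro I J _ _ rfl h
    exact h
  haveI : _root_.IsReduced (Y.presheaf.stalk (f x)) := hy
  have hcore : Module.Flat Γ(Y, V)
      (LocalizedModule (hW.primeIdealOf ⟨x, hxW⟩).asIdeal.primeCompl Γ(X, W)) := by
    haveI : IsLocalization.AtPrime (Y.presheaf.stalk (f x))
        ((hW.primeIdealOf ⟨x, hxW⟩).asIdeal.comap (algebraMap Γ(Y, V) Γ(X, W))) :=
      haux _ _ hp𝔭 locA₀
    refine Groth.Agent.H11.ValFlatCore.flat_localizedModule_of_dvr (R := Γ(Y, V)) (C := Γ(X, W))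
      (hW.primeIdealOf ⟨x, hxW⟩).asIdeal (Y.presheaf.stalk (f x)) Γ(X, W) ?_
    exact dvrHyp_chart f x hV hW hxW hWV rfl
      (fun V' _ _ _ g x' h1 h2 => flat_stalkMap_snd_of_dvr f x hopen hred V' g x' h1 h2)
  show Module.Flat (Y.presheaf.stalk (f x)) (X.presheaf.stalk x)
  haveI : Module.Flat Γ(Y, V) (X.presheaf.stalk x) := by
    let e := IsLocalizedModule.iso (hW.primeIdealOf ⟨x, hxW⟩).asIdeal.primeCompl
      (Algebra.linearMap Γ(X, W) (X.presheaf.stalk x))
    exact Module.Flat.of_linearEquiv (e.symm.restrictScalars Γ(Y, V))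
  exact (@Module.flat_iff_of_isLocalization Γ(Y, V) (Y.presheaf.stalk (f x)) _ _ _
    (hV.primeIdealOf ⟨f x, hyV⟩).asIdeal.primeCompl locA₀ (X.presheaf.stalk x) _ _ _ _).mpr
    inferInstance

end Groth.Agent.H11.UnivOpenFlatSch
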