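import Groth.Agent.H11.ValFlatRed
import Groth.Agent.H57.NilDescent
import Groth.Agent.H57.FlatAtBC
import Mathlib

/-!
# Flatness over a complete local ring from discrete valuation rings and generic flatness
-/

set_option autoImplicit false
set_option linter.style.haveILetI false
universe u
open IsLocalRing TensorProduct

namespace Groth.Agent.H11.ValFlatCompl

open Groth.Agent.H11.ValFlatTop Groth.Agent.H11.ValFlatRed Groth.Agent.H57

/-- Over a complete Noetherian local ring `A`: a module `M` (finite over a Noetherian `A`-algebra
in whose radical the maximal ideal lands) with the relation property for all discrete valuation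
rings, which becomes flat after base change to a finite jointly injective family of `A`-algebras,
is flat. -/
theorem flat_of_rel_of_family {A Sx M : Type u} [CommRing A] [IsLocalRing A] [IsNoetherianRing A]
    [IsAdicComplete (maximalIdeal A) A]
    [CommRing Sx] [IsNoetherianRing Sx] [Algebra A Sx] [AddCommGroup M] [Module A M] [Module Sx M]
    [IsScalarTower A Sx M] [Module.Finite Sx M]
    (hI : (maximalIdeal A).map (algebraMap A Sx) ≤ Ideal.jacobson ⊥)
    (Hrel : ∀ d : DVRPt A, Rel A M d)
    {ι : Type u} [Finite ι] (B : ι → Type u) [∀ i, CommRing (B i)] [∀ i, Algebra A (B i)]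
    [∀ i, Module.Flat (B i) (B i ⊗[A] M)]
    (hker : ∀ a : A, (∀ i, algebraMap A (B i) a = 0) → a = 0) :
    Module.Flat A M := by
  haveI := flat_quot_nilradical (A := A) (Sx := Sx) (M := M) hI Hrel
  exact flat_of_nilpotent_of_baseChange B (nilradical A) hker
    (IsNoetherianRing.isNilpotent_nilradical A)

/-- Base change followed by localization (at a multiplicative subset of an algebra) of a module whose
base change is flat is flat. -/
theorem flat_baseChange_localizedModule {A₁ C₁ : Type u} [CommRing A₁] [CommRing C₁] [Algebra A₁ C₁]
    (T : Submonoid C₁) (N : Type u) [AddCommGroup N] [Module A₁ N] [Module C₁ N]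
    [IsScalarTower A₁ C₁ N] (B : Type u) [CommRing B] [Algebra A₁ B]
    [Module.Flat B (B ⊗[A₁] N)] : Module.Flat B (B ⊗[A₁] LocalizedModule T N) := by
  rw [Module.Flat.iff_rTensor_preserves_injective_linearMap]
  intro P Q _ _ _ _ u hu
  letI : Module A₁ P := Module.compHom P (algebraMap A₁ B)
  letI : Module A₁ Q := Module.compHom Q (algebraMap A₁ B)
  haveI : IsScalarTower A₁ B P := IsScalarTower.of_algebraMap_smul fun r x => rfl
  haveI : IsScalarTower A₁ B Q := IsScalarTower.of_algebraMap_smul fun r x => rfl
  rw [rTensor_baseChange_injective_iff]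
  have h1 : Function.Injective (u.rTensor (B ⊗[A₁] N)) :=
    Module.Flat.rTensor_preserves_injective_linearMap u hu
  have h2 : Function.Injective ((u.restrictScalars A₁).rTensor N) :=
    (rTensor_baseChange_injective_iff N u).mp h1
  have h3 : Function.Injective ((u.restrictScalars A₁).lTensor N) :=
    ((u.restrictScalars A₁).lTensor_inj_iff_rTensor_inj N).mpr h2
  have h4 : Function.Injective ((u.restrictScalars A₁).lTensor (LocalizedModule T N)) := by
    refine lTensor_localizedModule_injective_of_forall T N (u.restrictScalars A₁) ?_
    intro x hx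
    refine ⟨1, ?_⟩
    rw [one_smul]
    exact h3 (hx.trans (map_zero _).symm)
  exact ((u.restrictScalars A₁).lTensor_inj_iff_rTensor_inj (LocalizedModule T N)).mp h4

end Groth.Agent.H11.ValFlatCompl
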