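import Groth.Agent.H11.ValFlatCompl
import Groth.Agent.H57.ArtFam
import Groth.Agent.H57.FlatDescLoc
import Groth.Agent.Lead.CompleteNoetherian
import Mathlib

/-!
# Valuative criterion of flatness over a reduced Noetherian base: the algebraic core
-/

set_option autoImplicit false
set_option linter.style.haveILetI false
universe u
open IsLocalRing TensorProduct

namespace Groth.Agent.H11.ValFlatCore

open Groth.Agent.H11.ValFlatTop Groth.Agent.H11.ValFlatRed Groth.Agent.H11.ValFlatCompl
open Groth.Agent.H57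

attribute [local instance] Algebra.TensorProduct.rightAlgebra

/-- The hypothesis of the valuative criterion at a prime `p` of `C`: flatness over every discrete
valuation ring centred at the image of `p`, at all points of the base change above `p` and the
closed point. -/
def DVRHyp (R : Type u) {C : Type u} [CommRing R] [CommRing C] [Algebra R C] (p : Ideal C)
    (P : Type u) [AddCommGroup P] [Module C P] : Prop :=
  ∀ (V : Type u) [CommRing V] [IsDomain V] [IsDiscreteValuationRing V] [Algebra R V],
    (maximalIdeal V).comap (algebraMap R V) = p.comap (algebraMap R C) →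
    ∀ (E : Type u) [CommRing E] [Algebra C E] [Algebra V E] [Algebra R E] [IsScalarTower R C E]
      [IsScalarTower R V E] [Algebra.IsPushout R C V E] [SMulCommClass C V E]
      (n : Ideal E) [n.IsPrime],
      n.comap (algebraMap C E) = p → n.comap (algebraMap V E) = maximalIdeal V →
      Module.Flat V (LocalizedModule n.primeCompl (E ⊗[C] P))

section Rel

variable {R C Ah C' : Type u} [CommRing R] [CommRing C] [Algebra R C] [CommRing Ah] [Algebra R Ah]
  [CommRing C'] [Algebra Ah C'] [Algebra C C'] [Algebra R C'] [IsScalarTower R Ah C']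
  [IsScalarTower R C C'] [Algebra.IsPushout R Ah C C']
  [IsLocalRing Ah] [IsNoetherianRing C']
  (p : Ideal C) [p.IsPrime] (Q : Ideal C') [Q.IsPrime]
  (P : Type u) [AddCommGroup P] [Module C P] [Module R P] [IsScalarTower R C P] [Module.Finite C P]
  (P₁ : Type u) [AddCommGroup P₁] [Module C' P₁] [Module C P₁] [IsScalarTower C C' P₁]
  [Module Ah P₁] [IsScalarTower Ah C' P₁] [Module.Finite C' P₁]
  (g₀ : P →ₗ[C] P₁) (hg₀ : IsBaseChange C' g₀)

include hg₀ in
set_option maxHeartbeats 1600000 in
set_option synthInstance.maxHeartbeats 200000 in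
theorem rel_of_dvrHyp (hQp : Q.comap (algebraMap C C') = p)
    (hAh : (maximalIdeal Ah).comap (algebraMap R Ah) = p.comap (algebraMap R C))
    (H : DVRHyp R p P) (d : DVRPt Ah) :
    Rel Ah (LocalizedModule Q.primeCompl P₁) d := by
  letI aAV : Algebra Ah d.V := d.φ.toAlgebra
  letI aRV : Algebra R d.V := (d.φ.comp (algebraMap R Ah)).toAlgebra
  haveI tRAV : IsScalarTower R Ah d.V := .of_algebraMap_eq' rfl
  haveI : IsLocalHom (algebraMap Ah d.V) := d.loc
  haveI cAC : SMulCommClass Ah C C' := ⟨fun a c x => by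
    rw [Algebra.smul_def, Algebra.smul_def, Algebra.smul_def, Algebra.smul_def]; ring⟩
  haveI tRVE : IsScalarTower R d.V (C' ⊗[Ah] d.V) := by
    refine .of_algebraMap_eq fun r => ?_
    rw [IsScalarTower.algebraMap_apply R Ah (C' ⊗[Ah] d.V),
      IsScalarTower.algebraMap_apply R Ah d.V,
      ← IsScalarTower.algebraMap_apply Ah d.V (C' ⊗[Ah] d.V)]
  letI hcomm : SMulCommClass C d.V (C' ⊗[Ah] d.V) := ⟨fun c b e => by
    rw [Algebra.smul_def b, Algebra.smul_def b, mul_smul_comm]⟩
  haveI po : Algebra.IsPushout R C d.V (C' ⊗[Ah] d.V) := by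
    have h1 : Algebra.IsPushout R d.V C (C' ⊗[Ah] d.V) :=
      (Algebra.IsPushout.comp_iff (R := R) (S := Ah) (T := d.V) (R' := C) (S' := C')
        (T' := C' ⊗[Ah] d.V)).mpr inferInstance
    exact h1.symm
  intro ι _ v hv 𝔟 h𝔟 s c hc
  have hfl : ∀ (n : Ideal (C' ⊗[Ah] d.V)) [n.IsPrime],
      n.comap (algebraMap C' (C' ⊗[Ah] d.V)) = Q →
      n.comap (algebraMap d.V (C' ⊗[Ah] d.V)) = maximalIdeal d.V →
      Module.Flat d.V (LocalizedModule n.primeCompl ((C' ⊗[Ah] d.V) ⊗[C'] P₁)) := by
    intro n _ h1 h2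
    have hloc : (maximalIdeal d.V).comap (algebraMap Ah d.V) = maximalIdeal Ah :=
      ((IsLocalRing.local_hom_TFAE (algebraMap Ah d.V)).out 0 4).mp d.loc
    have hmax : (maximalIdeal d.V).comap (algebraMap R d.V) = p.comap (algebraMap R C) := by
      rw [IsScalarTower.algebraMap_eq R Ah d.V, ← Ideal.comap_comap, hloc, hAh]
    have hnp : n.comap (algebraMap C (C' ⊗[Ah] d.V)) = p := by
      rw [IsScalarTower.algebraMap_eq C C' (C' ⊗[Ah] d.V), ← Ideal.comap_comap, h1, hQp]
    have hflat := H d.V hmax (C' ⊗[Ah] d.V) n hnp h2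
    have hbc : IsBaseChange (C' ⊗[Ah] d.V)
        (((TensorProduct.mk C' (C' ⊗[Ah] d.V) P₁ 1).restrictScalars C).comp g₀) :=
      IsBaseChange.comp hg₀ (TensorProduct.isBaseChange C' P₁ (C' ⊗[Ah] d.V))
    let e := hbc.equiv.symm
    let γ := (LocalizedModule.mkLinearMap n.primeCompl ((C' ⊗[Ah] d.V) ⊗[C] P)) ∘ₗ
      e.toLinearMap
    haveI : IsLocalizedModule n.primeCompl γ := IsLocalizedModule.of_linearEquiv_right _ _ e
    let e' := IsLocalizedModule.iso n.primeCompl γ
    exact Module.Flat.of_linearEquiv (e'.restrictScalars d.V)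
  exact ArtFam.stalk_core (A := Ah) (C := C') (B := d.V) (E := C' ⊗[Ah] d.V)
    (TensorProduct.mk C' (C' ⊗[Ah] d.V) P₁ 1)
    (TensorProduct.isBaseChange C' P₁ (C' ⊗[Ah] d.V)) Q
    (LocalizedModule.mkLinearMap Q.primeCompl P₁) hfl v hv 𝔟 h𝔟 s c hc

end Rel

section Family

variable {R C Ah C' : Type u} [CommRing R] [CommRing C] [Algebra R C] [CommRing Ah] [Algebra R Ah]
  [CommRing C'] [Algebra Ah C'] [Algebra C C'] [Algebra R C'] [IsScalarTower R Ah C']
  [IsScalarTower R C C'] [Algebra.IsPushout R Ah C C']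
  (p : Ideal C) [p.IsPrime] (Q : Ideal C') [Q.IsPrime]
  (P : Type u) [AddCommGroup P] [Module C P] [Module R P] [IsScalarTower R C P]
  (P₁ : Type u) [AddCommGroup P₁] [Module C' P₁] [Module C P₁] [IsScalarTower C C' P₁]
  [Module Ah P₁] [IsScalarTower Ah C' P₁]
  (g₀ : P →ₗ[C] P₁) (hg₀ : IsBaseChange C' g₀)

include hg₀ in
theorem flat_family (T B : Type u) [CommRing T] [IsSemisimpleRing T] [Algebra R T] [CommRing B]
    [Algebra Ah B] [Algebra T B] [Algebra R B] [IsScalarTower R Ah B] [IsScalarTower R T B] :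
    Module.Flat B (B ⊗[Ah] LocalizedModule Q.primeCompl P₁) := by
  haveI : Module.Flat T (T ⊗[R] P) := by
    haveI := Module.projective_of_isSemisimpleRing T (T ⊗[R] P)
    infer_instance
  haveI h1 : Module.Flat B (B ⊗[T] (T ⊗[R] P)) := inferInstance
  haveI h2 : Module.Flat B (B ⊗[R] P) :=
    Module.Flat.of_linearEquiv (AlgebraTensorModule.cancelBaseChange R T B B P).symm
  let e₁ : P₁ ≃ₗ[Ah] Ah ⊗[R] P :=
    (hg₀.equiv.symm.restrictScalars Ah) ≪≫ₗ Algebra.IsPushout.cancelBaseChange R Ah C C' P
  haveI h3 : Module.Flat B (B ⊗[Ah] (Ah ⊗[R] P)) :=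
    Module.Flat.of_linearEquiv (AlgebraTensorModule.cancelBaseChange R Ah B B P)
  haveI h4 : Module.Flat B (B ⊗[Ah] P₁) :=
    Module.Flat.of_linearEquiv (AlgebraTensorModule.congr (LinearEquiv.refl B B) e₁)
  exact flat_baseChange_localizedModule Q.primeCompl P₁ B

include hg₀ in
theorem descend [Module.Flat R Ah] [Module R P₁] [IsScalarTower R C' P₁]
    (hQp : Q.comap (algebraMap C C') = p)
    (hfl : Module.Flat Ah (LocalizedModule Q.primeCompl P₁)) :
    Module.Flat R (LocalizedModule p.primeCompl P) := by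
  haveI h1 : Module.Flat R (LocalizedModule Q.primeCompl P₁) := Module.Flat.trans R Ah _
  haveI tRCS : IsScalarTower R C (Localization.AtPrime Q) := by
    refine .of_algebraMap_eq fun r => ?_
    rw [IsScalarTower.algebraMap_apply R C' (Localization.AtPrime Q),
      IsScalarTower.algebraMap_apply R C C',
      ← IsScalarTower.algebraMap_apply C C' (Localization.AtPrime Q)]
  haveI fCC' : Module.Flat C C' := by
    have h : Algebra.IsPushout R C Ah C' := Algebra.IsPushout.symm inferInstance
    exact Module.Flat.isBaseChange R C Ah C' h.out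
  haveI fCS : Module.Flat C (Localization.AtPrime Q) := Module.Flat.trans C C' _
  have hbc : IsBaseChange (Localization.AtPrime Q)
      (((LocalizedModule.mkLinearMap Q.primeCompl P₁).restrictScalars C).comp g₀) :=
    IsBaseChange.comp hg₀ (IsLocalizedModule.isBaseChange Q.primeCompl (Localization.AtPrime Q)
      (LocalizedModule.mkLinearMap Q.primeCompl P₁))
  haveI : Module.Flat R (Localization.AtPrime Q ⊗[C] P) :=
    Module.Flat.of_linearEquiv (hbc.equiv.restrictScalars R)
  refine FlatDescLoc.flat_localizedModule_of_flat_tensor (R := R) (S := C) (F := Localization.AtPrime Q) p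
    (maximalIdeal _) (Ideal.IsPrime.ne_top') ?_ P
  have hm : (maximalIdeal (Localization.AtPrime Q)).comap
      (algebraMap C' (Localization.AtPrime Q)) = Q :=
    IsLocalization.AtPrime.comap_maximalIdeal (Localization.AtPrime Q) Q
  rw [IsScalarTower.algebraMap_eq C C' (Localization.AtPrime Q), ← Ideal.comap_comap, hm, hQp]

end Family

section Assemble

variable {R C Ah C' : Type u} [CommRing R] [CommRing C] [Algebra R C] [CommRing Ah] [Algebra R Ah]
  [CommRing C'] [Algebra Ah C'] [Algebra C C'] [Algebra R C'] [IsScalarTower R Ah C']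
  [IsScalarTower R C C'] [Algebra.IsPushout R Ah C C']
  [IsLocalRing Ah] [IsNoetherianRing Ah] [IsAdicComplete (maximalIdeal Ah) Ah] [IsNoetherianRing C']
  (p : Ideal C) [p.IsPrime] (Q : Ideal C') [Q.IsPrime]
  (P : Type u) [AddCommGroup P] [Module C P] [Module R P] [IsScalarTower R C P] [Module.Finite C P]
  (P₁ : Type u) [AddCommGroup P₁] [Module C' P₁] [Module C P₁] [IsScalarTower C C' P₁]
  [Module Ah P₁] [IsScalarTower Ah C' P₁] [Module.Finite C' P₁]
  (g₀ : P →ₗ[C] P₁) (hg₀ : IsBaseChange C' g₀)

include hg₀ in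
set_option maxHeartbeats 800000 in
/-- The abstract form of the criterion: `Ah` is a complete Noetherian local ring flat over `R`,
`C'` the base change of `C`, `Q` a prime of `C'` above `p` and the closed point, `B` an
`Ah`-algebra into which `Ah` embeds and which is an algebra over a semisimple `R`-algebra. -/
theorem core_abs [Module.Flat R Ah] [Module R P₁] [IsScalarTower R C' P₁]
    (hQp : Q.comap (algebraMap C C') = p)
    (hQA : Q.comap (algebraMap Ah C') = maximalIdeal Ah)
    (hAh : (maximalIdeal Ah).comap (algebraMap R Ah) = p.comap (algebraMap R C))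
    (T B : Type u) [CommRing T] [IsSemisimpleRing T] [Algebra R T] [CommRing B]
    [Algebra Ah B] [Algebra T B] [Algebra R B] [IsScalarTower R Ah B] [IsScalarTower R T B]
    (hker : ∀ a : Ah, algebraMap Ah B a = 0 → a = 0)
    (H : DVRHyp R p P) : Module.Flat R (LocalizedModule p.primeCompl P) := by
  haveI : IsNoetherianRing (Localization.AtPrime Q) :=
    IsLocalization.isNoetherianRing Q.primeCompl _ inferInstance
  haveI : Module.Finite (Localization.AtPrime Q) (LocalizedModule Q.primeCompl P₁) :=
    Module.Finite.of_isLocalizedModule Q.primeCompl (LocalizedModule.mkLinearMap Q.primeCompl P₁)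
  have hI : (maximalIdeal Ah).map (algebraMap Ah (Localization.AtPrime Q)) ≤
      Ideal.jacobson ⊥ := by
    rw [IsLocalRing.jacobson_eq_maximalIdeal ⊥ bot_ne_top, Ideal.map_le_iff_le_comap]
    have hm : (maximalIdeal (Localization.AtPrime Q)).comap
        (algebraMap C' (Localization.AtPrime Q)) = Q :=
      IsLocalization.AtPrime.comap_maximalIdeal (Localization.AtPrime Q) Q
    rw [IsScalarTower.algebraMap_eq Ah C' (Localization.AtPrime Q), ← Ideal.comap_comap, hm, hQA]
  haveI hB : Module.Flat B (B ⊗[Ah] LocalizedModule Q.primeCompl P₁) :=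
    flat_family (R := R) Q P P₁ g₀ hg₀ T B
  have hfl : Module.Flat Ah (LocalizedModule Q.primeCompl P₁) :=
    flat_of_rel_of_family (A := Ah) (Sx := Localization.AtPrime Q)
      (M := LocalizedModule Q.primeCompl P₁) hI
      (fun d => rel_of_dvrHyp p Q P P₁ g₀ hg₀ hQp hAh H d)
      (ι := PUnit.{u + 1}) (fun _ => B) (fun a ha => hker a (ha PUnit.unit))
  exact descend p Q P P₁ g₀ hg₀ hQp hfl

end Assemble

/-- A reduced Noetherian ring embeds into a semisimple commutative ring (the product of the
residue fields at its minimal primes). -/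
theorem exists_semisimple (A₀ : Type u) [CommRing A₀] [IsNoetherianRing A₀] [IsReduced A₀] :
    ∃ (T : Type u) (_ : CommRing T) (_ : Algebra A₀ T),
      IsSemisimpleRing T ∧ Function.Injective (algebraMap A₀ T) := by
  haveI : ∀ i : minimalPrimes A₀, i.1.IsPrime := fun i => Ideal.IsMinimalPrime.isPrime i.2
  haveI : Finite (minimalPrimes A₀) := (minimalPrimes.finite_of_isNoetherianRing A₀).to_subtype
  refine ⟨∀ i : minimalPrimes A₀, FractionRing (A₀ ⧸ i.1), inferInstance, inferInstance,
    inferInstance, ?_⟩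
  rw [injective_iff_map_eq_zero]
  intro a ha
  have h1 : ∀ i : minimalPrimes A₀, a ∈ i.1 := by
    intro i
    have h := congrFun ha i
    rw [Pi.algebraMap_apply, IsScalarTower.algebraMap_apply A₀ (A₀ ⧸ i.1)
      (FractionRing (A₀ ⧸ i.1))] at h
    have h' := (IsFractionRing.injective (A₀ ⧸ i.1) (FractionRing (A₀ ⧸ i.1)))
      (h.trans (map_zero _).symm)
    exact Ideal.Quotient.eq_zero_iff_mem.mp h'
  have h2 : a ∈ (⊥ : Ideal A₀).radical := by
    rw [← Ideal.sInf_minimalPrimes, Ideal.mem_sInf]
    intro I hI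
    exact h1 ⟨I, hI⟩
  obtain ⟨n, hn⟩ := h2
  exact IsReduced.eq_zero a ⟨n, hn⟩

section Concrete

variable {R C : Type u} [CommRing R] [CommRing C] [Algebra R C] [Algebra.FiniteType R C]

set_option maxHeartbeats 1600000 in
set_option synthInstance.maxHeartbeats 200000 in
/-- The criterion with an abstract reduced Noetherian local ring `A₀` flat over `R` and an abstract
completion `Ah` of it. -/
theorem core_abs2 (p : Ideal C) [p.IsPrime] (A₀ : Type u) [CommRing A₀] [IsLocalRing A₀]
    [IsNoetherianRing A₀] [IsReduced A₀] [Algebra R A₀] [Module.Flat R A₀]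
    (hA₀ : (maximalIdeal A₀).comap (algebraMap R A₀) = p.comap (algebraMap R C))
    (Ah : Type u) [CommRing Ah] [IsLocalRing Ah] [IsNoetherianRing Ah]
    [IsAdicComplete (maximalIdeal Ah) Ah] [Algebra A₀ Ah] [Algebra R Ah] [IsScalarTower R A₀ Ah]
    [Module.Flat A₀ Ah] [IsLocalHom (algebraMap A₀ Ah)]
    (P : Type u) [AddCommGroup P] [Module C P] [Module R P] [IsScalarTower R C P]
    [Module.Finite C P] (H : DVRHyp R p P) : Module.Flat R (LocalizedModule p.primeCompl P) := by
  obtain ⟨T, _, _, hT, hinj⟩ := exists_semisimple A₀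
  letI : Algebra R T := ((algebraMap A₀ T).comp (algebraMap R A₀)).toAlgebra
  haveI : IsScalarTower R A₀ T := .of_algebraMap_eq' rfl
  haveI : Module.Flat R Ah := Module.Flat.trans R A₀ Ah
  have hloc : (maximalIdeal Ah).comap (algebraMap A₀ Ah) = maximalIdeal A₀ :=
    ((IsLocalRing.local_hom_TFAE (algebraMap A₀ Ah)).out 0 4).mp
      (inferInstance : IsLocalHom (algebraMap A₀ Ah))
  have hAh : (maximalIdeal Ah).comap (algebraMap R Ah) = p.comap (algebraMap R C) := by
    rw [IsScalarTower.algebraMap_eq R A₀ Ah, ← Ideal.comap_comap, hloc, hA₀]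
  haveI : IsNoetherianRing (Ah ⊗[R] C) := Algebra.FiniteType.isNoetherianRing Ah (Ah ⊗[R] C)
  haveI po : Algebra.IsPushout R C Ah (Ah ⊗[R] C) := Algebra.IsPushout.symm inferInstance
  obtain ⟨Q, hQ, hQp, hQA⟩ := FlatDescLoc.exists_prime_pushout (R := R) (S := C) (R' := Ah)
    (S' := Ah ⊗[R] C) p (maximalIdeal Ah) hAh.symm
  have hker : ∀ a : Ah, algebraMap Ah (Ah ⊗[R] T) a = 0 → a = 0 := by
    intro a ha
    rw [Algebra.TensorProduct.algebraMap_apply, Algebra.algebraMap_self, RingHom.id_apply] at ha
    have h1 : a ⊗ₜ[A₀] (1 : T) = 0 := by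
      have := congrArg (TensorProduct.mapOfCompatibleSMul A₀ R R Ah T) ha
      simpa using this
    have hj : Function.Injective ((Algebra.linearMap A₀ T).lTensor Ah) :=
      Module.Flat.lTensor_preserves_injective_linearMap (M := Ah) (Algebra.linearMap A₀ T) hinj
    have h2 : a ⊗ₜ[A₀] (1 : A₀) = 0 := hj (by
      rw [LinearMap.lTensor_tmul, Algebra.linearMap_apply, map_one, h1, map_zero])
    have h3 := congrArg (TensorProduct.rid A₀ Ah) h2
    simpa using h3
  exact core_abs (R := R) (C := C) (Ah := Ah) (C' := Ah ⊗[R] C) p Q P ((Ah ⊗[R] C) ⊗[C] P)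
    (TensorProduct.mk C (Ah ⊗[R] C) P 1) (TensorProduct.isBaseChange C P (Ah ⊗[R] C))
    hQp hQA hAh T (Ah ⊗[R] T) hker H

/-- **Valuative criterion of flatness at a point, over a base that is reduced and Noetherian at the
image point.** -/
theorem flat_localizedModule_of_dvr [IsNoetherianRing R] (p : Ideal C) [p.IsPrime]
    (A₀ : Type u) [CommRing A₀] [Algebra R A₀]
    [IsLocalization.AtPrime A₀ (p.comap (algebraMap R C))] [IsReduced A₀]
    (P : Type u) [AddCommGroup P] [Module C P] [Module R P] [IsScalarTower R C P]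
    [Module.Finite C P] (H : DVRHyp R p P) : Module.Flat R (LocalizedModule p.primeCompl P) := by
  haveI : IsLocalRing A₀ := IsLocalization.AtPrime.isLocalRing A₀ (p.comap (algebraMap R C))
  haveI : IsNoetherianRing A₀ :=
    IsLocalization.isNoetherianRing (p.comap (algebraMap R C)).primeCompl A₀ inferInstance
  haveI : Module.Flat R A₀ := IsLocalization.flat A₀ (p.comap (algebraMap R C)).primeCompl
  haveI : IsNoetherianRing (AdicCompletion (maximalIdeal A₀) A₀) :=
    Groth.Agent.Lead.isNoetherianRing_adicCompletion (maximalIdeal A₀)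
      (maximalIdeal A₀).fg_of_isNoetherianRing
  haveI : IsScalarTower R A₀ (AdicCompletion (maximalIdeal A₀) A₀) :=
    .of_algebraMap_eq fun r => rfl
  exact core_abs2 p A₀ (IsLocalization.AtPrime.comap_maximalIdeal A₀ _)
    (AdicCompletion (maximalIdeal A₀) A₀) P H

end Concrete

/-- Flatness over the base of a module over an algebra can be checked after localizing at the
maximal ideals of the algebra. -/
theorem flat_of_forall_maximal {A B : Type u} [CommRing A] [CommRing B] [Algebra A B]
    (N : Type u) [AddCommGroup N] [Module A N] [Module B N] [IsScalarTower A B N]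
    (h : ∀ q : Ideal B, ∀ _ : q.IsMaximal, Module.Flat A (LocalizedModule q.primeCompl N)) :
    Module.Flat A N := by
  rw [Module.Flat.iff_lTensor_preserves_injective_linearMap]
  intro P Q _ _ _ _ u hu
  rw [injective_iff_map_eq_zero]
  intro x hx
  by_contra hne
  let I : Ideal B := LinearMap.ker (LinearMap.toSpanSingleton B (N ⊗[A] P) x)
  have hI : I ≠ ⊤ := by
    intro htop
    have h1 : (1 : B) ∈ I := htop ▸ Submodule.mem_top
    have h2 : (1 : B) • x = 0 := by
      simpa [I, LinearMap.mem_ker, LinearMap.toSpanSingleton_apply] using h1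
    rw [one_smul] at h2
    exact hne h2
  obtain ⟨q, hq, hIq⟩ := Ideal.exists_le_maximal I hI
  haveI := h q hq
  obtain ⟨t, ht⟩ := exists_smul_eq_zero_of_lTensor_injective q.primeCompl N u
    (Module.Flat.lTensor_preserves_injective_linearMap (M := LocalizedModule q.primeCompl N) u hu)
    x hx
  have htI : (t : B) ∈ I := by
    change LinearMap.toSpanSingleton B (N ⊗[A] P) x (t : B) = 0
    rw [LinearMap.toSpanSingleton_apply]
    exact ht
  exact t.2 (hIq htI)

end Groth.Agent.H11.ValFlatCore
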