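import Groth.Agent.H11.ValFlatTop
import Groth.Agent.H57.ArtFamLocA
import Mathlib

/-!
# Flatness modulo the nilradical over a complete local ring, from discrete valuation rings
-/

set_option autoImplicit false
set_option linter.style.haveILetI false
universe u
open IsLocalRing TensorProduct

namespace Groth.Agent.H11.ValFlatRed

open Groth.Agent.H11.ValFlatTop Groth.Agent.H57 Groth.Agent.H57.ArtFamLocA

attribute [local instance] Algebra.TensorProduct.rightAlgebra

variable {A Sx M : Type u} [CommRing A] [IsLocalRing A] [IsNoetherianRing A]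
  [CommRing Sx] [IsNoetherianRing Sx] [Algebra A Sx] [AddCommGroup M] [Module A M] [Module Sx M]
  [IsScalarTower A Sx M] [Module.Finite Sx M]

/-- The relation property of `M` with respect to a local homomorphism to a DVR. -/
def Rel (A : Type u) [CommRing A] [IsLocalRing A] (M : Type u) [AddCommGroup M] [Module A M]
    (d : DVRPt A) : Prop :=
  ∀ (ι : Type u) [Finite ι] (v : ι → M),
    (∀ (s : Finset ι) (a : ι → A), ∑ i ∈ s, a i • v i ∈ (maximalIdeal A • ⊤ : Submodule A M) →
      ∀ i ∈ s, a i ∈ maximalIdeal A) →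
    ∀ (𝔟 : Ideal d.V), 𝔟 ≠ ⊤ → ∀ (s : Finset ι) (c : ι → A),
      ∑ i ∈ s, c i • v i ∈ ((𝔟.comap d.φ) • ⊤ : Submodule A M) → ∀ i ∈ s, d.φ (c i) ∈ 𝔟

omit [IsNoetherianRing A] in
theorem flat_quotient_K (Hrel : ∀ d : DVRPt A, Rel A M d) (L : List (DVRPt A)) (t : ℕ)
    (ht : 0 < t) : Module.Flat (A ⧸ K L t) ((A ⧸ K L t) ⊗[A] M) := by
  refine flat_quotient_of_forall_relation (K L t) t (pow_le_K L t) ?_
  intro ι _ v hv s c hc i hi
  rw [mem_K]
  intro d hd
  have hne : maximalIdeal d.V ^ t ≠ ⊤ := by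
    intro h
    have h1 : maximalIdeal d.V ^ t ≤ maximalIdeal d.V := Ideal.pow_le_self ht.ne'
    rw [h] at h1
    exact (maximalIdeal.isMaximal d.V).ne_top (top_le_iff.mp h1)
  refine Hrel d ι v hv (maximalIdeal d.V ^ t) hne s c ?_ i hi
  have hle : K L t ≤ (maximalIdeal d.V ^ t).comap d.φ := by
    intro x hx
    exact (mem_K.mp hx) d hd
  exact Submodule.smul_mono_left hle hc

theorem includeRight_surjective (Ab : Type u) [CommRing Ab] [Algebra A Ab]
    (h : Function.Surjective (algebraMap A Ab)) :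
    Function.Surjective (Algebra.TensorProduct.includeRight : Sx →ₐ[A] Ab ⊗[A] Sx) := by
  intro z
  induction z using TensorProduct.induction_on with
  | zero => exact ⟨0, map_zero _⟩
  | add x y hx hy =>
    obtain ⟨a, rfl⟩ := hx
    obtain ⟨b, rfl⟩ := hy
    exact ⟨a + b, map_add _ _ _⟩
  | tmul d a =>
    obtain ⟨r, rfl⟩ := h d
    refine ⟨r • a, ?_⟩
    rw [Algebra.TensorProduct.includeRight_apply, ← TensorProduct.smul_tmul]
    congr 1
    rw [Algebra.smul_def, mul_one]

set_option maxHeartbeats 1600000 in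
/-- Over a complete Noetherian local ring, a module (finite over a Noetherian algebra in whose
radical the maximal ideal lands) having the relation property for all discrete valuation rings is
flat modulo the nilradical. -/
theorem flat_quot_nilradical [IsAdicComplete (maximalIdeal A) A]
    (hI : (maximalIdeal A).map (algebraMap A Sx) ≤ Ideal.jacobson ⊥)
    (Hrel : ∀ d : DVRPt A, Rel A M d) :
    Module.Flat (A ⧸ nilradical A) ((A ⧸ nilradical A) ⊗[A] M) := by
  have hnil : nilradical A ≠ ⊤ := by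
    intro h
    have : (1 : A) ∈ nilradical A := h ▸ Submodule.mem_top
    obtain ⟨n, hn⟩ := mem_nilradical.mp this
    rw [one_pow] at hn
    exact one_ne_zero hn
  haveI : Nontrivial (A ⧸ nilradical A) := Ideal.Quotient.nontrivial_iff.mpr hnil
  haveI : IsLocalRing (A ⧸ nilradical A) :=
    IsLocalRing.of_surjective' (Ideal.Quotient.mk (nilradical A)) Ideal.Quotient.mk_surjective
  have hsurj : Function.Surjective
      (Algebra.TensorProduct.includeRight : Sx →ₐ[A] (A ⧸ nilradical A) ⊗[A] Sx) :=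
    includeRight_surjective (A ⧸ nilradical A) Ideal.Quotient.mk_surjective
  haveI : IsNoetherianRing ((A ⧸ nilradical A) ⊗[A] Sx) :=
    isNoetherianRing_of_surjective Sx _
      (Algebra.TensorProduct.includeRight : Sx →ₐ[A] (A ⧸ nilradical A) ⊗[A] Sx).toRingHom hsurj
  let e : ((A ⧸ nilradical A) ⊗[A] Sx) ⊗[Sx] M ≃ₗ[A ⧸ nilradical A] (A ⧸ nilradical A) ⊗[A] M :=
    Algebra.IsPushout.cancelBaseChange A (A ⧸ nilradical A) Sx ((A ⧸ nilradical A) ⊗[A] Sx) M
  suffices hflat : Module.Flat (A ⧸ nilradical A) (((A ⧸ nilradical A) ⊗[A] Sx) ⊗[Sx] M) from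
    Module.Flat.of_linearEquiv e.symm
  refine flat_of_flat_mod_pow (R := A ⧸ nilradical A) (S := (A ⧸ nilradical A) ⊗[A] Sx)
    (M := ((A ⧸ nilradical A) ⊗[A] Sx) ⊗[Sx] M) (maximalIdeal (A ⧸ nilradical A)) ?_ ?_
  · -- the radical condition
    rw [Ideal.map_le_iff_le_comap]
    intro x hx
    obtain ⟨a, rfl⟩ := Ideal.Quotient.mk_surjective x
    have ha : a ∈ maximalIdeal A := by
      rw [mem_maximalIdeal, mem_nonunits_iff]
      intro hu
      exact ((mem_maximalIdeal _).mp hx) (hu.map (Ideal.Quotient.mk (nilradical A)))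
    rw [Ideal.mem_comap, Ideal.mem_jacobson_bot]
    intro y
    obtain ⟨y', rfl⟩ := hsurj y
    have h1 : algebraMap A Sx a ∈ Ideal.jacobson (⊥ : Ideal Sx) := hI (Ideal.mem_map_of_mem _ ha)
    have h2 := (Ideal.mem_jacobson_bot.mp h1) y'
    have h3 : algebraMap (A ⧸ nilradical A) ((A ⧸ nilradical A) ⊗[A] Sx)
        (Ideal.Quotient.mk (nilradical A) a) =
        (Algebra.TensorProduct.includeRight : Sx →ₐ[A] (A ⧸ nilradical A) ⊗[A] Sx)
          (algebraMap A Sx a) := by
      rw [Algebra.TensorProduct.includeRight_apply, Algebra.TensorProduct.algebraMap_apply]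
      have : (algebraMap (A ⧸ nilradical A) (A ⧸ nilradical A))
          (Ideal.Quotient.mk (nilradical A) a) = a • (1 : A ⧸ nilradical A) := by
        rw [Algebra.smul_def, mul_one]; rfl
      rw [this, TensorProduct.smul_tmul, Algebra.smul_def, mul_one]
    rw [h3, ← map_mul, ← map_one (Algebra.TensorProduct.includeRight :
      Sx →ₐ[A] (A ⧸ nilradical A) ⊗[A] Sx), ← map_add]
    exact h2.map _
  · intro k
    obtain ⟨L, t, ht, hK⟩ := exists_K_le (A := A) k
    haveI hfl := flat_quotient_K Hrel L t ht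
    -- the target Artinian ring
    let Ab := A ⧸ nilradical A
    let T := Ab ⧸ maximalIdeal Ab ^ k
    have hker : ∀ x ∈ K L t, algebraMap A T x = 0 := by
      intro x hx
      obtain ⟨n, hn, m, hm, rfl⟩ := Submodule.mem_sup.mp (hK hx)
      rw [map_add]
      have h1 : algebraMap A T n = 0 := by
        change Ideal.Quotient.mk _ (Ideal.Quotient.mk (nilradical A) n) = 0
        rw [Ideal.Quotient.eq_zero_iff_mem.mpr hn, map_zero]
      have h2 : algebraMap A T m = 0 := by
        change Ideal.Quotient.mk _ (Ideal.Quotient.mk (nilradical A) m) = 0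
        rw [Ideal.Quotient.eq_zero_iff_mem]
        have : (maximalIdeal A ^ k).map (Ideal.Quotient.mk (nilradical A)) ≤
            maximalIdeal Ab ^ k := by
          rw [Ideal.map_pow]
          refine Ideal.pow_right_mono ?_ k
          rw [IsLocalRing.map_maximalIdeal_of_surjective _ Ideal.Quotient.mk_surjective]
        exact this (Ideal.mem_map_of_mem _ hm)
      rw [h1, h2, add_zero]
    letI : Algebra (A ⧸ K L t) T := (Ideal.Quotient.lift (K L t) (algebraMap A T) hker).toAlgebra
    haveI : IsScalarTower A (A ⧸ K L t) T := IsScalarTower.of_algebraMap_eq (fun x => rfl)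
    have h1 : Module.Flat T (T ⊗[A ⧸ K L t] ((A ⧸ K L t) ⊗[A] M)) := inferInstance
    have h2 : Module.Flat T (T ⊗[A] M) := (flat_tensor_of_tower A (A ⧸ K L t) T M).mp h1
    have h3 : Module.Flat T (T ⊗[Ab] (Ab ⊗[A] M)) := (flat_tensor_of_tower A Ab T M).mpr h2
    exact Module.Flat.of_linearEquiv
      (TensorProduct.AlgebraTensorModule.congr (LinearEquiv.refl T T) e)

end Groth.Agent.H11.ValFlatRed
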