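import Groth.Agent.H11.Chevalley
import Groth.Agent.H61.CRingLib
import Groth.Agent.H73.DVRExists
import Mathlib

/-!
# The topology defined by discrete valuation rings on a complete Noetherian local ring

For a complete Noetherian local ring `A`, finitely many local homomorphisms `A → V` to discrete
valuation rings define (through the ideals `φ⁻¹(𝔪_V ^ t)`) a topology on `A / nilradical A` which is
finer than the adic topology (Chevalley's lemma).
-/

set_option autoImplicit false
set_option linter.style.haveILetI false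
universe u
open IsLocalRing

namespace Groth.Agent.H11.ValFlatTop

/-- A local homomorphism from `A` to a discrete valuation ring (in the universe of `A`). -/
structure DVRPt (A : Type u) [CommRing A] [IsLocalRing A] where
  /-- the discrete valuation ring -/
  V : Type u
  [cr : CommRing V]
  [dom : IsDomain V]
  [dvr : IsDiscreteValuationRing V]
  /-- the local homomorphism -/
  φ : A →+* V
  [loc : IsLocalHom φ]

attribute [instance] DVRPt.cr DVRPt.dom DVRPt.dvr DVRPt.loc

variable {A : Type u} [CommRing A] [IsLocalRing A]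

theorem DVRPt.map_mem_pow (d : DVRPt A) {x : A} {t : ℕ} (hx : x ∈ maximalIdeal A ^ t) :
    d.φ x ∈ maximalIdeal d.V ^ t := by
  have h1 : (maximalIdeal A).map d.φ ≤ maximalIdeal d.V := by
    rw [Ideal.map_le_iff_le_comap]
    intro a ha
    rw [Ideal.mem_comap, mem_maximalIdeal, mem_nonunits_iff]
    intro hu
    exact ((mem_maximalIdeal a).mp ha) (isUnit_of_map_unit d.φ a hu)
  have h2 : (maximalIdeal A ^ t).map d.φ ≤ maximalIdeal d.V ^ t := by
    rw [Ideal.map_pow]
    exact Ideal.pow_right_mono h1 t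
  exact h2 (Ideal.mem_map_of_mem _ hx)

theorem DVRPt.nilradical_le_ker (d : DVRPt A) : nilradical A ≤ RingHom.ker d.φ := by
  intro x hx
  rw [RingHom.mem_ker]
  have h : IsNilpotent (d.φ x) := (mem_nilradical.mp hx).map d.φ
  exact h.eq_zero

section Exists

variable [IsNoetherianRing A]

/-- A discrete valuation ring through a non-maximal prime (EGA II 7.1.7). -/
theorem exists_dvrPt_of_ne (Pm : Ideal A) [hPm : Pm.IsPrime] (hne : Pm ≠ maximalIdeal A) :
    ∃ d : DVRPt A, RingHom.ker d.φ = Pm := by
  let L := FractionRing (A ⧸ Pm)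
  let φ : A →+* L := (algebraMap (A ⧸ Pm) L).comp (Ideal.Quotient.mk Pm)
  have hker : ∀ a, φ a = 0 ↔ a ∈ Pm := by
    intro a
    change algebraMap (A ⧸ Pm) L (Ideal.Quotient.mk Pm a) = 0 ↔ _
    rw [map_eq_zero_iff _ (IsFractionRing.injective (A ⧸ Pm) L), Ideal.Quotient.eq_zero_iff_mem]
  have hφ : ∃ a ∈ maximalIdeal A, φ a ≠ 0 := by
    have hlt : Pm < maximalIdeal A :=
      lt_of_le_of_ne (IsLocalRing.le_maximalIdeal hPm.ne_top) hne
    obtain ⟨a, ha, haP⟩ := SetLike.exists_of_lt hlt
    exact ⟨a, ha, fun h => haP ((hker a).mp h)⟩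
  have hs : Subfield.closure (Set.range φ ∪ ((∅ : Finset L) : Set L)) = ⊤ := by
    rw [Finset.coe_empty, Set.union_empty, eq_top_iff]
    intro x _
    obtain ⟨a, b, -, rfl⟩ := IsFractionRing.div_surjective (A := A ⧸ Pm) x
    obtain ⟨a', rfl⟩ := Ideal.Quotient.mk_surjective a
    obtain ⟨b', rfl⟩ := Ideal.Quotient.mk_surjective b
    exact div_mem (Subfield.subset_closure ⟨a', rfl⟩) (Subfield.subset_closure ⟨b', rfl⟩)
  obtain ⟨V, hV, hmem, hlt⟩ := Groth.Agent.H73.KA.exists_dvr_of_ringHom φ hφ ∅ hs
  let ψ : A →+* V := φ.codRestrict V.toSubring hmem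
  have hψ : ∀ a, ((ψ a : V) : L) = φ a := fun a => rfl
  haveI : IsLocalHom ψ := by
    refine ⟨fun a ha => ?_⟩
    by_contra hnu
    have ham : a ∈ maximalIdeal A := (mem_maximalIdeal a).mpr hnu
    have h1 := hlt a ham
    have h2 : V.valuation ((ψ a : V) : L) = 1 := (V.valuation_eq_one_iff (ψ a)).mp ha
    rw [hψ] at h2
    rw [h2] at h1
    exact lt_irrefl _ h1
  haveI := hV
  refine ⟨⟨V, ψ⟩, ?_⟩
  ext a
  rw [RingHom.mem_ker, ← hker a]
  constructor
  · intro h
    rw [← hψ, h]
    rfl
  · intro h
    apply Subtype.ext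
    rw [hψ, h]
    rfl

omit [IsNoetherianRing A] in
/-- A discrete valuation ring through the maximal ideal: power series over the residue field. -/
theorem exists_dvrPt_maximalIdeal :
    ∃ d : DVRPt A, RingHom.ker d.φ = maximalIdeal A := by
  let k := ResidueField A
  let φ : A →+* PowerSeries k := (PowerSeries.C (R := k)).comp (residue A)
  haveI : IsLocalHom φ := by
    refine ⟨fun a ha => ?_⟩
    have h1 : IsUnit (PowerSeries.constantCoeff (φ a)) := ha.map PowerSeries.constantCoeff
    have h2 : PowerSeries.constantCoeff (φ a) = residue A a := by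
      change PowerSeries.constantCoeff (PowerSeries.C (residue A a)) = _
      exact PowerSeries.constantCoeff_C _
    rw [h2] at h1
    by_contra hnu
    have : residue A a = 0 := (residue_eq_zero_iff a).mpr ((mem_maximalIdeal a).mpr hnu)
    rw [this] at h1
    exact not_isUnit_zero h1
  refine ⟨⟨PowerSeries k, φ⟩, ?_⟩
  ext a
  rw [RingHom.mem_ker]
  change PowerSeries.C (residue A a) = 0 ↔ _
  rw [map_eq_zero_iff _ PowerSeries.C_injective, residue_eq_zero_iff]

theorem exists_dvrPt (Pm : Ideal A) [hPm : Pm.IsPrime] :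
    ∃ d : DVRPt A, RingHom.ker d.φ = Pm := by
  by_cases h : Pm = maximalIdeal A
  · subst h
    exact exists_dvrPt_maximalIdeal
  · exact exists_dvrPt_of_ne Pm h

/-- A finite list of discrete valuation rings through all the minimal primes. -/
theorem exists_list_dvrPt :
    ∃ L : List (DVRPt A), ∀ Pm ∈ minimalPrimes A, ∃ d ∈ L, RingHom.ker d.φ = Pm := by
  have hfin := minimalPrimes.finite_of_isNoetherianRing A
  have key : ∀ S : Set (Ideal A), S.Finite → S ⊆ minimalPrimes A →
      ∃ L : List (DVRPt A), ∀ Pm ∈ S, ∃ d ∈ L, RingHom.ker d.φ = Pm := by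
    intro S hS
    induction S, hS using Set.Finite.induction_on with
    | empty => exact fun _ => ⟨[], fun _ h => absurd h (Set.notMem_empty _)⟩
    | @insert a S _ _ ih =>
      intro hsub
      obtain ⟨L, hL⟩ := ih ((Set.subset_insert a S).trans hsub)
      haveI : a.IsPrime := (hsub (Set.mem_insert a S)).1.1
      obtain ⟨d, hd⟩ := exists_dvrPt a
      refine ⟨d :: L, fun Pm hPm => ?_⟩
      rcases Set.mem_insert_iff.mp hPm with rfl | h
      · exact ⟨d, List.mem_cons_self, hd⟩
      · obtain ⟨d', hd', hk⟩ := hL Pm h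
        exact ⟨d', List.mem_cons_of_mem _ hd', hk⟩
  exact key _ hfin le_rfl

end Exists

/-- The ideal of elements whose images lie in the `t`-th powers of the maximal ideals. -/
def K (L : List (DVRPt A)) (t : ℕ) : Ideal A :=
  ⨅ d : {d // d ∈ L}, Ideal.comap d.1.φ (maximalIdeal d.1.V ^ t)

theorem mem_K {L : List (DVRPt A)} {t : ℕ} {x : A} :
    x ∈ K L t ↔ ∀ d ∈ L, d.φ x ∈ maximalIdeal d.V ^ t := by
  simp only [K, Ideal.mem_iInf, Ideal.mem_comap, Subtype.forall]

theorem K_antitone (L : List (DVRPt A)) : Antitone (K L) := by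
  intro s t hst x hx
  rw [mem_K] at hx ⊢
  exact fun d hd => Ideal.pow_le_pow_right hst (hx d hd)

theorem pow_le_K (L : List (DVRPt A)) (t : ℕ) : maximalIdeal A ^ t ≤ K L t := by
  intro x hx
  rw [mem_K]
  exact fun d _ => d.map_mem_pow hx

theorem nilradical_le_K (L : List (DVRPt A)) (t : ℕ) : nilradical A ≤ K L t := by
  intro x hx
  rw [mem_K]
  intro d _
  have := d.nilradical_le_ker hx
  rw [RingHom.mem_ker] at this
  rw [this]
  exact zero_mem _

/-- **Chevalley**: on a complete Noetherian local ring, the ideals `K L t` attached to a list of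
discrete valuation rings through all minimal primes are cofinal, modulo the nilradical, with the
powers of the maximal ideal. -/
theorem exists_K_le [IsNoetherianRing A] [IsAdicComplete (maximalIdeal A) A] (k : ℕ) :
    ∃ (L : List (DVRPt A)) (t : ℕ), 0 < t ∧ K L t ≤ nilradical A ⊔ maximalIdeal A ^ k := by
  obtain ⟨L, hL⟩ := exists_list_dvrPt (A := A)
  have hnil : nilradical A ≠ ⊤ := by
    intro h
    have : (1 : A) ∈ nilradical A := h ▸ Submodule.mem_top
    obtain ⟨n, hn⟩ := mem_nilradical.mp this
    rw [one_pow] at hn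
    exact one_ne_zero hn
  haveI : Nontrivial (A ⧸ nilradical A) := Ideal.Quotient.nontrivial_iff.mpr hnil
  haveI : IsLocalRing (A ⧸ nilradical A) :=
    IsLocalRing.of_surjective' (Ideal.Quotient.mk (nilradical A)) Ideal.Quotient.mk_surjective
  haveI : IsAdicComplete (maximalIdeal (A ⧸ nilradical A)) (A ⧸ nilradical A) :=
    Groth.Agent.H61.isAdicComplete_quotient (nilradical A)
  let I : ℕ → Ideal (A ⧸ nilradical A) := fun t => (K L t).map (Ideal.Quotient.mk (nilradical A))
  have hI : Antitone I := fun s t hst => Ideal.map_mono (K_antitone L hst)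
  have hcomap : ∀ t, (I t).comap (Ideal.Quotient.mk (nilradical A)) = K L t := by
    intro t
    rw [Ideal.comap_map_of_surjective _ Ideal.Quotient.mk_surjective, ← RingHom.ker_eq_comap_bot,
      Ideal.mk_ker, sup_eq_left]
    exact nilradical_le_K L t
  have h0 : ∀ x, (∀ m, x ∈ I m) → x = 0 := by
    intro x hx
    obtain ⟨a, rfl⟩ := Ideal.Quotient.mk_surjective x
    rw [Ideal.Quotient.eq_zero_iff_mem]
    have ha : ∀ t, a ∈ K L t := fun t => by
      rw [← hcomap t]
      exact hx t
    have hker : ∀ d ∈ L, a ∈ RingHom.ker d.φ := by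
      intro d hd
      rw [RingHom.mem_ker]
      have h1 : d.φ a ∈ ⨅ i : ℕ, maximalIdeal d.V ^ i := by
        rw [Ideal.mem_iInf]
        exact fun t => (mem_K.mp (ha t)) d hd
      rw [Ideal.iInf_pow_eq_bot_of_isLocalRing _ (maximalIdeal.isMaximal d.V).ne_top] at h1
      exact h1
    have h2 : nilradical A = sInf (minimalPrimes A) := by
      rw [minimalPrimes, Ideal.sInf_minimalPrimes]
      rfl
    rw [h2, Ideal.mem_sInf]
    intro Pm hPm
    obtain ⟨d, hd, hk⟩ := hL Pm hPm
    rw [← hk]
    exact hker d hd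
  obtain ⟨t, ht⟩ := Groth.Agent.H11.Chevalley.chevalley I hI h0 k
  refine ⟨L, max t 1, lt_of_lt_of_le Nat.zero_lt_one (le_max_right _ _), ?_⟩
  intro x hx
  have hx' : x ∈ K L t := K_antitone L (le_max_left t 1) hx
  have h1 : Ideal.Quotient.mk (nilradical A) x ∈ maximalIdeal (A ⧸ nilradical A) ^ k :=
    ht (Ideal.mem_map_of_mem _ hx')
  have h2 : maximalIdeal (A ⧸ nilradical A) ^ k =
      (maximalIdeal A ^ k).map (Ideal.Quotient.mk (nilradical A)) := by
    rw [Ideal.map_pow]
    congr 1
    exact (IsLocalRing.map_maximalIdeal_of_surjective (Ideal.Quotient.mk (nilradical A))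
      Ideal.Quotient.mk_surjective).symm
  rw [h2] at h1
  have h3 : x ∈ ((maximalIdeal A ^ k).map (Ideal.Quotient.mk (nilradical A))).comap
      (Ideal.Quotient.mk (nilradical A)) := h1
  rw [Ideal.comap_map_of_surjective _ Ideal.Quotient.mk_surjective, ← RingHom.ker_eq_comap_bot,
    Ideal.mk_ker, sup_comm] at h3
  exact h3

end Groth.Agent.H11.ValFlatTop
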